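import Mathlib
import Cfsg.Prelude.Def_Characters
import Cfsg.Agent.Lib.Helper15.LinearChar
import Cfsg.Agent.Lib.Helper80.CharBasic

set_option autoImplicit false

open Cfsg
open scoped ComplexConjugate

namespace Cfsg.Agent.Helper74.Lin

universe u
variable {G : Type u} [Group G]

/-- Any representation on a one-dimensional coordinate space is irreducible. -/
theorem isIrreducible_fin_one (ρ : Representation ℂ G (Fin 1 → ℂ)) : ρ.IsIrreducible := by
  refine { exists_pair_ne := ⟨⊥, ⊤, ?_⟩, eq_bot_or_eq_top := ?_ }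
  · intro h
    have h1 : (fun _ => (1 : ℂ)) ∈ (⊤ : Subrepresentation ρ) := Submodule.mem_top
    rw [← h] at h1
    have h2 : (fun _ : Fin 1 => (1 : ℂ)) = 0 := (Submodule.mem_bot ℂ).1 h1
    have := congrFun h2 0
    simp at this
  · intro σ
    by_cases hσ : ∀ v ∈ σ, v = 0
    · left
      apply Subrepresentation.toSubmodule_injective
      exact (Submodule.eq_bot_iff _).2 hσ
    · right
      push Not at hσ
      obtain ⟨v, hvσ, hv0⟩ := hσ
      have hv : v 0 ≠ 0 := by
        intro h0
        apply hv0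
        funext i
        rw [Subsingleton.elim i 0, h0]; rfl
      apply Subrepresentation.toSubmodule_injective
      refine (Submodule.eq_top_iff').2 fun w => ?_
      have : w = (w 0 / v 0) • v := by
        funext i
        rw [Subsingleton.elim i 0]
        simp [hv]
      rw [this]
      exact σ.toSubmodule.smul_mem _ hvσ

section Twist

variable {V : Type*} [AddCommGroup V] [Module ℂ V]

/-- The twist of a representation by a linear character. -/
noncomputable def twist (φ : G →* ℂˣ) (ρ : Representation ℂ G V) : Representation ℂ G V where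
  toFun g := ((φ g : ℂˣ) : ℂ) • ρ g
  map_one' := by simp
  map_mul' x y := by
    simp only [map_mul, Units.val_mul]
    rw [smul_mul_smul_comm]

theorem twist_apply (φ : G →* ℂˣ) (ρ : Representation ℂ G V) (g : G) :
    twist φ ρ g = ((φ g : ℂˣ) : ℂ) • ρ g := rfl

/-- Twisting does not change the lattice of subrepresentations. -/
noncomputable def twistSubrep (φ : G →* ℂˣ) (ρ : Representation ℂ G V) :
    Subrepresentation (twist φ ρ) ≃o Subrepresentation ρ where
  toFun σ := ⟨σ.toSubmodule, fun g v hv => by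
    have h1 := σ.apply_mem_toSubmodule g hv
    rw [twist_apply, LinearMap.smul_apply] at h1
    have h2 := σ.toSubmodule.smul_mem (((φ g)⁻¹ : ℂˣ) : ℂ) h1
    rw [smul_smul, ← Units.val_mul, inv_mul_cancel, Units.val_one, one_smul] at h2
    exact h2⟩
  invFun σ := ⟨σ.toSubmodule, fun g v hv => by
    rw [twist_apply, LinearMap.smul_apply]
    exact σ.toSubmodule.smul_mem _ (σ.apply_mem_toSubmodule g hv)⟩
  left_inv _ := rfl
  right_inv _ := rfl
  map_rel_iff' := Iff.rfl

theorem twist_isIrreducible (φ : G →* ℂˣ) (ρ : Representation ℂ G V) (h : ρ.IsIrreducible) :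
    (twist φ ρ).IsIrreducible :=
  (OrderIso.isSimpleOrder_iff (twistSubrep φ ρ)).2 h

theorem twist_character {n : ℕ} (φ : G →* ℂˣ) (ρ : Representation ℂ G (Fin n → ℂ)) (g : G) :
    (twist φ ρ).character g = ((φ g : ℂˣ) : ℂ) * ρ.character g := by
  simp [Representation.character, twist_apply]

end Twist

/-- The one-dimensional representation attached to a linear character. -/
noncomputable def linRep (φ : G →* ℂˣ) : Representation ℂ G (Fin 1 → ℂ) := twist φ 1

theorem linRep_character (φ : G →* ℂˣ) (g : G) :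
    (linRep φ).character g = ((φ g : ℂˣ) : ℂ) := by
  rw [linRep, twist_character]
  simp [Representation.character]

/-- A homomorphism to `ℂˣ`, seen as an irreducible character. -/
noncomputable def ofHom (φ : G →* ℂˣ) : IrrCharacter G :=
  ⟨fun g => ((φ g : ℂˣ) : ℂ), 1, linRep φ, isIrreducible_fin_one _, funext (linRep_character φ)⟩

@[simp] theorem ofHom_apply (φ : G →* ℂˣ) (g : G) : (ofHom φ : G → ℂ) g = ((φ g : ℂˣ) : ℂ) := rfl

theorem ofHom_one_eq (φ : G →* ℂˣ) : (ofHom φ : G → ℂ) 1 = 1 := by simp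

theorem ofHom_injective : Function.Injective (ofHom (G := G)) := by
  intro φ ψ h
  ext g
  have := congrFun (congrArg Subtype.val h) g
  simpa using this

/-- A degree-one irreducible character, seen as a homomorphism to `ℂˣ`. -/
noncomputable def toHom (χ : IrrCharacter G) (h : (χ : G → ℂ) 1 = 1) : G →* ℂˣ where
  toFun g := Units.mk0 ((χ : G → ℂ) g)
    (Cfsg.Agent.Helper15.linear_char_ne_zero _ ⟨Cfsg.Agent.Helper80.isCharacter_of_irr χ.2, h⟩ g)
  map_one' := by
    apply Units.ext
    simpa using h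
  map_mul' x y := by
    apply Units.ext
    simp only [Units.val_mk0, Units.val_mul]
    exact Cfsg.Agent.Helper15.linear_char_mul _ ⟨Cfsg.Agent.Helper80.isCharacter_of_irr χ.2, h⟩ x y

@[simp] theorem toHom_apply (χ : IrrCharacter G) (h : (χ : G → ℂ) 1 = 1) (g : G) :
    ((toHom χ h g : ℂˣ) : ℂ) = (χ : G → ℂ) g := rfl

theorem ofHom_toHom (χ : IrrCharacter G) (h : (χ : G → ℂ) 1 = 1) : ofHom (toHom χ h) = χ := by
  apply Subtype.ext
  funext g
  rfl

/-- Degree-one irreducible characters correspond to homomorphisms to `ℂˣ`. -/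
noncomputable def linEquiv : {χ : IrrCharacter G // (χ : G → ℂ) 1 = 1} ≃ (G →* ℂˣ) where
  toFun χ := toHom χ.1 χ.2
  invFun φ := ⟨ofHom φ, ofHom_one_eq φ⟩
  left_inv χ := Subtype.ext (ofHom_toHom χ.1 χ.2)
  right_inv φ := by
    ext g
    rfl

/-- The twist of an irreducible character by a linear character. -/
noncomputable def twistIrr (φ : G →* ℂˣ) (χ : IrrCharacter G) : IrrCharacter G :=
  ⟨fun g => ((φ g : ℂˣ) : ℂ) * (χ : G → ℂ) g, by
    obtain ⟨n, ρ, h, hχ⟩ := χ.2
    refine ⟨n, twist φ ρ, twist_isIrreducible φ ρ h, ?_⟩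
    funext g
    rw [twist_character, hχ]⟩

@[simp] theorem twistIrr_apply (φ : G →* ℂˣ) (χ : IrrCharacter G) (g : G) :
    (twistIrr φ χ : G → ℂ) g = ((φ g : ℂˣ) : ℂ) * (χ : G → ℂ) g := rfl

noncomputable instance : MulAction (G →* ℂˣ) (IrrCharacter G) where
  smul := twistIrr
  one_smul χ := by
    apply Subtype.ext
    funext g
    show ((((1 : G →* ℂˣ) g : ℂˣ)) : ℂ) * (χ : G → ℂ) g = (χ : G → ℂ) g
    simp
  mul_smul φ ψ χ := by
    apply Subtype.ext
    funext g
    show (((φ * ψ) g : ℂˣ) : ℂ) * (χ : G → ℂ) g =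
      ((φ g : ℂˣ) : ℂ) * (((ψ g : ℂˣ) : ℂ) * (χ : G → ℂ) g)
    simp [mul_assoc]

theorem smul_apply (φ : G →* ℂˣ) (χ : IrrCharacter G) (g : G) :
    ((φ • χ : IrrCharacter G) : G → ℂ) g = ((φ g : ℂˣ) : ℂ) * (χ : G → ℂ) g := rfl

/-- The group of linear characters is (non-canonically) isomorphic to the abelianization. -/
theorem exists_mulEquiv [Finite G] : Nonempty ((G →* ℂˣ) ≃* Abelianization G) := by
  obtain ⟨e⟩ := CommGroup.monoidHom_mulEquiv_of_hasEnoughRootsOfUnity (Abelianization G) ℂ
  let f : (G →* ℂˣ) ≃* (Abelianization G →* ℂˣ) :=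
    { Abelianization.lift with
      map_mul' := fun φ ψ => by
        ext x
        simp }
  exact ⟨f.trans e⟩

instance [Finite G] : Finite (G →* ℂˣ) := by
  obtain ⟨e⟩ := exists_mulEquiv (G := G)
  exact Finite.of_equiv _ e.symm.toEquiv

theorem card_hom [Finite G] : Nat.card (G →* ℂˣ) = (commutator G).index := by
  obtain ⟨e⟩ := exists_mulEquiv (G := G)
  rw [Nat.card_congr e.toEquiv]
  rfl

theorem card_linear [Finite G] :
    Nat.card {χ : IrrCharacter G // (χ : G → ℂ) 1 = 1} = (commutator G).index := by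
  rw [Nat.card_congr linEquiv, card_hom]

end Cfsg.Agent.Helper74.Lin
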