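import Mathlib

/-!
# Simple groups of order 7920 (S0434 / S0435): shared abbreviations (helper74 lemma server "M11")
-/

namespace Cfsg.Agent.Helper74.M11

/-- centralizer of an element -/
abbrev Cen {G : Type*} [Group G] (g : G) : Subgroup G := Subgroup.centralizer ({g} : Set G)

/-- normalizer of the cyclic subgroup generated by an element -/
abbrev Nor {G : Type*} [Group G] (g : G) : Subgroup G :=
  Subgroup.normalizer ((Subgroup.zpowers g : Subgroup G) : Set G)

/-- centralizer of a subgroup -/
abbrev CenS {G : Type*} [Group G] (H : Subgroup G) : Subgroup G := Subgroup.centralizer (H : Set G)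

/-- normalizer of a subgroup -/
abbrev NorS {G : Type*} [Group G] (H : Subgroup G) : Subgroup G := Subgroup.normalizer (H : Set G)

end Cfsg.Agent.Helper74.M11
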