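import Mathlib
import Cfsg.Prelude.Def_Blocks
import Cfsg.Agent.Lib.Helper81.CharInd
import Cfsg.Agent.Lib.Helper16.PPart

/-!
# Induction of class functions supported on a `p`-section (helper74)

`x` a `p`-element, `H = C_G(x)`.  A class function `δ` of `H` supported on the elements of `H`
with `p`-part `x` induces to a class function of `G` agreeing with `δ` there; and the
restriction of a class function `F` of `G` to that part of `H` induces to `F` on the `p`-section
of `x` and to `0` elsewhere.
-/

set_option autoImplicit false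
set_option linter.unusedSectionVars false
set_option linter.style.haveILetI false

namespace Cfsg.Agent.Helper74.SS

open Cfsg
open scoped ComplexConjugate

universe u

section basic

variable {G : Type u} [Group G] {p : ℕ}

theorem isPPart_conj {g u : G} (h : IsPPart p g u) (t : G) :
    IsPPart p (t⁻¹ * g * t) (t⁻¹ * u * t) := by
  obtain ⟨y, hy, hc, ⟨k, hk⟩, hyr⟩ := h
  have ho : ∀ w : G, orderOf (t⁻¹ * w * t) = orderOf w := by
    intro w
    have := MulEquiv.orderOf_eq (MulAut.conj t⁻¹) w
    simpa [MulAut.conj_apply] using this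
  refine ⟨t⁻¹ * y * t, ?_, ?_, ⟨k, ?_⟩, ?_⟩
  · rw [← hy]; group
  · show t⁻¹ * u * t * (t⁻¹ * y * t) = t⁻¹ * y * t * (t⁻¹ * u * t)
    have h1 : u * y = y * u := hc
    calc t⁻¹ * u * t * (t⁻¹ * y * t) = t⁻¹ * (u * y) * t := by group
      _ = t⁻¹ * (y * u) * t := by rw [h1]
      _ = t⁻¹ * y * t * (t⁻¹ * u * t) := by group
  · rw [ho, hk]
  · rw [ho]; exact hyr

theorem isPPart_commute {g u : G} (h : IsPPart p g u) : u * g = g * u := by
  obtain ⟨y, hy, hc, _, _⟩ := h
  have h1 : u * y = y * u := hc
  rw [← hy, mul_assoc, ← h1]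

end basic

section ind

variable {G : Type u} [Group G] [Fintype G] {p : ℕ} (x : G) (H : Subgroup G) [Fintype H]

open scoped Classical in
theorem sum_conj_eq (hH : ∀ t : G, t ∈ H ↔ x * t = t * x) (u : G) (a : ℂ) :
    ∑ t : G, (if t⁻¹ * u * t = x then a else 0) =
      if IsConj u x then (Nat.card H : ℂ) * a else 0 := by
  by_cases h : IsConj u x
  · rw [if_pos h]
    obtain ⟨s, hs⟩ := isConj_iff.1 h
    have hiff : ∀ t : G, t⁻¹ * u * t = x ↔ s * t ∈ H := by
      intro t
      rw [hH]
      constructor
      · intro ht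
        have hu : u = t * x * t⁻¹ := by rw [← ht]; group
        have hx2 : x = s * t * x * (s * t)⁻¹ := by
          conv_lhs => rw [← hs, hu]
          group
        calc x * (s * t) = s * t * x * (s * t)⁻¹ * (s * t) := by rw [← hx2]
          _ = s * t * x := by group
      · intro ht
        have hu : u = s⁻¹ * x * s := by rw [← hs]; group
        rw [hu]
        calc t⁻¹ * (s⁻¹ * x * s) * t = (s * t)⁻¹ * (x * (s * t)) := by group
          _ = (s * t)⁻¹ * (s * t * x) := by rw [ht]
          _ = x := by group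
    simp only [hiff]
    have h1 : ∑ t : G, (if s * t ∈ H then a else 0) = ∑ t : G, (if t ∈ H then a else 0) :=
      Equiv.sum_comp (Equiv.mulLeft s) (fun t : G => if t ∈ H then a else 0)
    rw [h1, Finset.sum_ite, Finset.sum_const_zero, add_zero, Finset.sum_const, nsmul_eq_mul]
    have hcard : ((Finset.univ.filter (fun t : G => t ∈ H)).card : ℕ) = Nat.card H := by
      rw [← Fintype.card_subtype, ← Nat.card_eq_fintype_card]
    rw [hcard]
  · rw [if_neg h]
    refine Finset.sum_eq_zero fun t _ => ?_
    rw [if_neg]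
    intro ht
    apply h
    rw [isConj_iff]
    exact ⟨t⁻¹, by rw [inv_inv]; exact ht⟩

theorem mem_of_isPPart (hH : ∀ t : G, t ∈ H ↔ x * t = t * x) {g : G} (hg : IsPPart p g x) :
    g ∈ H := (hH g).2 (isPPart_commute hg)

theorem indFun_eq (hp : p.Prime) (hH : ∀ t : G, t ∈ H ↔ x * t = t * x)
    (δ : H → ℂ) (hδ : IsClassFunction H δ)
    (hsupp : ∀ c : H, δ c ≠ 0 → IsPPart p (c : G) x)
    (c : H) (hc : IsPPart p (c : G) x) :
    indFun H δ (c : G) = δ c := by
  classical
  rw [Cfsg.Agent.Helper81.indFun_apply]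
  have hterm : ∀ t : G, extendByZero H δ (t⁻¹ * (c : G) * t) = if t ∈ H then δ c else 0 := by
    intro t
    by_cases ht : t ∈ H
    · rw [if_pos ht]
      have : t⁻¹ * (c : G) * t = (((⟨t, ht⟩ : H)⁻¹ * c * (⟨t, ht⟩ : H)⁻¹⁻¹ : H) : G) := by
        simp
      rw [this, Cfsg.Agent.Helper81.extendByZero_apply_coe, hδ c (⟨t, ht⟩ : H)⁻¹]
    · rw [if_neg ht]
      by_cases hmem : t⁻¹ * (c : G) * t ∈ H
      · rw [Cfsg.Agent.Helper81.extendByZero_apply_mem H δ hmem]
        by_contra hne
        have h2 : IsPPart p (t⁻¹ * (c : G) * t) x := hsupp ⟨_, hmem⟩ hne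
        have h3 := Cfsg.Agent.Helper16.semiconj_ppart hp hc h2 (i := 1) (w := t⁻¹)
          (fun h => hp.one_lt.ne' (Nat.dvd_one.1 h)) (by simp)
        apply ht
        rw [hH]
        calc x * t = t * (t⁻¹ * x) * t := by group
          _ = t * (x * t⁻¹) * t := by rw [h3]
          _ = t * x := by group
      · exact Cfsg.Agent.Helper81.extendByZero_apply_not_mem H δ hmem
  simp only [hterm]
  rw [Finset.sum_ite, Finset.sum_const_zero, add_zero, Finset.sum_const, nsmul_eq_mul]
  have hcard : ((Finset.univ.filter (fun t : G => t ∈ H)).card : ℕ) = Nat.card H := by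
    rw [← Fintype.card_subtype, ← Nat.card_eq_fintype_card]
  rw [hcard]
  have : (Nat.card H : ℂ) ≠ 0 := by exact_mod_cast Nat.card_pos.ne'
  field_simp

open scoped Classical in
theorem indFun_restrict_section (hp : p.Prime) (hH : ∀ t : G, t ∈ H ↔ x * t = t * x)
    (F : G → ℂ) (hF : IsClassFunction G F) (g u : G) (hg : IsPPart p g u) :
    indFun H (fun c : H => if IsPPart p (c : G) x then F c else 0) g =
      if IsConj u x then F g else 0 := by
  rw [Cfsg.Agent.Helper81.indFun_apply]
  have hterm : ∀ t : G, extendByZero H (fun c : H => if IsPPart p (c : G) x then F c else 0)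
      (t⁻¹ * g * t) = if t⁻¹ * u * t = x then F g else 0 := by
    intro t
    have hconj := isPPart_conj hg t
    by_cases ht : t⁻¹ * u * t = x
    · rw [if_pos ht]
      rw [ht] at hconj
      have hmem : t⁻¹ * g * t ∈ H := mem_of_isPPart x H hH hconj
      rw [Cfsg.Agent.Helper81.extendByZero_apply_mem H _ hmem]
      show (if IsPPart p (t⁻¹ * g * t) x then F (t⁻¹ * g * t) else 0) = F g
      rw [if_pos hconj]
      have := hF g t⁻¹
      rwa [inv_inv] at this
    · rw [if_neg ht]
      by_cases hmem : t⁻¹ * g * t ∈ H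
      · rw [Cfsg.Agent.Helper81.extendByZero_apply_mem H _ hmem]
        show (if IsPPart p (t⁻¹ * g * t) x then F (t⁻¹ * g * t) else 0) = 0
        rw [if_neg]
        intro h2
        exact ht (Cfsg.Agent.Helper16.isPPart_unique hp hconj h2)
      · exact Cfsg.Agent.Helper81.extendByZero_apply_not_mem H _ hmem
  simp only [hterm]
  rw [sum_conj_eq x H hH u (F g)]
  have : (Nat.card H : ℂ) ≠ 0 := by exact_mod_cast Nat.card_pos.ne'
  by_cases h : IsConj u x
  · rw [if_pos h, if_pos h]
    field_simp
  · rw [if_neg h, if_neg h, mul_zero]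

end ind

end Cfsg.Agent.Helper74.SS
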