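import Mathlib
import Cfsg.Prelude.Def_Blocks
import Cfsg.Prelude.Def_BlockRank
import Cfsg.Agent.Lib.Helper74.Subsec1
import Cfsg.Agent.Lib.Helper78.BlockRank
import Cfsg.Agent.Lib.Helper3.CharDecomp
import Cfsg.Agent.Lib.Helper3.CharComplete
import Cfsg.Agent.Lib.Helper77.Decomp
import Cfsg.Agent.S0923

/-!
# Generalized decomposition numbers without Brauer characters (helper74)

For a `p`-element `x` with centralizer `C`, `χ ∈ Irr G`, `ψ ∈ Irr C`:
`gdn χ ψ = |C|⁻¹ ∑_{y ∈ C p-regular} χ (x y) conj (ψ y)`.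
* `sum_gdn_right` : `∑_ψ |gdn χ ψ|² = |C|⁻¹ ∑_{y reg} |χ (x y)|²`;
* `sum_gdn_left`  : `∑_χ |gdn χ ψ|² = |C|⁻¹ ∑_{y reg} |ψ y|²`;
* `gdn_eq_zero`   : `gdn χ ψ = 0` unless the block of `ψ` induces the block of `χ`
  (second main theorem).
-/

set_option autoImplicit false
set_option linter.unusedSectionVars false
set_option linter.style.haveILetI false

namespace Cfsg.Agent.Helper74.SS

open Cfsg
open Cfsg.Agent.Helper77 Cfsg.Agent.Helper78
open scoped ComplexConjugate

universe u

section parseval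

variable {G : Type u} [Group G] [Fintype G]

theorem parseval (f : G → ℂ) (hf : IsClassFunction G f) :
    classInner f f =
      ∑ χ : IrrCharacter G, classInner f (χ : G → ℂ) * conj (classInner f (χ : G → ℂ)) := by
  have h1 := Cfsg.Agent.Helper3.classFunction_eq_sum f hf
  have h2 := Cfsg.Agent.Helper3.classInner_sum_irr
    (fun χ : IrrCharacter G => classInner f (χ : G → ℂ))
    (fun χ : IrrCharacter G => classInner f (χ : G → ℂ))
  rw [← h1] at h2
  exact h2

end parseval

section sub

variable {G : Type u} [Group G] [Fintype G] {p : ℕ} [Fact p.Prime] {M : Ideal AlgInt} (x : G)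
  [Fintype (Subgroup.centralizer ({x} : Set G))]

theorem mem_cent_iff (t : G) : t ∈ Subgroup.centralizer ({x} : Set G) ↔ x * t = t * x := by
  rw [Subgroup.mem_centralizer_iff]
  constructor
  · intro h
    exact h x (Set.mem_singleton x)
  · intro h y hy
    rw [Set.mem_singleton_iff.1 hy]
    exact h

theorem self_mem_cent : x ∈ Subgroup.centralizer ({x} : Set G) := (mem_cent_iff x x).2 rfl

/-- the class function `c ↦ χ (x c)` on the centralizer -/
theorem isClassFunction_shift (χ : IrrCharacter G) :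
    IsClassFunction (Subgroup.centralizer ({x} : Set G))
      (fun c : Subgroup.centralizer ({x} : Set G) => (χ : G → ℂ) (x * (c : G))) := by
  have hχcl := isClassFunction_of_isIrrCharacter χ.2
  intro c k
  show (χ : G → ℂ) (x * ((k * c * k⁻¹ : Subgroup.centralizer ({x} : Set G)) : G)) =
    (χ : G → ℂ) (x * (c : G))
  have hkx : x * (k : G) = (k : G) * x := (mem_cent_iff x (k : G)).1 k.2
  have : x * ((k * c * k⁻¹ : Subgroup.centralizer ({x} : Set G)) : G) =
      (k : G) * (x * (c : G)) * (k : G)⁻¹ := by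
    push_cast
    calc x * ((k : G) * (c : G) * (k : G)⁻¹) = (x * (k : G)) * (c : G) * (k : G)⁻¹ := by group
      _ = ((k : G) * x) * (c : G) * (k : G)⁻¹ := by rw [hkx]
      _ = (k : G) * (x * (c : G)) * (k : G)⁻¹ := by group
  rw [this, hχcl]

/-- the generalized decomposition "number" of `χ` at `ψ` -/
noncomputable def gdn (p : ℕ) (x : G) [Fintype (Subgroup.centralizer ({x} : Set G))]
    (χ : IrrCharacter G) (ψ : IrrCharacter (Subgroup.centralizer ({x} : Set G))) : ℂ :=
  classInner (pRegularPart p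
    (fun c : Subgroup.centralizer ({x} : Set G) => (χ : G → ℂ) (x * (c : G))))
    (ψ : Subgroup.centralizer ({x} : Set G) → ℂ)

theorem sum_gdn_right (χ : IrrCharacter G) :
    ∑ ψ : IrrCharacter (Subgroup.centralizer ({x} : Set G)), gdn p x χ ψ * conj (gdn p x χ ψ) =
      classInner (pRegularPart p
        (fun c : Subgroup.centralizer ({x} : Set G) => (χ : G → ℂ) (x * (c : G))))
        (pRegularPart p
        (fun c : Subgroup.centralizer ({x} : Set G) => (χ : G → ℂ) (x * (c : G)))) :=
  (parseval _ (isClassFunction_pRegularPart p (isClassFunction_shift x χ))).symm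

/-- `x y` has `p`-part `x` iff `y` is `p`-regular (`y` in the centralizer). -/
theorem isPPart_mul_iff (hx : ∃ k : ℕ, orderOf x = p ^ k)
    (y : Subgroup.centralizer ({x} : Set G)) :
    IsPPart p (x * (y : G)) x ↔ ¬ p ∣ orderOf y := by
  constructor
  · rintro ⟨y', hy', _, _, hreg⟩
    have : y' = (y : G) := mul_left_cancel hy'
    rw [this, Subgroup.orderOf_coe] at hreg
    exact hreg
  · intro hreg
    refine ⟨(y : G), rfl, (mem_cent_iff x (y : G)).1 y.2, hx, ?_⟩
    rwa [Subgroup.orderOf_coe]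

theorem sum_gdn_left (hx : ∃ k : ℕ, orderOf x = p ^ k)
    (ψ : IrrCharacter (Subgroup.centralizer ({x} : Set G))) :
    ∑ χ : IrrCharacter G, gdn p x χ ψ * conj (gdn p x χ ψ) =
      classInner (pRegularPart p (ψ : Subgroup.centralizer ({x} : Set G) → ℂ))
        (ψ : Subgroup.centralizer ({x} : Set G) → ℂ) := by
  classical
  have hp : p.Prime := Fact.out
  have hxC := self_mem_cent x
  have hH := mem_cent_iff x
  obtain ⟨z, hz⟩ : ∃ z : Subgroup.centralizer ({x} : Set G), z = ⟨x, hxC⟩ := ⟨_, rfl⟩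
  have hzval : (z : G) = x := by rw [hz]
  have hzcomm : ∀ c : Subgroup.centralizer ({x} : Set G), z * c = c * z := by
    intro c
    apply Subtype.ext
    push_cast
    rw [hzval]
    exact (hH (c : G)).1 c.2
  have hψcl := isClassFunction_pRegularPart p (isClassFunction_of_isIrrCharacter ψ.2)
  -- the shifted function
  obtain ⟨δ, hδdef⟩ : ∃ δ : Subgroup.centralizer ({x} : Set G) → ℂ,
      δ = fun c => pRegularPart p (ψ : Subgroup.centralizer ({x} : Set G) → ℂ) (z⁻¹ * c) :=
    ⟨_, rfl⟩
  have hδap : ∀ c, δ c = pRegularPart p (ψ : Subgroup.centralizer ({x} : Set G) → ℂ) (z⁻¹ * c) := by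
    intro c; rw [hδdef]
  have hδz : ∀ y, δ (z * y) = pRegularPart p (ψ : Subgroup.centralizer ({x} : Set G) → ℂ) y := by
    intro y
    rw [hδap, inv_mul_cancel_left]
  have hδcl : IsClassFunction (Subgroup.centralizer ({x} : Set G)) δ := by
    intro c k
    rw [hδap, hδap]
    have : z⁻¹ * (k * c * k⁻¹) = k * (z⁻¹ * c) * k⁻¹ := by
      have h1 : z⁻¹ * k = k * z⁻¹ := by
        have := hzcomm k
        calc z⁻¹ * k = z⁻¹ * (k * z) * z⁻¹ := by group
          _ = z⁻¹ * (z * k) * z⁻¹ := by rw [this]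
          _ = k * z⁻¹ := by group
      calc z⁻¹ * (k * c * k⁻¹) = (z⁻¹ * k) * c * k⁻¹ := by group
        _ = (k * z⁻¹) * c * k⁻¹ := by rw [h1]
        _ = k * (z⁻¹ * c) * k⁻¹ := by group
    rw [this, hψcl]
  have hsupp : ∀ c : Subgroup.centralizer ({x} : Set G), δ c ≠ 0 → IsPPart p (c : G) x := by
    intro c hc
    rw [hδap] at hc
    have hreg : ¬ p ∣ orderOf (z⁻¹ * c) := by
      intro h
      exact hc (pRegularPart_of_singular p _ h)
    have := (isPPart_mul_iff x hx (z⁻¹ * c)).2 hreg
    have h2 : x * ((z⁻¹ * c : Subgroup.centralizer ({x} : Set G)) : G) = (c : G) := by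
      push_cast
      rw [hzval]
      group
    rwa [h2] at this
  -- the induced class function
  obtain ⟨Δ, hΔdef⟩ : ∃ Δ : G → ℂ, Δ = indFun (Subgroup.centralizer ({x} : Set G)) δ := ⟨_, rfl⟩
  have hΔcl : IsClassFunction G Δ := by
    rw [hΔdef]
    exact Cfsg.Agent.Helper81.indFun_isClassFunction _ δ
  have hΔeq : ∀ c : Subgroup.centralizer ({x} : Set G), δ c ≠ 0 → Δ (c : G) = δ c := by
    intro c hc
    rw [hΔdef]
    exact indFun_eq x _ hp hH δ hδcl hsupp c (hsupp c hc)
  have hfrob : ∀ χ : IrrCharacter G, classInner Δ (χ : G → ℂ) = conj (gdn p x χ ψ) := by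
    intro χ
    rw [hΔdef, Cfsg.Agent.Helper81.frobenius_reciprocity _ δ
      (isClassFunction_of_isIrrCharacter χ.2)]
    unfold gdn classInner
    rw [map_mul, map_inv₀, Complex.conj_natCast, map_sum]
    congr 1
    rw [← Equiv.sum_comp (Equiv.mulLeft z)
      (fun c : Subgroup.centralizer ({x} : Set G) => δ c * conj ((χ : G → ℂ) (c : G)))]
    refine Finset.sum_congr rfl fun y _ => ?_
    show δ (z * y) * conj ((χ : G → ℂ) ((z * y : Subgroup.centralizer ({x} : Set G)) : G)) = _
    rw [hδz, map_mul, Complex.conj_conj]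
    have h3 : ((z * y : Subgroup.centralizer ({x} : Set G)) : G) = x * (y : G) := by
      push_cast; rw [hzval]
    rw [h3]
    by_cases hy : p ∣ orderOf y
    · rw [pRegularPart_of_singular p _ hy, pRegularPart_of_singular p _ hy]
      simp
    · rw [pRegularPart_of_regular p _ hy, pRegularPart_of_regular p _ hy]
      ring
  have hnorm : classInner Δ Δ = classInner (pRegularPart p (ψ : Subgroup.centralizer ({x} : Set G) → ℂ))
        (ψ : Subgroup.centralizer ({x} : Set G) → ℂ) := by
    have h1 : classInner Δ Δ =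
        classInner δ (fun c : Subgroup.centralizer ({x} : Set G) => Δ c) := by
      have := Cfsg.Agent.Helper81.frobenius_reciprocity _ δ hΔcl
      rw [← hΔdef] at this
      exact this
    rw [h1]
    unfold classInner
    congr 1
    rw [← Equiv.sum_comp (Equiv.mulLeft z)
      (fun c : Subgroup.centralizer ({x} : Set G) => δ c * conj (Δ (c : G)))]
    refine Finset.sum_congr rfl fun y _ => ?_
    show δ (z * y) * conj (Δ ((z * y : Subgroup.centralizer ({x} : Set G)) : G)) = _
    by_cases hc : δ (z * y) = 0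
    · rw [hc, zero_mul]
      rw [hδz] at hc
      rw [hc, zero_mul]
    · rw [hΔeq _ hc, hδz]
      by_cases hy : p ∣ orderOf y
      · rw [pRegularPart_of_singular p _ hy, zero_mul, zero_mul]
      · rw [pRegularPart_of_regular p _ hy]
  rw [← hnorm, parseval Δ hΔcl]
  refine Finset.sum_congr rfl fun χ _ => ?_
  rw [hfrob, Complex.conj_conj, mul_comm]

theorem gdn_eq_zero (hM : IsPModular p M) (hx : ∃ k : ℕ, orderOf x = p ^ k) (χ : IrrCharacter G)
    (ψ : IrrCharacter (Subgroup.centralizer ({x} : Set G)))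
    (hnot : ¬ IsInducedBlock M (Subgroup.centralizer ({x} : Set G))
      (blockOf M (ψ : Subgroup.centralizer ({x} : Set G) → ℂ)) (blockOf M (χ : G → ℂ))) :
    gdn p x χ ψ = 0 := by
  classical
  haveI := isPrime_of_isPModular hM
  obtain ⟨ϑ, hϑdef⟩ : ∃ ϑ : Subgroup.centralizer ({x} : Set G) → ℂ,
      ϑ = fun c : Subgroup.centralizer ({x} : Set G) => (χ : G → ℂ) (x * (c : G)) := ⟨_, rfl⟩
  have hϑcl : IsClassFunction (Subgroup.centralizer ({x} : Set G)) ϑ := by
    rw [hϑdef]; exact isClassFunction_shift x χ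
  obtain ⟨b, hbdef⟩ : ∃ b : Set (IrrCharacter (Subgroup.centralizer ({x} : Set G))),
      b = blockOf M (ψ : Subgroup.centralizer ({x} : Set G) → ℂ) := ⟨_, rfl⟩
  have hb : IsPBlock M b := ⟨ψ, hbdef⟩
  have hψb : ψ ∈ b := by rw [hbdef]; exact mem_blockOf_self ψ
  -- the second main theorem
  have hsm : ∀ y : Subgroup.centralizer ({x} : Set G), ¬ p ∣ orderOf y → blockPart b ϑ y = 0 := by
    intro y hy
    rw [hϑdef]
    exact Cfsg.Agent.S0923.result p M hM x hx (blockOf M (χ : G → ℂ)) ⟨χ, rfl⟩ χ
      (mem_blockOf_self χ) b hb (by rw [hbdef]; exact hnot) y hy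
  -- linearity of `f ↦ ⟨f°, ψ⟩`
  have hexp := Cfsg.Agent.Helper3.classFunction_eq_sum ϑ hϑcl
  have hL : ∀ f : Subgroup.centralizer ({x} : Set G) → ℂ,
      classInner (pRegularPart p f) (ψ : Subgroup.centralizer ({x} : Set G) → ℂ) =
      classInner (regPart p f) (ψ : Subgroup.centralizer ({x} : Set G) → ℂ) := fun f => rfl
  have h1 : gdn p x χ ψ = ∑ ψ' : IrrCharacter (Subgroup.centralizer ({x} : Set G)),
      classInner ϑ (ψ' : Subgroup.centralizer ({x} : Set G) → ℂ) *
        classInner (pRegularPart p (ψ' : Subgroup.centralizer ({x} : Set G) → ℂ))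
          (ψ : Subgroup.centralizer ({x} : Set G) → ℂ) := by
    unfold gdn
    rw [← hϑdef]
    conv_lhs => rw [hL, hexp, map_sum, classInner_sum_left]
    refine Finset.sum_congr rfl fun ψ' _ => ?_
    rw [map_smul, classInner_smul_left]
    rfl
  have h2 : classInner (pRegularPart p (blockPart b ϑ))
      (ψ : Subgroup.centralizer ({x} : Set G) → ℂ) =
      ∑ ψ' ∈ (Set.toFinite b).toFinset,
      classInner ϑ (ψ' : Subgroup.centralizer ({x} : Set G) → ℂ) *
        classInner (pRegularPart p (ψ' : Subgroup.centralizer ({x} : Set G) → ℂ))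
          (ψ : Subgroup.centralizer ({x} : Set G) → ℂ) := by
    have hbp : blockPart b ϑ = ∑ ψ' ∈ (Set.toFinite b).toFinset,
        classInner ϑ (ψ' : Subgroup.centralizer ({x} : Set G) → ℂ) •
          (ψ' : Subgroup.centralizer ({x} : Set G) → ℂ) := by
      funext u
      rw [Cfsg.Agent.Helper16.blockPart_eq_finset, Finset.sum_apply]
      rfl
    rw [hL, hbp, map_sum, classInner_sum_left]
    refine Finset.sum_congr rfl fun ψ' _ => ?_
    rw [map_smul, classInner_smul_left]
    rfl
  have h3 : pRegularPart p (blockPart b ϑ) = 0 := by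
    funext y
    by_cases hy : p ∣ orderOf y
    · rw [pRegularPart_of_singular p _ hy]; rfl
    · rw [pRegularPart_of_regular p _ hy, hsm y hy]; rfl
  rw [h1, ← Finset.sum_subset (Finset.subset_univ (Set.toFinite b).toFinset), ← h2, h3]
  · unfold classInner
    simp
  · intro ψ' _ hψ'
    have hψ'b : ψ' ∉ b := fun h => hψ' ((Set.Finite.mem_toFinset _).2 h)
    have hns : ¬ SameBlock M (ψ' : Subgroup.centralizer ({x} : Set G) → ℂ)
        (ψ : Subgroup.centralizer ({x} : Set G) → ℂ) := by
      intro h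
      apply hψ'b
      rw [hbdef]
      exact sameBlock_symm h
    rw [classInner_pRegularPart_eq_zero hM ψ' ψ hns, mul_zero]

end sub

end Cfsg.Agent.Helper74.SS
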