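import Mathlib
import Cfsg.Prelude.Def_Blocks
import Cfsg.Prelude.Def_BlockRank
import Cfsg.Agent.Lib.Helper74.Subsec2

/-!
# Brauer's formula `k(B) = ∑ l(b)` over subsections: the two halves (helper74)

* `sum_blockRank_eq` : for a `p`-element `x`, `∑_{b^G = B} l(b) = ∑_{χ ∈ B} secNorm x χ` where
  `secNorm x χ = |C|⁻¹ ∑_{y ∈ C p-regular} |χ (x y)|²`, `C = C_G(x)`;
* `sum_secNorm` : `∑_{x ∈ X} secNorm x χ = 1` for a set `X` of representatives of the classes of
  `p`-elements.
-/

set_option autoImplicit false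
set_option linter.unusedSectionVars false
set_option linter.style.haveILetI false

namespace Cfsg.Agent.Helper74.SS

open Cfsg
open Cfsg.Agent.Helper77 Cfsg.Agent.Helper78
open scoped ComplexConjugate

universe u

section rank

variable {G : Type u} [Group G] [Fintype G] {p : ℕ} [Fact p.Prime] {M : Ideal AlgInt}

/-- the rank of a block as a sum of inner products -/
theorem blockRank_eq_sum (hM : IsPModular p M) {B : Set (IrrCharacter G)} (hB : IsPBlock M B) :
    (blockRank p B : ℂ) = ∑ χ ∈ (Set.toFinite B).toFinset,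
      classInner (pRegularPart p (χ : G → ℂ)) (χ : G → ℂ) := by
  have h := card_mul_blockRank hM hB
  have hG : (Nat.card G : ℂ) ≠ 0 := by exact_mod_cast Nat.card_pos.ne'
  have h2 : (Nat.card G : ℂ) * ∑ χ ∈ (Set.toFinite B).toFinset,
      classInner (pRegularPart p (χ : G → ℂ)) (χ : G → ℂ) =
      ∑ x : G, ∑ χ ∈ (Set.toFinite B).toFinset,
        pRegularPart p (χ : G → ℂ) x * (χ : G → ℂ) x⁻¹ := by
    rw [Finset.mul_sum, Finset.sum_comm]
    refine Finset.sum_congr rfl fun χ _ => ?_
    unfold classInner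
    rw [← mul_assoc, mul_inv_cancel₀ hG, one_mul]
    refine Finset.sum_congr rfl fun g _ => ?_
    rw [IsIrrCharacter.inv χ.2]
  exact mul_left_cancel₀ hG (h.trans h2.symm)

end rank

section sec

variable {G : Type u} [Group G] [Fintype G] {p : ℕ} [Fact p.Prime] {M : Ideal AlgInt}

/-- `|C|⁻¹ ∑_{y ∈ C p-regular} |χ (x y)|²` -/
noncomputable def secNorm (p : ℕ) (x : G) (χ : IrrCharacter G) : ℂ :=
  letI : Fintype (Subgroup.centralizer ({x} : Set G)) := Fintype.ofFinite _
  classInner (pRegularPart p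
    (fun c : Subgroup.centralizer ({x} : Set G) => (χ : G → ℂ) (x * (c : G))))
    (pRegularPart p
    (fun c : Subgroup.centralizer ({x} : Set G) => (χ : G → ℂ) (x * (c : G))))

theorem sum_blockRank_eq (hM : IsPModular p M) (x : G) (hx : ∃ k : ℕ, orderOf x = p ^ k)
    {B : Set (IrrCharacter G)} (hB : IsPBlock M B) :
    ((∑ᶠ b ∈ {b : Set (IrrCharacter (Subgroup.centralizer ({x} : Set G))) |
      IsInducedBlock M (Subgroup.centralizer ({x} : Set G)) b B}, blockRank p b : ℕ) : ℂ) =
      ∑ χ ∈ (Set.toFinite B).toFinset, secNorm p x χ := by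
  classical
  letI : Fintype (Subgroup.centralizer ({x} : Set G)) := Fintype.ofFinite _
  haveI := isPrime_of_isPModular hM
  obtain ⟨S, hSdef⟩ : ∃ S : Set (Set (IrrCharacter (Subgroup.centralizer ({x} : Set G)))),
      S = {b | IsInducedBlock M (Subgroup.centralizer ({x} : Set G)) b B} := ⟨_, rfl⟩
  have hSmem : ∀ b, b ∈ S ↔ IsInducedBlock M (Subgroup.centralizer ({x} : Set G)) b B := by
    intro b; rw [hSdef]; rfl
  rw [← hSdef]
  have hSfin : S.Finite := Set.toFinite S
  rw [finsum_mem_eq_finite_toFinset_sum _ hSfin, Nat.cast_sum]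
  -- each rank as a sum over all of `Irr C`
  have hrank : ∀ b ∈ hSfin.toFinset, ((blockRank p b : ℕ) : ℂ) =
      ∑ ψ : IrrCharacter (Subgroup.centralizer ({x} : Set G)),
        if ψ ∈ b then ∑ χ : IrrCharacter G, gdn p x χ ψ * conj (gdn p x χ ψ) else 0 := by
    intro b hb
    have hbS : b ∈ S := (Set.Finite.mem_toFinset hSfin).1 hb
    have hbblock : IsPBlock M b := ((hSmem b).1 hbS).1
    rw [blockRank_eq_sum hM hbblock]
    rw [← Finset.sum_subset (Finset.subset_univ (Set.toFinite b).toFinset)]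
    · refine Finset.sum_congr rfl fun ψ hψ => ?_
      rw [if_pos ((Set.Finite.mem_toFinset _).1 hψ), sum_gdn_left x hx ψ]
    · intro ψ _ hψ
      rw [if_neg (fun h => hψ ((Set.Finite.mem_toFinset _).2 h))]
  rw [Finset.sum_congr rfl hrank, Finset.sum_comm]
  -- the inner sum over blocks
  have hinner : ∀ ψ : IrrCharacter (Subgroup.centralizer ({x} : Set G)),
      ∑ b ∈ hSfin.toFinset,
        (if ψ ∈ b then ∑ χ : IrrCharacter G, gdn p x χ ψ * conj (gdn p x χ ψ) else 0) =
      if blockOf M (ψ : Subgroup.centralizer ({x} : Set G) → ℂ) ∈ S then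
        ∑ χ : IrrCharacter G, gdn p x χ ψ * conj (gdn p x χ ψ) else 0 := by
    intro ψ
    have hkey : ∀ b ∈ hSfin.toFinset, ψ ∈ b →
        b = blockOf M (ψ : Subgroup.centralizer ({x} : Set G) → ℂ) := by
      intro b hb hψb
      have hbS : b ∈ S := (Set.Finite.mem_toFinset hSfin).1 hb
      exact eq_of_isPBlock_of_mem ((hSmem b).1 hbS).1 ⟨ψ, rfl⟩ hψb (mem_blockOf_self ψ)
    by_cases h : blockOf M (ψ : Subgroup.centralizer ({x} : Set G) → ℂ) ∈ S
    · rw [if_pos h]
      rw [Finset.sum_eq_single (blockOf M (ψ : Subgroup.centralizer ({x} : Set G) → ℂ))]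
      · rw [if_pos (mem_blockOf_self ψ)]
      · intro b hb hne
        rw [if_neg (fun hψb => hne (hkey b hb hψb))]
      · intro hnot
        exact absurd ((Set.Finite.mem_toFinset hSfin).2 h) hnot
    · rw [if_neg h]
      refine Finset.sum_eq_zero fun b hb => ?_
      rw [if_neg]
      intro hψb
      apply h
      rw [← hkey b hb hψb]
      exact (Set.Finite.mem_toFinset hSfin).1 hb
  rw [Finset.sum_congr rfl (fun ψ _ => hinner ψ)]
  -- exchange the conditions
  have hswap : ∀ (ψ : IrrCharacter (Subgroup.centralizer ({x} : Set G))) (χ : IrrCharacter G),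
      (if blockOf M (ψ : Subgroup.centralizer ({x} : Set G) → ℂ) ∈ S then
        gdn p x χ ψ * conj (gdn p x χ ψ) else 0) =
      (if χ ∈ B then gdn p x χ ψ * conj (gdn p x χ ψ) else 0) := by
    intro ψ χ
    by_cases h1 : blockOf M (ψ : Subgroup.centralizer ({x} : Set G) → ℂ) ∈ S
    · by_cases h2 : χ ∈ B
      · rw [if_pos h1, if_pos h2]
      · rw [if_pos h1, if_neg h2]
        have : gdn p x χ ψ = 0 := by
          apply gdn_eq_zero x hM hx χ ψ
          intro hind
          have := isInducedBlock_unique _ ((hSmem _).1 h1) hind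
          apply h2
          rw [this]
          exact mem_blockOf_self χ
        rw [this, zero_mul]
    · by_cases h2 : χ ∈ B
      · rw [if_neg h1, if_pos h2]
        have : gdn p x χ ψ = 0 := by
          apply gdn_eq_zero x hM hx χ ψ
          intro hind
          apply h1
          rw [hSmem]
          have : B = blockOf M (χ : G → ℂ) :=
            eq_of_isPBlock_of_mem hB ⟨χ, rfl⟩ h2 (mem_blockOf_self χ)
          rw [this]
          exact hind
        rw [this, zero_mul]
      · rw [if_neg h1, if_neg h2]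
  have h3 : ∀ ψ : IrrCharacter (Subgroup.centralizer ({x} : Set G)),
      (if blockOf M (ψ : Subgroup.centralizer ({x} : Set G) → ℂ) ∈ S then
        ∑ χ : IrrCharacter G, gdn p x χ ψ * conj (gdn p x χ ψ) else 0) =
      ∑ χ : IrrCharacter G, (if χ ∈ B then gdn p x χ ψ * conj (gdn p x χ ψ) else 0) := by
    intro ψ
    rw [← Finset.sum_congr rfl (fun χ _ => hswap ψ χ)]
    by_cases h1 : blockOf M (ψ : Subgroup.centralizer ({x} : Set G) → ℂ) ∈ S
    · simp only [if_pos h1]
    · simp only [if_neg h1, Finset.sum_const_zero]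
  rw [Finset.sum_congr rfl (fun ψ _ => h3 ψ), Finset.sum_comm]
  rw [← Finset.sum_subset (Finset.subset_univ (Set.toFinite B).toFinset)]
  · refine Finset.sum_congr rfl fun χ hχ => ?_
    have hχB : χ ∈ B := (Set.Finite.mem_toFinset _).1 hχ
    simp only [if_pos hχB]
    rw [sum_gdn_right x χ]
    rfl
  · intro χ _ hχ
    have hχB : χ ∉ B := fun h => hχ ((Set.Finite.mem_toFinset _).2 h)
    simp only [if_neg hχB, Finset.sum_const_zero]

theorem secNorm_eq_classInner (x : G) (hx : ∃ k : ℕ, orderOf x = p ^ k) (χ : IrrCharacter G) :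
    secNorm p x χ = classInner (indFun (Subgroup.centralizer ({x} : Set G))
      (fun c : Subgroup.centralizer ({x} : Set G) => by
        classical exact if IsPPart p (c : G) x then (χ : G → ℂ) c else 0)) (χ : G → ℂ) := by
  classical
  letI : Fintype (Subgroup.centralizer ({x} : Set G)) := Fintype.ofFinite _
  rw [Cfsg.Agent.Helper81.frobenius_reciprocity _ _ (isClassFunction_of_isIrrCharacter χ.2)]
  have hxC := self_mem_cent x
  obtain ⟨z, hz⟩ : ∃ z : Subgroup.centralizer ({x} : Set G), z = ⟨x, hxC⟩ := ⟨_, rfl⟩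
  have hzval : (z : G) = x := by rw [hz]
  unfold secNorm classInner
  congr 1
  rw [← Equiv.sum_comp (Equiv.mulLeft z)
    (fun c : Subgroup.centralizer ({x} : Set G) =>
      (if IsPPart p (c : G) x then (χ : G → ℂ) c else 0) * conj ((χ : G → ℂ) (c : G)))]
  refine Finset.sum_congr rfl fun y _ => ?_
  show _ = (if IsPPart p ((z * y : Subgroup.centralizer ({x} : Set G)) : G) x then
    (χ : G → ℂ) ((z * y : Subgroup.centralizer ({x} : Set G)) : G) else 0) *
    conj ((χ : G → ℂ) ((z * y : Subgroup.centralizer ({x} : Set G)) : G))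
  have h3 : ((z * y : Subgroup.centralizer ({x} : Set G)) : G) = x * (y : G) := by
    push_cast; rw [hzval]
  rw [h3]
  by_cases hy : p ∣ orderOf y
  · rw [pRegularPart_of_singular p _ hy, if_neg (fun h => (isPPart_mul_iff x hx y).1 h hy)]
    simp
  · rw [pRegularPart_of_regular p _ hy, if_pos ((isPPart_mul_iff x hx y).2 hy)]

theorem sum_secNorm (X : Finset G) (hX : ∀ x ∈ X, ∃ k : ℕ, orderOf x = p ^ k)
    (hXrep : ∀ g : G, (∃ k : ℕ, orderOf g = p ^ k) → ∃! x, x ∈ X ∧ IsConj g x)
    (χ : IrrCharacter G) : ∑ x ∈ X, secNorm p x χ = 1 := by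
  classical
  have hp : p.Prime := Fact.out
  rw [Finset.sum_congr rfl (fun x hx => secNorm_eq_classInner x (hX x hx) χ)]
  rw [← classInner_sum_left]
  have hfun : (∑ x ∈ X, indFun (Subgroup.centralizer ({x} : Set G))
      (fun c : Subgroup.centralizer ({x} : Set G) =>
        if IsPPart p (c : G) x then (χ : G → ℂ) c else 0)) = (χ : G → ℂ) := by
    funext g
    rw [Finset.sum_apply]
    obtain ⟨u, hu⟩ := Cfsg.Agent.Helper16.exists_isPPart hp g
    have hup : ∃ k : ℕ, orderOf u = p ^ k := by
      obtain ⟨_, _, _, h, _⟩ := hu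
      exact h
    obtain ⟨x₀, ⟨hx₀X, hx₀c⟩, huniq⟩ := hXrep u hup
    have hterm : ∀ x ∈ X, indFun (Subgroup.centralizer ({x} : Set G))
        (fun c : Subgroup.centralizer ({x} : Set G) =>
          if IsPPart p (c : G) x then (χ : G → ℂ) c else 0) g =
        if IsConj u x then (χ : G → ℂ) g else 0 := by
      intro x _
      letI : Fintype (Subgroup.centralizer ({x} : Set G)) := Fintype.ofFinite _
      exact indFun_restrict_section x _ hp (mem_cent_iff x) (χ : G → ℂ)
        (isClassFunction_of_isIrrCharacter χ.2) g u hu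
    rw [Finset.sum_congr rfl hterm, Finset.sum_eq_single x₀]
    · rw [if_pos hx₀c]
    · intro x hxX hne
      rw [if_neg]
      intro hc
      exact hne (huniq x ⟨hxX, hc⟩)
    · intro h
      exact absurd hx₀X h
  rw [hfun, classInner_irr_self]

end sec

end Cfsg.Agent.Helper74.SS
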