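import Mathlib
import Cfsg.Prelude.Def_Blocks
import Cfsg.Prelude.Def_BrauerPairs
import Cfsg.Agent.Lib.Helper77.ThirdMain
import Cfsg.Agent.Lib.Helper77.Extended
import Cfsg.Agent.Lib.Helper77.Induced
import Cfsg.Agent.Lib.Helper77.BrauerMap

/-!
# Brauer's third main theorem for centralizers of `p`-elements, in induced-block form (helper74)

For a `p`-element `x` with centralizer `C`, the blocks of `C` inducing the principal block of `G`
are exactly the principal block of `C`.
-/

set_option autoImplicit false
set_option linter.unusedSectionVars false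
set_option linter.style.haveILetI false

namespace Cfsg.Agent.Helper74.KL

open Cfsg
open Cfsg.Agent.Helper77

universe u

section third

variable {G : Type u} [Group G] [Fintype G] {p : ℕ} [Fact p.Prime] {M : Ideal AlgInt}

/-- induced block ⇒ Brauer pair, for `H = C_G(Q)`, `Q` an abelian `p`-subgroup -/
theorem isBrauerPairOf_of_isInducedBlock (hM : IsPModular p M) (Q : Subgroup G)
    (hQ : IsPGroup p Q) (hQab : Q ≤ Subgroup.centralizer (Q : Set G))
    [Fintype (Subgroup.centralizer (Q : Set G))]
    {B : Set (IrrCharacter G)} {b : Set (IrrCharacter (Subgroup.centralizer (Q : Set G)))}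
    (hind : IsInducedBlock M (Subgroup.centralizer (Q : Set G)) b B) :
    IsBrauerPairOf p M B Q b := by
  classical
  refine ⟨⟨hQ, hind.1⟩, hind.2.1, fun ξ hξ => ?_⟩
  rw [brauerOmega_eq_omega]
  have h := omega_cutC_of_isInducedBlock_gen hM Q (Subgroup.centralizer (Q : Set G)) hQ hQab
    (Subgroup.centralizer_le_normalizer _) hind hξ
  have heq : cutC Q (Subgroup.centralizer (Q : Set G)) (blockCoeff B) =
      fun x : Subgroup.centralizer (Q : Set G) => blockCoeff B x := by
    funext h
    exact cutC_of_mem Q _ _ h.2
  rwa [heq] at h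

/-- Brauer pair ⇒ induced block, for `H = C_G(Q)`, `Q` an abelian `p`-subgroup -/
theorem isInducedBlock_of_isBrauerPairOf (hM : IsPModular p M) (Q : Subgroup G)
    (hQab : Q ≤ Subgroup.centralizer (Q : Set G))
    [Fintype (Subgroup.centralizer (Q : Set G))]
    {B : Set (IrrCharacter G)} {b : Set (IrrCharacter (Subgroup.centralizer (Q : Set G)))}
    (hpair : IsBrauerPairOf p M B Q b) :
    IsInducedBlock M (Subgroup.centralizer (Q : Set G)) b B := by
  classical
  haveI := isPrime_of_isPModular hM
  obtain ⟨⟨hQ, hb⟩, hB, hom⟩ := hpair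
  obtain ⟨ξ, hξ⟩ := nonempty_of_isPBlock hb
  have hw := isModHom_wOf hM Q (Subgroup.centralizer (Q : Set G)) hQ hQab le_rfl
    (Subgroup.centralizer_le_normalizer _) ξ.2
  refine isInducedBlock_of_isModHom _ hb hξ hw hB ?_
  rw [wsum_wOf]
  have h := hom ξ hξ
  rw [brauerOmega_eq_omega] at h
  exact h

/-- third main theorem for `H = C_G(Q)`, with `H` given up to equality -/
theorem blocks_inducing_principal_aux (hM : IsPModular p M) (Q : Subgroup G)
    (hQ : IsPGroup p Q) (hQab : Q ≤ Subgroup.centralizer (Q : Set G))
    (H : Subgroup G) (hH : H = Subgroup.centralizer (Q : Set G)) [Fintype H]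
    (b : Set (IrrCharacter H)) :
    IsInducedBlock M H b (principalBlock M G) ↔ b = principalBlock M H := by
  subst hH
  constructor
  · intro hind
    exact (isBrauerPairOf_principalBlock_iff hM Q hQ b hind.1).1
      (isBrauerPairOf_of_isInducedBlock hM Q hQ hQab hind)
  · intro h
    rw [h]
    exact isInducedBlock_of_isBrauerPairOf hM Q hQab (isBrauerPairOf_principal hM Q hQ)

/-- **Third main theorem** for the centralizer of a `p`-element. -/
theorem blocks_inducing_principal (hM : IsPModular p M) (x : G)
    (hx : ∃ k : ℕ, orderOf x = p ^ k) [Fintype (Subgroup.centralizer ({x} : Set G))]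
    (b : Set (IrrCharacter (Subgroup.centralizer ({x} : Set G)))) :
    IsInducedBlock M (Subgroup.centralizer ({x} : Set G)) b (principalBlock M G) ↔
      b = principalBlock M (Subgroup.centralizer ({x} : Set G)) := by
  have hQ : IsPGroup p (Subgroup.zpowers x) := by
    obtain ⟨k, hk⟩ := hx
    apply IsPGroup.of_card (n := k)
    rw [Nat.card_zpowers, hk]
  have hQab : Subgroup.zpowers x ≤ Subgroup.centralizer ((Subgroup.zpowers x : Subgroup G) : Set G) := by
    intro y hy
    rw [Subgroup.mem_centralizer_iff]
    intro h hh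
    obtain ⟨i, rfl⟩ := Subgroup.mem_zpowers_iff.1 hy
    obtain ⟨j, rfl⟩ := Subgroup.mem_zpowers_iff.1 hh
    exact (Commute.zpow_zpow_self x j i).eq
  have hH : Subgroup.centralizer ({x} : Set G) =
      Subgroup.centralizer ((Subgroup.zpowers x : Subgroup G) : Set G) := by
    rw [Subgroup.zpowers_eq_closure, Subgroup.centralizer_closure]
  exact blocks_inducing_principal_aux hM (Subgroup.zpowers x) hQ hQab _ hH b

end third

end Cfsg.Agent.Helper74.KL
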