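import Mathlib
import Cfsg.Prelude.Def_Blocks
import Cfsg.Agent.Lib.Helper16.Osima
import Cfsg.Agent.Lib.Helper79.Integrality

set_option autoImplicit false

open Cfsg
open scoped ComplexConjugate

namespace Cfsg.Agent.Helper74.DZ

universe u

/-- A rational prime is not a unit in the ring of algebraic integers, so it lies in a maximal
ideal. -/
theorem exists_isPModular (p : ℕ) (hp : p.Prime) : ∃ M : Ideal AlgInt, IsPModular p M := by
  have hne : Ideal.span {(p : AlgInt)} ≠ ⊤ := by
    intro h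
    rw [Ideal.span_singleton_eq_top] at h
    obtain ⟨a, ha⟩ := h.exists_right_inv
    have h1 : ((a : AlgInt) : ℂ) * (p : ℂ) = ((1 : ℕ) : ℂ) := by
      have := congrArg (fun x : AlgInt => (x : ℂ)) ha
      push_cast at this
      rw [mul_comm] at this
      simpa using this
    have h2 := Cfsg.Agent.Helper79.dvd_of_isIntegral_of_mul_eq (a : ℂ) p 1 hp.ne_zero h1 a.2
    exact hp.one_lt.ne' (Nat.dvd_one.mp h2)
  obtain ⟨M, hM, hle⟩ := Ideal.exists_le_maximal _ hne
  exact ⟨M, hp, hM, hle (Ideal.subset_span rfl)⟩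

variable {G : Type u} [Group G]

theorem blockCoeff_singleton [Fintype G] (χ : IrrCharacter G) (g : G) :
    blockCoeff {χ} g = (Nat.card G : ℂ)⁻¹ * ((χ : G → ℂ) 1 * conj ((χ : G → ℂ) g)) := by
  unfold blockCoeff
  rw [finsum_mem_singleton]

/-- A character of `p`-defect zero vanishes on `p`-singular elements. -/
theorem irr_vanish_of_defect_zero [Finite G] (χ : IrrCharacter G) (p : ℕ) (hp : p.Prime)
    (hdeg : p ^ (Nat.card G).factorization p ∣ charDegree (χ : G → ℂ)) (g : G)
    (hg : p ∣ orderOf g) : (χ : G → ℂ) g = 0 := by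
  classical
  have := Fintype.ofFinite G
  obtain ⟨M, hM⟩ := exists_isPModular p hp
  have hprime : M.IsPrime := Cfsg.Agent.Helper77.isPrime_of_isPModular hM
  have hGpos : 0 < Nat.card G := Nat.card_pos
  set n := (Nat.card G).factorization p with hn
  obtain ⟨u, hu⟩ := hdeg
  have hpn : p ^ n ∣ Nat.card G := Nat.ordProj_dvd _ _
  obtain ⟨m, hm⟩ := hpn
  have hpm : ¬ p ∣ m := by
    have h1 := Nat.not_dvd_ordCompl hp hGpos.ne'
    have h2 : Nat.card G / p ^ n = m := by
      rw [hm]
      exact Nat.mul_div_cancel_left m (pow_pos hp.pos n)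
    rw [← hn, h2] at h1
    exact h1
  have hm0 : (m : ℂ) ≠ 0 := by
    have : m ≠ 0 := by
      rintro rfl
      rw [mul_zero] at hm
      exact hGpos.ne' hm
    exact_mod_cast this
  have hpn0 : ((p ^ n : ℕ) : ℂ) ≠ 0 := by
    exact_mod_cast (pow_pos hp.pos n).ne'
  have hcoef : (Nat.card G : ℂ)⁻¹ * (χ : G → ℂ) 1 = (u : ℂ) * (m : ℂ)⁻¹ := by
    rw [Cfsg.Agent.Helper80.irr_one, hu, hm]
    have hpn0' : ((p : ℂ) ^ n) ≠ 0 := by
      have := hpn0
      push_cast at this
      exact this
    push_cast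
    field_simp
  have hR : ∀ x : G, MemLocalRing M (blockCoeff {χ} x) := by
    intro x
    rw [blockCoeff_singleton, ← mul_assoc, hcoef]
    apply Cfsg.Agent.Helper77.memLocalRing_mul
    · apply Cfsg.Agent.Helper77.memLocalRing_mul (Cfsg.Agent.Helper77.memLocalRing_natCast u)
      apply Cfsg.Agent.Helper77.memLocalRing_inv (Cfsg.Agent.Helper77.memLocalRing_natCast m)
      rw [Cfsg.Agent.Helper77.memLocalIdeal_natCast_iff hM]
      exact hpm
    · have hint : IsIntegral ℤ (conj ((χ : G → ℂ) x)) := by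
        rw [← Cfsg.Agent.Helper80.irr_inv]
        exact Cfsg.Agent.Helper79.irr_isIntegral χ x⁻¹
      exact Cfsg.Agent.Helper77.memLocalRing_algInt hprime.ne_top ⟨_, hint⟩
  have h := Cfsg.Agent.Helper16.sum_conj_eq_zero_of_singular hM (blockCoeff {χ}) hR
    (Cfsg.Agent.Helper77.conv_blockCoeff_self {χ}) g hg
  have hcl := Cfsg.Agent.Helper77.isClassFunction_blockCoeff ({χ} : Set (IrrCharacter G))
  simp only [hcl g, Finset.sum_const, Finset.card_univ, nsmul_eq_mul] at h
  have hG : (Fintype.card G : ℂ) ≠ 0 := by exact_mod_cast Fintype.card_ne_zero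
  have h0 : blockCoeff {χ} g = 0 := (mul_eq_zero.mp h).resolve_left hG
  rw [blockCoeff_singleton] at h0
  have hG' : (Nat.card G : ℂ)⁻¹ ≠ 0 := by
    apply inv_ne_zero
    exact_mod_cast hGpos.ne'
  have h1 := (mul_eq_zero.mp h0).resolve_left hG'
  have h2 := (mul_eq_zero.mp h1).resolve_left (Cfsg.Agent.Helper80.irr_one_ne_zero χ)
  have h3 := congrArg conj h2
  rwa [Complex.conj_conj, map_zero] at h3

end Cfsg.Agent.Helper74.DZ
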