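import Mathlib
import Cfsg.Prelude.Def_Characters
import Cfsg.Agent.Lib.Helper79.FiniteOrder

/-!
# Sums of character values over a subgroup centralized by an element (helper74)

`exists_isIntegral_sum_char` : if `x` commutes with every element of the finite subgroup `D`, then
`∑ y ∈ D, χ (x * y) = |D| * z` with `z` an algebraic integer (`z` is the trace of `x` on the
`D`-fixed vectors).
-/

set_option autoImplicit false

namespace Cfsg.Agent.Helper74.SubSum

open Cfsg

section rep

variable {G : Type*} [Group G] {V : Type*} [AddCommGroup V] [Module ℂ V] [FiniteDimensional ℂ V]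

/-- The vectors fixed by a subgroup. -/
def fixedSub (ρ : Representation ℂ G V) (D : Subgroup G) : Submodule ℂ V where
  carrier := {v | ∀ d ∈ D, ρ d v = v}
  add_mem' := by
    intro a b ha hb d hd
    rw [map_add, ha d hd, hb d hd]
  zero_mem' := by
    intro d _
    exact map_zero _
  smul_mem' := by
    intro c v hv d hd
    rw [map_smul, hv d hd]

theorem mem_fixedSub (ρ : Representation ℂ G V) (D : Subgroup G) (v : V) :
    v ∈ fixedSub ρ D ↔ ∀ d ∈ D, ρ d v = v := Iff.rfl

theorem exists_isIntegral_sum_rep (ρ : Representation ℂ G V) (x : G) (hxfin : 0 < orderOf x)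
    (D : Subgroup G) [Fintype D] (hx : ∀ d ∈ D, x * d = d * x) :
    ∃ z : ℂ, IsIntegral ℤ z ∧ ∑ y : D, ρ.character (x * (y : G)) = (Nat.card D : ℂ) * z := by
  classical
  set E : Module.End ℂ V := ∑ y : D, ρ (y : G) with hE
  set W := fixedSub ρ D with hW
  -- ρ d ∘ E = E
  have hdE : ∀ d ∈ D, ∀ v, ρ d (E v) = E v := by
    intro d hd v
    rw [hE, LinearMap.sum_apply, map_sum]
    have : ∀ y : D, ρ d (ρ (y : G) v) = ρ (((⟨d, hd⟩ : D) * y : D) : G) v := by
      intro y
      rw [Subgroup.coe_mul, map_mul]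
      rfl
    simp only [this]
    exact Fintype.sum_bijective (fun y : D => (⟨d, hd⟩ : D) * y)
      (Group.mulLeft_bijective _) _ _ (fun _ => rfl)
  have hEW : ∀ w ∈ W, E w = (Nat.card D : ℂ) • w := by
    intro w hw
    rw [hE, LinearMap.sum_apply]
    have : ∀ y : D, ρ (y : G) w = w := fun y => hw y y.2
    simp only [this, Finset.sum_const, Finset.card_univ, Nat.card_eq_fintype_card]
    rw [Nat.cast_smul_eq_nsmul]
  have hxW : ∀ w ∈ W, ρ x w ∈ W := by
    intro w hw d hd
    have h1 : ρ d (ρ x w) = ρ (d * x) w := by rw [map_mul]; rfl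
    have h2 : ρ (x * d) w = ρ x (ρ d w) := by rw [map_mul]; rfl
    rw [h1, ← hx d hd, h2, hw d hd]
  set f : Module.End ℂ V := ρ x * E with hf
  have hfW : ∀ v, f v ∈ W := by
    intro v d hd
    rw [hf, Module.End.mul_apply]
    have h1 : ρ d (ρ x (E v)) = ρ (d * x) (E v) := by rw [map_mul]; rfl
    have h2 : ρ (x * d) (E v) = ρ x (ρ d (E v)) := by rw [map_mul]; rfl
    rw [h1, ← hx d hd, h2, hdE d hd]
  have hfW' : ∀ w ∈ W, f w ∈ W := fun w _ => hfW w
  have htr := LinearMap.trace_restrict_eq_of_forall_mem W f hfW hfW'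
  have hres : f.restrict hfW' = (Nat.card D : ℂ) • (ρ x).restrict hxW := by
    ext ⟨w, hw⟩
    simp only [LinearMap.restrict_coe_apply, LinearMap.smul_apply, Submodule.coe_smul]
    rw [hf, Module.End.mul_apply, hEW w hw, map_smul]
  have hpow : ((ρ x).restrict hxW) ^ orderOf x = 1 := by
    rw [Module.End.pow_restrict]
    ext ⟨w, hw⟩
    simp only [LinearMap.restrict_coe_apply, Module.End.one_apply]
    rw [← map_pow, pow_orderOf_eq_one, map_one]
    rfl
  refine ⟨LinearMap.trace ℂ W ((ρ x).restrict hxW),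
    Cfsg.Agent.Helper79.isIntegral_trace _ _ hxfin hpow, ?_⟩
  rw [← smul_eq_mul, ← map_smul, ← hres, htr, hf, hE, Finset.mul_sum, map_sum]
  refine Finset.sum_congr rfl fun y _ => ?_
  unfold Representation.character
  rw [map_mul]

end rep

section char

variable {G : Type*} [Group G] [Finite G]

theorem exists_isIntegral_sum_char {χ : G → ℂ} (hχ : IsCharacter G χ) (x : G)
    (D : Subgroup G) [Fintype D] (hx : ∀ d ∈ D, x * d = d * x) :
    ∃ z : ℂ, IsIntegral ℤ z ∧ ∑ y : D, χ (x * (y : G)) = (Nat.card D : ℂ) * z := by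
  obtain ⟨n, ρ, rfl⟩ := hχ
  exact exists_isIntegral_sum_rep ρ x (orderOf_pos x) D hx

end char

end Cfsg.Agent.Helper74.SubSum
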