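import Mathlib
import Cfsg.Prelude.Def_Blocks
import Cfsg.Agent.Lib.Helper74.SubSum
import Cfsg.Agent.Lib.Helper77.MinMax
import Cfsg.Agent.Lib.Helper16.Osima
import Cfsg.Agent.Lib.Helper79.Integrality
import Cfsg.Agent.Lib.Helper3.CharIntegral
import Cfsg.Agent.Lib.Helper78.CharSchur

/-!
# Order of defect groups and supports of block idempotents / central characters (helper74)

With `minVal p B` the least `p`-adic valuation of the degrees in `B` (so that
`blockDefect p B = a - minVal p B`):

* `memLocalIdeal_blockCoeff_of_large` : for `x` `p`-regular and `D ≤ C_G(x)` a `p`-subgroup with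
  `a < minVal + ν_p |D|`, the coefficient of the block idempotent at `x` lies in the local ideal.
* `memLocalIdeal_centralChar_of_small` : if `ν_p |C_G(g)| + minVal < a` then the central character
  of `B` at `g` lies in the local ideal.
* `card_defectGroup` : a defect group has order `p ^ blockDefect p B`.
-/

set_option autoImplicit false
set_option linter.unusedSectionVars false
set_option linter.style.haveILetI false

namespace Cfsg.Agent.Helper74.DO

open Cfsg
open Cfsg.Agent.Helper77
open scoped ComplexConjugate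

universe u

section rat

variable {p : ℕ} {M : Ideal AlgInt}

/-- A quotient of natural numbers whose numerator has larger `p`-adic valuation lies in the local
ideal. -/
theorem memLocalIdeal_natCast_div (hM : IsPModular p M) (n m : ℕ) (hn : n ≠ 0) (hm : m ≠ 0)
    (h : m.factorization p < n.factorization p) : MemLocalIdeal M ((n : ℂ) / (m : ℂ)) := by
  have hp : p.Prime := hM.1
  have := isPrime_of_isPModular hM
  set k := n.factorization p - m.factorization p - 1 with hk
  -- n = p^(νn) * n', m = p^(νm) * m'
  have hn' := Nat.ordProj_mul_ordCompl_eq_self n p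
  have hm' := Nat.ordProj_mul_ordCompl_eq_self m p
  have hmc : ¬ p ∣ m / p ^ m.factorization p := Nat.not_dvd_ordCompl hp hm
  have hmem : ((p ^ (k + 1) * (n / p ^ n.factorization p) : ℕ) : AlgInt) ∈ M := by
    rw [natCast_mem_iff hM]
    exact dvd_mul_of_dvd_left (dvd_pow_self p (Nat.succ_ne_zero k)) _
  have hnot : ((m / p ^ m.factorization p : ℕ) : AlgInt) ∉ M := by
    rw [natCast_mem_iff hM]
    exact hmc
  refine ⟨_, _, hmem, hnot, ?_⟩
  have hmc0 : ((m / p ^ m.factorization p : ℕ) : ℂ) ≠ 0 := by
    intro h0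
    have : m / p ^ m.factorization p = 0 := by exact_mod_cast h0
    rw [this] at hmc
    exact hmc (dvd_zero p)
  have hm0 : (m : ℂ) ≠ 0 := by exact_mod_cast hm
  have hpm : ((p ^ m.factorization p : ℕ) : ℂ) ≠ 0 := by
    have : p ^ m.factorization p ≠ 0 := pow_ne_zero _ hp.ne_zero
    exact_mod_cast this
  have e1 : (n : ℂ) = ((p ^ n.factorization p : ℕ) : ℂ) * ((n / p ^ n.factorization p : ℕ) : ℂ) := by
    rw [← Nat.cast_mul, hn']
  have e2 : (m : ℂ) = ((p ^ m.factorization p : ℕ) : ℂ) * ((m / p ^ m.factorization p : ℕ) : ℂ) := by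
    rw [← Nat.cast_mul, hm']
  have e3 : p ^ n.factorization p = p ^ (k + 1) * p ^ m.factorization p := by
    rw [← pow_add]
    congr 1
    omega
  have c1 : (((p ^ (k + 1) * (n / p ^ n.factorization p) : ℕ) : AlgInt) : ℂ) =
      ((p ^ (k + 1) * (n / p ^ n.factorization p) : ℕ) : ℂ) := by simp
  have c2 : (((m / p ^ m.factorization p : ℕ) : AlgInt) : ℂ) =
      ((m / p ^ m.factorization p : ℕ) : ℂ) := by simp
  rw [c1, c2, e1, e2, e3]
  push_cast
  field_simp

end rat

section minval

variable {G : Type u} [Group G] {p : ℕ}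

/-- The least `p`-adic valuation of a degree in `B`. -/
noncomputable def minVal (p : ℕ) (B : Set (IrrCharacter G)) : ℕ :=
  sInf ((fun χ : IrrCharacter G => (charDegree (χ : G → ℂ)).factorization p) '' B)

theorem blockDefect_eq (B : Set (IrrCharacter G)) :
    blockDefect p B = (Nat.card G).factorization p - minVal p B := rfl

theorem exists_minVal {B : Set (IrrCharacter G)} (hB : B.Nonempty) :
    ∃ χ ∈ B, (charDegree (χ : G → ℂ)).factorization p = minVal p B := by
  have hne : ((fun χ : IrrCharacter G => (charDegree (χ : G → ℂ)).factorization p) '' B).Nonempty :=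
    hB.image _
  obtain ⟨χ, hχ, h⟩ := Nat.sInf_mem hne
  exact ⟨χ, hχ, h⟩

theorem minVal_le {B : Set (IrrCharacter G)} {χ : IrrCharacter G} (hχ : χ ∈ B) :
    minVal p B ≤ (charDegree (χ : G → ℂ)).factorization p :=
  Nat.sInf_le ⟨χ, hχ, rfl⟩

theorem minVal_le_card [Finite G] {B : Set (IrrCharacter G)} (hB : B.Nonempty) :
    minVal p B ≤ (Nat.card G).factorization p := by
  obtain ⟨χ, hχ, h⟩ := exists_minVal (p := p) hB
  rw [← h]
  have hdvd := Cfsg.Agent.Helper79.irr_degree_dvd_card χ
  exact (Nat.factorization_le_iff_dvd (Cfsg.Agent.Helper79.irr_one_eq χ).2.ne'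
    Nat.card_pos.ne').2 hdvd p

end minval


section main

variable {G : Type u} [Group G] [Fintype G] {p : ℕ} [hpf : Fact p.Prime] {M : Ideal AlgInt}

theorem dvd_orderOf_mul_of_pElement (x y : G) (hx : ¬ p ∣ orderOf x) (hc : Commute x y)
    (hy : ∃ k : ℕ, orderOf y = p ^ k) (hy1 : y ≠ 1) : p ∣ orderOf (x * y) := by
  obtain ⟨k, hk⟩ := hy
  have hk0 : k ≠ 0 := by
    rintro rfl
    rw [pow_zero, orderOf_eq_one_iff] at hk
    exact hy1 hk
  have hcop : (orderOf x).Coprime (orderOf y) := by
    rw [hk]
    exact Nat.Coprime.pow_right k ((Nat.Prime.coprime_iff_not_dvd hpf.out).2 hx).symm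
  rw [hc.orderOf_mul_eq_mul_orderOf_of_coprime hcop, hk]
  exact dvd_mul_of_dvd_right (dvd_pow_self p hk0) _

theorem memLocalRing_of_isIntegral [hp : M.IsPrime] {z : ℂ} (hz : IsIntegral ℤ z) :
    MemLocalRing M z := by
  have := memLocalRing_algInt hp.ne_top (⟨z, hz⟩ : AlgInt)
  simpa using this

/-- **(A)** The block idempotent coefficient at a `p`-regular element centralized by a large
`p`-subgroup lies in the local ideal. -/
theorem memLocalIdeal_blockCoeff_of_large (hM : IsPModular p M) {B : Set (IrrCharacter G)}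
    (hB : IsPBlock M B) (x : G) (hx : ¬ p ∣ orderOf x) (D : Subgroup G) (hD : IsPGroup p D)
    (hDx : D ≤ Subgroup.centralizer ({x} : Set G))
    (hbig : (Nat.card G).factorization p < minVal p B + (Nat.card D).factorization p) :
    MemLocalIdeal M (blockCoeff B x) := by
  classical
  haveI hp := isPrime_of_isPModular hM
  have hcomm : ∀ d ∈ D, x * d = d * x := fun d hd =>
    (Subgroup.mem_centralizer_iff.1 (hDx hd)) x (Set.mem_singleton x)
  have hord : ∀ y : D, ∃ k : ℕ, orderOf (y : G) = p ^ k := by
    intro y
    obtain ⟨k, hk⟩ := (IsPGroup.iff_orderOf.1 hD) y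
    exact ⟨k, by rw [Subgroup.orderOf_coe]; exact hk⟩
  have hsum : blockCoeff B x = ∑ y : D, blockCoeff B (x * (y : G)) := by
    rw [Fintype.sum_eq_single (1 : D)]
    · simp
    · intro y hy
      have hy1 : (y : G) ≠ 1 := fun h => hy (Subtype.ext h)
      exact Cfsg.Agent.Helper16.blockCoeff_eq_zero_of_singular hM hB _
        (dvd_orderOf_mul_of_pElement x y hx (hcomm y y.2) (hord y) hy1)
  have hz : ∀ χ : IrrCharacter G, ∃ z : ℂ, IsIntegral ℤ z ∧
      ∑ y : D, (χ : G → ℂ) (x * (y : G)) = (Nat.card D : ℂ) * z := fun χ =>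
    Cfsg.Agent.Helper74.SubSum.exists_isIntegral_sum_char
      (Cfsg.Agent.Helper80.isCharacter_of_irr χ.2) x D hcomm
  choose z hzint hzsum using hz
  have hGne : (Nat.card G : ℂ) ≠ 0 := by exact_mod_cast Nat.card_pos.ne'
  have hrew : ∑ y : D, blockCoeff B (x * (y : G)) =
      ∑ χ ∈ (Set.toFinite B).toFinset,
        (((charDegree (χ : G → ℂ) * Nat.card D : ℕ) : ℂ) / (Nat.card G : ℂ)) * conj (z χ) := by
    simp only [blockCoeff_eq_sum]
    rw [← Finset.mul_sum, Finset.sum_comm, Finset.mul_sum]
    refine Finset.sum_congr rfl fun χ _ => ?_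
    rw [← Finset.mul_sum, ← map_sum, hzsum χ, (Cfsg.Agent.Helper79.irr_one_eq χ).1, map_mul,
      Complex.conj_natCast]
    push_cast
    field_simp
  rw [hsum, hrew]
  refine memLocalIdeal_sum _ _ fun χ hχ => ?_
  rw [Set.Finite.mem_toFinset] at hχ
  apply memLocalIdeal_mul_right _
    (memLocalRing_of_isIntegral (Cfsg.Agent.Helper3.isIntegral_conj (hzint χ)))
  have hdeg0 : charDegree (χ : G → ℂ) ≠ 0 := (Cfsg.Agent.Helper79.irr_one_eq χ).2.ne'
  have hD0 : Nat.card D ≠ 0 := Nat.card_pos.ne'
  apply memLocalIdeal_natCast_div hM _ _ (Nat.mul_ne_zero hdeg0 hD0) Nat.card_pos.ne'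
  rw [Nat.factorization_mul hdeg0 hD0]
  have := minVal_le (p := p) hχ
  simp only [Finsupp.coe_add, Pi.add_apply]
  omega

/-- **(B)** The central character of `B` at an element of small defect lies in the local
ideal. -/
theorem memLocalIdeal_centralChar_of_small (hM : IsPModular p M) {B : Set (IrrCharacter G)}
    (hB : IsPBlock M B) {χ : IrrCharacter G} (hχ : χ ∈ B) (g : G)
    (hsmall : (Nat.card (Subgroup.centralizer ({g} : Set G))).factorization p + minVal p B <
      (Nat.card G).factorization p) : MemLocalIdeal M (centralChar (χ : G → ℂ) g) := by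
  classical
  haveI hp := isPrime_of_isPModular hM
  obtain ⟨χ', hχ', hmin⟩ := exists_minVal (p := p) ⟨χ, hχ⟩
  have hsame := sameBlock_of_mem hB hχ hχ' g
  suffices h : MemLocalIdeal M (centralChar (χ' : G → ℂ) g) by
    have := memLocalIdeal_add hsame h
    simpa using this
  have hdeg0 : charDegree (χ' : G → ℂ) ≠ 0 := (Cfsg.Agent.Helper79.irr_one_eq χ').2.ne'
  have hidx0 : (Subgroup.centralizer ({g} : Set G)).index ≠ 0 := Subgroup.index_ne_zero_of_finite
  have hC0 : Nat.card (Subgroup.centralizer ({g} : Set G)) ≠ 0 := Nat.card_pos.ne'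
  have hmul := Subgroup.card_mul_index (Subgroup.centralizer ({g} : Set G))
  have hfac : (Nat.card G).factorization p =
      (Nat.card (Subgroup.centralizer ({g} : Set G))).factorization p +
        (Subgroup.centralizer ({g} : Set G)).index.factorization p := by
    rw [← hmul, Nat.factorization_mul hC0 hidx0]
    rfl
  have h1 : centralChar (χ' : G → ℂ) g =
      (((Subgroup.centralizer ({g} : Set G)).index : ℂ) / (charDegree (χ' : G → ℂ) : ℂ)) *
        (χ' : G → ℂ) g := by
    unfold centralChar
    rw [(Cfsg.Agent.Helper79.irr_one_eq χ').1]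
    ring
  rw [h1]
  apply memLocalIdeal_mul_right _
    (memLocalRing_of_isIntegral (Cfsg.Agent.Helper79.irr_isIntegral χ' g))
  apply memLocalIdeal_natCast_div hM _ _ hidx0 hdeg0
  omega

/-- **(S1)** Elements in the support (mod the local ideal) of a block idempotent are `p`-regular
of defect at most the defect of the block. -/
theorem defect_le_of_blockCoeff (hM : IsPModular p M) {B : Set (IrrCharacter G)}
    (hB : IsPBlock M B) (x : G) (h : ¬ MemLocalIdeal M (blockCoeff B x)) :
    ¬ p ∣ orderOf x ∧
      (Nat.card (Subgroup.centralizer ({x} : Set G))).factorization p + minVal p B ≤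
        (Nat.card G).factorization p := by
  classical
  haveI hp := isPrime_of_isPModular hM
  have hx : ¬ p ∣ orderOf x := by
    intro hx
    apply h
    rw [Cfsg.Agent.Helper16.blockCoeff_eq_zero_of_singular hM hB x hx]
    exact memLocalIdeal_zero hp.ne_top
  refine ⟨hx, ?_⟩
  by_contra hlt
  push Not at hlt
  apply h
  obtain ⟨P⟩ : Nonempty (Sylow p (Subgroup.centralizer ({x} : Set G))) := inferInstance
  have hcard : Nat.card ((P : Subgroup (Subgroup.centralizer ({x} : Set G))).map
      (Subgroup.centralizer ({x} : Set G)).subtype) =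
      p ^ (Nat.card (Subgroup.centralizer ({x} : Set G))).factorization p := by
    rw [Subgroup.card_map_of_injective (Subgroup.subtype_injective _)]
    exact P.card_eq_multiplicity
  apply memLocalIdeal_blockCoeff_of_large hM hB x hx _ (sylow_map_isPGroup x P)
    (sylow_map_le_centralizer x P)
  rw [hcard, Nat.Prime.factorization_pow hpf.out]
  simp only [Finsupp.single_eq_same]
  omega

/-- **(S2)** Elements where the central character of `B` does not vanish (mod the local ideal)
have defect at least the defect of the block. -/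
theorem defect_ge_of_centralChar (hM : IsPModular p M) {B : Set (IrrCharacter G)}
    (hB : IsPBlock M B) {χ : IrrCharacter G} (hχ : χ ∈ B) (g : G)
    (h : ¬ MemLocalIdeal M (centralChar (χ : G → ℂ) g)) :
    (Nat.card G).factorization p ≤
      (Nat.card (Subgroup.centralizer ({g} : Set G))).factorization p + minVal p B := by
  by_contra hlt
  push Not at hlt
  exact h (memLocalIdeal_centralChar_of_small hM hB hχ g hlt)

/-- The `p`-part of the centralizer of a defect class representative is `p ^ blockDefect`. -/
theorem defect_of_isDefectClass (hM : IsPModular p M) {B : Set (IrrCharacter G)}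
    (hB : IsPBlock M B) {g : G} (hg : IsDefectClass M B g) :
    (Nat.card (Subgroup.centralizer ({g} : Set G))).factorization p = blockDefect p B := by
  haveI hp := isPrime_of_isPModular hM
  obtain ⟨χ, hχ⟩ := nonempty_of_isPBlock hB
  have h1 := (defect_le_of_blockCoeff hM hB g hg.2.1).2
  have h2 := defect_ge_of_centralChar hM hB hχ g (hg.2.2 χ hχ)
  rw [blockDefect_eq]
  omega

/-- **Order of a defect group** (S0908). -/
theorem card_defectGroup (hM : IsPModular p M) {B : Set (IrrCharacter G)}
    (hB : IsPBlock M B) (D : Subgroup G) (hD : IsDefectGroup p M B D) :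
    Nat.card D = p ^ blockDefect p B := by
  obtain ⟨g, hg, P, rfl⟩ := hD
  rw [Subgroup.card_map_of_injective (Subgroup.subtype_injective _), P.card_eq_multiplicity,
    defect_of_isDefectClass hM hB hg]

end main

end Cfsg.Agent.Helper74.DO
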