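import Mathlib
import Cfsg.Prelude.Def_Blocks
import Cfsg.Agent.Lib.Helper74.DefectOrder
import Cfsg.Agent.Lib.Helper16.PRegPart

/-!
# Brauer–Feit, part 1: valuations in the local ring and the basic congruence (helper74)

* `memLocalRing_natCast_div`, `not_memLocalRing_natCast_div`, `not_memLocalIdeal_natCast_div`,
  and integer versions: membership of rational numbers in the local ring / ideal via valuations.
* `regSum p χ ψ = ∑_{x p-regular} χ x * conj (ψ x)`.
* `regSum_congr` : for `χ, ψ` in the same block,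
  `regSum χ ψ / χ 1 - regSum ψ ψ / ψ 1` lies in the local ideal.
-/

set_option autoImplicit false
set_option linter.unusedSectionVars false
set_option linter.style.haveILetI false

namespace Cfsg.Agent.Helper74.BF

open Cfsg
open Cfsg.Agent.Helper77 Cfsg.Agent.Helper74.DO
open scoped ComplexConjugate

universe u

section rat

variable {p : ℕ} {M : Ideal AlgInt}

theorem memLocalRing_natCast_div (hM : IsPModular p M) (n m : ℕ) (hn : n ≠ 0) (hm : m ≠ 0)
    (h : m.factorization p ≤ n.factorization p) : MemLocalRing M ((n : ℂ) / (m : ℂ)) := by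
  have hp : p.Prime := hM.1
  have := isPrime_of_isPModular hM
  set k := n.factorization p - m.factorization p with hk
  have hn' := Nat.ordProj_mul_ordCompl_eq_self n p
  have hm' := Nat.ordProj_mul_ordCompl_eq_self m p
  have hmc : ¬ p ∣ m / p ^ m.factorization p := Nat.not_dvd_ordCompl hp hm
  have hnot : ((m / p ^ m.factorization p : ℕ) : AlgInt) ∉ M := by
    rw [natCast_mem_iff hM]
    exact hmc
  refine ⟨((p ^ k * (n / p ^ n.factorization p) : ℕ) : AlgInt), _, hnot, ?_⟩
  have hmc0 : ((m / p ^ m.factorization p : ℕ) : ℂ) ≠ 0 := by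
    intro h0
    have : m / p ^ m.factorization p = 0 := by exact_mod_cast h0
    rw [this] at hmc
    exact hmc (dvd_zero p)
  have hm0 : (m : ℂ) ≠ 0 := by exact_mod_cast hm
  have hpm : ((p ^ m.factorization p : ℕ) : ℂ) ≠ 0 := by
    have : p ^ m.factorization p ≠ 0 := pow_ne_zero _ hp.ne_zero
    exact_mod_cast this
  have e1 : (n : ℂ) = ((p ^ n.factorization p : ℕ) : ℂ) * ((n / p ^ n.factorization p : ℕ) : ℂ) := by
    rw [← Nat.cast_mul, hn']
  have e2 : (m : ℂ) = ((p ^ m.factorization p : ℕ) : ℂ) * ((m / p ^ m.factorization p : ℕ) : ℂ) := by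
    rw [← Nat.cast_mul, hm']
  have e3 : p ^ n.factorization p = p ^ k * p ^ m.factorization p := by
    rw [← pow_add]
    congr 1
    omega
  have c1 : (((p ^ k * (n / p ^ n.factorization p) : ℕ) : AlgInt) : ℂ) =
      ((p ^ k * (n / p ^ n.factorization p) : ℕ) : ℂ) := by simp
  have c2 : (((m / p ^ m.factorization p : ℕ) : AlgInt) : ℂ) =
      ((m / p ^ m.factorization p : ℕ) : ℂ) := by simp
  rw [c1, c2, e1, e2, e3]
  push_cast
  field_simp

theorem not_memLocalRing_natCast_div (hM : IsPModular p M) (n m : ℕ) (hn : n ≠ 0) (hm : m ≠ 0)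
    (h : n.factorization p < m.factorization p) : ¬ MemLocalRing M ((n : ℂ) / (m : ℂ)) := by
  have := isPrime_of_isPModular hM
  intro hmem
  have h1 := memLocalIdeal_natCast_div hM m n hm hn h
  have h2 := memLocalIdeal_mul_left hmem h1
  have hn0 : (n : ℂ) ≠ 0 := by exact_mod_cast hn
  have hm0 : (m : ℂ) ≠ 0 := by exact_mod_cast hm
  have h3 : (n : ℂ) / (m : ℂ) * ((m : ℂ) / (n : ℂ)) = 1 := by field_simp
  rw [h3] at h2
  exact not_memLocalIdeal_one h2

theorem not_memLocalIdeal_natCast_div (hM : IsPModular p M) (n m : ℕ) (hn : n ≠ 0) (hm : m ≠ 0)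
    (h : n.factorization p ≤ m.factorization p) : ¬ MemLocalIdeal M ((n : ℂ) / (m : ℂ)) := by
  have := isPrime_of_isPModular hM
  intro hmem
  have h1 := memLocalRing_natCast_div hM m n hm hn h
  have h2 := memLocalIdeal_mul_right hmem h1
  have hn0 : (n : ℂ) ≠ 0 := by exact_mod_cast hn
  have hm0 : (m : ℂ) ≠ 0 := by exact_mod_cast hm
  have h3 : (n : ℂ) / (m : ℂ) * ((m : ℂ) / (n : ℂ)) = 1 := by field_simp
  rw [h3] at h2
  exact not_memLocalIdeal_one h2

theorem intCast_eq_natAbs_or (N : ℤ) :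
    (N : ℂ) = ((N.natAbs : ℕ) : ℂ) ∨ (N : ℂ) = -((N.natAbs : ℕ) : ℂ) := by
  rcases Int.natAbs_eq N with h | h
  · left
    have : (N : ℂ) = ((N.natAbs : ℤ) : ℂ) := congrArg (fun z : ℤ => (z : ℂ)) h
    rw [this]
    simp
  · right
    have : (N : ℂ) = ((-(N.natAbs : ℤ) : ℤ) : ℂ) := congrArg (fun z : ℤ => (z : ℂ)) h
    rw [this]
    simp

theorem memLocalRing_neg_iff [hp : M.IsPrime] (z : ℂ) : MemLocalRing M (-z) ↔ MemLocalRing M z :=
  ⟨fun h => by simpa using memLocalRing_neg h, memLocalRing_neg⟩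

theorem memLocalIdeal_neg_iff [hp : M.IsPrime] (z : ℂ) :
    MemLocalIdeal M (-z) ↔ MemLocalIdeal M z :=
  ⟨fun h => by simpa using memLocalIdeal_neg h, memLocalIdeal_neg⟩

/-- Valuation criterion: `N / m` (`N` a nonzero integer) lies in the local ring iff
`ν(m) ≤ ν(N)`. -/
theorem memLocalRing_intCast_div_iff (hM : IsPModular p M) (N : ℤ) (m : ℕ) (hN : N ≠ 0)
    (hm : m ≠ 0) :
    MemLocalRing M ((N : ℂ) / (m : ℂ)) ↔ m.factorization p ≤ N.natAbs.factorization p := by
  have := isPrime_of_isPModular hM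
  have hN' : N.natAbs ≠ 0 := Int.natAbs_ne_zero.2 hN
  have key : MemLocalRing M (((N.natAbs : ℕ) : ℂ) / (m : ℂ)) ↔
      m.factorization p ≤ N.natAbs.factorization p := by
    constructor
    · intro h
      by_contra hlt
      push Not at hlt
      exact not_memLocalRing_natCast_div hM _ _ hN' hm hlt h
    · exact memLocalRing_natCast_div hM _ _ hN' hm
  rcases intCast_eq_natAbs_or N with h | h
  · rw [h]; exact key
  · rw [h, neg_div, memLocalRing_neg_iff]; exact key

/-- Valuation criterion: `N / m` (`N` a nonzero integer) lies in the local ideal iff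
`ν(m) < ν(N)`. -/
theorem memLocalIdeal_intCast_div_iff (hM : IsPModular p M) (N : ℤ) (m : ℕ) (hN : N ≠ 0)
    (hm : m ≠ 0) :
    MemLocalIdeal M ((N : ℂ) / (m : ℂ)) ↔ m.factorization p < N.natAbs.factorization p := by
  have := isPrime_of_isPModular hM
  have hN' : N.natAbs ≠ 0 := Int.natAbs_ne_zero.2 hN
  have key : MemLocalIdeal M (((N.natAbs : ℕ) : ℂ) / (m : ℂ)) ↔
      m.factorization p < N.natAbs.factorization p := by
    constructor
    · intro h
      by_contra hle
      push Not at hle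
      exact not_memLocalIdeal_natCast_div hM _ _ hN' hm hle h
    · exact memLocalIdeal_natCast_div hM _ _ hN' hm
  rcases intCast_eq_natAbs_or N with h | h
  · rw [h]; exact key
  · rw [h, neg_div, memLocalIdeal_neg_iff]; exact key

end rat

section regsum

variable {G : Type u} [Group G] [Fintype G] {p : ℕ} {M : Ideal AlgInt}

open scoped Classical in
/-- The sum of `χ x * conj (ψ x)` over the `p`-regular elements. -/
noncomputable def regSum (p : ℕ) (χ ψ : G → ℂ) : ℂ :=
  ∑ x ∈ Finset.univ.filter (fun x : G => ¬ p ∣ orderOf x), χ x * conj (ψ x)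

theorem regSum_conj (p : ℕ) (χ ψ : G → ℂ) : conj (regSum p χ ψ) = regSum p ψ χ := by
  classical
  unfold regSum
  rw [map_sum]
  refine Finset.sum_congr rfl fun x _ => ?_
  rw [map_mul, Complex.conj_conj, mul_comm]

open scoped Classical in
/-- Decomposition over classes of `regSum χ ψ / χ 1`. -/
theorem regSum_div_eq [Fintype (ConjClasses G)] (p : ℕ) (χ ψ : IrrCharacter G) :
    regSum p (χ : G → ℂ) (ψ : G → ℂ) / (χ : G → ℂ) 1 =
      ∑ K : ConjClasses G, if p ∣ orderOf (Quotient.out K) then 0 else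
        centralChar (χ : G → ℂ) (Quotient.out K) * conj ((ψ : G → ℂ) (Quotient.out K)) := by
  have hclχ := isClassFunction_of_isIrrCharacter χ.2
  have hclψ := isClassFunction_of_isIrrCharacter ψ.2
  set f : G → ℂ := fun x => if p ∣ orderOf x then 0 else
    (χ : G → ℂ) x * conj ((ψ : G → ℂ) x) / (χ : G → ℂ) 1 with hf
  have hfcl : IsClassFunction G f := by
    intro g h
    simp only [hf]
    have ho : orderOf (h * g * h⁻¹) = orderOf g := MulEquiv.orderOf_eq (MulAut.conj h) g
    rw [ho, hclχ g h, hclψ g h]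
  have h1 : regSum p (χ : G → ℂ) (ψ : G → ℂ) / (χ : G → ℂ) 1 = ∑ x : G, f x := by
    unfold regSum
    rw [Finset.sum_div, Finset.sum_filter]
    refine Finset.sum_congr rfl fun x _ => ?_
    simp only [hf]
    by_cases hx : p ∣ orderOf x
    · simp [hx]
    · simp [hx]
  rw [h1, sum_eq_sum_conjClasses f hfcl]
  refine Finset.sum_congr rfl fun K _ => ?_
  simp only [hf]
  by_cases hx : p ∣ orderOf (Quotient.out K)
  · simp [hx]
  · simp only [hx, if_false]
    unfold centralChar
    ring

/-- **Basic congruence**: for `χ, ψ` in the same block,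
`regSum χ ψ / χ 1 ≡ regSum ψ ψ / ψ 1` modulo the local ideal. -/
theorem regSum_congr (hM : IsPModular p M) (χ ψ : IrrCharacter G)
    (h : SameBlock M (χ : G → ℂ) (ψ : G → ℂ)) :
    MemLocalIdeal M (regSum p (χ : G → ℂ) (ψ : G → ℂ) / (χ : G → ℂ) 1 -
      regSum p (ψ : G → ℂ) (ψ : G → ℂ) / (ψ : G → ℂ) 1) := by
  classical
  haveI hp := isPrime_of_isPModular hM
  haveI : Fintype (ConjClasses G) := Fintype.ofFinite _
  rw [regSum_div_eq, regSum_div_eq, ← Finset.sum_sub_distrib]
  refine memLocalIdeal_sum _ _ fun K _ => ?_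
  by_cases hx : p ∣ orderOf (Quotient.out K)
  · simp only [hx, if_true, sub_self]
    exact memLocalIdeal_zero hp.ne_top
  · simp only [hx, if_false]
    rw [← sub_mul]
    apply memLocalIdeal_mul_right (h _)
    apply memLocalRing_of_isIntegral
    exact Cfsg.Agent.Helper3.isIntegral_conj (Cfsg.Agent.Helper79.irr_isIntegral ψ _)

end regsum

end Cfsg.Agent.Helper74.BF
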