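import Mathlib
import Cfsg.Prelude.Def_Blocks
import Cfsg.Agent.Lib.Helper74.BrauerFeit1
import Cfsg.Agent.S4666

/-!
# Brauer–Feit, part 2: the contribution numbers `n χ ψ = p ^ d [χ, ψ]°` (helper74)

* `exists_contrib` : integers `n χ ψ` (`χ ∈ B`) with `n χ ψ = |G|⁻¹ p^d regSum χ ψ`, vanishing for
  `ψ ∉ B`, and `p^d χ 1_reg = ∑ φ, n χ φ • φ`.
* `contrib_symm`, `contrib_sum_sq` : symmetry and `∑ ψ, (n χ ψ)² = p^d * n χ χ`.
-/

set_option autoImplicit false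
set_option linter.unusedSectionVars false
set_option linter.style.haveILetI false

namespace Cfsg.Agent.Helper74.BF

open Cfsg
open Cfsg.Agent.Helper77 Cfsg.Agent.Helper78 Cfsg.Agent.Helper16 Cfsg.Agent.Helper74.DO
open scoped ComplexConjugate

universe u

section contrib

variable {G : Type u} [Group G] [Fintype G] {p : ℕ} [Fact p.Prime] {M : Ideal AlgInt}

/-- The contribution numbers of a block. -/
structure IsContrib (p : ℕ) (B : Set (IrrCharacter G))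
    (n : IrrCharacter G → IrrCharacter G → ℤ) : Prop where
  zero_of_notMem : ∀ χ ∈ B, ∀ ψ, ψ ∉ B → n χ ψ = 0
  cast_eq : ∀ χ ∈ B, ∀ ψ : IrrCharacter G, ((n χ ψ : ℤ) : ℂ) =
    (Nat.card G : ℂ)⁻¹ * ((p : ℂ) ^ blockDefect p B * regSum p (χ : G → ℂ) (ψ : G → ℂ))
  decomp : ∀ χ ∈ B, pRegScaled p ((p : ℂ) ^ blockDefect p B) (χ : G → ℂ) =
    ∑ φ : IrrCharacter G, ((n χ φ : ℤ) : ℂ) • (φ : G → ℂ)

theorem exists_contrib (hM : IsPModular p M) {B : Set (IrrCharacter G)} (hB : IsPBlock M B) :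
    ∃ n : IrrCharacter G → IrrCharacter G → ℤ, IsContrib p B n := by
  classical
  have hex : ∀ ψ : IrrCharacter G, ∃ c : IrrCharacter G → ℤ, ψ ∈ B →
      ((∀ φ, φ ∉ B → c φ = 0) ∧ pRegScaled p ((p : ℂ) ^ blockDefect p B) (ψ : G → ℂ) =
        ∑ φ : IrrCharacter G, ((c φ : ℤ) : ℂ) • (φ : G → ℂ)) := by
    intro ψ
    by_cases hψ : ψ ∈ B
    · obtain ⟨c, h1, h2⟩ := Cfsg.Agent.S4666.exists_int_decomp_block p hM hB ψ hψ
      exact ⟨c, fun _ => ⟨h1, h2⟩⟩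
    · exact ⟨fun _ => 0, fun h => absurd h hψ⟩
  choose n hn using hex
  refine ⟨n, ⟨fun χ hχ ψ hψ => (hn χ hχ).1 ψ hψ, ?_, fun χ hχ => (hn χ hχ).2⟩⟩
  intro χ hχ ψ
  have h1 := classInner_decomp (fun φ => ((n χ φ : ℤ) : ℂ)) ψ
  rw [← (hn χ hχ).2, classInner_pRegScaled] at h1
  rw [← h1]
  rfl

variable {B : Set (IrrCharacter G)} {n : IrrCharacter G → IrrCharacter G → ℤ}

theorem IsContrib.symm (hn : IsContrib p B n) {χ ψ : IrrCharacter G} (hχ : χ ∈ B) (hψ : ψ ∈ B) :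
    n ψ χ = n χ ψ := by
  have h1 := hn.cast_eq χ hχ ψ
  have h2 := hn.cast_eq ψ hψ χ
  have h3 : ((n ψ χ : ℤ) : ℂ) = conj ((n χ ψ : ℤ) : ℂ) := by
    rw [h1, h2, map_mul, map_mul, map_inv₀, Complex.conj_natCast, map_pow, Complex.conj_natCast,
      regSum_conj]
  rw [map_intCast] at h3
  exact_mod_cast h3

theorem IsContrib.sum_sq (hn : IsContrib p B n) {χ : IrrCharacter G} (hχ : χ ∈ B) :
    ∑ ψ : IrrCharacter G, n χ ψ ^ 2 = (p : ℤ) ^ blockDefect p B * n χ χ := by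
  classical
  obtain ⟨θ, hθ⟩ : ∃ θ : G → ℂ, θ = pRegScaled p ((p : ℂ) ^ blockDefect p B) (χ : G → ℂ) :=
    ⟨_, rfl⟩
  have hdec : θ = ∑ φ : IrrCharacter G, ((n χ φ : ℤ) : ℂ) • (φ : G → ℂ) := by
    rw [hθ]; exact hn.decomp χ hχ
  -- via the decomposition
  have h0 : ∀ ψ : IrrCharacter G, classInner θ (ψ : G → ℂ) = ((n χ ψ : ℤ) : ℂ) := by
    intro ψ
    rw [hdec]
    exact classInner_decomp (fun φ => ((n χ φ : ℤ) : ℂ)) ψ
  have h1 : classInner θ θ = ∑ ψ : IrrCharacter G, ((n χ ψ : ℤ) : ℂ) * ((n χ ψ : ℤ) : ℂ) := by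
    have : classInner θ θ = classInner θ (∑ φ : IrrCharacter G, ((n χ φ : ℤ) : ℂ) • (φ : G → ℂ)) :=
      congrArg (classInner θ) hdec
    rw [this, classInner_sum_right]
    refine Finset.sum_congr rfl fun ψ _ => ?_
    rw [classInner_smul_right, map_intCast, h0 ψ]
  -- directly
  have h2 : classInner θ θ = ((p : ℂ) ^ blockDefect p B) * ((n χ χ : ℤ) : ℂ) := by
    rw [hn.cast_eq χ hχ χ]
    nth_rewrite 1 [hθ]
    rw [classInner_pRegScaled]
    have h3 : ∑ x ∈ Finset.univ.filter (fun x : G => ¬ p ∣ orderOf x),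
        (χ : G → ℂ) x * conj (θ x) =
        ((p : ℂ) ^ blockDefect p B) * regSum p (χ : G → ℂ) (χ : G → ℂ) := by
      unfold regSum
      rw [Finset.mul_sum]
      refine Finset.sum_congr rfl fun x hx => ?_
      have hx' : ¬ p ∣ orderOf x := (Finset.mem_filter.1 hx).2
      rw [hθ]
      unfold pRegScaled
      rw [if_neg hx', map_mul, map_pow, Complex.conj_natCast]
      ring
    rw [h3]
    ring
  have h4 : ((∑ ψ : IrrCharacter G, n χ ψ ^ 2 : ℤ) : ℂ) =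
      (((p : ℤ) ^ blockDefect p B * n χ χ : ℤ) : ℂ) := by
    push_cast
    rw [← h2, h1]
    refine Finset.sum_congr rfl fun ψ _ => ?_
    ring
  exact_mod_cast h4

end contrib

end Cfsg.Agent.Helper74.BF
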