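import Mathlib
import Cfsg.Prelude.Def_Blocks
import Cfsg.Agent.Lib.Helper74.BrauerFeit2

/-!
# Brauer–Feit, part 3: valuations of the contribution numbers (helper74)

For `χ₀ ∈ B` of height zero and `n` the contribution numbers of `B`:

* `IsContrib.not_dvd_self` : `p ∤ n χ₀ χ₀`.
* `IsContrib.val_eq` : for `ψ ∈ B`, `n χ₀ ψ ≠ 0` and `ν_p (n χ₀ ψ) + minVal = ν_p (ψ 1)`.
-/

set_option autoImplicit false
set_option linter.unusedSectionVars false
set_option linter.style.haveILetI false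

namespace Cfsg.Agent.Helper74.BF

open Cfsg
open Cfsg.Agent.Helper77 Cfsg.Agent.Helper78 Cfsg.Agent.Helper16 Cfsg.Agent.Helper74.DO
open scoped ComplexConjugate

universe u

section val

variable {G : Type u} [Group G] [Fintype G] {p : ℕ} [hpf : Fact p.Prime] {M : Ideal AlgInt}
variable {B : Set (IrrCharacter G)} {n : IrrCharacter G → IrrCharacter G → ℤ}

/-- The cofactor `|G| / p ^ d`. -/
noncomputable def cof (p : ℕ) (B : Set (IrrCharacter G)) : ℕ := Nat.card G / p ^ blockDefect p B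

theorem cof_mul (hBne : B.Nonempty) : cof p B * p ^ blockDefect p B = Nat.card G := by
  unfold cof
  apply Nat.div_mul_cancel
  have h1 : blockDefect p B ≤ (Nat.card G).factorization p := by
    rw [blockDefect_eq]; omega
  exact dvd_trans (pow_dvd_pow p h1) (Nat.ordProj_dvd _ p)

theorem cof_ne_zero (hBne : B.Nonempty) : cof p B ≠ 0 := by
  intro h
  have := cof_mul (p := p) hBne
  rw [h, zero_mul] at this
  exact Nat.card_pos.ne' this.symm

theorem cof_factorization (hBne : B.Nonempty) : (cof p B).factorization p = minVal p B := by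
  have h1 := cof_mul (p := p) hBne
  have h2 : (cof p B * p ^ blockDefect p B).factorization p = (Nat.card G).factorization p := by
    rw [h1]
  rw [Nat.factorization_mul (cof_ne_zero hBne) (pow_ne_zero _ hpf.out.ne_zero),
    Nat.Prime.factorization_pow hpf.out] at h2
  simp only [Finsupp.coe_add, Pi.add_apply, Finsupp.single_eq_same] at h2
  have h3 := minVal_le_card (p := p) hBne
  rw [blockDefect_eq] at h2
  omega

theorem IsContrib.regSum_eq (hn : IsContrib p B n) {χ : IrrCharacter G} (hχ : χ ∈ B)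
    (ψ : IrrCharacter G) :
    regSum p (χ : G → ℂ) (ψ : G → ℂ) = ((cof p B * n χ ψ : ℤ) : ℂ) := by
  have h1 := hn.cast_eq χ hχ ψ
  have h2 := cof_mul (p := p) ⟨χ, hχ⟩
  have hG : (Nat.card G : ℂ) ≠ 0 := by exact_mod_cast Nat.card_pos.ne'
  have hp0 : ((p : ℂ) ^ blockDefect p B) ≠ 0 := pow_ne_zero _ (by exact_mod_cast hpf.out.ne_zero)
  have h3 : (Nat.card G : ℂ) = (cof p B : ℂ) * (p : ℂ) ^ blockDefect p B := by
    rw [← h2]; push_cast; ring
  have hc0 : (cof p B : ℂ) ≠ 0 := by exact_mod_cast cof_ne_zero (p := p) ⟨χ, hχ⟩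
  push_cast
  rw [h1, h3]
  field_simp

/-- The basic congruence in terms of contribution numbers. -/
theorem IsContrib.congr (hM : IsPModular p M) (hB : IsPBlock M B) (hn : IsContrib p B n)
    {χ ψ : IrrCharacter G} (hχ : χ ∈ B) (hψ : ψ ∈ B) :
    MemLocalIdeal M (((cof p B * n χ ψ : ℤ) : ℂ) / (charDegree (χ : G → ℂ) : ℂ) -
      ((cof p B * n ψ ψ : ℤ) : ℂ) / (charDegree (ψ : G → ℂ) : ℂ)) := by
  haveI := isPrime_of_isPModular hM
  have h := regSum_congr hM χ ψ (sameBlock_of_mem hB hχ hψ)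
  rw [hn.regSum_eq hχ ψ, hn.regSum_eq hψ ψ, (Cfsg.Agent.Helper79.irr_one_eq χ).1,
    (Cfsg.Agent.Helper79.irr_one_eq ψ).1] at h
  exact h

theorem natAbs_cof_mul (k : ℤ) : ((cof p B : ℤ) * k).natAbs = cof p B * k.natAbs := by
  rw [Int.natAbs_mul, Int.natAbs_natCast]

theorem factorization_cof_mul (hBne : B.Nonempty) {k : ℤ} (hk : k ≠ 0) :
    ((cof p B : ℤ) * k).natAbs.factorization p = minVal p B + k.natAbs.factorization p := by
  rw [natAbs_cof_mul, Nat.factorization_mul (cof_ne_zero hBne) (Int.natAbs_ne_zero.2 hk)]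
  simp only [Finsupp.coe_add, Pi.add_apply]
  rw [cof_factorization hBne]

theorem dvd_of_factorization_pos {k : ℤ} (hk : k ≠ 0) (h : 0 < k.natAbs.factorization p) :
    (p : ℤ) ∣ k := by
  have h1 : p ∣ k.natAbs := Nat.dvd_of_factorization_pos h.ne'
  exact Int.natCast_dvd.2 h1

theorem factorization_pos_of_dvd {k : ℤ} (hk : k ≠ 0) (h : (p : ℤ) ∣ k) :
    0 < k.natAbs.factorization p := by
  have h1 : p ∣ k.natAbs := Int.natCast_dvd.1 h
  exact hpf.out.factorization_pos_of_dvd (Int.natAbs_ne_zero.2 hk) h1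

/-- The quantity `cof * k / deg χ₀` for `χ₀` of height zero: in the local ring always, in the
ideal iff `p ∣ k`. -/
theorem memLocalIdeal_cof_div_iff (hM : IsPModular p M) {χ₀ : IrrCharacter G} (hχ₀ : χ₀ ∈ B)
    (h0 : (charDegree (χ₀ : G → ℂ)).factorization p = minVal p B) (k : ℤ) :
    MemLocalIdeal M (((cof p B * k : ℤ) : ℂ) / (charDegree (χ₀ : G → ℂ) : ℂ)) ↔ (p : ℤ) ∣ k := by
  haveI hp := isPrime_of_isPModular hM
  have hdeg0 : charDegree (χ₀ : G → ℂ) ≠ 0 := (Cfsg.Agent.Helper79.irr_one_eq χ₀).2.ne'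
  by_cases hk : k = 0
  · subst hk
    simp only [mul_zero, Int.cast_zero, zero_div, dvd_zero, iff_true]
    exact memLocalIdeal_zero hp.ne_top
  have hN : (cof p B : ℤ) * k ≠ 0 :=
    mul_ne_zero (by exact_mod_cast cof_ne_zero (p := p) ⟨χ₀, hχ₀⟩) hk
  rw [memLocalIdeal_intCast_div_iff hM _ _ hN hdeg0, factorization_cof_mul ⟨χ₀, hχ₀⟩ hk, h0]
  constructor
  · intro h
    exact dvd_of_factorization_pos hk (by omega)
  · intro h
    have := factorization_pos_of_dvd hk h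
    omega

/-- For `χ₀` of height zero, `p ∤ n χ₀ χ₀`. -/
theorem IsContrib.not_dvd_self (hM : IsPModular p M) (hB : IsPBlock M B) (hn : IsContrib p B n)
    {χ₀ : IrrCharacter G} (hχ₀ : χ₀ ∈ B)
    (h0 : (charDegree (χ₀ : G → ℂ)).factorization p = minVal p B) : ¬ (p : ℤ) ∣ n χ₀ χ₀ := by
  classical
  haveI hp := isPrime_of_isPModular hM
  intro hdvd
  have hBne : B.Nonempty := ⟨χ₀, hχ₀⟩
  -- Step A: p divides all n χ₀ ψ
  have hA : ∀ ψ : IrrCharacter G, (p : ℤ) ∣ n χ₀ ψ := by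
    intro ψ
    by_cases hψ : ψ ∈ B
    · rw [← hn.symm hχ₀ hψ]
      have hc := hn.congr hM hB hψ hχ₀
      have hU := (memLocalIdeal_cof_div_iff hM hχ₀ h0 (n χ₀ χ₀)).2 hdvd
      have hX := memLocalIdeal_add hc hU
      rw [sub_add_cancel] at hX
      by_cases hk : n ψ χ₀ = 0
      · rw [hk]; exact dvd_zero _
      have hdegψ : charDegree (ψ : G → ℂ) ≠ 0 := (Cfsg.Agent.Helper79.irr_one_eq ψ).2.ne'
      have hN : (cof p B : ℤ) * n ψ χ₀ ≠ 0 :=
        mul_ne_zero (by exact_mod_cast cof_ne_zero (p := p) hBne) hk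
      rw [memLocalIdeal_intCast_div_iff hM _ _ hN hdegψ, factorization_cof_mul hBne hk] at hX
      have := minVal_le (p := p) hψ
      exact dvd_of_factorization_pos hk (by omega)
    · rw [hn.zero_of_notMem χ₀ hχ₀ ψ hψ]
      exact dvd_zero _
  choose k hk using hA
  -- Step C: a defect class
  obtain ⟨g₀, hg₀⟩ := exists_isDefectClass hB
  obtain ⟨P⟩ : Nonempty (Sylow p (Subgroup.centralizer ({g₀} : Set G))) := inferInstance
  set D : Subgroup G := (P : Subgroup (Subgroup.centralizer ({g₀} : Set G))).map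
    (Subgroup.centralizer ({g₀} : Set G)).subtype with hD
  have hDcard : Nat.card D = p ^ blockDefect p B :=
    card_defectGroup hM hB D ⟨g₀, hg₀, P, rfl⟩
  have hreg : ¬ p ∣ orderOf g₀ := (defect_le_of_blockCoeff hM hB g₀ hg₀.2.1).1
  have hcomm : ∀ y ∈ D, g₀ * y = y * g₀ := fun y hy =>
    (Subgroup.mem_centralizer_iff.1 (sylow_map_le_centralizer g₀ P hy)) g₀ (Set.mem_singleton g₀)
  have hDp : IsPGroup p D := sylow_map_isPGroup g₀ P
  have hord : ∀ y : D, ∃ j : ℕ, orderOf (y : G) = p ^ j := by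
    intro y
    obtain ⟨j, hj⟩ := (IsPGroup.iff_orderOf.1 hDp) y
    exact ⟨j, by rw [Subgroup.orderOf_coe]; exact hj⟩
  have hz : ∀ φ : IrrCharacter G, ∃ z : ℂ, IsIntegral ℤ z ∧
      ∑ y : D, (φ : G → ℂ) (g₀ * (y : G)) = (Nat.card D : ℂ) * z := fun φ =>
    Cfsg.Agent.Helper74.SubSum.exists_isIntegral_sum_char
      (Cfsg.Agent.Helper80.isCharacter_of_irr φ.2) g₀ D hcomm
  choose z hzint hzsum using hz
  have hdec := hn.decomp χ₀ hχ₀
  -- LHS
  have hL : ∑ y : D, pRegScaled p ((p : ℂ) ^ blockDefect p B) (χ₀ : G → ℂ) (g₀ * (y : G)) =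
      (p : ℂ) ^ blockDefect p B * (χ₀ : G → ℂ) g₀ := by
    rw [Fintype.sum_eq_single (1 : D)]
    · unfold pRegScaled
      simp [hreg]
    · intro y hy
      have hy1 : (y : G) ≠ 1 := fun h => hy (Subtype.ext h)
      unfold pRegScaled
      rw [if_pos (dvd_orderOf_mul_of_pElement g₀ y hreg (hcomm y y.2) (hord y) hy1)]
  -- RHS
  have hR : ∑ y : D, pRegScaled p ((p : ℂ) ^ blockDefect p B) (χ₀ : G → ℂ) (g₀ * (y : G)) =
      (p : ℂ) ^ blockDefect p B * ((p : ℂ) * ∑ φ : IrrCharacter G, ((k φ : ℤ) : ℂ) * z φ) := by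
    rw [hdec]
    simp only [Finset.sum_apply, Pi.smul_apply, smul_eq_mul]
    rw [Finset.sum_comm]
    simp only [← Finset.mul_sum, hzsum, hDcard]
    rw [Finset.mul_sum, Finset.mul_sum]
    refine Finset.sum_congr rfl fun φ _ => ?_
    rw [hk φ]
    push_cast
    ring
  have hp0 : ((p : ℂ) ^ blockDefect p B) ≠ 0 := pow_ne_zero _ (by exact_mod_cast hpf.out.ne_zero)
  have hval : (χ₀ : G → ℂ) g₀ = (p : ℂ) * ∑ φ : IrrCharacter G, ((k φ : ℤ) : ℂ) * z φ :=
    mul_left_cancel₀ hp0 (hL.symm.trans hR)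
  -- Step D
  apply hg₀.2.2 χ₀ hχ₀
  have hZ : MemLocalRing M (∑ φ : IrrCharacter G, ((k φ : ℤ) : ℂ) * z φ) :=
    memLocalRing_sum _ _ fun φ _ =>
      memLocalRing_mul (memLocalRing_intCast _) (memLocalRing_of_isIntegral (hzint φ))
  have hpI : MemLocalIdeal M (p : ℂ) := (memLocalIdeal_natCast_iff hM p).2 (dvd_refl p)
  have hdeg0 : charDegree (χ₀ : G → ℂ) ≠ 0 := (Cfsg.Agent.Helper79.irr_one_eq χ₀).2.ne'
  have hidx0 : (Subgroup.centralizer ({g₀} : Set G)).index ≠ 0 := Subgroup.index_ne_zero_of_finite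
  have hC0 : Nat.card (Subgroup.centralizer ({g₀} : Set G)) ≠ 0 := Nat.card_pos.ne'
  have hmul := Subgroup.card_mul_index (Subgroup.centralizer ({g₀} : Set G))
  have hfac : (Nat.card G).factorization p =
      (Nat.card (Subgroup.centralizer ({g₀} : Set G))).factorization p +
        (Subgroup.centralizer ({g₀} : Set G)).index.factorization p := by
    rw [← hmul, Nat.factorization_mul hC0 hidx0]
    rfl
  have hdef := defect_of_isDefectClass hM hB hg₀
  have hmle := minVal_le_card (p := p) hBne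
  rw [blockDefect_eq] at hdef
  have hunit : MemLocalRing M (((Subgroup.centralizer ({g₀} : Set G)).index : ℂ) /
      (charDegree (χ₀ : G → ℂ) : ℂ)) := by
    apply memLocalRing_natCast_div hM _ _ hidx0 hdeg0
    omega
  have h1 : centralChar (χ₀ : G → ℂ) g₀ =
      (((Subgroup.centralizer ({g₀} : Set G)).index : ℂ) / (charDegree (χ₀ : G → ℂ) : ℂ)) *
        ((p : ℂ) * ∑ φ : IrrCharacter G, ((k φ : ℤ) : ℂ) * z φ) := by
    unfold centralChar
    rw [(Cfsg.Agent.Helper79.irr_one_eq χ₀).1, hval]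
    ring
  rw [h1]
  exact memLocalIdeal_mul_left hunit (memLocalIdeal_mul_right hpI hZ)

/-- For `χ₀` of height zero and `ψ ∈ B`: `n χ₀ ψ ≠ 0` with `p`-adic valuation the height of
`ψ`. -/
theorem IsContrib.val_eq (hM : IsPModular p M) (hB : IsPBlock M B) (hn : IsContrib p B n)
    {χ₀ : IrrCharacter G} (hχ₀ : χ₀ ∈ B)
    (h0 : (charDegree (χ₀ : G → ℂ)).factorization p = minVal p B) {ψ : IrrCharacter G}
    (hψ : ψ ∈ B) :
    n χ₀ ψ ≠ 0 ∧ (n χ₀ ψ).natAbs.factorization p + minVal p B =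
      (charDegree (ψ : G → ℂ)).factorization p := by
  haveI hp := isPrime_of_isPModular hM
  have hBne : B.Nonempty := ⟨χ₀, hχ₀⟩
  rw [← hn.symm hχ₀ hψ]
  have hc := hn.congr hM hB hψ hχ₀
  have hnd := hn.not_dvd_self hM hB hχ₀ h0
  have hU : ¬ MemLocalIdeal M (((cof p B * n χ₀ χ₀ : ℤ) : ℂ) / (charDegree (χ₀ : G → ℂ) : ℂ)) :=
    fun h => hnd ((memLocalIdeal_cof_div_iff hM hχ₀ h0 _).1 h)
  have hn00 : n χ₀ χ₀ ≠ 0 := fun h => hnd (h ▸ dvd_zero _)
  have hdeg0 : charDegree (χ₀ : G → ℂ) ≠ 0 := (Cfsg.Agent.Helper79.irr_one_eq χ₀).2.ne'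
  have hN0 : (cof p B : ℤ) * n χ₀ χ₀ ≠ 0 :=
    mul_ne_zero (by exact_mod_cast cof_ne_zero (p := p) hBne) hn00
  have hUr : MemLocalRing M (((cof p B * n χ₀ χ₀ : ℤ) : ℂ) / (charDegree (χ₀ : G → ℂ) : ℂ)) := by
    rw [memLocalRing_intCast_div_iff hM _ _ hN0 hdeg0, factorization_cof_mul hBne hn00, h0]
    omega
  have hXr : MemLocalRing M (((cof p B * n ψ χ₀ : ℤ) : ℂ) / (charDegree (ψ : G → ℂ) : ℂ)) := by
    have := memLocalRing_add (memLocalRing_of_memLocalIdeal hc) hUr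
    rwa [sub_add_cancel] at this
  have hXn : ¬ MemLocalIdeal M (((cof p B * n ψ χ₀ : ℤ) : ℂ) / (charDegree (ψ : G → ℂ) : ℂ)) := by
    intro hX
    apply hU
    have := memLocalIdeal_sub hX hc
    rwa [sub_sub_cancel] at this
  have hk : n ψ χ₀ ≠ 0 := by
    intro h
    apply hXn
    rw [h, mul_zero, Int.cast_zero, zero_div]
    exact memLocalIdeal_zero hp.ne_top
  refine ⟨hk, ?_⟩
  have hdegψ : charDegree (ψ : G → ℂ) ≠ 0 := (Cfsg.Agent.Helper79.irr_one_eq ψ).2.ne'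
  have hN : (cof p B : ℤ) * n ψ χ₀ ≠ 0 :=
    mul_ne_zero (by exact_mod_cast cof_ne_zero (p := p) hBne) hk
  rw [memLocalRing_intCast_div_iff hM _ _ hN hdegψ, factorization_cof_mul hBne hk] at hXr
  rw [memLocalIdeal_intCast_div_iff hM _ _ hN hdegψ, factorization_cof_mul hBne hk] at hXn
  omega

end val

end Cfsg.Agent.Helper74.BF
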