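import Mathlib
import Cfsg.Prelude.Def_Blocks
import Cfsg.Agent.Lib.Helper74.BrauerFeit3

/-!
# Brauer–Feit, part 4: the bounds (helper74)

* `weighted_bound` : `∑_{ψ ∈ B} p ^ (2 ht ψ) ≤ 1 + p^d N - N²` for an integer `N`.
* `brauer_feit_weighted` : `4 * (∑_{ψ ∈ B} p ^ (2 ht ψ) - 1) ≤ p ^ (2 d)`.
* `brauer_feit` : `4 * k(B) ≤ p ^ (2 d) + 4`.
-/

set_option autoImplicit false
set_option linter.unusedSectionVars false
set_option linter.style.haveILetI false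

namespace Cfsg.Agent.Helper74.BF

open Cfsg
open Cfsg.Agent.Helper77 Cfsg.Agent.Helper78 Cfsg.Agent.Helper16 Cfsg.Agent.Helper74.DO

universe u

section bounds

variable {G : Type u} [Group G] [Fintype G] {p : ℕ} [hpf : Fact p.Prime] {M : Ideal AlgInt}
variable {B : Set (IrrCharacter G)}

theorem blockHeight_eq (ψ : G → ℂ) :
    blockHeight p B ψ = (charDegree ψ).factorization p - minVal p B := rfl

theorem pow_le_natAbs_of_factorization {k : ℤ} (hk : k ≠ 0) (h : ℕ)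
    (hv : h ≤ k.natAbs.factorization p) : (p : ℤ) ^ (2 * h) ≤ k ^ 2 := by
  have h1 : p ^ h ∣ k.natAbs :=
    dvd_trans (pow_dvd_pow p hv) (Nat.ordProj_dvd _ p)
  have h2 : p ^ h ≤ k.natAbs := Nat.le_of_dvd (Int.natAbs_pos.2 hk) h1
  have h3 : ((p ^ h : ℕ) : ℤ) ≤ |k| := by
    rw [Int.abs_eq_natAbs]
    exact_mod_cast h2
  have h5 : (0 : ℤ) ≤ ((p ^ h : ℕ) : ℤ) := by positivity
  have h6 : ((p ^ h : ℕ) : ℤ) ^ 2 ≤ |k| ^ 2 := pow_le_pow_left₀ h5 h3 2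
  rw [sq_abs] at h6
  rw [pow_mul']
  push_cast at h6
  exact h6

/-- The weighted sum bound in terms of `N = n χ₀ χ₀`. -/
theorem weighted_bound (hM : IsPModular p M) (hB : IsPBlock M B) :
    ∃ N : ℤ, ((∑ ψ ∈ (Set.toFinite B).toFinset,
      p ^ (2 * blockHeight p B (ψ : G → ℂ)) : ℕ) : ℤ) ≤
        1 + (p : ℤ) ^ blockDefect p B * N - N ^ 2 := by
  classical
  haveI := isPrime_of_isPModular hM
  obtain ⟨n, hn⟩ := exists_contrib hM hB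
  obtain ⟨χ₀, hχ₀, h0⟩ := exists_minVal (p := p) (nonempty_of_isPBlock hB)
  refine ⟨n χ₀ χ₀, ?_⟩
  set Bf := (Set.toFinite B).toFinset with hBf
  have hmem : ∀ ψ, ψ ∈ Bf ↔ ψ ∈ B := fun ψ => Set.Finite.mem_toFinset _
  have hχ₀f : χ₀ ∈ Bf := (hmem χ₀).2 hχ₀
  have hsq := hn.sum_sq hχ₀
  -- restrict to Bf
  have h1 : ∑ ψ ∈ Bf, n χ₀ ψ ^ 2 ≤ ∑ ψ : IrrCharacter G, n χ₀ ψ ^ 2 :=
    Finset.sum_le_sum_of_subset_of_nonneg (Finset.subset_univ _) (fun ψ _ _ => sq_nonneg _)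
  have h2 : ∑ ψ ∈ Bf, n χ₀ ψ ^ 2 = n χ₀ χ₀ ^ 2 + ∑ ψ ∈ Bf.erase χ₀, n χ₀ ψ ^ 2 :=
    (Finset.add_sum_erase Bf (fun ψ => n χ₀ ψ ^ 2) hχ₀f).symm
  have h3 : ((∑ ψ ∈ Bf, p ^ (2 * blockHeight p B (ψ : G → ℂ)) : ℕ) : ℤ) =
      1 + ∑ ψ ∈ Bf.erase χ₀, ((p : ℤ) ^ (2 * blockHeight p B (ψ : G → ℂ))) := by
    rw [← Finset.add_sum_erase Bf _ hχ₀f]
    push_cast
    congr 1
    rw [blockHeight_eq, h0, Nat.sub_self, mul_zero, pow_zero]
  have h4 : ∑ ψ ∈ Bf.erase χ₀, ((p : ℤ) ^ (2 * blockHeight p B (ψ : G → ℂ))) ≤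
      ∑ ψ ∈ Bf.erase χ₀, n χ₀ ψ ^ 2 := by
    apply Finset.sum_le_sum
    intro ψ hψ
    have hψB : ψ ∈ B := (hmem ψ).1 (Finset.mem_of_mem_erase hψ)
    obtain ⟨hne, hval⟩ := hn.val_eq hM hB hχ₀ h0 hψB
    apply pow_le_natAbs_of_factorization hne
    rw [blockHeight_eq]
    omega
  rw [h3]
  linarith

/-- **Brauer–Feit, weighted form.** -/
theorem brauer_feit_weighted (hM : IsPModular p M) (hB : IsPBlock M B) :
    4 * ((∑ ψ ∈ (Set.toFinite B).toFinset, p ^ (2 * blockHeight p B (ψ : G → ℂ))) - 1) ≤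
      (p ^ blockDefect p B) ^ 2 := by
  obtain ⟨N, hN⟩ := weighted_bound hM hB
  set S := ∑ ψ ∈ (Set.toFinite B).toFinset, p ^ (2 * blockHeight p B (ψ : G → ℂ)) with hS
  have h1 : (4 * ((S : ℤ) - 1)) ≤ ((p : ℤ) ^ blockDefect p B) ^ 2 := by
    nlinarith [sq_nonneg ((p : ℤ) ^ blockDefect p B - 2 * N)]
  by_cases hS0 : S = 0
  · rw [hS0]; simp
  · have h2 : ((4 * (S - 1) : ℕ) : ℤ) = 4 * ((S : ℤ) - 1) := by
      have : 1 ≤ S := Nat.one_le_iff_ne_zero.2 hS0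
      push_cast [Nat.cast_sub this]
      ring
    have h3 : ((4 * (S - 1) : ℕ) : ℤ) ≤ (((p ^ blockDefect p B) ^ 2 : ℕ) : ℤ) := by
      rw [h2]; push_cast; exact h1
    exact_mod_cast h3

/-- **Brauer–Feit**: `4 k(B) ≤ p ^ (2 d) + 4`. -/
theorem brauer_feit (hM : IsPModular p M) (hB : IsPBlock M B) :
    4 * (Set.toFinite B).toFinset.card ≤ p ^ (2 * blockDefect p B) + 4 := by
  have h1 := brauer_feit_weighted hM hB
  have h2 : (Set.toFinite B).toFinset.card ≤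
      ∑ ψ ∈ (Set.toFinite B).toFinset, p ^ (2 * blockHeight p B (ψ : G → ℂ)) := by
    rw [Finset.card_eq_sum_ones]
    apply Finset.sum_le_sum
    intro ψ _
    exact Nat.one_le_pow _ _ hpf.out.pos
  rw [pow_mul']
  omega

end bounds

end Cfsg.Agent.Helper74.BF
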