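import Mathlib
import Cfsg.Prelude.Def_Blocks
import Cfsg.Agent.Lib.Helper74.BrauerFeit4

/-!
# Brauer–Feit, part 6: complements (helper74)

* `IsContrib.self_pos`, `IsContrib.self_le` : `0 < n χ χ ≤ p ^ d`.
* `IsContrib.height_add_two_le` : a character of positive height `h` has `h + 2 ≤ d`.
* `pos_height_count` : if `B` has a character of positive height then `2 k(B) ≤ p ^ (2 d - 2)`.
-/

set_option autoImplicit false
set_option linter.unusedSectionVars false
set_option linter.style.haveILetI false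

namespace Cfsg.Agent.Helper74.BF

open Cfsg
open Cfsg.Agent.Helper77 Cfsg.Agent.Helper78 Cfsg.Agent.Helper16 Cfsg.Agent.Helper74.DO
open scoped ComplexConjugate

universe u

section compl

variable {G : Type u} [Group G] [Fintype G] {p : ℕ} [hpf : Fact p.Prime] {M : Ideal AlgInt}
variable {B : Set (IrrCharacter G)} {n : IrrCharacter G → IrrCharacter G → ℤ}

open scoped Classical in
theorem regSum_self_eq (χ : G → ℂ) :
    regSum p χ χ = ((∑ x ∈ Finset.univ.filter (fun x : G => ¬ p ∣ orderOf x),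
      Complex.normSq (χ x) : ℝ) : ℂ) := by
  unfold regSum
  push_cast
  refine Finset.sum_congr rfl fun x _ => ?_
  rw [Complex.mul_conj]

open scoped Classical in
theorem IsContrib.self_cast_real (hn : IsContrib p B n) {χ : IrrCharacter G} (hχ : χ ∈ B) :
    ((n χ χ : ℤ) : ℝ) = (Nat.card G : ℝ)⁻¹ * ((p : ℝ) ^ blockDefect p B *
      ∑ x ∈ Finset.univ.filter (fun x : G => ¬ p ∣ orderOf x),
        Complex.normSq ((χ : G → ℂ) x)) := by
  have h1 := hn.cast_eq χ hχ χ
  rw [regSum_self_eq] at h1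
  have h2 : (((n χ χ : ℤ) : ℝ) : ℂ) = (((Nat.card G : ℝ)⁻¹ * ((p : ℝ) ^ blockDefect p B *
      ∑ x ∈ Finset.univ.filter (fun x : G => ¬ p ∣ orderOf x),
        Complex.normSq ((χ : G → ℂ) x)) : ℝ) : ℂ) := by
    push_cast
    push_cast at h1
    exact h1
  exact Complex.ofReal_injective h2

theorem IsContrib.self_pos (hn : IsContrib p B n) {χ : IrrCharacter G} (hχ : χ ∈ B) :
    0 < n χ χ := by
  classical
  have h := hn.self_cast_real hχ
  have hG : (0 : ℝ) < (Nat.card G : ℝ) := by exact_mod_cast Nat.card_pos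
  have hp : (0 : ℝ) < (p : ℝ) ^ blockDefect p B := by
    have : (0 : ℝ) < (p : ℝ) := by exact_mod_cast hpf.out.pos
    positivity
  have h1mem : (1 : G) ∈ Finset.univ.filter (fun x : G => ¬ p ∣ orderOf x) := by
    simp only [Finset.mem_filter, Finset.mem_univ, true_and, orderOf_one, Nat.dvd_one]
    exact hpf.out.ne_one
  have hpos : 0 < ∑ x ∈ Finset.univ.filter (fun x : G => ¬ p ∣ orderOf x),
      Complex.normSq ((χ : G → ℂ) x) := by
    apply lt_of_lt_of_le _ (Finset.single_le_sum (fun x _ => Complex.normSq_nonneg _) h1mem)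
    rw [Complex.normSq_pos]
    exact Cfsg.Agent.Helper79.irr_one_ne_zero χ
  have : (0 : ℝ) < ((n χ χ : ℤ) : ℝ) := by
    rw [h]
    positivity
  exact_mod_cast this

theorem IsContrib.self_le (hn : IsContrib p B n) {χ : IrrCharacter G} (hχ : χ ∈ B) :
    n χ χ ≤ (p : ℤ) ^ blockDefect p B := by
  classical
  have h := hn.self_cast_real hχ
  have hG : (0 : ℝ) < (Nat.card G : ℝ) := by exact_mod_cast Nat.card_pos
  have hp : (0 : ℝ) ≤ (p : ℝ) ^ blockDefect p B := by positivity
  have hall : ∑ x : G, Complex.normSq ((χ : G → ℂ) x) = (Nat.card G : ℝ) := by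
    have h1 := Cfsg.Agent.Helper80.irr_first_orthogonality χ χ
    rw [if_pos rfl] at h1
    have h2 : ((∑ x : G, Complex.normSq ((χ : G → ℂ) x) : ℝ) : ℂ) = ((Nat.card G : ℝ) : ℂ) := by
      push_cast
      rw [← h1]
      refine Finset.sum_congr rfl fun x _ => ?_
      rw [Complex.mul_conj]
    exact Complex.ofReal_injective h2
  have hle : ∑ x ∈ Finset.univ.filter (fun x : G => ¬ p ∣ orderOf x),
      Complex.normSq ((χ : G → ℂ) x) ≤ (Nat.card G : ℝ) := by
    rw [← hall]
    exact Finset.sum_le_sum_of_subset_of_nonneg (Finset.filter_subset _ _)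
      (fun x _ _ => Complex.normSq_nonneg _)
  have : ((n χ χ : ℤ) : ℝ) ≤ (p : ℝ) ^ blockDefect p B := by
    rw [h]
    calc (Nat.card G : ℝ)⁻¹ * ((p : ℝ) ^ blockDefect p B *
        ∑ x ∈ Finset.univ.filter (fun x : G => ¬ p ∣ orderOf x),
          Complex.normSq ((χ : G → ℂ) x))
        ≤ (Nat.card G : ℝ)⁻¹ * ((p : ℝ) ^ blockDefect p B * (Nat.card G : ℝ)) := by
          apply mul_le_mul_of_nonneg_left _ (by positivity)
          exact mul_le_mul_of_nonneg_left hle hp
      _ = (p : ℝ) ^ blockDefect p B := by field_simp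
  exact_mod_cast this

/-- For `χ` of positive height, `ν_p (n χ χ)` exceeds the height. -/
theorem IsContrib.self_val_of_pos_height (hM : IsPModular p M) (hB : IsPBlock M B)
    (hn : IsContrib p B n) {χ : IrrCharacter G} (hχ : χ ∈ B)
    (hlt : minVal p B < (charDegree (χ : G → ℂ)).factorization p) :
    (charDegree (χ : G → ℂ)).factorization p <
      (n χ χ).natAbs.factorization p + minVal p B := by
  haveI hp := isPrime_of_isPModular hM
  have hBne : B.Nonempty := ⟨χ, hχ⟩
  obtain ⟨χ₀, hχ₀, h0⟩ := exists_minVal (p := p) hBne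
  obtain ⟨hne0, hval0⟩ := hn.val_eq hM hB hχ₀ h0 hχ
  have hc0 := hn.congr hM hB hχ₀ hχ
  have hdvd : (p : ℤ) ∣ n χ₀ χ := dvd_of_factorization_pos hne0 (by omega)
  have hX' := (memLocalIdeal_cof_div_iff hM hχ₀ h0 (n χ₀ χ)).2 hdvd
  have hY := memLocalIdeal_sub hX' hc0
  rw [sub_sub_cancel] at hY
  have hk : n χ χ ≠ 0 := (hn.self_pos hχ).ne'
  have hdegχ : charDegree (χ : G → ℂ) ≠ 0 := (Cfsg.Agent.Helper79.irr_one_eq χ).2.ne'
  have hN : (cof p B : ℤ) * n χ χ ≠ 0 :=
    mul_ne_zero (by exact_mod_cast cof_ne_zero (p := p) hBne) hk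
  rw [memLocalIdeal_intCast_div_iff hM _ _ hN hdegχ, factorization_cof_mul hBne hk] at hY
  omega

/-- A character of positive height `h` in a block of defect `d` has `h + 2 ≤ d`. -/
theorem IsContrib.height_add_two_le (hM : IsPModular p M) (hB : IsPBlock M B)
    (hn : IsContrib p B n) {χ : IrrCharacter G} (hχ : χ ∈ B)
    (hlt : minVal p B < (charDegree (χ : G → ℂ)).factorization p) :
    (charDegree (χ : G → ℂ)).factorization p - minVal p B + 2 ≤ blockDefect p B := by
  classical
  haveI hp := isPrime_of_isPModular hM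
  have hBne : B.Nonempty := ⟨χ, hχ⟩
  have hv := hn.self_val_of_pos_height hM hB hχ hlt
  have hpos := hn.self_pos hχ
  have hle := hn.self_le hχ
  set N := n χ χ with hN
  set v := N.natAbs.factorization p with hv'
  -- p^v ∣ N ≤ p^d
  have hdv : p ^ v ∣ N.natAbs := Nat.ordProj_dvd _ p
  have hNabs : (N.natAbs : ℤ) = N := by
    rw [Int.natCast_natAbs, abs_of_pos hpos]
  have hNle : N.natAbs ≤ p ^ blockDefect p B := by
    have : (N.natAbs : ℤ) ≤ ((p ^ blockDefect p B : ℕ) : ℤ) := by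
      rw [hNabs]; push_cast; exact hle
    exact_mod_cast this
  have hvle : v ≤ blockDefect p B := by
    have h1 : p ^ v ≤ p ^ blockDefect p B :=
      (Nat.le_of_dvd (Int.natAbs_pos.2 hpos.ne') hdv).trans hNle
    exact (Nat.pow_le_pow_iff_right hpf.out.one_lt).1 h1
  by_contra hcon
  push Not at hcon
  -- then v = d and N = p^d
  have hvd : v = blockDefect p B := by omega
  have hNeq : N = (p : ℤ) ^ blockDefect p B := by
    have h1 : p ^ blockDefect p B ∣ N.natAbs := hvd ▸ hdv
    have h2 : N.natAbs = p ^ blockDefect p B :=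
      Nat.le_antisymm hNle (Nat.le_of_dvd (Int.natAbs_pos.2 hpos.ne') h1)
    rw [← hNabs, h2]
    push_cast
    rfl
  -- all other contributions vanish
  obtain ⟨χ₀, hχ₀, h0⟩ := exists_minVal (p := p) hBne
  have hne : χ₀ ≠ χ := by
    rintro rfl
    omega
  have hsq := hn.sum_sq hχ
  rw [← hN, hNeq] at hsq
  have h1 : n χ χ ^ 2 + n χ χ₀ ^ 2 ≤ ∑ ψ : IrrCharacter G, n χ ψ ^ 2 := by
    have hsub : ({χ, χ₀} : Finset (IrrCharacter G)) ⊆ Finset.univ := Finset.subset_univ _
    have := Finset.sum_le_sum_of_subset_of_nonneg hsub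
      (f := fun ψ => n χ ψ ^ 2) (fun ψ _ _ => sq_nonneg _)
    rw [Finset.sum_pair (Ne.symm hne)] at this
    exact this
  rw [hsq, ← hN, hNeq] at h1
  have h2 : n χ χ₀ ^ 2 ≤ 0 := by nlinarith
  have h3 : n χ χ₀ = 0 := by
    have := sq_nonneg (n χ χ₀)
    exact pow_eq_zero_iff (two_ne_zero) |>.1 (le_antisymm h2 this)
  have h4 := (hn.val_eq hM hB hχ₀ h0 hχ).1
  exact h4 ((hn.symm hχ₀ hχ).symm.trans h3)

end compl

end Cfsg.Agent.Helper74.BF
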