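import Mathlib
import Cfsg.Prelude.Def_Blocks
import Cfsg.Agent.Lib.Helper74.BrauerFeit3

/-!
# The dimension of a block (helper74)

`dimBlock_factorization` : for a `p`-block `B` of defect `d`,
`ν_p (∑_{χ ∈ B} χ(1)²) = a + (a - d)`, `p ^ a` the `p`-part of `|G|`.

Proof: with the contribution numbers `n`, `χ₀ ∈ B` of height zero and a Sylow `p`-subgroup `P`:
`∑_{u ∈ P} ψ(u) = |P| z_ψ` with `z_ψ` integral; `Θ = ∑_ψ ψ(1) conj ψ` vanishes off the
`p`-regular elements, so `dim B = |P| ∑_ψ ψ(1) conj z_ψ`; likewise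
`p ^ d χ₀(1) = |P| ∑_ψ n χ₀ ψ z_ψ`; and `cof n χ₀ ψ = ψ(1) (u + μ_ψ)` with `u` a local unit and
`μ_ψ` in the local ideal.
-/

set_option autoImplicit false
set_option linter.unusedSectionVars false
set_option linter.style.haveILetI false

namespace Cfsg.Agent.Helper74.BF

open Cfsg
open Cfsg.Agent.Helper77 Cfsg.Agent.Helper78 Cfsg.Agent.Helper16 Cfsg.Agent.Helper74.DO
open scoped ComplexConjugate

universe u

section dim

variable {G : Type u} [Group G] [Fintype G] {p : ℕ} [hpf : Fact p.Prime] {M : Ideal AlgInt}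
variable {B : Set (IrrCharacter G)} {n : IrrCharacter G → IrrCharacter G → ℤ}

/-- A nontrivial element of a `p`-subgroup is `p`-singular. -/
theorem dvd_orderOf_of_mem_pGroup {P : Subgroup G} (hP : IsPGroup p P) {u : G} (hu : u ∈ P)
    (hu1 : u ≠ 1) : p ∣ orderOf u := by
  obtain ⟨j, hj⟩ := (IsPGroup.iff_orderOf.1 hP) ⟨u, hu⟩
  have hj' : orderOf u = p ^ j := by
    rw [← hj]; exact (Subgroup.orderOf_coe (⟨u, hu⟩ : P))
  rcases Nat.eq_zero_or_pos j with h0 | hpos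
  · rw [h0, pow_zero] at hj'
    exact absurd (orderOf_eq_one_iff.1 hj') hu1
  · rw [hj']
    exact dvd_pow_self p hpos.ne'

/-- The sum of `conj ψ` over a Sylow `p`-subgroup is `|P|` times an algebraic integer. -/
theorem exists_isIntegral_sum_conj (ψ : IrrCharacter G) (P : Subgroup G) [Fintype P] :
    ∃ w : ℂ, IsIntegral ℤ w ∧ ∑ y : P, conj ((ψ : G → ℂ) (y : G)) = (Nat.card P : ℂ) * w := by
  obtain ⟨z, hz, hsum⟩ := Cfsg.Agent.Helper74.SubSum.exists_isIntegral_sum_char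
    (Cfsg.Agent.Helper80.isCharacter_of_irr ψ.2) (1 : G) P (fun d _ => by rw [one_mul, mul_one])
  refine ⟨conj z, Cfsg.Agent.Helper3.isIntegral_conj hz, ?_⟩
  simp only [one_mul] at hsum
  rw [← map_sum, hsum, map_mul, Complex.conj_natCast]

/-- The dimension of the block, as a natural number. -/
noncomputable def dimBlock (B : Set (IrrCharacter G)) : ℕ :=
  ∑ ψ ∈ (Set.toFinite B).toFinset, charDegree (ψ : G → ℂ) ^ 2

/-- `dim B = |P| ∑ ψ(1) w_ψ`. -/
theorem dimBlock_eq_sylow (hM : IsPModular p M) (hB : IsPBlock M B) (P : Sylow p G)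
    [Fintype (P : Subgroup G)] (w : IrrCharacter G → ℂ)
    (hw : ∀ ψ : IrrCharacter G,
      ∑ y : (P : Subgroup G), conj ((ψ : G → ℂ) (y : G)) =
        (Nat.card (P : Subgroup G) : ℂ) * w ψ) :
    (dimBlock B : ℂ) = (Nat.card (P : Subgroup G) : ℂ) *
      ∑ ψ ∈ (Set.toFinite B).toFinset, (charDegree (ψ : G → ℂ) : ℂ) * w ψ := by
  classical
  have hG : (Nat.card G : ℂ) ≠ 0 := by exact_mod_cast Nat.card_pos.ne'
  -- sum of |G| * blockCoeff over P
  have h1 : ∑ y : (P : Subgroup G), (Nat.card G : ℂ) * blockCoeff B (y : G) =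
      (Nat.card G : ℂ) * blockCoeff B 1 := by
    rw [Fintype.sum_eq_single (1 : (P : Subgroup G))]
    · rfl
    · intro y hy
      have hy1 : (y : G) ≠ 1 := fun h => hy (Subtype.ext h)
      rw [blockCoeff_eq_zero_of_singular hM hB (y : G)
        (dvd_orderOf_of_mem_pGroup P.isPGroup' y.2 hy1), mul_zero]
  have h2 : (Nat.card G : ℂ) * blockCoeff B 1 = (dimBlock B : ℂ) := by
    rw [blockCoeff_eq_sum, ← mul_assoc, mul_inv_cancel₀ hG, one_mul]
    unfold dimBlock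
    push_cast
    refine Finset.sum_congr rfl fun ψ _ => ?_
    rw [(Cfsg.Agent.Helper79.irr_one_eq ψ).1, Complex.conj_natCast]
    ring
  have h3 : ∀ y : (P : Subgroup G), (Nat.card G : ℂ) * blockCoeff B (y : G) =
      ∑ ψ ∈ (Set.toFinite B).toFinset, (charDegree (ψ : G → ℂ) : ℂ) *
        conj ((ψ : G → ℂ) (y : G)) := by
    intro y
    rw [blockCoeff_eq_sum, ← mul_assoc, mul_inv_cancel₀ hG, one_mul]
    refine Finset.sum_congr rfl fun ψ _ => ?_
    rw [(Cfsg.Agent.Helper79.irr_one_eq ψ).1]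
  rw [← h2, ← h1]
  simp only [h3]
  rw [Finset.sum_comm, Finset.mul_sum]
  refine Finset.sum_congr rfl fun ψ _ => ?_
  rw [← Finset.mul_sum, hw ψ]
  ring

/-- `p ^ d χ(1) = |P| ∑ n χ ψ conj z_ψ`. -/
theorem IsContrib.sylow_sum (hn : IsContrib p B n) {χ : IrrCharacter G} (hχ : χ ∈ B)
    (P : Sylow p G) [Fintype (P : Subgroup G)] (w : IrrCharacter G → ℂ)
    (hw : ∀ ψ : IrrCharacter G,
      ∑ y : (P : Subgroup G), conj ((ψ : G → ℂ) (y : G)) =
        (Nat.card (P : Subgroup G) : ℂ) * w ψ) :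
    (p : ℂ) ^ blockDefect p B * (charDegree (χ : G → ℂ) : ℂ) =
      (Nat.card (P : Subgroup G) : ℂ) *
        ∑ ψ ∈ (Set.toFinite B).toFinset, ((n χ ψ : ℤ) : ℂ) * w ψ := by
  classical
  have hdec := hn.decomp χ hχ
  have hL : ∑ y : (P : Subgroup G),
      conj (pRegScaled p ((p : ℂ) ^ blockDefect p B) (χ : G → ℂ) (y : G)) =
      (p : ℂ) ^ blockDefect p B * (charDegree (χ : G → ℂ) : ℂ) := by
    rw [Fintype.sum_eq_single (1 : (P : Subgroup G))]
    · unfold pRegScaled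
      have h1 : ¬ p ∣ orderOf (((1 : (P : Subgroup G)) : G)) := by
        rw [Subgroup.coe_one, orderOf_one]
        exact hpf.out.not_dvd_one
      rw [if_neg h1, Subgroup.coe_one, (Cfsg.Agent.Helper79.irr_one_eq χ).1, map_mul, map_pow,
        Complex.conj_natCast, Complex.conj_natCast]
    · intro y hy
      have hy1 : (y : G) ≠ 1 := fun h => hy (Subtype.ext h)
      unfold pRegScaled
      rw [if_pos (dvd_orderOf_of_mem_pGroup P.isPGroup' y.2 hy1), map_zero]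
  have hR : ∑ y : (P : Subgroup G),
      conj (pRegScaled p ((p : ℂ) ^ blockDefect p B) (χ : G → ℂ) (y : G)) =
      (Nat.card (P : Subgroup G) : ℂ) *
        ∑ ψ : IrrCharacter G, ((n χ ψ : ℤ) : ℂ) * w ψ := by
    rw [hdec]
    simp only [Finset.sum_apply, Pi.smul_apply, smul_eq_mul, map_sum, map_mul, map_intCast]
    rw [Finset.sum_comm, Finset.mul_sum]
    refine Finset.sum_congr rfl fun ψ _ => ?_
    rw [← Finset.mul_sum, hw ψ]
    ring
  rw [← hL, hR]
  congr 1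
  symm
  apply Finset.sum_subset (Finset.subset_univ _)
  intro ψ _ hψ
  have hψB : ψ ∉ B := fun h => hψ ((Set.Finite.mem_toFinset _).2 h)
  rw [hn.zero_of_notMem χ hχ ψ hψB, Int.cast_zero, zero_mul]

/-- The algebraic heart: from the Sylow sums and the congruences, `dim B / p ^ (a + mv)` is a
local unit. -/
theorem dimBlock_unit (hM : IsPModular p M) (hB : IsPBlock M B) :
    MemLocalRing M ((dimBlock B : ℂ) /
      ((p ^ ((Nat.card G).factorization p + minVal p B) : ℕ) : ℂ)) ∧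
    ¬ MemLocalIdeal M ((dimBlock B : ℂ) /
      ((p ^ ((Nat.card G).factorization p + minVal p B) : ℕ) : ℂ)) := by
  classical
  haveI hp := isPrime_of_isPModular hM
  obtain ⟨n, hn⟩ := exists_contrib hM hB
  have hBne := nonempty_of_isPBlock hB
  obtain ⟨χ₀, hχ₀, h0⟩ := exists_minVal (p := p) hBne
  obtain ⟨P⟩ : Nonempty (Sylow p G) := inferInstance
  have hwex : ∀ ψ : IrrCharacter G, ∃ w : ℂ, IsIntegral ℤ w ∧
      ∑ y : (P : Subgroup G), conj ((ψ : G → ℂ) (y : G)) =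
        (Nat.card (P : Subgroup G) : ℂ) * w := fun ψ => exists_isIntegral_sum_conj ψ P
  choose w hwint hw using hwex
  have hdim := dimBlock_eq_sylow hM hB P w hw
  have hsyl := hn.sylow_sum hχ₀ P w hw
  have hPcard : Nat.card (P : Subgroup G) = p ^ (Nat.card G).factorization p :=
    P.card_eq_multiplicity
  obtain ⟨a, ha⟩ : ∃ a, a = (Nat.card G).factorization p := ⟨_, rfl⟩
  obtain ⟨mv, hmv⟩ : ∃ mv, mv = minVal p B := ⟨_, rfl⟩
  rw [← ha, ← hmv]
  rw [← ha] at hPcard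
  rw [← hmv] at h0
  have hcof := cof_mul (p := p) hBne
  obtain ⟨c, hc⟩ : ∃ c, c = cof p B := ⟨_, rfl⟩
  obtain ⟨d, hd⟩ : ∃ d, d = blockDefect p B := ⟨_, rfl⟩
  rw [← hc, ← hd] at hcof
  rw [← hd] at hsyl
  have hp0 : (p : ℂ) ≠ 0 := by exact_mod_cast hpf.out.ne_zero
  have hdeg0 : ∀ ψ : IrrCharacter G, (charDegree (ψ : G → ℂ) : ℂ) ≠ 0 := fun ψ => by
    exact_mod_cast (Cfsg.Agent.Helper79.irr_one_eq ψ).2.ne'
  have hdegn0 : ∀ ψ : IrrCharacter G, charDegree (ψ : G → ℂ) ≠ 0 := fun ψ =>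
    (Cfsg.Agent.Helper79.irr_one_eq ψ).2.ne'
  -- the unit
  obtain ⟨u, hu⟩ : ∃ u : ℂ, u = ((cof p B * n χ₀ χ₀ : ℤ) : ℂ) /
    (charDegree (χ₀ : G → ℂ) : ℂ) := ⟨_, rfl⟩
  have hn00 : n χ₀ χ₀ ≠ 0 := by
    intro h
    exact hn.not_dvd_self hM hB hχ₀ (by rw [← hmv]; exact h0) (by rw [h]; exact dvd_zero _)
  have hu_not : ¬ MemLocalIdeal M u := by
    intro h
    rw [hu] at h
    exact hn.not_dvd_self hM hB hχ₀ (by rw [← hmv]; exact h0)
      ((memLocalIdeal_cof_div_iff hM hχ₀ (by rw [← hmv]; exact h0) _).1 h)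
  have hu_mem : MemLocalRing M u := by
    rw [hu]
    have hN : (cof p B : ℤ) * n χ₀ χ₀ ≠ 0 :=
      mul_ne_zero (by exact_mod_cast cof_ne_zero (p := p) hBne) hn00
    rw [memLocalRing_intCast_div_iff hM _ _ hN (hdegn0 χ₀), factorization_cof_mul hBne hn00, h0,
      ← hmv]
    omega
  -- the congruences
  have hμ : ∀ ψ ∈ B, MemLocalIdeal M (((cof p B * n χ₀ ψ : ℤ) : ℂ) /
      (charDegree (ψ : G → ℂ) : ℂ) - u) := by
    intro ψ hψ
    have h := hn.congr hM hB hψ hχ₀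
    rw [hn.symm hχ₀ hψ] at h
    rw [hu]
    exact h
  obtain ⟨Bf, hBf⟩ : ∃ Bf, Bf = (Set.toFinite B).toFinset := ⟨_, rfl⟩
  rw [← hBf] at hdim hsyl
  have hmem : ∀ ψ, ψ ∈ Bf ↔ ψ ∈ B := fun ψ => by rw [hBf]; exact Set.Finite.mem_toFinset _
  obtain ⟨W1, hW1⟩ : ∃ W1, W1 = ∑ ψ ∈ Bf, (charDegree (ψ : G → ℂ) : ℂ) * w ψ := ⟨_, rfl⟩
  obtain ⟨W2, hW2⟩ : ∃ W2, W2 = ∑ ψ ∈ Bf, ((n χ₀ ψ : ℤ) : ℂ) * w ψ := ⟨_, rfl⟩
  rw [← hW1] at hdim
  rw [← hW2] at hsyl
  rw [hPcard] at hdim hsyl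
  -- the error term
  obtain ⟨E, hE⟩ : ∃ E, E = ∑ ψ ∈ Bf, ((charDegree (ψ : G → ℂ) : ℂ) / ((p ^ mv : ℕ) : ℂ)) *
      (((cof p B * n χ₀ ψ : ℤ) : ℂ) / (charDegree (ψ : G → ℂ) : ℂ) - u) * w ψ := ⟨_, rfl⟩
  have hE_mem : MemLocalIdeal M E := by
    rw [hE]
    apply memLocalIdeal_sum
    intro ψ hψ
    have hψB := (hmem ψ).1 hψ
    apply memLocalIdeal_mul_right _ (memLocalRing_of_isIntegral (hwint ψ))
    apply memLocalIdeal_mul_left _ (hμ ψ hψB)
    apply memLocalRing_natCast_div hM _ _ (hdegn0 ψ) (pow_ne_zero _ hpf.out.ne_zero)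
    rw [Nat.Prime.factorization_pow hpf.out, Finsupp.single_eq_same, hmv]
    exact minVal_le hψB
  have hE_eq : E = ((c : ℂ) * W2 - u * W1) / ((p ^ mv : ℕ) : ℂ) := by
    rw [hE, hW1, hW2, Finset.mul_sum, Finset.mul_sum, ← Finset.sum_sub_distrib, Finset.sum_div]
    refine Finset.sum_congr rfl fun ψ _ => ?_
    have := hdeg0 ψ
    rw [← hc]
    push_cast
    field_simp
  -- the key identity
  have hGc : (Nat.card G : ℂ) = (c : ℂ) * (p : ℂ) ^ d := by
    rw [← hcof]; push_cast; ring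
  have key : ((Nat.card G * charDegree (χ₀ : G → ℂ) : ℕ) : ℂ) / ((p ^ (a + mv) : ℕ) : ℂ) =
      u * ((dimBlock B : ℂ) / ((p ^ (a + mv) : ℕ) : ℂ)) + E := by
    rw [hE_eq, hdim]
    push_cast
    rw [hGc, mul_assoc, hsyl]
    push_cast
    field_simp
    ring
  -- left side is a unit
  have hfac : (Nat.card G * charDegree (χ₀ : G → ℂ)).factorization p = a + mv := by
    rw [Nat.factorization_mul Nat.card_pos.ne' (hdegn0 χ₀)]
    simp only [Finsupp.coe_add, Pi.add_apply]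
    rw [h0, ← ha]
  have hpow : (p ^ (a + mv)).factorization p = a + mv := by
    rw [Nat.Prime.factorization_pow hpf.out, Finsupp.single_eq_same]
  have hprod0 : Nat.card G * charDegree (χ₀ : G → ℂ) ≠ 0 :=
    mul_ne_zero Nat.card_pos.ne' (hdegn0 χ₀)
  have hpow0 : p ^ (a + mv) ≠ 0 := pow_ne_zero _ hpf.out.ne_zero
  have hL1 := memLocalRing_natCast_div hM _ _ hprod0 hpow0 (by rw [hfac, hpow])
  have hL2 := not_memLocalIdeal_natCast_div hM _ _ hprod0 hpow0 (by rw [hfac, hpow])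
  obtain ⟨t, ht⟩ : ∃ t : ℂ, t = (dimBlock B : ℂ) / ((p ^ (a + mv) : ℕ) : ℂ) := ⟨_, rfl⟩
  rw [← ht] at key ⊢
  have hut_mem : MemLocalRing M (u * t) := by
    have : u * t = ((Nat.card G * charDegree (χ₀ : G → ℂ) : ℕ) : ℂ) /
        ((p ^ (a + mv) : ℕ) : ℂ) - E := by rw [key]; ring
    rw [this]
    exact memLocalRing_sub hL1 (memLocalRing_of_memLocalIdeal hE_mem)
  have hut_not : ¬ MemLocalIdeal M (u * t) := by
    intro h
    apply hL2
    rw [key]
    exact memLocalIdeal_add h hE_mem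
  have hu0 : u ≠ 0 := by
    intro h
    rw [h] at hu_not
    exact hu_not (memLocalIdeal_zero hp.ne_top)
  have ht_mem : MemLocalRing M t := by
    have : t = u⁻¹ * (u * t) := by field_simp
    rw [this]
    exact memLocalRing_mul (memLocalRing_inv hu_mem hu_not) hut_mem
  refine ⟨ht_mem, fun h => hut_not (memLocalIdeal_mul_left hu_mem h)⟩

/-- **The `p`-part of the dimension of a block**: `ν_p (dim B) = a + (a - d)`. -/
theorem dimBlock_factorization (hM : IsPModular p M) (hB : IsPBlock M B) :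
    (dimBlock B).factorization p = (Nat.card G).factorization p + minVal p B := by
  haveI hp := isPrime_of_isPModular hM
  obtain ⟨h1, h2⟩ := dimBlock_unit hM hB
  have hpow : (p ^ ((Nat.card G).factorization p + minVal p B)).factorization p =
      (Nat.card G).factorization p + minVal p B := by
    rw [Nat.Prime.factorization_pow hpf.out, Finsupp.single_eq_same]
  have hpow0 : p ^ ((Nat.card G).factorization p + minVal p B) ≠ 0 :=
    pow_ne_zero _ hpf.out.ne_zero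
  have hd0 : dimBlock B ≠ 0 := by
    intro h
    rw [h, Nat.cast_zero, zero_div] at h2
    exact h2 (memLocalIdeal_zero hp.ne_top)
  rcases lt_trichotomy ((dimBlock B).factorization p)
    ((Nat.card G).factorization p + minVal p B) with h | h | h
  · exact absurd h1 (not_memLocalRing_natCast_div hM _ _ hd0 hpow0 (by rw [hpow]; exact h))
  · exact h
  · exact absurd (memLocalIdeal_natCast_div hM _ _ hd0 hpow0 (by rw [hpow]; exact h)) h2

end dim

end Cfsg.Agent.Helper74.BF
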