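import Mathlib
import Cfsg.Prelude.Def_Blocks
import Cfsg.Agent.Lib.Helper74.BrauerFeit6

/-!
# 2-blocks of defect one (helper74)

A `2`-block of defect one consists of exactly two irreducible characters, which agree on the
elements of odd order and are opposite on the elements of even order.
-/

set_option autoImplicit false
set_option linter.unusedSectionVars false
set_option linter.style.haveILetI false

namespace Cfsg.Agent.Helper74.TB

open Cfsg
open Cfsg.Agent.Helper77 Cfsg.Agent.Helper78 Cfsg.Agent.Helper16 Cfsg.Agent.Helper74.DO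
open Cfsg.Agent.Helper74.BF
open scoped ComplexConjugate

universe u

/-- A family of nonnegative integers with sum `1`: exactly one entry is `1`, the others vanish. -/
theorem exists_unique_of_sum_eq_one {ι : Type*} [DecidableEq ι] (S : Finset ι) (f : ι → ℤ)
    (hf : ∀ i ∈ S, 0 ≤ f i) (hsum : ∑ i ∈ S, f i = 1) :
    ∃ a ∈ S, f a = 1 ∧ ∀ i ∈ S, i ≠ a → f i = 0 := by
  classical
  have hex : ∃ a ∈ S, 0 < f a := by
    by_contra hcon
    have hcon' : ∀ i ∈ S, f i ≤ 0 := fun i hi => not_lt.1 fun h => hcon ⟨i, hi, h⟩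
    have : ∑ i ∈ S, f i = 0 :=
      Finset.sum_eq_zero fun i hi => le_antisymm (hcon' i hi) (hf i hi)
    omega
  obtain ⟨a, ha, hpos⟩ := hex
  have hsplit := Finset.add_sum_erase S f ha
  have hrest : 0 ≤ ∑ i ∈ S.erase a, f i :=
    Finset.sum_nonneg fun i hi => hf i (Finset.mem_of_mem_erase hi)
  have hfa : f a = 1 := by omega
  have hrest0 : ∑ i ∈ S.erase a, f i = 0 := by omega
  refine ⟨a, ha, hfa, fun i hi hia => ?_⟩
  have := (Finset.sum_eq_zero_iff_of_nonneg
    (fun i hi => hf i (Finset.mem_of_mem_erase hi))).1 hrest0 i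
    (Finset.mem_erase.2 ⟨hia, hi⟩)
  exact this

variable {G : Type u} [Group G] [Fintype G] {M : Ideal AlgInt}

/-- **2-blocks of defect one.** -/
theorem defect_one (hM : IsPModular 2 M) {B : Set (IrrCharacter G)} (hB : IsPBlock M B)
    (hd : blockDefect 2 B = 1) :
    ∃ χ₀ χ₁ : IrrCharacter G, χ₀ ≠ χ₁ ∧ B = {χ₀, χ₁} ∧
      (∀ g : G, ¬ 2 ∣ orderOf g → (χ₀ : G → ℂ) g = (χ₁ : G → ℂ) g) ∧
      (∀ g : G, 2 ∣ orderOf g → (χ₀ : G → ℂ) g + (χ₁ : G → ℂ) g = 0) := by
  classical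
  haveI : Fact (Nat.Prime 2) := ⟨Nat.prime_two⟩
  haveI := isPrime_of_isPModular hM
  obtain ⟨n, hn⟩ := exists_contrib hM hB
  have hBne : B.Nonempty := nonempty_of_isPBlock hB
  obtain ⟨χ₀, hχ₀, h0⟩ := exists_minVal (p := 2) hBne
  -- `n χ₀ χ₀ = 1`
  have hpos := hn.self_pos hχ₀
  have hle := hn.self_le hχ₀
  have hnd := hn.not_dvd_self hM hB hχ₀ h0
  rw [hd] at hle
  have h00 : n χ₀ χ₀ = 1 := by
    have h2 : n χ₀ χ₀ ≠ 2 := by
      intro h
      apply hnd
      rw [h]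
      exact dvd_refl _
    norm_num at hle
    omega
  -- the sum of squares
  have hsq := hn.sum_sq hχ₀
  rw [hd, h00] at hsq
  have hsplit := Finset.add_sum_erase Finset.univ (fun ψ : IrrCharacter G => n χ₀ ψ ^ 2)
    (Finset.mem_univ χ₀)
  have hrest : ∑ ψ ∈ Finset.univ.erase χ₀, n χ₀ ψ ^ 2 = 1 := by
    rw [hsq] at hsplit
    have h2 : (((2 : ℕ) : ℤ)) ^ 1 * 1 = 2 := by norm_num
    rw [h2] at hsplit
    have h3 : n χ₀ χ₀ ^ 2 = 1 := by rw [h00]; norm_num
    change n χ₀ χ₀ ^ 2 + _ = 2 at hsplit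
    rw [h3] at hsplit
    linarith
  obtain ⟨χ₁, hχ₁mem, h11, hothers⟩ := exists_unique_of_sum_eq_one _
    (fun ψ : IrrCharacter G => n χ₀ ψ ^ 2) (fun ψ _ => sq_nonneg _) hrest
  have hne : χ₁ ≠ χ₀ := Finset.ne_of_mem_erase hχ₁mem
  have hn1 : n χ₀ χ₁ ≠ 0 := by
    intro h
    simp only [h] at h11
    norm_num at h11
  have hχ₁ : χ₁ ∈ B := by
    by_contra hcon
    exact hn1 (hn.zero_of_notMem χ₀ hχ₀ χ₁ hcon)
  have hzero : ∀ ψ : IrrCharacter G, ψ ≠ χ₀ → ψ ≠ χ₁ → n χ₀ ψ = 0 := by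
    intro ψ h1 h2
    have := hothers ψ (Finset.mem_erase.2 ⟨h1, Finset.mem_univ _⟩) h2
    simpa using this
  have hBeq : B = {χ₀, χ₁} := by
    ext ψ
    constructor
    · intro hψ
      have hv := (hn.val_eq hM hB hχ₀ h0 hψ).1
      by_contra hcon
      simp only [Set.mem_insert_iff, Set.mem_singleton_iff, not_or] at hcon
      exact hv (hzero ψ hcon.1 hcon.2)
    · intro hψ
      simp only [Set.mem_insert_iff, Set.mem_singleton_iff] at hψ
      rcases hψ with rfl | rfl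
      · exact hχ₀
      · exact hχ₁
  -- the decomposition of the regular part
  have hdec := hn.decomp χ₀ hχ₀
  rw [hd] at hdec
  have hsum : ∑ φ : IrrCharacter G, ((n χ₀ φ : ℤ) : ℂ) • (φ : G → ℂ) =
      (χ₀ : G → ℂ) + ((n χ₀ χ₁ : ℤ) : ℂ) • (χ₁ : G → ℂ) := by
    rw [← Finset.add_sum_erase Finset.univ _ (Finset.mem_univ χ₀), h00]
    rw [← Finset.add_sum_erase (Finset.univ.erase χ₀) _ hχ₁mem]
    rw [Finset.sum_eq_zero, add_zero]
    · simp
    · intro ψ hψ
      have h1 : ψ ≠ χ₁ := Finset.ne_of_mem_erase hψ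
      have h2 : ψ ≠ χ₀ := Finset.ne_of_mem_erase (Finset.mem_of_mem_erase hψ)
      rw [hzero ψ h2 h1]
      simp
  rw [hsum] at hdec
  have hval : ∀ g : G, pRegScaled 2 ((2 : ℂ) ^ 1) (χ₀ : G → ℂ) g =
      (χ₀ : G → ℂ) g + ((n χ₀ χ₁ : ℤ) : ℂ) * (χ₁ : G → ℂ) g := by
    intro g
    have := congrFun hdec g
    simpa using this
  -- the sign
  have hs : n χ₀ χ₁ = 1 ∨ n χ₀ χ₁ = -1 := by
    have : n χ₀ χ₁ ^ 2 = 1 := h11
    exact sq_eq_one_iff.1 this
  have hdeg0 := Cfsg.Agent.Helper79.irr_one_eq χ₀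
  have hdeg1 := Cfsg.Agent.Helper79.irr_one_eq χ₁
  have h1 := hval 1
  have hs1 : n χ₀ χ₁ = 1 := by
    rcases hs with h | h
    · exact h
    · exfalso
      rw [h] at h1
      unfold pRegScaled at h1
      simp only [orderOf_one, Nat.dvd_one, OfNat.ofNat_ne_one, if_false] at h1
      rw [hdeg0.1, hdeg1.1] at h1
      have h3 : ((charDegree (χ₀ : G → ℂ) : ℕ) : ℂ) + ((charDegree (χ₁ : G → ℂ) : ℕ) : ℂ) = 0 := by
        push_cast at h1
        linear_combination h1
      have h4 : charDegree (χ₀ : G → ℂ) + charDegree (χ₁ : G → ℂ) = 0 := by exact_mod_cast h3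
      have := hdeg0.2
      omega
  refine ⟨χ₀, χ₁, hne.symm, hBeq, fun g hg => ?_, fun g hg => ?_⟩
  · have := hval g
    unfold pRegScaled at this
    rw [if_neg hg, hs1] at this
    push_cast at this
    linear_combination this
  · have := hval g
    unfold pRegScaled at this
    rw [if_pos hg, hs1] at this
    push_cast at this
    linear_combination -this

end Cfsg.Agent.Helper74.TB
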