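import Mathlib
import Cfsg.Prelude.Def_Blocks
import Cfsg.Prelude.Def_BlockRank
import Cfsg.Agent.Lib.Helper74.TwoBlock1
import Cfsg.Agent.Lib.Helper78.BlockRank
import Cfsg.Agent.Lib.Helper77.Principal
import Cfsg.Agent.S4571

/-!
# Rank one blocks for the prime 2 (helper74)

* a `2`-block of defect one has `2`-regular rank one;
* the principal `2`-block of a group of order `4 · odd` with a central involution has rank one.
-/

set_option autoImplicit false
set_option linter.unusedSectionVars false
set_option linter.style.haveILetI false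

namespace Cfsg.Agent.Helper74.KL

open Cfsg
open Cfsg.Agent.Helper77 Cfsg.Agent.Helper78 Cfsg.Agent.Helper74.DO

universe u

section rank

variable {G : Type u} [Group G] [Fintype G] {M : Ideal AlgInt}

theorem blockRank_of_defect_one (hM : IsPModular 2 M) {B : Set (IrrCharacter G)}
    (hB : IsPBlock M B) (hd : blockDefect 2 B = 1) : blockRank 2 B = 1 := by
  classical
  haveI : Fact (Nat.Prime 2) := ⟨Nat.prime_two⟩
  obtain ⟨χ₀, χ₁, _, hBeq, hreg, _⟩ := Cfsg.Agent.Helper74.TB.defect_one hM hB hd
  have heq : pRegularPart 2 (χ₁ : G → ℂ) = pRegularPart 2 (χ₀ : G → ℂ) := by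
    funext g
    by_cases hg : 2 ∣ orderOf g
    · rw [pRegularPart_of_singular 2 _ hg, pRegularPart_of_singular 2 _ hg]
    · rw [pRegularPart_of_regular 2 _ hg, pRegularPart_of_regular 2 _ hg, hreg g hg]
  have hne : pRegularPart 2 (χ₀ : G → ℂ) ≠ 0 := by
    intro h
    have h1 := congrFun h 1
    rw [pRegularPart_one] at h1
    exact irr_apply_one_ne_zero χ₀.2 h1
  unfold blockRank
  rw [hBeq, Set.image_pair, heq, Set.pair_eq_singleton]
  exact finrank_span_singleton hne

theorem minVal_principalBlock (p : ℕ) [Fact p.Prime] (hM : IsPModular p M) :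
    minVal p (principalBlock M G) = 0 := by
  haveI := isPrime_of_isPModular hM
  have h := minVal_le (p := p) (trivIrr_mem_principalBlock (G := G) M)
  have h1 : charDegree ((trivIrr G : IrrCharacter G) : G → ℂ) = 1 := by
    have := (Cfsg.Agent.Helper79.irr_one_eq (trivIrr G)).1
    rw [trivIrr_apply] at this
    exact_mod_cast this.symm
  rw [h1] at h
  simpa using h

theorem blockDefect_principalBlock (p : ℕ) [Fact p.Prime] (hM : IsPModular p M) :
    blockDefect p (principalBlock M G) = (Nat.card G).factorization p := by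
  rw [blockDefect_eq, minVal_principalBlock p hM, Nat.sub_zero]

/-- the principal `2`-block of a group of order `4 · odd` with a central involution has rank `1` -/
theorem blockRank_principal_of_central_involution (hM : IsPModular 2 M) (z : G)
    (hz : orderOf z = 2) (hzc : z ∈ Subgroup.center G)
    (hcard : (Nat.card G).factorization 2 = 2) :
    blockRank 2 (principalBlock M G) = 1 := by
  classical
  haveI : Fact (Nat.Prime 2) := ⟨Nat.prime_two⟩
  haveI hnorm : (Subgroup.zpowers z).Normal := by
    refine ⟨fun n hn g => ?_⟩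
    have hc : g * n * g⁻¹ = n := by
      obtain ⟨k, rfl⟩ := Subgroup.mem_zpowers_iff.1 hn
      have hzk : z ^ k ∈ Subgroup.center G := Subgroup.zpow_mem _ hzc k
      have := Subgroup.mem_center_iff.1 hzk g
      rw [this, mul_inv_cancel_right]
    rw [hc]
    exact hn
  have hQ : IsPGroup 2 (Subgroup.zpowers z) := by
    apply IsPGroup.of_card (n := 1)
    rw [Nat.card_zpowers, hz, pow_one]
  have hsup : Subgroup.zpowers z ⊔ Subgroup.centralizer ((Subgroup.zpowers z : Subgroup G) : Set G)
      = ⊤ := by
    have : Subgroup.centralizer ((Subgroup.zpowers z : Subgroup G) : Set G) = ⊤ := by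
      rw [Subgroup.centralizer_eq_top_iff_subset]
      intro y hy
      obtain ⟨k, rfl⟩ := Subgroup.mem_zpowers_iff.1 hy
      exact Subgroup.zpow_mem _ hzc k
    rw [this]
    exact sup_top_eq _
  rw [Cfsg.Agent.S4571.result 2 M hM (Subgroup.zpowers z) hQ hsup]
  haveI : Fintype (G ⧸ Subgroup.zpowers z) := Fintype.ofFinite _
  apply blockRank_of_defect_one hM (isPBlock_principalBlock M)
  rw [blockDefect_principalBlock 2 hM]
  have h1 := Subgroup.card_eq_card_quotient_mul_card_subgroup (Subgroup.zpowers z)
  rw [Nat.card_zpowers, hz] at h1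
  have hq : Nat.card (G ⧸ Subgroup.zpowers z) ≠ 0 := Nat.card_pos.ne'
  have h2 : (Nat.card G).factorization 2 =
      (Nat.card (G ⧸ Subgroup.zpowers z)).factorization 2 + 1 := by
    rw [h1, Nat.factorization_mul hq (by norm_num)]
    simp [Nat.Prime.factorization_self Nat.prime_two]
  omega

end rank

end Cfsg.Agent.Helper74.KL
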