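import Mathlib
import Cfsg.Prelude.Def_Blocks
import Cfsg.Prelude.Def_BlockRank
import Cfsg.Agent.Lib.Helper74.Subsec3
import Cfsg.Agent.Lib.Helper78.Laradji
import Cfsg.Agent.Lib.Helper78.SectionSum
import Cfsg.Agent.Lib.Helper16.BlockPartReg
import Cfsg.Agent.Lib.Helper3.CharDecomp

/-!
# Contributions of a subsection (helper74), part 1: definitions and expansions

For a subgroup `H`, a central element `z : H`, a block `b` of `H` and `χ ∈ Irr G`:
* `shiftF p z χ`   : `c ↦ χ (z c)` on the `p`-regular elements of `H`, zero elsewhere;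
* `secPart p z b χ`: its `b`-part;
* `contrib p z b χ χ'` : the inner product of the `b`-parts (Brauer's contribution
  `m^{(z,b)}_{χ χ'}`).
-/

set_option autoImplicit false
set_option linter.unusedSectionVars false
set_option linter.style.haveILetI false

namespace Cfsg.Agent.Helper74.CT

open Cfsg
open Cfsg.Agent.Helper77 Cfsg.Agent.Helper78
open scoped ComplexConjugate

universe u

section defs

variable {G : Type u} [Group G] [Fintype G] {p : ℕ} [hpf : Fact p.Prime] {M : Ideal AlgInt}
variable {H : Subgroup G} [Fintype H]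

/-- `c ↦ χ (z c)` restricted to `p`-regular `c` -/
noncomputable def shiftF (p : ℕ) (z : H) (χ : G → ℂ) : H → ℂ :=
  pRegularPart p (fun c : H => χ ((z : G) * (c : G)))

/-- the `b`-part of the shifted function -/
noncomputable def secPart (p : ℕ) (z : H) (b : Set (IrrCharacter H)) (χ : G → ℂ) : H → ℂ :=
  blockPart b (shiftF p z χ)

/-- the contribution `m^{(z,b)}_{χ χ'}` -/
noncomputable def contrib (p : ℕ) (z : H) (b : Set (IrrCharacter H)) (χ χ' : G → ℂ) : ℂ :=
  classInner (secPart p z b χ) (secPart p z b χ')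

/-- multiplicity of `ψ` in the restriction of `χ` -/
noncomputable def resMult (χ : IrrCharacter G) (ψ : IrrCharacter H) : ℂ :=
  classInner (fun h : H => (χ : G → ℂ) h) (ψ : H → ℂ)

/-- the scalar by which the central element `z` acts in `ψ` -/
noncomputable def cscal (z : H) (ψ : IrrCharacter H) : ℂ :=
  (ψ : H → ℂ) z / (ψ : H → ℂ) 1

theorem isClassFunction_restrict (χ : IrrCharacter G) :
    IsClassFunction H (fun h : H => (χ : G → ℂ) h) := by
  have hχcl := isClassFunction_of_isIrrCharacter χ.2
  intro c k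
  show (χ : G → ℂ) ((k * c * k⁻¹ : H) : G) = (χ : G → ℂ) (c : G)
  push_cast
  exact hχcl (c : G) (k : G)

theorem resMult_nat (χ : IrrCharacter G) (ψ : IrrCharacter H) :
    ∃ m : ℕ, resMult χ ψ = (m : ℂ) := by
  unfold resMult
  exact Cfsg.Agent.Helper3.classInner_isCharacter_nat
    (Cfsg.Agent.Helper3.isCharacter_restrict H (Cfsg.Agent.Helper78.IsIrrCharacter.isCharacter χ.2))
    (Cfsg.Agent.Helper78.IsIrrCharacter.isCharacter ψ.2)

theorem shift_expand (z : H) (hz : z ∈ Subgroup.center H) (χ : IrrCharacter G) :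
    (fun c : H => (χ : G → ℂ) ((z : G) * (c : G))) =
      ∑ ψ : IrrCharacter H, (resMult χ ψ * cscal z ψ) • (ψ : H → ℂ) := by
  funext c
  have h := congrFun (Cfsg.Agent.Helper3.classFunction_eq_sum _ (isClassFunction_restrict (H := H) χ))
    (c * z)
  have hzc : ((c * z : H) : G) = (z : G) * (c : G) := by
    rw [(Subgroup.mem_center_iff.1 hz) c]
    push_cast
    rfl
  rw [hzc] at h
  rw [h, Finset.sum_apply, Finset.sum_apply]
  refine Finset.sum_congr rfl fun ψ _ => ?_
  rw [Pi.smul_apply, Pi.smul_apply, smul_eq_mul, smul_eq_mul, irr_mul_central' ψ z hz c]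
  unfold resMult cscal
  ring

theorem shiftF_expand (z : H) (hz : z ∈ Subgroup.center H) (χ : IrrCharacter G) :
    shiftF p z (χ : G → ℂ) =
      ∑ ψ : IrrCharacter H, (resMult χ ψ * cscal z ψ) • pRegularPart p (ψ : H → ℂ) := by
  unfold shiftF
  rw [shift_expand z hz χ, ← regPart_apply, map_sum]
  refine Finset.sum_congr rfl fun ψ _ => ?_
  rw [map_smul, regPart_apply]

open Classical in
theorem blockPart_pReg (hM : IsPModular p M) {b : Set (IrrCharacter H)} (hb : IsPBlock M b)
    (ψ : IrrCharacter H) :
    blockPart b (pRegularPart p (ψ : H → ℂ)) =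
      if ψ ∈ b then pRegularPart p (ψ : H → ℂ) else 0 := by
  classical
  haveI := isPrime_of_isPModular hM
  funext c
  rw [Cfsg.Agent.Helper16.blockPart_eq_finset]
  by_cases hψ : ψ ∈ b
  · rw [if_pos hψ]
    have hcl := isClassFunction_pRegularPart p (isClassFunction_of_isIrrCharacter ψ.2)
    have h := congrFun (Cfsg.Agent.Helper3.classFunction_eq_sum _ hcl) c
    rw [Finset.sum_apply] at h
    conv_rhs => rw [h]
    rw [← Finset.sum_subset (Finset.subset_univ (Set.toFinite b).toFinset)]
    · rfl
    · intro φ _ hφ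
      have hφb : φ ∉ b := fun h => hφ ((Set.Finite.mem_toFinset _).2 h)
      rw [classInner_pRegularPart_eq_zero hM ψ φ (fun h => hφb (mem_of_sameBlock hb hψ h))]
      simp
  · rw [if_neg hψ]
    apply Finset.sum_eq_zero
    intro φ hφ
    have hφb : φ ∈ b := (Set.Finite.mem_toFinset _).1 hφ
    rw [classInner_pRegularPart_eq_zero hM ψ φ
      (fun h => hψ (mem_of_sameBlock hb hφb (sameBlock_symm h))), zero_mul]

theorem secPart_expand (hM : IsPModular p M) {b : Set (IrrCharacter H)} (hb : IsPBlock M b)
    (z : H) (hz : z ∈ Subgroup.center H) (χ : IrrCharacter G) :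
    secPart p z b (χ : G → ℂ) =
      ∑ ψ ∈ (Set.toFinite b).toFinset,
        (resMult χ ψ * cscal z ψ) • pRegularPart p (ψ : H → ℂ) := by
  classical
  funext c
  unfold secPart
  rw [shiftF_expand z hz χ, blockPart_sum_smul, Finset.sum_apply,
    ← Finset.sum_subset (Finset.subset_univ (Set.toFinite b).toFinset)]
  · refine Finset.sum_congr rfl fun ψ hψ => ?_
    rw [blockPart_pReg hM hb ψ, if_pos ((Set.Finite.mem_toFinset _).1 hψ)]
    rfl
  · intro ψ _ hψ
    rw [blockPart_pReg hM hb ψ, if_neg (fun h => hψ ((Set.Finite.mem_toFinset _).2 h))]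
    simp

theorem secPart_of_singular (hM : IsPModular p M) {b : Set (IrrCharacter H)} (hb : IsPBlock M b)
    (z : H) (hz : z ∈ Subgroup.center H) (χ : IrrCharacter G) {c : H} (hc : p ∣ orderOf c) :
    secPart p z b (χ : G → ℂ) c = 0 := by
  rw [secPart_expand hM hb z hz χ, Finset.sum_apply]
  apply Finset.sum_eq_zero
  intro ψ _
  rw [Pi.smul_apply, pRegularPart_of_singular p _ hc, smul_zero]

theorem isClassFunction_secPart (hM : IsPModular p M) {b : Set (IrrCharacter H)}
    (hb : IsPBlock M b) (z : H) (hz : z ∈ Subgroup.center H) (χ : IrrCharacter G) :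
    IsClassFunction H (secPart p z b (χ : G → ℂ)) := by
  intro c k
  rw [secPart_expand hM hb z hz χ, Finset.sum_apply, Finset.sum_apply]
  refine Finset.sum_congr rfl fun ψ _ => ?_
  rw [Pi.smul_apply, Pi.smul_apply,
    isClassFunction_pRegularPart p (isClassFunction_of_isIrrCharacter ψ.2) c k]

theorem blockPart_fun (b : Set (IrrCharacter H)) (f : H → ℂ) :
    blockPart b f = ∑ φ ∈ (Set.toFinite b).toFinset, classInner f (φ : H → ℂ) • (φ : H → ℂ) := by
  funext c
  rw [Cfsg.Agent.Helper16.blockPart_eq_finset, Finset.sum_apply]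
  rfl

theorem classInner_blockPart_left (b : Set (IrrCharacter H)) (f g : H → ℂ) :
    classInner (blockPart b f) g =
      ∑ φ ∈ (Set.toFinite b).toFinset, classInner f (φ : H → ℂ) * conj (classInner g (φ : H → ℂ)) := by
  rw [blockPart_fun, classInner_sum_left]
  refine Finset.sum_congr rfl fun φ _ => ?_
  rw [classInner_smul_left, classInner_conj_symm]

theorem classInner_blockPart_blockPart (b : Set (IrrCharacter H)) (f g : H → ℂ) :
    classInner (blockPart b f) (blockPart b g) =
      ∑ φ ∈ (Set.toFinite b).toFinset, classInner f (φ : H → ℂ) * conj (classInner g (φ : H → ℂ)) := by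
  classical
  rw [classInner_blockPart_left]
  refine Finset.sum_congr rfl fun φ hφ => ?_
  congr 2
  rw [blockPart_fun, classInner_sum_left, Finset.sum_eq_single φ]
  · rw [classInner_smul_left, classInner_irr_self, mul_one]
  · intro φ' _ hne
    rw [classInner_smul_left, classInner_irr_ne hne, mul_zero]
  · intro h; exact absurd hφ h

/-- the contribution as a sum of products of generalized decomposition numbers -/
theorem contrib_eq_sum (z : H) (b : Set (IrrCharacter H)) (χ χ' : G → ℂ) :
    contrib p z b χ χ' = ∑ φ ∈ (Set.toFinite b).toFinset,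
      classInner (shiftF p z χ) (φ : H → ℂ) * conj (classInner (shiftF p z χ') (φ : H → ℂ)) := by
  unfold contrib secPart
  exact classInner_blockPart_blockPart b _ _

/-- `⟨f_χ, F_χ'⟩ = ⟨f_χ, f_χ'⟩` -/
theorem classInner_secPart_shiftF (z : H) (b : Set (IrrCharacter H)) (χ χ' : G → ℂ) :
    classInner (secPart p z b χ) (shiftF p z χ') = contrib p z b χ χ' := by
  rw [contrib_eq_sum]
  unfold secPart
  exact classInner_blockPart_left b _ _

end defs

end Cfsg.Agent.Helper74.CT
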