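import Mathlib
import Cfsg.Agent.Lib.Helper74.Contrib1

/-!
# Contributions of a subsection (helper74), part 2: the contribution matrix is an idempotent

For a `p`-element `x`, `C = C_G(x)`, a block `b` of `C` inducing `B`:
`∑_{χ, χ' ∈ B} |m^{(x,b)}_{χ χ'}|² = l(b)`.
-/

set_option autoImplicit false
set_option linter.unusedSectionVars false
set_option linter.style.haveILetI false

namespace Cfsg.Agent.Helper74.CT

open Cfsg
open Cfsg.Agent.Helper77 Cfsg.Agent.Helper78 Cfsg.Agent.Helper74.SS
open scoped ComplexConjugate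

universe u

section idem

variable {G : Type u} [Group G] [Fintype G] {p : ℕ} [hpf : Fact p.Prime] {M : Ideal AlgInt}
variable (x : G) [Fintype (Subgroup.centralizer ({x} : Set G))]

/-- `x` as an element of its centralizer -/
def zc : Subgroup.centralizer ({x} : Set G) := ⟨x, self_mem_cent x⟩

theorem zc_coe : ((zc x : Subgroup.centralizer ({x} : Set G)) : G) = x := rfl

theorem zc_mem_center : zc x ∈ Subgroup.center (Subgroup.centralizer ({x} : Set G)) := by
  rw [Subgroup.mem_center_iff]
  intro c
  apply Subtype.ext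
  push_cast
  rw [zc_coe]
  exact ((mem_cent_iff x (c : G)).1 c.2).symm

/-- completeness of the shifted characters on the `p`-regular class functions of the
centralizer -/
theorem completeness (hx : ∃ k : ℕ, orderOf x = p ^ k)
    (u : Subgroup.centralizer ({x} : Set G) → ℂ)
    (hucl : IsClassFunction (Subgroup.centralizer ({x} : Set G)) u)
    (husupp : ∀ c : Subgroup.centralizer ({x} : Set G), p ∣ orderOf c → u c = 0) :
    ∑ χ : IrrCharacter G, classInner u (shiftF p (zc x) (χ : G → ℂ)) *
        conj (classInner u (shiftF p (zc x) (χ : G → ℂ))) = classInner u u := by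
  classical
  have hp : p.Prime := Fact.out
  have hH := mem_cent_iff x
  obtain ⟨z, hz⟩ : ∃ z : Subgroup.centralizer ({x} : Set G), z = zc x := ⟨_, rfl⟩
  have hzval : (z : G) = x := by rw [hz]; rfl
  have hzcomm : ∀ c : Subgroup.centralizer ({x} : Set G), z * c = c * z := by
    intro c
    apply Subtype.ext
    push_cast
    rw [hzval]
    exact (hH (c : G)).1 c.2
  obtain ⟨δ, hδdef⟩ : ∃ δ : Subgroup.centralizer ({x} : Set G) → ℂ,
      δ = fun c => u (z⁻¹ * c) := ⟨_, rfl⟩
  have hδap : ∀ c, δ c = u (z⁻¹ * c) := by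
    intro c; rw [hδdef]
  have hδz : ∀ y, δ (z * y) = u y := by
    intro y
    rw [hδap, inv_mul_cancel_left]
  have hδcl : IsClassFunction (Subgroup.centralizer ({x} : Set G)) δ := by
    intro c k
    rw [hδap, hδap]
    have : z⁻¹ * (k * c * k⁻¹) = k * (z⁻¹ * c) * k⁻¹ := by
      have h1 : z⁻¹ * k = k * z⁻¹ := by
        have := hzcomm k
        calc z⁻¹ * k = z⁻¹ * (k * z) * z⁻¹ := by group
          _ = z⁻¹ * (z * k) * z⁻¹ := by rw [this]
          _ = k * z⁻¹ := by group
      calc z⁻¹ * (k * c * k⁻¹) = (z⁻¹ * k) * c * k⁻¹ := by group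
        _ = (k * z⁻¹) * c * k⁻¹ := by rw [h1]
        _ = k * (z⁻¹ * c) * k⁻¹ := by group
    rw [this, hucl]
  have hsupp : ∀ c : Subgroup.centralizer ({x} : Set G), δ c ≠ 0 → IsPPart p (c : G) x := by
    intro c hc
    rw [hδap] at hc
    have hreg : ¬ p ∣ orderOf (z⁻¹ * c) := by
      intro h
      exact hc (husupp _ h)
    have := (isPPart_mul_iff x hx (z⁻¹ * c)).2 hreg
    have h2 : x * ((z⁻¹ * c : Subgroup.centralizer ({x} : Set G)) : G) = (c : G) := by
      push_cast
      rw [hzval]
      group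
    rwa [h2] at this
  obtain ⟨Δ, hΔdef⟩ : ∃ Δ : G → ℂ, Δ = indFun (Subgroup.centralizer ({x} : Set G)) δ := ⟨_, rfl⟩
  have hΔcl : IsClassFunction G Δ := by
    rw [hΔdef]
    exact Cfsg.Agent.Helper81.indFun_isClassFunction _ δ
  have hΔeq : ∀ c : Subgroup.centralizer ({x} : Set G), δ c ≠ 0 → Δ (c : G) = δ c := by
    intro c hc
    rw [hΔdef]
    exact indFun_eq x _ hp hH δ hδcl hsupp c (hsupp c hc)
  have hfrob : ∀ χ : IrrCharacter G,
      classInner Δ (χ : G → ℂ) = classInner u (shiftF p (zc x) (χ : G → ℂ)) := by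
    intro χ
    rw [hΔdef, Cfsg.Agent.Helper81.frobenius_reciprocity _ δ
      (isClassFunction_of_isIrrCharacter χ.2)]
    unfold classInner
    congr 1
    rw [← Equiv.sum_comp (Equiv.mulLeft z)
      (fun c : Subgroup.centralizer ({x} : Set G) => δ c * conj ((χ : G → ℂ) (c : G)))]
    refine Finset.sum_congr rfl fun y _ => ?_
    show δ (z * y) * conj ((χ : G → ℂ) ((z * y : Subgroup.centralizer ({x} : Set G)) : G)) = _
    rw [hδz]
    have h3 : ((z * y : Subgroup.centralizer ({x} : Set G)) : G) = x * (y : G) := by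
      push_cast; rw [hzval]
    rw [h3]
    unfold shiftF
    by_cases hy : p ∣ orderOf y
    · rw [husupp y hy, zero_mul, zero_mul]
    · rw [pRegularPart_of_regular p _ hy]
      rfl
  have hnorm : classInner Δ Δ = classInner u u := by
    have h1 : classInner Δ Δ =
        classInner δ (fun c : Subgroup.centralizer ({x} : Set G) => Δ c) := by
      have := Cfsg.Agent.Helper81.frobenius_reciprocity _ δ hΔcl
      rw [← hΔdef] at this
      exact this
    rw [h1]
    unfold classInner
    congr 1
    rw [← Equiv.sum_comp (Equiv.mulLeft z)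
      (fun c : Subgroup.centralizer ({x} : Set G) => δ c * conj (Δ (c : G)))]
    refine Finset.sum_congr rfl fun y _ => ?_
    show δ (z * y) * conj (Δ ((z * y : Subgroup.centralizer ({x} : Set G)) : G)) = _
    by_cases hc : δ (z * y) = 0
    · rw [hc, zero_mul]
      rw [hδz] at hc
      rw [hc, zero_mul]
    · rw [hΔeq _ hc, hδz]
  rw [← hnorm, parseval Δ hΔcl]
  refine Finset.sum_congr rfl fun χ _ => ?_
  rw [hfrob]

/-- second main theorem: the shifted function of `χ ∉ B` is orthogonal to `b` -/
theorem classInner_shiftF_eq_zero (hM : IsPModular p M) (hx : ∃ k : ℕ, orderOf x = p ^ k)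
    {B : Set (IrrCharacter G)} {b : Set (IrrCharacter (Subgroup.centralizer ({x} : Set G)))}
    (hind : IsInducedBlock M (Subgroup.centralizer ({x} : Set G)) b B)
    (χ : IrrCharacter G) (hχ : χ ∉ B) (φ : IrrCharacter (Subgroup.centralizer ({x} : Set G)))
    (hφ : φ ∈ b) :
    classInner (shiftF p (zc x) (χ : G → ℂ))
      (φ : Subgroup.centralizer ({x} : Set G) → ℂ) = 0 := by
  haveI := isPrime_of_isPModular hM
  have h := gdn_eq_zero (M := M) x hM hx χ φ ?_
  · exact h
  · intro hcon
    rw [← eq_blockOf_of_mem hind.1 hφ] at hcon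
    have := isInducedBlock_unique hind hcon
    apply hχ
    rw [this]
    exact mem_blockOf_self χ

theorem contrib_eq_zero_right (hM : IsPModular p M) (hx : ∃ k : ℕ, orderOf x = p ^ k)
    {B : Set (IrrCharacter G)} {b : Set (IrrCharacter (Subgroup.centralizer ({x} : Set G)))}
    (hind : IsInducedBlock M (Subgroup.centralizer ({x} : Set G)) b B)
    (χ : G → ℂ) (χ' : IrrCharacter G) (hχ' : χ' ∉ B) :
    contrib p (zc x) b χ (χ' : G → ℂ) = 0 := by
  rw [contrib_eq_sum]
  apply Finset.sum_eq_zero
  intro φ hφ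
  rw [classInner_shiftF_eq_zero x hM hx hind χ' hχ' φ ((Set.Finite.mem_toFinset _).1 hφ),
    map_zero, mul_zero]

/-- row idempotency of the contribution matrix -/
theorem sum_contrib_row (hM : IsPModular p M) (hx : ∃ k : ℕ, orderOf x = p ^ k)
    {B : Set (IrrCharacter G)} {b : Set (IrrCharacter (Subgroup.centralizer ({x} : Set G)))}
    (hind : IsInducedBlock M (Subgroup.centralizer ({x} : Set G)) b B) (χ : IrrCharacter G) :
    ∑ χ' ∈ (Set.toFinite B).toFinset, contrib p (zc x) b (χ : G → ℂ) (χ' : G → ℂ) *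
        conj (contrib p (zc x) b (χ : G → ℂ) (χ' : G → ℂ)) =
      contrib p (zc x) b (χ : G → ℂ) (χ : G → ℂ) := by
  classical
  rw [Finset.sum_subset (Finset.subset_univ (Set.toFinite B).toFinset)]
  · have h := completeness x hx (secPart p (zc x) b (χ : G → ℂ))
      (isClassFunction_secPart hM hind.1 (zc x) (zc_mem_center x) χ)
      (fun c hc => secPart_of_singular hM hind.1 (zc x) (zc_mem_center x) χ hc)
    simp only [classInner_secPart_shiftF] at h
    exact h
  · intro χ' _ hχ'
    rw [contrib_eq_zero_right x hM hx hind _ χ' (fun h => hχ' ((Set.Finite.mem_toFinset _).2 h)),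
      zero_mul]

/-- trace of the contribution matrix -/
theorem sum_contrib_diag (hM : IsPModular p M) (hx : ∃ k : ℕ, orderOf x = p ^ k)
    {B : Set (IrrCharacter G)} {b : Set (IrrCharacter (Subgroup.centralizer ({x} : Set G)))}
    (hind : IsInducedBlock M (Subgroup.centralizer ({x} : Set G)) b B) :
    ∑ χ ∈ (Set.toFinite B).toFinset, contrib p (zc x) b (χ : G → ℂ) (χ : G → ℂ) =
      (blockRank p b : ℂ) := by
  classical
  rw [Finset.sum_subset (Finset.subset_univ (Set.toFinite B).toFinset)]
  · simp only [contrib_eq_sum]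
    rw [Finset.sum_comm, blockRank_eq_sum hM hind.1]
    refine Finset.sum_congr rfl fun φ _ => ?_
    exact sum_gdn_left x hx φ
  · intro χ _ hχ
    exact contrib_eq_zero_right x hM hx hind _ χ (fun h => hχ ((Set.Finite.mem_toFinset _).2 h))

/-- `∑_{χ,χ' ∈ B} |m_{χχ'}|² = l(b)` -/
theorem sum_contrib_sq (hM : IsPModular p M) (hx : ∃ k : ℕ, orderOf x = p ^ k)
    {B : Set (IrrCharacter G)} {b : Set (IrrCharacter (Subgroup.centralizer ({x} : Set G)))}
    (hind : IsInducedBlock M (Subgroup.centralizer ({x} : Set G)) b B) :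
    ∑ χ ∈ (Set.toFinite B).toFinset, ∑ χ' ∈ (Set.toFinite B).toFinset,
      contrib p (zc x) b (χ : G → ℂ) (χ' : G → ℂ) *
        conj (contrib p (zc x) b (χ : G → ℂ) (χ' : G → ℂ)) = (blockRank p b : ℂ) := by
  rw [← sum_contrib_diag x hM hx hind]
  refine Finset.sum_congr rfl fun χ _ => ?_
  exact sum_contrib_row x hM hx hind χ

end idem

section general

variable {G : Type u} [Group G] [Fintype G] {p : ℕ} [hpf : Fact p.Prime] {M : Ideal AlgInt}

/-- the same for any subgroup equal to the centralizer -/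
theorem sum_contrib_sq' (hM : IsPModular p M) (H : Subgroup G) [Fintype H] (z : H) (x : G)
    (hzx : (z : G) = x) (hH : H = Subgroup.centralizer ({x} : Set G))
    (hx : ∃ k : ℕ, orderOf x = p ^ k)
    {B : Set (IrrCharacter G)} {b : Set (IrrCharacter H)} (hind : IsInducedBlock M H b B) :
    ∑ χ ∈ (Set.toFinite B).toFinset, ∑ χ' ∈ (Set.toFinite B).toFinset,
      contrib p z b (χ : G → ℂ) (χ' : G → ℂ) *
        conj (contrib p z b (χ : G → ℂ) (χ' : G → ℂ)) = (blockRank p b : ℂ) := by
  subst hH
  have hz : z = zc x := Subtype.ext hzx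
  subst hz
  exact sum_contrib_sq x hM hx hind

end general

end Cfsg.Agent.Helper74.CT
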