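import Mathlib
import Cfsg.Agent.Lib.Helper74.Subsec3
import Cfsg.Agent.Lib.Helper74.Klein1
import Cfsg.Agent.Lib.Helper74.Klein2

/-!
# Rank one principal blocks of centralizers (helper74)

If the principal `p`-block of `C = C_G(x)` (`x` a `p`-element) has `p`-regular rank one, then every
irreducible character `χ` of the principal block of `G` satisfies `χ (x y) = χ x` for all
`p`-regular `y ∈ C`; consequently `secNorm p x χ = |χ x|² · secNorm p x 1`.
-/

set_option autoImplicit false
set_option linter.unusedSectionVars false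
set_option linter.style.haveILetI false

namespace Cfsg.Agent.Helper74.KL

open Cfsg
open Cfsg.Agent.Helper77 Cfsg.Agent.Helper78 Cfsg.Agent.Helper74.SS
open scoped ComplexConjugate

universe u

section rankone

variable {G : Type u} [Group G] [Fintype G] {p : ℕ} [Fact p.Prime] {M : Ideal AlgInt}

/-- in a principal block of rank one, characters are constant on `p`-regular elements -/
theorem const_of_blockRank_principal_eq_one (hM : IsPModular p M)
    (hrank : blockRank p (principalBlock M G) = 1)
    {ψ : IrrCharacter G} (hψ : ψ ∈ principalBlock M G) (y : G) (hy : ¬ p ∣ orderOf y) :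
    (ψ : G → ℂ) y = (ψ : G → ℂ) 1 := by
  classical
  haveI := isPrime_of_isPModular hM
  have hp : p.Prime := Fact.out
  have h1reg : ¬ p ∣ orderOf (1 : G) := by
    rw [orderOf_one]
    exact hp.one_lt.ne' ∘ Nat.dvd_one.1
  obtain ⟨S, hSdef⟩ : ∃ S : Set (G → ℂ),
      S = (fun χ : IrrCharacter G => pRegularPart p (χ : G → ℂ)) '' principalBlock M G := ⟨_, rfl⟩
  have hrank' : Module.finrank ℂ ↥(Submodule.span ℂ S) = 1 := by
    rw [hSdef]; exact hrank
  have h0mem : pRegularPart p (trivIrr G : G → ℂ) ∈ Submodule.span ℂ S := by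
    apply Submodule.subset_span
    rw [hSdef]
    exact ⟨trivIrr G, trivIrr_mem_principalBlock M, rfl⟩
  have hψmem : pRegularPart p (ψ : G → ℂ) ∈ Submodule.span ℂ S := by
    apply Submodule.subset_span
    rw [hSdef]
    exact ⟨ψ, hψ, rfl⟩
  have hnz : (⟨_, h0mem⟩ : ↥(Submodule.span ℂ S)) ≠ 0 := by
    intro h
    have h' : pRegularPart p (trivIrr G : G → ℂ) = 0 := congrArg Subtype.val h
    have h'' := congrFun h' 1
    rw [pRegularPart_of_regular p _ h1reg, trivIrr_apply] at h''
    exact one_ne_zero h''
  obtain ⟨c, hc⟩ := (finrank_eq_one_iff_of_nonzero' _ hnz).1 hrank' ⟨_, hψmem⟩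
  have hc' : c • pRegularPart p (trivIrr G : G → ℂ) = pRegularPart p (ψ : G → ℂ) :=
    congrArg Subtype.val hc
  have e1 := congrFun hc' y
  have e2 := congrFun hc' 1
  rw [Pi.smul_apply, pRegularPart_of_regular p _ hy, pRegularPart_of_regular p _ hy,
    trivIrr_apply] at e1
  rw [Pi.smul_apply, pRegularPart_of_regular p _ h1reg, pRegularPart_of_regular p _ h1reg,
    trivIrr_apply] at e2
  rw [← e1, ← e2]

variable (x : G) [Fintype (Subgroup.centralizer ({x} : Set G))]

/-- if the principal block of `C_G(x)` has rank one then the characters of the principal block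
of `G` are constant on the `p`-regular part of the section of `x` -/
theorem shift_const (hM : IsPModular p M) (hx : ∃ k : ℕ, orderOf x = p ^ k)
    (hrank : blockRank p (principalBlock M (Subgroup.centralizer ({x} : Set G))) = 1)
    {χ : IrrCharacter G} (hχ : χ ∈ principalBlock M G)
    (y : Subgroup.centralizer ({x} : Set G)) (hy : ¬ p ∣ orderOf y) :
    (χ : G → ℂ) (x * (y : G)) = (χ : G → ℂ) x := by
  classical
  haveI := isPrime_of_isPModular hM
  have hp : p.Prime := Fact.out
  have h1reg : ¬ p ∣ orderOf (1 : Subgroup.centralizer ({x} : Set G)) := by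
    rw [orderOf_one]
    exact hp.one_lt.ne' ∘ Nat.dvd_one.1
  obtain ⟨f, hfdef⟩ : ∃ f : Subgroup.centralizer ({x} : Set G) → ℂ,
      f = pRegularPart p (fun c : Subgroup.centralizer ({x} : Set G) => (χ : G → ℂ) (x * (c : G))) :=
    ⟨_, rfl⟩
  have hfcl : IsClassFunction (Subgroup.centralizer ({x} : Set G)) f := by
    rw [hfdef]
    exact isClassFunction_pRegularPart p (isClassFunction_shift x χ)
  have hexp := Cfsg.Agent.Helper3.classFunction_eq_sum f hfcl
  have hBχ : blockOf M (χ : G → ℂ) = principalBlock M G :=
    eq_of_isPBlock_of_mem ⟨χ, rfl⟩ (isPBlock_principalBlock M) (mem_blockOf_self χ) hχ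
  have hterm : ∀ ψ : IrrCharacter (Subgroup.centralizer ({x} : Set G)),
      classInner f (ψ : Subgroup.centralizer ({x} : Set G) → ℂ) *
        (ψ : Subgroup.centralizer ({x} : Set G) → ℂ) y =
      classInner f (ψ : Subgroup.centralizer ({x} : Set G) → ℂ) *
        (ψ : Subgroup.centralizer ({x} : Set G) → ℂ) 1 := by
    intro ψ
    by_cases hψ : ψ ∈ principalBlock M (Subgroup.centralizer ({x} : Set G))
    · rw [const_of_blockRank_principal_eq_one hM hrank hψ y hy]
    · have hz : gdn p x χ ψ = 0 := by
        apply gdn_eq_zero x hM hx χ ψ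
        intro hind
        rw [hBχ] at hind
        have := (blocks_inducing_principal hM x hx _).1 hind
        apply hψ
        rw [← this]
        exact mem_blockOf_self ψ
      have hz' : classInner f (ψ : Subgroup.centralizer ({x} : Set G) → ℂ) = 0 := by
        rw [hfdef]; exact hz
      rw [hz', zero_mul, zero_mul]
  have hval : ∀ c : Subgroup.centralizer ({x} : Set G), f c =
      ∑ ψ : IrrCharacter (Subgroup.centralizer ({x} : Set G)),
        classInner f (ψ : Subgroup.centralizer ({x} : Set G) → ℂ) *
          (ψ : Subgroup.centralizer ({x} : Set G) → ℂ) c := by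
    intro c
    have h := congrFun hexp c
    rw [Finset.sum_apply] at h
    rw [h]
    refine Finset.sum_congr rfl fun ψ _ => ?_
    rw [Pi.smul_apply, smul_eq_mul]
  have hfy : f y = f 1 := by
    rw [hval y, hval 1]
    exact Finset.sum_congr rfl fun ψ _ => hterm ψ
  rw [hfdef, pRegularPart_of_regular p _ hy, pRegularPart_of_regular p _ h1reg] at hfy
  rw [hfy]
  simp

end rankone

section rankone2

variable {G : Type u} [Group G] [Fintype G] {p : ℕ} [Fact p.Prime] {M : Ideal AlgInt}

/-- the section norm in the rank one situation -/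
theorem secNorm_of_rank_one (x : G) (hM : IsPModular p M) (hx : ∃ k : ℕ, orderOf x = p ^ k)
    (hrank : blockRank p (principalBlock M (Subgroup.centralizer ({x} : Set G))) = 1)
    {χ : IrrCharacter G} (hχ : χ ∈ principalBlock M G) :
    secNorm p x χ = (χ : G → ℂ) x * conj ((χ : G → ℂ) x) * secNorm p x (trivIrr G) := by
  classical
  letI : Fintype (Subgroup.centralizer ({x} : Set G)) := Fintype.ofFinite _
  unfold secNorm classInner
  rw [mul_left_comm]
  congr 1
  rw [Finset.mul_sum]
  refine Finset.sum_congr rfl fun y _ => ?_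
  by_cases hy : p ∣ orderOf y
  · rw [pRegularPart_of_singular p _ hy, pRegularPart_of_singular p _ hy]
    simp
  · rw [pRegularPart_of_regular p _ hy, pRegularPart_of_regular p _ hy]
    have h := shift_const x hM hx hrank hχ y hy
    rw [h, trivIrr_apply]
    simp

end rankone2



end Cfsg.Agent.Helper74.KL
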