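import Mathlib
import Cfsg.Agent.Lib.Helper74.Klein3
import Cfsg.Agent.Lib.Helper74.BrauerFeit6
import Cfsg.Agent.S4512

/-!
# Klein four Sylow 2-subgroups with one class of involutions: the core facts (helper74)

For `G` with a Klein four Sylow `2`-subgroup `P` and a single class of involutions there is an
involution `t ∈ P` such that the principal `2`-block of `C_G(t)` has rank one, the principal
`2`-block of `G` has exactly four characters, and `secNorm 2 t χ = 1/4` for each of them.
-/

set_option autoImplicit false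
set_option linter.unusedSectionVars false
set_option linter.style.haveILetI false
set_option maxHeartbeats 800000

namespace Cfsg.Agent.Helper74.KL

open Cfsg
open Cfsg.Agent.Helper74.SS Cfsg.Agent.Helper74.BF Cfsg.Agent.Helper74.DO
open Cfsg.Agent.Helper77 Cfsg.Agent.Helper78
open Cfsg.Agent.S4512 (secNorm_one classInner_reg_eq)
open scoped ComplexConjugate

universe u

theorem klein_core {G : Type u} [Group G] [Fintype G] (M : Ideal AlgInt) (hM : IsPModular 2 M)
    (P : Sylow 2 G) (hP : Nat.card P = 4) (hexp : ∀ x : P, x * x = 1)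
    (hone : ∀ s t : G, orderOf s = 2 → orderOf t = 2 → IsConj s t) :
    ∃ t : G, orderOf t = 2 ∧ t ∈ (P : Subgroup G) ∧
      blockRank 2 (principalBlock M (Subgroup.centralizer ({t} : Set G))) = 1 ∧
      (Set.toFinite (principalBlock M G)).toFinset.card = 4 ∧
      ∀ χ ∈ principalBlock M G, secNorm 2 t χ = 1 / 4 := by
  classical
  haveI : Fact (Nat.Prime 2) := ⟨Nat.prime_two⟩
  haveI := isPrime_of_isPModular hM
  -- an involution in `P`
  haveI : Nontrivial P := Finite.one_lt_card_iff_nontrivial.1 (by rw [hP]; norm_num)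
  obtain ⟨x₀, hx₀⟩ := exists_ne (1 : P)
  obtain ⟨t, htdef⟩ : ∃ t : G, t = (x₀ : G) := ⟨_, rfl⟩
  have htt : t * t = 1 := by
    rw [htdef]
    exact_mod_cast congrArg Subtype.val (hexp x₀)
  have ht1 : t ≠ 1 := by
    intro h
    apply hx₀
    apply Subtype.ext
    rw [← htdef, h]
    rfl
  have ht2 : orderOf t = 2 := orderOf_eq_prime (by rw [pow_two]; exact htt) ht1
  have htp : ∃ k : ℕ, orderOf t = 2 ^ k := ⟨1, by rw [ht2, pow_one]⟩
  -- the order of `G`
  have hcardG : (Nat.card G).factorization 2 = 2 := by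
    have h := Sylow.card_eq_multiplicity P
    rw [hP] at h
    have h' : 2 ^ 2 = 2 ^ (Nat.card G).factorization 2 := by simpa using h
    exact (Nat.pow_right_injective (le_refl 2) h').symm
  -- `2`-elements are involutions
  have h2el : ∀ g : G, (∃ k : ℕ, orderOf g = 2 ^ k) → g ≠ 1 → orderOf g = 2 := by
    intro g hg hg1
    obtain ⟨k, hk⟩ := hg
    have hpg : IsPGroup 2 (Subgroup.zpowers g) := by
      apply IsPGroup.of_card (n := k)
      rw [Nat.card_zpowers, hk]
    obtain ⟨Q, hQ⟩ := hpg.exists_le_sylow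
    have e := Sylow.equiv Q P
    have hgQ : g ∈ (Q : Subgroup G) := hQ (Subgroup.mem_zpowers g)
    have h1 := hexp (e ⟨g, hgQ⟩)
    rw [← map_mul] at h1
    have h2 : (⟨g, hgQ⟩ : Q) * ⟨g, hgQ⟩ = 1 := by
      apply e.injective
      rw [h1, map_one]
    have h3 : g * g = 1 := by
      have := congrArg (fun q : Q => (q : G)) h2
      simpa using this
    exact orderOf_eq_prime (by rw [pow_two]; exact h3) hg1
  -- the set of representatives
  have hX : ∀ x ∈ ({1, t} : Finset G), ∃ k : ℕ, orderOf x = 2 ^ k := by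
    intro x hx
    rw [Finset.mem_insert, Finset.mem_singleton] at hx
    rcases hx with rfl | rfl
    · exact ⟨0, by simp⟩
    · exact htp
  have hXrep : ∀ g : G, (∃ k : ℕ, orderOf g = 2 ^ k) →
      ∃! x, x ∈ ({1, t} : Finset G) ∧ IsConj g x := by
    intro g hg
    by_cases hg1 : g = 1
    · subst hg1
      refine ⟨1, ⟨by simp, IsConj.refl 1⟩, ?_⟩
      rintro y ⟨_, hy⟩
      exact isConj_one_right.1 hy
    · have hg2 := h2el g hg hg1
      refine ⟨t, ⟨by simp, hone g t hg2 ht2⟩, ?_⟩
      rintro y ⟨hyX, hy⟩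
      rw [Finset.mem_insert, Finset.mem_singleton] at hyX
      rcases hyX with rfl | rfl
      · exact absurd (isConj_one_left.1 hy) hg1
      · rfl
  -- the centralizer of `t`
  letI : Fintype (Subgroup.centralizer ({t} : Set G)) := Fintype.ofFinite _
  have hPcomm : ∀ a b : P, a * b = b * a := by
    intro a b
    have h1 := hexp (a * b)
    have ha := hexp a
    have hb := hexp b
    calc a * b = a * ((a * b) * (a * b)) * b := by rw [h1, mul_one]
      _ = (a * a) * (b * a) * (b * b) := by group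
      _ = b * a := by rw [ha, hb, one_mul, mul_one]
  have hPC : (P : Subgroup G) ≤ Subgroup.centralizer ({t} : Set G) := by
    intro y hy
    rw [mem_cent_iff, htdef]
    have := congrArg (fun q : P => (q : G)) (hPcomm x₀ ⟨y, hy⟩)
    simpa using this
  have hCcard : (Nat.card (Subgroup.centralizer ({t} : Set G))).factorization 2 = 2 := by
    have hC0 : Nat.card (Subgroup.centralizer ({t} : Set G)) ≠ 0 := Nat.card_pos.ne'
    have hG0 : Nat.card G ≠ 0 := Nat.card_pos.ne'
    have h1 : 2 ^ 2 ∣ Nat.card (Subgroup.centralizer ({t} : Set G)) := by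
      have := Subgroup.card_dvd_of_le hPC
      have hP' : Nat.card (P : Subgroup G) = 4 := hP
      rw [hP'] at this
      exact this
    have h2 := (Nat.Prime.pow_dvd_iff_le_factorization Nat.prime_two hC0).1 h1
    have h3 := (Nat.factorization_le_iff_dvd hC0 hG0).2
      (Subgroup.card_subgroup_dvd_card (Subgroup.centralizer ({t} : Set G))) 2
    omega
  have htC := self_mem_cent t
  have hzord : orderOf (⟨t, htC⟩ : Subgroup.centralizer ({t} : Set G)) = 2 := by
    rw [← Subgroup.orderOf_coe]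
    exact ht2
  have hzcen : (⟨t, htC⟩ : Subgroup.centralizer ({t} : Set G)) ∈
      Subgroup.center (Subgroup.centralizer ({t} : Set G)) := by
    rw [Subgroup.mem_center_iff]
    intro c
    apply Subtype.ext
    exact ((mem_cent_iff t (c : G)).1 c.2).symm
  have hrankC : blockRank 2 (principalBlock M (Subgroup.centralizer ({t} : Set G))) = 1 :=
    blockRank_principal_of_central_involution hM _ hzord hzcen hCcard
  -- the subsection sums
  have hB₀ : IsPBlock M (principalBlock M G) := isPBlock_principalBlock M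
  have hS : {b : Set (IrrCharacter (Subgroup.centralizer ({t} : Set G))) |
      IsInducedBlock M (Subgroup.centralizer ({t} : Set G)) b (principalBlock M G)} =
      {principalBlock M (Subgroup.centralizer ({t} : Set G))} := by
    ext b
    rw [Set.mem_singleton_iff]
    show IsInducedBlock M (Subgroup.centralizer ({t} : Set G)) b (principalBlock M G) ↔ _
    exact blocks_inducing_principal hM t htp b
  have hsum1 : ∑ χ ∈ (Set.toFinite (principalBlock M G)).toFinset, secNorm 2 t χ = 1 := by
    have h := sum_blockRank_eq hM t htp hB₀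
    rw [hS, finsum_mem_singleton, hrankC] at h
    rw [← h]
    norm_num
  have h1t : (1 : G) ≠ t := fun h => ht1 h.symm
  have hsec : ∀ χ : IrrCharacter G, secNorm 2 (1 : G) χ + secNorm 2 t χ = 1 := by
    intro χ
    have h := sum_secNorm ({1, t} : Finset G) hX hXrep χ
    rwa [Finset.sum_pair h1t] at h
  -- `l = k - 1`
  obtain ⟨T, hTdef⟩ : ∃ T : Finset (IrrCharacter G),
      T = (Set.toFinite (principalBlock M G)).toFinset := ⟨_, rfl⟩
  have hTmem : ∀ χ, χ ∈ T ↔ χ ∈ principalBlock M G := by
    intro χ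
    rw [hTdef, Set.Finite.mem_toFinset]
  have hl := blockRank_eq_sum hM hB₀
  rw [← hTdef] at hl hsum1
  have hlk : (blockRank 2 (principalBlock M G) : ℂ) + 1 = (T.card : ℂ) := by
    rw [hl]
    have h1 : ∑ χ ∈ T, classInner (pRegularPart 2 (χ : G → ℂ)) (χ : G → ℂ) =
        ∑ χ ∈ T, (1 - secNorm 2 t χ) := by
      refine Finset.sum_congr rfl fun χ _ => ?_
      rw [← secNorm_one χ, ← hsec χ]
      ring
    rw [h1, Finset.sum_sub_distrib, hsum1, Finset.sum_const, nsmul_eq_mul, mul_one]
    ring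
  have hlk' : blockRank 2 (principalBlock M G) + 1 = T.card := by exact_mod_cast hlk
  -- contribution numbers
  obtain ⟨n, hn⟩ := exists_contrib hM hB₀
  have hd : blockDefect 2 (principalBlock M G) = 2 := by
    rw [blockDefect_principalBlock 2 hM, hcardG]
  have hht : ∀ χ ∈ principalBlock M G,
      (charDegree (χ : G → ℂ)).factorization 2 = minVal 2 (principalBlock M G) := by
    intro χ hχ
    by_contra hne
    have hlt : minVal 2 (principalBlock M G) < (charDegree (χ : G → ℂ)).factorization 2 :=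
      lt_of_le_of_ne (minVal_le hχ) (Ne.symm hne)
    have := hn.height_add_two_le hM hB₀ hχ hlt
    rw [hd] at this
    omega
  have hself : ∀ χ ∈ principalBlock M G, n χ χ = 1 ∨ n χ χ = 3 := by
    intro χ hχ
    have h1 := hn.self_pos hχ
    have h2 := hn.self_le hχ
    have h3 := hn.not_dvd_self hM hB₀ hχ (hht χ hχ)
    rw [hd] at h2
    norm_num at h2
    have h4 : ¬ (2 : ℤ) ∣ n χ χ := by exact_mod_cast h3
    omega
  have hodd : ∀ χ ∈ principalBlock M G, ∀ ψ ∈ principalBlock M G, ¬ (2 : ℤ) ∣ n χ ψ := by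
    intro χ hχ ψ hψ h2
    have hv := hn.val_eq hM hB₀ hχ (hht χ hχ) hψ
    have hpos := factorization_pos_of_dvd (p := 2) hv.1 (by exact_mod_cast h2)
    have := hht ψ hψ
    omega
  have hsq : ∀ χ ∈ principalBlock M G, ∑ ψ ∈ T, n χ ψ ^ 2 = 4 * n χ χ := by
    intro χ hχ
    have h := hn.sum_sq hχ
    rw [hd] at h
    rw [← Finset.sum_subset (Finset.subset_univ T)] at h
    · rw [h]; norm_num
    · intro ψ _ hψ
      rw [hn.zero_of_notMem χ hχ ψ (fun h' => hψ ((hTmem ψ).2 h'))]
      norm_num
  have h4l : (4 : ℤ) * (blockRank 2 (principalBlock M G) : ℤ) = ∑ χ ∈ T, n χ χ := by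
    have h1 : (4 : ℂ) * (blockRank 2 (principalBlock M G) : ℂ) = ∑ χ ∈ T, ((n χ χ : ℤ) : ℂ) := by
      rw [hl, Finset.mul_sum]
      refine Finset.sum_congr rfl fun χ hχ => ?_
      exact classInner_reg_eq hn hd ((hTmem χ).1 hχ)
    have h2 : (((4 : ℤ) * (blockRank 2 (principalBlock M G) : ℤ) : ℤ) : ℂ) =
        ((∑ χ ∈ T, n χ χ : ℤ) : ℂ) := by
      push_cast
      exact h1
    exact_mod_cast h2
  -- `k = 4`
  have hk : T.card = 4 := by
    by_cases hex : ∃ χ ∈ T, n χ χ = 1
    · obtain ⟨χ₁, hχ₁T, h11⟩ := hex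
      have hχ₁ := (hTmem χ₁).1 hχ₁T
      have hs := hsq χ₁ hχ₁
      rw [h11] at hs
      have hall : ∀ ψ ∈ T, n χ₁ ψ ^ 2 = 1 := by
        intro ψ hψ
        have hle : n χ₁ ψ ^ 2 ≤ ∑ ψ ∈ T, n χ₁ ψ ^ 2 :=
          Finset.single_le_sum (f := fun ψ => n χ₁ ψ ^ 2) (fun i _ => sq_nonneg _) hψ
        rw [hs] at hle
        have ho := hodd χ₁ hχ₁ ψ ((hTmem ψ).1 hψ)
        have hb1 : n χ₁ ψ ≤ 2 := by nlinarith
        have hb2 : -2 ≤ n χ₁ ψ := by nlinarith
        have : n χ₁ ψ = 1 ∨ n χ₁ ψ = -1 := by omega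
        rcases this with h | h <;> rw [h] <;> norm_num
      rw [Finset.sum_congr rfl hall, Finset.sum_const, nsmul_eq_mul, mul_one] at hs
      exact_mod_cast hs
    · have hall : ∀ χ ∈ T, n χ χ = 3 := by
        intro χ hχ
        rcases hself χ ((hTmem χ).1 hχ) with h | h
        · exact absurd ⟨χ, hχ, h⟩ hex
        · exact h
      rw [Finset.sum_congr rfl hall, Finset.sum_const, nsmul_eq_mul] at h4l
      have : (4 : ℤ) * (blockRank 2 (principalBlock M G) : ℤ) = (T.card : ℤ) * 3 := h4l
      have h5 : ((blockRank 2 (principalBlock M G) : ℤ)) + 1 = (T.card : ℤ) := by exact_mod_cast hlk'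
      omega
  have hl3 : blockRank 2 (principalBlock M G) = 3 := by omega
  have hall3 : ∀ χ ∈ T, n χ χ = 3 := by
    rw [hl3] at h4l
    have hsum0 : ∑ χ ∈ T, (3 - n χ χ) = 0 := by
      rw [Finset.sum_sub_distrib, ← h4l, Finset.sum_const, hk]
      norm_num
    have hnn : ∀ χ ∈ T, 0 ≤ 3 - n χ χ := by
      intro χ hχ
      rcases hself χ ((hTmem χ).1 hχ) with h | h <;> rw [h] <;> norm_num
    intro χ hχ
    have := (Finset.sum_eq_zero_iff_of_nonneg hnn).1 hsum0 χ hχ
    omega
  refine ⟨t, ht2, ?_, hrankC, ?_, ?_⟩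
  · rw [htdef]; exact x₀.2
  · rw [← hTdef]; exact hk
  · intro χ hχ
    have h1 := classInner_reg_eq hn hd hχ
    rw [hall3 χ ((hTmem χ).2 hχ), ← secNorm_one χ] at h1
    have h2 := hsec χ
    have h3 : secNorm 2 (1 : G) χ = 3 / 4 := by
      have : (4 : ℂ) ≠ 0 := by norm_num
      field_simp
      rw [mul_comm]
      exact_mod_cast h1
    rw [h3] at h2
    linear_combination h2

end Cfsg.Agent.Helper74.KL
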