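import Mathlib
import Cfsg.Prelude.Def_Solvable

set_option autoImplicit false

namespace Cfsg.Agent.Helper74

open Cfsg

section cores

variable {G : Type*} [Group G]

theorem card_sup_coprime [Finite G] {p : ℕ} (H K : Subgroup G) [K.Normal]
    (hH : (Nat.card H).Coprime p) (hK : (Nat.card K).Coprime p) :
    (Nat.card ↥(H ⊔ K)).Coprime p := by
  have h1 : Nat.card ↥(H ⊔ K) = Nat.card K * K.relIndex (H ⊔ K) := by
    rw [← Subgroup.relIndex_bot_left, ← Subgroup.relIndex_bot_left,
      Subgroup.relIndex_mul_relIndex ⊥ K (H ⊔ K) bot_le le_sup_right]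
  rw [h1, Subgroup.relIndex_sup_right]
  exact Nat.Coprime.mul_left hK (Nat.Coprime.coprime_dvd_left (Subgroup.relIndex_dvd_card K H) hH)

instance pPrimeCore_characteristic (p : ℕ) : (pPrimeCore p G).Characteristic := by
  rw [Subgroup.characteristic_iff_map_le]
  intro φ
  rw [Subgroup.map_le_iff_le_comap]
  apply sSup_le
  rintro N ⟨hN, hcop⟩
  rw [← Subgroup.map_le_iff_le_comap]
  apply le_sSup
  refine ⟨hN.map _ φ.surjective, ?_⟩
  rw [← Nat.card_congr (N.equivMapOfInjective φ.toMonoidHom φ.injective).toEquiv]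
  exact hcop

theorem pPrimeCore_coprime [Finite G] (p : ℕ) : (Nat.card (pPrimeCore p G)).Coprime p := by
  set X : Set (Subgroup G) := {N : Subgroup G | N.Normal ∧ (Nat.card N).Coprime p} with hX
  have hfin : X.Finite := Set.toFinite X
  have hne : X.Nonempty := ⟨⊥, inferInstance, by simp⟩
  obtain ⟨M, hM, hmax⟩ := Set.exists_max_image X (fun N => Nat.card N) hfin hne
  have hle : ∀ K ∈ X, K ≤ M := by
    intro K hK
    have := hM.1
    have hKM : K ⊔ M ∈ X := ⟨by have := hK.1; infer_instance, card_sup_coprime K M hK.2 hM.2⟩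
    have h1 := hmax _ hKM
    have h2 : M = K ⊔ M := Subgroup.eq_of_le_of_card_ge le_sup_right h1
    rw [h2]; exact le_sup_left
  have heq : pPrimeCore p G = M := le_antisymm (sSup_le hle) (le_sSup hM)
  rw [heq]; exact hM.2

theorem le_pPrimeCore {p : ℕ} {N : Subgroup G} (hN : N.Normal) (h : (Nat.card N).Coprime p) :
    N ≤ pPrimeCore p G :=
  le_sSup ⟨hN, h⟩

/-- The `p'`-core of a normal subgroup lies in the `p'`-core of the group. -/
theorem pPrimeCore_map_le [Finite G] (p : ℕ) (N : Subgroup G) [N.Normal] :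
    (pPrimeCore p N).map N.subtype ≤ pPrimeCore p G := by
  apply le_pPrimeCore
  · exact ConjAct.normal_of_characteristic_of_normal
  · rw [← Nat.card_congr ((pPrimeCore p N).equivMapOfInjective N.subtype N.subtype_injective).toEquiv]
    exact pPrimeCore_coprime p

end cores

end Cfsg.Agent.Helper74
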