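import Mathlib
import Cfsg.Agent.Lib.Helper74.M11Defs
import Cfsg.Agent.Lib.Helper7.M11LAMain
import Cfsg.Agent.Lib.Helper17.M11Q1
import Cfsg.Agent.Lib.Helper17.M11Q3
import Cfsg.Agent.Lib.Helper42.M11Q2
import Cfsg.Agent.Lib.Helper37.M11Q4
import Cfsg.Agent.Lib.Helper37.M11Q5
import Cfsg.Agent.Lib.Helper50.M11Q6

/-!
# Simple groups of order 7920: the normaliser of a Sylow 3-subgroup has order 144 (S0434)

Assembly of the pieces Q1..Q6 of the lemma server "M11" (helper74) on top of helper7's local analysis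
(`Cfsg.Agent.Helper7.M11LA`: Sylow 11 / Sylow 5 facts, involution centralisers of order 48).
-/

set_option autoImplicit false

namespace Cfsg.Agent.Helper74.M11

open Cfsg.Agent.Helper17.M11 (card_normalizer_three_mem exists_inf_three)
open Cfsg.Agent.Helper42.M11 (three_local)
open Cfsg.Agent.Helper37.M11 (card_centralizer_inf false_of_36)
open Cfsg.Agent.Helper50.M11 (false_of_72)
open Cfsg.Agent.Helper7.M11LA

variable {G : Type*} [Group G] [Finite G]

/-- the centraliser of an element equals the centraliser of the cyclic group it generates -/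
theorem cen_eq_cenS_zpowers (x : G) : Cen x = CenS (Subgroup.zpowers x) := by
  ext g
  simp only [Cen, CenS, Subgroup.mem_centralizer_iff, Set.mem_singleton_iff, forall_eq,
    SetLike.mem_coe]
  constructor
  · intro h y hy
    obtain ⟨k, rfl⟩ := Subgroup.mem_zpowers_iff.1 hy
    exact ((Commute.zpow_left (show Commute x g from h) k)).eq
  · intro h
    exact h x (Subgroup.mem_zpowers x)

/-- an element of order 11 generates a Sylow 11-subgroup -/
theorem exists_sylow_eq_zpowers (hc : Nat.card G = 7920) (p : ℕ) [Fact p.Prime] (x : G)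
    (hx : orderOf x = p) (hp : ∀ P : Sylow p G, Nat.card (P : Subgroup G) = p) :
    ∃ P : Sylow p G, (P : Subgroup G) = Subgroup.zpowers x := by
  have hpg : IsPGroup p (Subgroup.zpowers x) := by
    apply IsPGroup.of_card (n := 1)
    rw [Nat.card_zpowers, hx, pow_one]
  obtain ⟨P, hP⟩ := hpg.exists_le_sylow
  refine ⟨P, ?_⟩
  symm
  apply Subgroup.eq_of_le_of_card_ge hP
  rw [hp P, Nat.card_zpowers, hx]

/-- elements of order 11 are self-centralising -/
theorem h11_of_facts (F : Facts G) (x : G) (hx : orderOf x = 11) : Nat.card (Cen x) = 11 := by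
  haveI : Fact (Nat.Prime 11) := ⟨by norm_num⟩
  obtain ⟨Q, hQ⟩ := exists_sylow_eq_zpowers F.card 11 x hx (fun P => card_sylow11 F.card P)
  rw [cen_eq_cenS_zpowers, ← hQ]
  exact F.cq Q

/-- elements of order 5 are self-centralising -/
theorem h5c_of_facts (F : Facts G) (y : G) (hy : orderOf y = 5) : Nat.card (Cen y) = 5 := by
  haveI : Fact (Nat.Prime 5) := ⟨by norm_num⟩
  haveI : Fact (Nat.Prime 2) := ⟨by norm_num⟩
  obtain ⟨P, hP⟩ := exists_sylow_eq_zpowers F.card 5 y hy (fun P => card_sylow5 F.card P)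
  have hle : Cen y ≤ NorS (P : Subgroup G) := by
    rw [cen_eq_cenS_zpowers, ← hP]
    exact Subgroup.centralizer_le_normalizer _
  have hdvd : Nat.card (Cen y) ∣ 20 := by
    rw [← F.np P]
    exact Subgroup.card_dvd_of_le hle
  have hyC : y ∈ Cen y := by
    simp [Cen, Subgroup.mem_centralizer_iff]
  have h5 : 5 ∣ Nat.card (Cen y) := by
    have := orderOf_dvd_natCard (⟨y, hyC⟩ : Cen y)
    rwa [Subgroup.orderOf_mk, hy] at this
  by_contra hne
  have h2 : 2 ∣ Nat.card (Cen y) := by
    obtain ⟨k, hk⟩ := h5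
    have hk20 : k ∣ 4 := by
      rw [hk] at hdvd
      exact (Nat.mul_dvd_mul_iff_left (by norm_num : 0 < 5)).1 (by simpa using hdvd)
    have hk4 : k ≤ 4 := Nat.le_of_dvd (by norm_num) hk20
    interval_cases k
    · simp at hk20
    · exact absurd hk hne
    · rw [hk]; norm_num
    · norm_num at hk20
    · rw [hk]; norm_num
  obtain ⟨⟨z, hzC⟩, hz⟩ := exists_prime_orderOf_dvd_card' (G := Cen y) 2 h2
  rw [Subgroup.orderOf_mk] at hz
  have hzy : Commute z y := by
    have := (Subgroup.mem_centralizer_iff.1 hzC) y rfl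
    exact this.symm
  exact caseII F z y hz hy hzy

/-- every involution is a square -/
theorem hsq_of_facts [IsSimpleGroup G] (hc : Nat.card G = 7920) (t : G) (ht : orderOf t = 2) :
    ∃ v : G, v ^ 2 = t := by
  have F := facts (G := G) hc
  haveI : Fact (Nat.Prime 5) := ⟨by norm_num⟩
  have hI : ∀ z y : G, orderOf z = 2 → orderOf y = 5 → ¬ Commute z y :=
    fun z y hz hy h => caseII F z y hz hy h
  obtain ⟨P₀⟩ : Nonempty (Sylow 5 G) := inferInstance
  obtain ⟨f, hfN, hf4, hinv5, hs⟩ := caseI_np _ (card_sylow5 hc P₀) (F.np P₀) hI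
  have ht0 : orderOf (f ^ 2) = 2 := by
    rw [orderOf_pow' f (by norm_num), hf4]
    norm_num
  have h48 := card_centralizer_involution hc (f ^ 2) ht0
  have hcls := cls_mul_card_centralizer (f ^ 2)
  rw [h48, hc] at hcls
  have hi : inv (⊤ : Subgroup G) ≤ 165 := by
    have := inv_bound F P₀
    rw [hinv5] at this
    omega
  have hle := cls_le_inv (f ^ 2) ht0
  have heq : cls (f ^ 2) = inv (⊤ : Subgroup G) := by omega
  have hconj := isConj_of_cls_eq_inv (f ^ 2) ht0 heq t ht
  obtain ⟨c, hcj⟩ := isConj_iff.1 hconj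
  refine ⟨c * f * c⁻¹, ?_⟩
  rw [← hcj, pow_two, pow_two]
  group

/-- a Sylow 3-subgroup of a group of order 7920 has order 9 -/
theorem card_sylow_three (hc : Nat.card G = 7920) (P : Sylow 3 G) :
    Nat.card (P : Subgroup G) = 9 := by
  haveI : Fact (Nat.Prime 3) := ⟨by norm_num⟩
  obtain ⟨k, hk⟩ := (IsPGroup.iff_card (p := 3) (G := (P : Subgroup G))).1 P.isPGroup'
  have hdvd : Nat.card (P : Subgroup G) ∣ Nat.card G := Subgroup.card_subgroup_dvd_card _
  have hmul := (P : Subgroup G).card_mul_index
  have hnd : ¬ 3 ∣ (P : Subgroup G).index := P.not_dvd_index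
  rw [hc] at hmul hdvd
  rw [hk] at hmul hdvd ⊢
  have hk4 : k < 4 := by
    by_contra h
    push_neg at h
    have : 3 ^ 4 ∣ 3 ^ k := pow_dvd_pow 3 h
    have h2 : (3 : ℕ) ^ 4 ∣ 7920 := dvd_trans this hdvd
    norm_num at h2
  interval_cases k
  · exfalso; apply hnd; norm_num at hmul; omega
  · exfalso; apply hnd; norm_num at hmul; omega
  · rfl
  · exfalso; norm_num at hdvd

/-- the normaliser of a Sylow 3-subgroup has order 144 -/
theorem main144 (hs : IsSimpleGroup G) (hc : Nat.card G = 7920) (P : Sylow 3 G) :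
    Nat.card (NorS (P : Subgroup G)) = 144 := by
  haveI := hs
  have F := facts (G := G) hc
  have h11 : ∀ x : G, orderOf x = 11 → Nat.card (Cen x) = 11 := fun x hx => h11_of_facts F x hx
  have h5c : ∀ y : G, orderOf y = 5 → Nat.card (Cen y) = 5 := fun y hy => h5c_of_facts F y hy
  have h48 : ∀ t : G, orderOf t = 2 → Nat.card (Cen t) = 48 :=
    fun t ht => card_centralizer_involution hc t ht
  have hsq : ∀ t : G, orderOf t = 2 → ∃ v : G, v ^ 2 = t := fun t ht => hsq_of_facts hc t ht
  rcases card_normalizer_three_mem hs hc h11 h5c P with h | h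
  · exact h
  · exfalso
    obtain ⟨hCP, w, hw, hwP⟩ := three_local hs hc h48 P h
    obtain ⟨Q, hD⟩ := exists_inf_three hc P h
    obtain ⟨hcase, hND⟩ := card_centralizer_inf hc h11 h5c P Q h w hw hwP hD
    have hP9 := card_sylow_three hc P
    have hQ9 := card_sylow_three hc Q
    haveI : Fact (Nat.Prime 3) := ⟨by norm_num⟩
    -- abelian Sylow 3-subgroups
    have hPab : ∀ a ∈ (P : Subgroup G), ∀ b ∈ (P : Subgroup G), a * b = b * a := by
      intro a ha b hb
      have hcomm := IsPGroup.commutative_of_card_eq_prime_sq (p := 3) (G := (P : Subgroup G))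
        (by rw [hP9]; norm_num)
      have := hcomm ⟨a, ha⟩ ⟨b, hb⟩
      exact congrArg Subtype.val this
    have hQab : ∀ a ∈ (Q : Subgroup G), ∀ b ∈ (Q : Subgroup G), a * b = b * a := by
      intro a ha b hb
      have hcomm := IsPGroup.commutative_of_card_eq_prime_sq (p := 3) (G := (Q : Subgroup G))
        (by rw [hQ9]; norm_num)
      have := hcomm ⟨a, ha⟩ ⟨b, hb⟩
      exact congrArg Subtype.val this
    have hPC : (P : Subgroup G) ≤ CenS ((P : Subgroup G) ⊓ (Q : Subgroup G)) := by
      intro a ha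
      rw [Subgroup.mem_centralizer_iff]
      intro d hd
      exact hPab d hd.1 a ha
    have hQC : (Q : Subgroup G) ≤ CenS ((P : Subgroup G) ⊓ (Q : Subgroup G)) := by
      intro a ha
      rw [Subgroup.mem_centralizer_iff]
      intro d hd
      exact hQab d hd.2 a ha
    have hPQ : (P : Subgroup G) ≠ (Q : Subgroup G) := by
      intro hPQ
      rw [← hPQ, inf_idem, hP9] at hD
      norm_num at hD
    have hw2 : w * w = 1 := by
      have := pow_orderOf_eq_one w
      rw [hw, pow_two] at this
      exact this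
    have hwinv : w⁻¹ = w := inv_eq_of_mul_eq_one_left hw2
    have hwD : w ∈ NorS ((P : Subgroup G) ⊓ (Q : Subgroup G)) := by
      rw [Subgroup.mem_normalizer_iff]
      intro d
      constructor
      · intro hd
        rw [hwP d hd.1]
        exact inv_mem hd
      · intro hd
        have h1 : w * (w * d * w⁻¹) * w⁻¹ = (w * d * w⁻¹)⁻¹ := hwP _ hd.1
        have h2 : w * (w * d * w⁻¹) * w⁻¹ = d := by
          rw [hwinv]
          calc w * (w * d * w) * w = (w * w) * d * (w * w) := by group
            _ = d := by rw [hw2]; group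
        rw [h2] at h1
        rw [h1]
        exact inv_mem hd
    have hwC : w ∉ CenS ((P : Subgroup G) ⊓ (Q : Subgroup G)) := by
      intro hwC
      rw [Subgroup.mem_centralizer_iff] at hwC
      -- a nontrivial element of D
      have hnt : Nontrivial ((P : Subgroup G) ⊓ (Q : Subgroup G) : Subgroup G) := by
        rw [← Finite.one_lt_card_iff_nontrivial, hD]
        norm_num
      obtain ⟨⟨d, hd⟩, hd1⟩ := exists_ne (1 : ((P : Subgroup G) ⊓ (Q : Subgroup G) : Subgroup G))
      have h1 : d * w = w * d := hwC d hd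
      have h2 : w * d * w⁻¹ = d⁻¹ := hwP d hd.1
      have h3 : d = d⁻¹ := by
        rw [← h2, ← h1]
        group
      have h4 : d ^ 2 = 1 := by
        rw [pow_two]
        nth_rewrite 2 [h3]
        exact mul_inv_cancel d
      have h5 : d ^ 3 = 1 := by
        have h6 : (⟨d, hd⟩ : ((P : Subgroup G) ⊓ (Q : Subgroup G) : Subgroup G)) ^ 3 = 1 := by
          have := pow_card_eq_one' (G := ((P : Subgroup G) ⊓ (Q : Subgroup G) : Subgroup G))
            (x := ⟨d, hd⟩)
          rw [hD] at this
          exact this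
        exact congrArg Subtype.val h6
      have h7 : d = 1 := by
        calc d = d ^ 3 * (d ^ 2)⁻¹ := by group
          _ = 1 := by rw [h5, h4]; simp
      exact hd1 (Subtype.ext h7)
    rcases hcase with h36 | ⟨h72, hle⟩
    · exact false_of_36 h48 _ (P : Subgroup G) (Q : Subgroup G) hD h36 hP9 hQ9 hPQ hPC hQC
        w hw hwD hwC
    · exact false_of_72 h48 hsq P hP9 _ hD inf_le_left h hCP hle h72 (by rw [hND, h72])

end Cfsg.Agent.Helper74.M11
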