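import Cfsg.Agent.Lib.Helper74.FSCount

set_option autoImplicit false

namespace Cfsg.Agent.Helper74.FS

open Cfsg
open scoped ComplexConjugate

universe u

variable {G : Type u} [Group G] [Fintype G]

theorem charDegree_trivial : charDegree (Cfsg.Agent.Helper80.trivialIrr G : G → ℂ) = 1 := by
  simp [charDegree, Cfsg.Agent.Helper80.trivialIrr_apply]

theorem isRealChar_trivial : IsRealChar (Cfsg.Agent.Helper80.trivialIrr G) := by
  intro g; simp [Cfsg.Agent.Helper80.trivialIrr_apply]

/-- Sum of squares of degrees. -/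
theorem sum_sq_degree [Fintype (IrrCharacter G)] :
    ∑ χ : IrrCharacter G, (charDegree (χ : G → ℂ) : ℚ) ^ 2 = (Nat.card G : ℚ) := by
  have hfin : Finite G := Finite.of_fintype G
  have h := Cfsg.Agent.Helper80.irr_second_orthogonality (G := G) 1 1
  rw [if_pos (IsConj.refl 1), finsum_eq_sum_of_fintype] at h
  have hc : Subgroup.centralizer ({1} : Set G) = ⊤ := by
    ext x
    simp [Subgroup.mem_centralizer_iff]
  rw [hc, Subgroup.card_top] at h
  have h2 : ∀ χ : IrrCharacter G, (χ : G → ℂ) 1 * conj ((χ : G → ℂ) 1) =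
      (((charDegree (χ : G → ℂ) : ℚ) ^ 2 : ℚ) : ℂ) := by
    intro χ
    rw [Cfsg.Agent.Helper80.irr_one]
    simp [pow_two]
  simp only [h2] at h
  rw [← Rat.cast_sum] at h
  have h3 : ((Nat.card G : ℚ) : ℂ) = (Nat.card G : ℂ) := by simp
  rw [← h3] at h
  exact_mod_cast h

/-- The involution count as a signed sum of degrees over nontrivial characters. -/
theorem card_involutions_eq [Fintype (IrrCharacter G)] [DecidableEq (IrrCharacter G)] :
    (Nat.card {x : G // orderOf x = 2} : ℤ) =
      ∑ χ ∈ Finset.univ.erase (Cfsg.Agent.Helper80.trivialIrr G),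
        sgn χ * (charDegree (χ : G → ℂ) : ℤ) := by
  have h1 := card_sq_eq_one (G := G)
  rw [card_sq_eq_one_eq] at h1
  rw [← Finset.add_sum_erase Finset.univ _ (Finset.mem_univ (Cfsg.Agent.Helper80.trivialIrr G)),
    sgn_trivial, charDegree_trivial] at h1
  push_cast at h1
  linarith

open Classical in
/-- The nontrivial real-valued irreducible characters. -/
noncomputable def realSet (G : Type u) [Group G] [Fintype G] [Fintype (IrrCharacter G)] :
    Finset (IrrCharacter G) :=
  (Finset.univ.erase (Cfsg.Agent.Helper80.trivialIrr G)).filter IsRealChar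

theorem card_involutions_le [Fintype (IrrCharacter G)] :
    (Nat.card {x : G // orderOf x = 2} : ℚ) ≤
      ∑ χ ∈ realSet G, (charDegree (χ : G → ℂ) : ℚ) := by
  classical
  have h1 := card_involutions_eq (G := G)
  have h2 : ∑ χ ∈ Finset.univ.erase (Cfsg.Agent.Helper80.trivialIrr G),
      sgn χ * (charDegree (χ : G → ℂ) : ℤ) ≤
      ∑ χ ∈ Finset.univ.erase (Cfsg.Agent.Helper80.trivialIrr G),
        (if IsRealChar χ then (charDegree (χ : G → ℂ) : ℤ) else 0) := by
    apply Finset.sum_le_sum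
    intro χ _
    split_ifs with hr
    · have := sgn_le_one χ
      have hd : (0 : ℤ) ≤ (charDegree (χ : G → ℂ) : ℤ) := Int.natCast_nonneg _
      nlinarith
    · rw [sgn_eq_zero_of_not_real χ hr, zero_mul]
  rw [← Finset.sum_filter] at h2
  have h3 : (Nat.card {x : G // orderOf x = 2} : ℤ) ≤
      ∑ χ ∈ realSet G, (charDegree (χ : G → ℂ) : ℤ) := by
    rw [h1]; exact h2
  exact_mod_cast h3

theorem sum_sq_realSet_le [Fintype (IrrCharacter G)] :
    ∑ χ ∈ realSet G, (charDegree (χ : G → ℂ) : ℚ) ^ 2 ≤ (Nat.card G : ℚ) - 1 := by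
  classical
  have h1 := sum_sq_degree (G := G)
  rw [← Finset.add_sum_erase Finset.univ _ (Finset.mem_univ (Cfsg.Agent.Helper80.trivialIrr G)),
    charDegree_trivial] at h1
  have h2 : ∑ χ ∈ realSet G, (charDegree (χ : G → ℂ) : ℚ) ^ 2 ≤
      ∑ χ ∈ Finset.univ.erase (Cfsg.Agent.Helper80.trivialIrr G),
        (charDegree (χ : G → ℂ) : ℚ) ^ 2 := by
    apply Finset.sum_le_sum_of_subset_of_nonneg (Finset.filter_subset _ _)
    intro χ _ _
    positivity
  push_cast at h1
  linarith

theorem card_realSet_le [Fintype (IrrCharacter G)] :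
    ((realSet G).card : ℚ) ≤ (Nat.card (ConjClasses G) : ℚ) - 1 := by
  classical
  have hfin : Finite G := Finite.of_fintype G
  have h1 : (realSet G).card ≤ (Finset.univ.erase (Cfsg.Agent.Helper80.trivialIrr G)).card :=
    Finset.card_le_card (Finset.filter_subset _ _)
  rw [Finset.card_erase_of_mem (Finset.mem_univ _), Finset.card_univ,
    ← Nat.card_eq_fintype_card, Cfsg.Agent.Helper80.card_irr] at h1
  have hpos : 0 < Nat.card (ConjClasses G) := Nat.card_pos
  have : ((realSet G).card : ℚ) ≤ ((Nat.card (ConjClasses G) - 1 : ℕ) : ℚ) := by exact_mod_cast h1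
  rw [Nat.cast_sub hpos] at this
  simpa using this

theorem exists_real_small_degree [Fintype (IrrCharacter G)] (t : ℕ)
    (ht : Nat.card {x : G // orderOf x = 2} = t) (htpos : 0 < t) :
    ∃ χ ∈ realSet G, (charDegree (χ : G → ℂ) : ℚ) ≤ ((Nat.card G : ℚ) - 1) / t := by
  classical
  have hfin : Finite G := Finite.of_fintype G
  by_contra hcon
  push Not at hcon
  have htq : (0 : ℚ) < t := by exact_mod_cast htpos
  have hg1 : (1 : ℚ) ≤ Nat.card G := by exact_mod_cast Nat.card_pos
  set α : ℚ := ((Nat.card G : ℚ) - 1) / t with hα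
  have hα0 : 0 ≤ α := div_nonneg (by linarith) htq.le
  have hαt : α * t = (Nat.card G : ℚ) - 1 := by rw [hα]; field_simp
  have h1 := card_involutions_le (G := G)
  rw [ht] at h1
  have hne : (realSet G).Nonempty := by
    by_contra hemp
    rw [Finset.not_nonempty_iff_eq_empty] at hemp
    rw [hemp, Finset.sum_empty] at h1
    linarith
  have h2 : ∑ χ ∈ realSet G, α * (charDegree (χ : G → ℂ) : ℚ) <
      ∑ χ ∈ realSet G, (charDegree (χ : G → ℂ) : ℚ) ^ 2 := by
    apply Finset.sum_lt_sum_of_nonempty hne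
    intro χ hχ
    have hd := hcon χ hχ
    have hdpos : (0 : ℚ) < charDegree (χ : G → ℂ) := lt_of_le_of_lt hα0 hd
    nlinarith
  rw [← Finset.mul_sum] at h2
  have h3 := sum_sq_realSet_le (G := G)
  have h4 : α * t ≤ α * ∑ χ ∈ realSet G, (charDegree (χ : G → ℂ) : ℚ) :=
    mul_le_mul_of_nonneg_left h1 hα0
  linarith

theorem sum_card_centralizer_rat :
    ∑ x : G, (Nat.card (Subgroup.centralizer ({x} : Set G)) : ℚ) =
      (Nat.card (ConjClasses G) : ℚ) * (Nat.card G : ℚ) := by
  classical
  have hfin : Finite G := Finite.of_fintype G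
  have h : ∑ g : G, Nat.card (Subgroup.centralizer ({g} : Set G)) =
      Nat.card (ConjClasses G) * Nat.card G := by
    rw [← card_comm_eq_card_conjClasses_mul_card]
    rw [Nat.card_congr (Equiv.subtypeProdEquivSigmaSubtype (fun a b : G => Commute a b))]
    rw [Nat.card_sigma]
    apply Finset.sum_congr rfl
    intro g _
    apply Nat.card_congr
    apply Equiv.subtypeEquivRight
    intro x
    rw [Subgroup.mem_centralizer_singleton_iff]
    exact ⟨fun h => h.symm, fun h => h.symm⟩
  exact_mod_cast h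

theorem exists_small_class [Fintype (IrrCharacter G)] (t : ℕ)
    (ht : Nat.card {x : G // orderOf x = 2} = t) (htpos : 0 < t) (hG : 2 ≤ Nat.card G) :
    ∃ x : G, x ≠ 1 ∧ ((Subgroup.centralizer ({x} : Set G)).index : ℚ) ≤
      (((Nat.card G : ℚ) - 1) / t) ^ 2 := by
  classical
  have hfin : Finite G := Finite.of_fintype G
  by_contra hcon
  push Not at hcon
  have htq : (0 : ℚ) < t := by exact_mod_cast htpos
  have hg2 : (2 : ℚ) ≤ Nat.card G := by exact_mod_cast hG
  set g : ℚ := (Nat.card G : ℚ) with hg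
  set k : ℚ := (Nat.card (ConjClasses G) : ℚ) with hk
  set α : ℚ := (g - 1) / t with hα
  have hαpos : 0 < α := div_pos (by linarith) htq
  have hα2 : 0 < α ^ 2 := by positivity
  -- centralizer bound
  have hcent : ∀ x : G, x ≠ 1 →
      (Nat.card (Subgroup.centralizer ({x} : Set G)) : ℚ) * α ^ 2 < g := by
    intro x hx
    have h1 := hcon x hx
    have h2 : (Nat.card (Subgroup.centralizer ({x} : Set G)) : ℚ) *
        ((Subgroup.centralizer ({x} : Set G)).index : ℚ) = g := by
      rw [hg]; exact_mod_cast Subgroup.card_mul_index (Subgroup.centralizer ({x} : Set G))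
    have hcpos : (0 : ℚ) < Nat.card (Subgroup.centralizer ({x} : Set G)) := by
      exact_mod_cast Nat.card_pos
    nlinarith
  have hsum := sum_card_centralizer_rat (G := G)
  rw [← Finset.add_sum_erase Finset.univ _ (Finset.mem_univ (1 : G))] at hsum
  have hc1 : (Nat.card (Subgroup.centralizer ({1} : Set G)) : ℚ) = g := by
    have hc : Subgroup.centralizer ({1} : Set G) = ⊤ := by
      ext x
      simp [Subgroup.mem_centralizer_iff]
    rw [hc, Subgroup.card_top]
  rw [hc1] at hsum
  have hne : (Finset.univ.erase (1 : G)).Nonempty := by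
    rw [← Finset.card_pos, Finset.card_erase_of_mem (Finset.mem_univ _), Finset.card_univ,
      ← Nat.card_eq_fintype_card]
    omega
  have hcardE : ((Finset.univ.erase (1 : G)).card : ℚ) = g - 1 := by
    rw [Finset.card_erase_of_mem (Finset.mem_univ _), Finset.card_univ,
      ← Nat.card_eq_fintype_card, Nat.cast_sub (by omega)]
    simp [hg]
  have hlt : (∑ x ∈ Finset.univ.erase (1 : G),
      (Nat.card (Subgroup.centralizer ({x} : Set G)) : ℚ)) * α ^ 2 < (g - 1) * g := by
    rw [Finset.sum_mul, ← hcardE, ← nsmul_eq_mul, ← Finset.sum_const]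
    apply Finset.sum_lt_sum_of_nonempty hne
    intro x hx
    exact hcent x (Finset.ne_of_mem_erase hx)
  -- so (k - 1) * g * α^2 < (g-1) * g
  have h5 : (k - 1) * α ^ 2 < g - 1 := by
    have h6 : (k - 1) * g * α ^ 2 < (g - 1) * g := by
      have : (k - 1) * g = ∑ x ∈ Finset.univ.erase (1 : G),
          (Nat.card (Subgroup.centralizer ({x} : Set G)) : ℚ) := by linarith
      rw [this]; exact hlt
    have hgpos : 0 < g := by linarith
    by_contra hge
    push Not at hge
    have := mul_le_mul_of_nonneg_right hge hgpos.le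
    nlinarith
  -- t^2 ≤ (k-1)(g-1)
  have h1 := card_involutions_le (G := G)
  rw [ht] at h1
  have h2 := sum_sq_realSet_le (G := G)
  have h3 := card_realSet_le (G := G)
  have hcs : (∑ χ ∈ realSet G, (charDegree (χ : G → ℂ) : ℚ)) ^ 2 ≤
      ((realSet G).card : ℚ) * ∑ χ ∈ realSet G, (charDegree (χ : G → ℂ) : ℚ) ^ 2 :=
    sq_sum_le_card_mul_sum_sq
  have hsq : (t : ℚ) ^ 2 ≤ (∑ χ ∈ realSet G, (charDegree (χ : G → ℂ) : ℚ)) ^ 2 :=
    pow_le_pow_left₀ htq.le h1 2
  have hS0 : 0 ≤ ∑ χ ∈ realSet G, (charDegree (χ : G → ℂ) : ℚ) ^ 2 :=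
    Finset.sum_nonneg fun _ _ => by positivity
  have hR0 : (0 : ℚ) ≤ (realSet G).card := by positivity
  have h7 : (t : ℚ) ^ 2 ≤ (k - 1) * (g - 1) := by
    calc (t : ℚ) ^ 2 ≤ ((realSet G).card : ℚ) *
          ∑ χ ∈ realSet G, (charDegree (χ : G → ℂ) : ℚ) ^ 2 := hsq.trans hcs
      _ ≤ (k - 1) * (g - 1) := by
          apply mul_le_mul h3 h2 hS0
          linarith
  -- α^2 * t^2 = (g-1)^2
  have h8 : α ^ 2 * (t : ℚ) ^ 2 = (g - 1) ^ 2 := by
    rw [hα]; field_simp
  have hg1 : 0 < g - 1 := by linarith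
  have hk1 : 0 ≤ k - 1 := by linarith
  nlinarith [mul_le_mul_of_nonneg_left h7 hα2.le, mul_lt_mul_of_pos_right h5 hg1]

end Cfsg.Agent.Helper74.FS
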