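import Mathlib
import Cfsg.Prelude.Def_Blocks
import Cfsg.Agent.Lib.Helper74.BrauerFeit6
import Cfsg.Agent.Lib.Helper74.DefectZero
import Cfsg.Agent.Lib.Helper77.Principal
import Cfsg.Agent.Lib.Helper16.WBO

/-!
# Characters of degree prime to `p` and `q` (helper74)

If `p ∣ |G|`, `p ^ 3 ∤ |G|` and `q ≠ p` is a prime, then `G` has a nonprincipal irreducible
character of degree prime to `p` and `q`: in the principal `p`-block all heights are zero
(heights `h > 0` satisfy `h + 2 ≤ d`), and weak block orthogonality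
`1 + ∑_{1 ≠ χ ∈ B₀} χ(1) conj χ(y) = 0` at an element `y` of order `p` forbids that `q` divides all
the nonprincipal degrees.
-/

set_option autoImplicit false
set_option linter.unusedSectionVars false
set_option linter.style.haveILetI false

namespace Cfsg.Agent.Helper74.PrimeDeg

open Cfsg
open Cfsg.Agent.Helper77 Cfsg.Agent.Helper16 Cfsg.Agent.Helper74.DO Cfsg.Agent.Helper74.BF
open scoped ComplexConjugate

universe u

variable {G : Type u} [Group G] [Fintype G]

/-- In a principal block of defect at most two all degrees are prime to `p`. -/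
theorem not_dvd_degree_of_principal {p : ℕ} [hpf : Fact p.Prime] {M : Ideal AlgInt}
    (hM : IsPModular p M) (ha : (Nat.card G).factorization p ≤ 2) {χ : IrrCharacter G}
    (hχ : χ ∈ principalBlock M G) : ¬ p ∣ charDegree (χ : G → ℂ) := by
  classical
  haveI := isPrime_of_isPModular hM
  have hB := isPBlock_principalBlock (G := G) M
  obtain ⟨n, hn⟩ := exists_contrib hM hB
  have ht := trivIrr_mem_principalBlock (G := G) M
  have hdeg1 : charDegree ((trivIrr G : IrrCharacter G) : G → ℂ) = 1 := by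
    have h1 := (Cfsg.Agent.Helper79.irr_one_eq (trivIrr G)).1
    rw [trivIrr_apply] at h1
    exact_mod_cast h1.symm
  have hmv : minVal p (principalBlock M G) = 0 := by
    have := minVal_le (p := p) ht
    rw [hdeg1] at this
    simpa using this
  intro hdvd
  have hdeg0 : charDegree (χ : G → ℂ) ≠ 0 := (Cfsg.Agent.Helper79.irr_one_eq χ).2.ne'
  have hpos : 0 < (charDegree (χ : G → ℂ)).factorization p :=
    hpf.out.factorization_pos_of_dvd hdeg0 hdvd
  have h5 := hn.height_add_two_le hM hB hχ (by rw [hmv]; exact hpos)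
  rw [blockDefect_eq, hmv] at h5
  omega

/-- A nonprincipal character of degree prime to `p` and `q`. -/
theorem exists_nonprincipal_coprime (p q : ℕ) [hpf : Fact p.Prime] [hqf : Fact q.Prime]
    (hpq : p ≠ q) (hp : p ∣ Nat.card G) (ha : (Nat.card G).factorization p ≤ 2) :
    ∃ χ : IrrCharacter G, (χ : G → ℂ) ≠ (fun _ => 1) ∧ ¬ p ∣ charDegree (χ : G → ℂ) ∧
      ¬ q ∣ charDegree (χ : G → ℂ) := by
  classical
  obtain ⟨M, hM⟩ := Cfsg.Agent.Helper74.DZ.exists_isPModular p hpf.out
  obtain ⟨Mq, hMq⟩ := Cfsg.Agent.Helper74.DZ.exists_isPModular q hqf.out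
  haveI := isPrime_of_isPModular hM
  have hB := isPBlock_principalBlock (G := G) M
  have ht := trivIrr_mem_principalBlock (G := G) M
  by_contra hcon
  push Not at hcon
  obtain ⟨y, hy⟩ := exists_prime_orderOf_dvd_card' p hp
  have hwbo := weak_block_orthogonality hM hB (1 : G) y
    (by rw [orderOf_one]; exact hpf.out.not_dvd_one) (by rw [hy])
  set Bf := (Set.toFinite (principalBlock M G)).toFinset with hBf
  have hmem : ∀ ψ, ψ ∈ Bf ↔ ψ ∈ principalBlock M G := fun ψ => Set.Finite.mem_toFinset _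
  have htf : trivIrr G ∈ Bf := (hmem _).2 ht
  -- q divides the nonprincipal degrees
  have hq : ∀ χ ∈ Bf.erase (trivIrr G), q ∣ charDegree (χ : G → ℂ) := by
    intro χ hχ
    have hχB : χ ∈ principalBlock M G := (hmem χ).1 (Finset.mem_of_mem_erase hχ)
    have hne : χ ≠ trivIrr G := Finset.ne_of_mem_erase hχ
    have hne' : (χ : G → ℂ) ≠ fun _ => 1 := fun h => hne (Subtype.ext h)
    exact hcon χ hne' (not_dvd_degree_of_principal hM ha hχB)
  -- the algebraic integer
  let z : AlgInt := ∑ χ ∈ Bf.erase (trivIrr G),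
    ((charDegree (χ : G → ℂ) / q : ℕ) : AlgInt) *
      ⟨conj ((χ : G → ℂ) y), Cfsg.Agent.Helper3.isIntegral_conj
        (Cfsg.Agent.Helper79.irr_isIntegral χ y)⟩
  have hz : (1 : ℂ) + (q : ℂ) * (z : ℂ) = 0 := by
    rw [← hwbo, ← Finset.add_sum_erase Bf _ htf, trivIrr_apply, trivIrr_apply, map_one, mul_one]
    congr 1
    simp only [z]
    rw [show ((∑ χ ∈ Bf.erase (trivIrr G),
      ((charDegree (χ : G → ℂ) / q : ℕ) : AlgInt) *
        ⟨conj ((χ : G → ℂ) y), Cfsg.Agent.Helper3.isIntegral_conj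
          (Cfsg.Agent.Helper79.irr_isIntegral χ y)⟩ : AlgInt) : ℂ) =
        ∑ χ ∈ Bf.erase (trivIrr G), ((charDegree (χ : G → ℂ) / q : ℕ) : ℂ) *
          conj ((χ : G → ℂ) y) from by
      rw [← Subalgebra.coe_val, map_sum]
      refine Finset.sum_congr rfl fun χ _ => ?_
      simp]
    rw [Finset.mul_sum]
    refine Finset.sum_congr rfl fun χ hχ => ?_
    obtain ⟨k, hk⟩ := hq χ hχ
    rw [(Cfsg.Agent.Helper79.irr_one_eq χ).1, hk, Nat.mul_div_cancel_left k hqf.out.pos]
    push_cast
    ring
  have hz' : (1 : AlgInt) + (q : AlgInt) * z = 0 := by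
    apply Subtype.ext
    push_cast
    exact hz
  have h1 : (1 : AlgInt) ∈ Mq := by
    have h2 : (1 : AlgInt) = -((q : AlgInt) * z) := eq_neg_of_add_eq_zero_left hz'
    rw [h2]
    exact Mq.neg_mem (Mq.mul_mem_right _ hMq.2.2)
  exact one_notMem (ne_top_of_isPModular hMq) h1

end Cfsg.Agent.Helper74.PrimeDeg
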