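import Mathlib
import Cfsg.Agent.Lib.Helper25.N5400Defs

/-!
# Sub-server N5400 (helper25), piece (FIN) `false_of_two`

`N(P)` of order 150 permutes the two shared subgroups, so the stabilizer `N(P) ⊓ N(F)` of one of
them has index at most 2: `150 ≤ 2 * 50`, absurd.
-/

set_option autoImplicit false

namespace Cfsg.Agent.Helper74.N5400

open Cfsg MulAction Cfsg.Agent.Helper25.N5400

open scoped Pointwise

universe u

section NoSimple

variable {G : Type u} [Group G] [Finite G]

/-- conjugation by an element of `N(P)` preserves `Shared P` -/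
theorem h74_shared_conj (P : Sylow 5 G) (F : Subgroup G) (hF : Shared P F) (g : G)
    (hg : g ∈ Subgroup.normalizer ((P : Subgroup G) : Set G)) :
    Shared P (MulAut.conj g • F) := by
  obtain ⟨hFP, hF5, R, hRP, hFR⟩ := hF
  have hgP : g • P = P := Sylow.smul_eq_iff_mem_normalizer.2 hg
  refine ⟨?_, ?_, g • R, ?_, ?_⟩
  · have h1 : MulAut.conj g • F ≤ MulAut.conj g • (P : Subgroup G) :=
      Subgroup.pointwise_smul_le_pointwise_smul_iff.2 hFP
    have h2 : MulAut.conj g • (P : Subgroup G) = ((g • P : Sylow 5 G) : Subgroup G) := rfl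
    rw [h2, hgP] at h1
    exact h1
  · change Nat.card ↥(F.map (MulAut.conj g).toMonoidHom) = 5
    rw [Subgroup.card_map_of_injective (MulAut.conj g).injective]
    exact hF5
  · intro h
    apply hRP
    have h3 : g • R = g • P := by rw [h, hgP]
    exact smul_left_cancel g h3
  · have h1 : MulAut.conj g • F ≤ MulAut.conj g • (R : Subgroup G) :=
      Subgroup.pointwise_smul_le_pointwise_smul_iff.2 hFR
    exact h1

theorem false_of_two (P : Sylow 5 G)
    (hN : Nat.card ↥(Subgroup.normalizer ((P : Subgroup G) : Set G)) = 150)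
    (hl : Nat.card {F : Subgroup G // Shared P F} = 2)
    (h50 : ∀ F : Subgroup G, Shared P F →
      Nat.card ↥(Subgroup.normalizer ((P : Subgroup G) : Set G) ⊓ Subgroup.normalizer (F : Set G)) = 50) :
    False := by
  set N : Subgroup G := Subgroup.normalizer ((P : Subgroup G) : Set G) with hNdef
  have hfin : Finite {F : Subgroup G // Shared P F} :=
    Nat.finite_of_card_ne_zero (by rw [hl]; norm_num)
  obtain ⟨⟨F, hF⟩⟩ : Nonempty {F : Subgroup G // Shared P F} :=
    (Nat.card_pos_iff.1 (by rw [hl]; norm_num)).1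
  let act : MulAction ↥N (Subgroup G) :=
    MulAction.compHom (Subgroup G) ((MulAut.conj (G := G)).comp N.subtype)
  have hsmul : ∀ (g : ↥N) (K : Subgroup G), g • K = MulAut.conj (g : G) • K := fun _ _ => rfl
  -- the orbit of `F` consists of shared subgroups
  have horb : MulAction.orbit ↥N F ⊆ {K : Subgroup G | Shared P K} := by
    rintro K ⟨g, rfl⟩
    change Shared P (g • F)
    rw [hsmul]
    exact h74_shared_conj P F hF g g.2
  have hSfin : ({K : Subgroup G | Shared P K} : Set (Subgroup G)).Finite := Set.toFinite _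
  have hS2 : ({K : Subgroup G | Shared P K} : Set (Subgroup G)).ncard = 2 := by
    rw [← Nat.card_coe_set_eq]; exact hl
  have hle : (MulAction.orbit ↥N F).ncard ≤ 2 := by
    rw [← hS2]; exact Set.ncard_le_ncard horb hSfin
  -- the stabilizer
  have hstab : MulAction.stabilizer ↥N F = (Subgroup.normalizer (F : Set G)).subgroupOf N := by
    ext g
    rw [MulAction.mem_stabilizer_iff, Subgroup.mem_subgroupOf, hsmul,
      Subgroup.mem_normalizer_iff_map_conj_eq]
    rfl
  have hcs : Nat.card ↥(MulAction.stabilizer ↥N F) = 50 := by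
    rw [hstab, ← Subgroup.inf_subgroupOf_right,
      Nat.card_congr (Subgroup.subgroupOfEquivOfLe inf_le_right).toEquiv, inf_comm]
    exact h50 F hF
  have h1 := Subgroup.index_mul_card (MulAction.stabilizer ↥N F)
  rw [MulAction.index_stabilizer, hcs, hN] at h1
  omega

end NoSimple

end Cfsg.Agent.Helper74.N5400
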