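import Mathlib
import Cfsg.Agent.Lib.Helper93.RU0
import Cfsg.Agent.Lib.Helper35.RJ0
import Cfsg.Agent.Lib.Helper82.RUA

/-!
# RJ project (S2279), T-calculus block: (TA) `Tjk_add`, (TI) `Tjk_inv`, (TS) `Tjk_shift`, (HE) `hEl_eq`
(self-contained: own copy `h74_pair` of the pairing (PA), own `h74_piZ_zero`).
-/

set_option autoImplicit false

namespace Cfsg.Agent.Helper74.RJ

open Matrix Cfsg.Agent.Helper93.RU Cfsg.Agent.Helper35.RJ

variable {F : Type*} [Field F] {m : ℕ}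

theorem h74_eV_dot_mulVec (M : Matrix (Fin (m + 3)) (Fin (m + 3)) F) (i j : Fin (m + 3)) :
    (eV i : Fin (m + 3) → F) ⬝ᵥ (M *ᵥ eV j) = M i j := by
  unfold eV
  rw [Matrix.mulVec_single_one, single_one_dotProduct]
  rfl

theorem h74_zpow_mul_val (a b : ℤ) :
    ((uEl m F) ^ a).1 * ((uEl m F) ^ b).1 = ((uEl m F) ^ (a + b)).1 := by
  rw [← Matrix.SpecialLinearGroup.coe_mul, ← _root_.zpow_add]

/-- own copy of (PA) -/
theorem h74_pair (j k : ℤ) : phV m F j ⬝ᵥ aV m F k = piZ m F (k - j) := by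
  unfold phV aV piZ
  rw [← Matrix.dotProduct_mulVec, Matrix.mulVec_mulVec, h74_zpow_mul_val, h74_eV_dot_mulVec,
    show -j + k = k - j by ring]

theorem h74_smul_pair (j k : ℤ) (x : F) (hjk : piZ m F (j - k) = 0) :
    (x • phV m F k) ⬝ᵥ aV m F j = 0 := by
  rw [smul_dotProduct, h74_pair, hjk, smul_zero]

theorem h74_aV_zero : aV m F 0 = eV (lastI m) := by
  unfold aV
  rw [zpow_zero, Matrix.SpecialLinearGroup.coe_one, Matrix.one_mulVec]

theorem h74_phV_zero : phV m F 0 = eV 0 := by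
  unfold phV
  rw [neg_zero, zpow_zero, Matrix.SpecialLinearGroup.coe_one, Matrix.vecMul_one]

theorem h74_piZ_zero : piZ m F 0 = 0 := by
  unfold piZ
  rw [zpow_zero, Matrix.SpecialLinearGroup.coe_one, Matrix.one_apply_ne]
  intro h
  have := congrArg Fin.val h
  simp [lastI] at this

theorem h74_shift_aV (i j : ℤ) : ((uEl m F) ^ i).1 *ᵥ aV m F j = aV m F (j + i) := by
  unfold aV
  rw [Matrix.mulVec_mulVec, h74_zpow_mul_val, add_comm i j]

theorem h74_shift_phV (i k : ℤ) : phV m F k ᵥ* (((uEl m F) ^ i)⁻¹).1 = phV m F (k + i) := by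
  unfold phV
  rw [← _root_.zpow_neg, Matrix.vecMul_vecMul, h74_zpow_mul_val, neg_add k i]

/-- (TA) -/
theorem Tjk_add (j k : ℤ) (hjk : piZ m F (j - k) = 0) (x y : F) :
    Tjk (m := m) j k x * Tjk j k y = Tjk j k (x + y) := by
  unfold Tjk
  rw [Cfsg.Agent.Helper82.RU.tvS_mul _ _ _ (h74_smul_pair j k x hjk) (h74_smul_pair j k y hjk),
    add_smul]

/-- (TI) -/
theorem Tjk_inv (j k : ℤ) (hjk : piZ m F (j - k) = 0) (x : F) :
    (Tjk (m := m) j k x)⁻¹ = Tjk j k (-x) := by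
  unfold Tjk
  rw [Cfsg.Agent.Helper82.RU.tvS_inv _ _ (h74_smul_pair j k x hjk), neg_smul]

/-- (TS) -/
theorem Tjk_shift (i j k : ℤ) (hjk : piZ m F (j - k) = 0) (x : F) :
    (uEl m F) ^ i * Tjk j k x * ((uEl m F) ^ i)⁻¹ = Tjk (j + i) (k + i) x := by
  unfold Tjk
  rw [(Cfsg.Agent.Helper82.RU.tvS_conj ((uEl m F) ^ i) _ _ (h74_smul_pair j k x hjk)).2,
    h74_shift_aV, Matrix.smul_vecMul, h74_shift_phV]

/-- (HE) -/
theorem hEl_eq (lam : F) : hEl (m := m) lam = Tjk 0 0 lam := by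
  unfold hEl Tjk
  rw [h74_aV_zero, h74_phV_zero]

end Cfsg.Agent.Helper74.RJ
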