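import Mathlib

set_option autoImplicit false

namespace Cfsg.Agent.Helper74.FS

open Matrix
open scoped ComplexConjugate ComplexOrder

variable {G : Type*} [Group G] {n : ℕ} (ρ : Representation ℂ G (Fin n → ℂ))

/-- The matrix of `ρ g`. -/
noncomputable def mat (g : G) : Matrix (Fin n) (Fin n) ℂ := LinearMap.toMatrix' (ρ g)

theorem mat_one : mat ρ 1 = 1 := by simp [mat]

theorem mat_mul (x y : G) : mat ρ (x * y) = mat ρ x * mat ρ y := by
  simp only [mat, map_mul]
  exact LinearMap.toMatrix'_mul _ _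

theorem mat_mul_inv (g : G) : mat ρ g * mat ρ g⁻¹ = 1 := by
  rw [← mat_mul, mul_inv_cancel, mat_one]

theorem mat_inv_mul (g : G) : mat ρ g⁻¹ * mat ρ g = 1 := by
  rw [← mat_mul, inv_mul_cancel, mat_one]

theorem character_eq_trace (x : G) : ρ.character x = (mat ρ x).trace := by
  simp only [Representation.character, mat]
  rw [← Matrix.trace_toLin'_eq, Matrix.toLin'_toMatrix']

theorem toLin'_mat (x : G) : Matrix.toLin' (mat ρ x) = ρ x := by simp [mat]

/-- Character values at inverses are complex conjugates. -/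
theorem character_inv_eq_conj [Finite G] (g : G) :
    ρ.character g⁻¹ = conj (ρ.character g) := by
  classical
  have := Fintype.ofFinite G
  let H : Matrix (Fin n) (Fin n) ℂ := ∑ x : G, (mat ρ x)ᴴ * mat ρ x
  have hHpd : H.PosDef := by
    have : H = (mat ρ 1)ᴴ * mat ρ 1 + ∑ x ∈ Finset.univ.erase (1 : G), (mat ρ x)ᴴ * mat ρ x := by
      simp only [H]
      exact (Finset.add_sum_erase Finset.univ (fun x => (mat ρ x)ᴴ * mat ρ x)
        (Finset.mem_univ 1)).symm
    rw [this, mat_one]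
    simp only [conjTranspose_one, mul_one]
    apply Matrix.PosDef.add_posSemidef Matrix.PosDef.one
    apply Matrix.posSemidef_sum
    intro x _
    exact Matrix.posSemidef_conjTranspose_mul_self _
  have hinv : ∀ y : G, (mat ρ y)ᴴ * H * mat ρ y = H := by
    intro y
    simp only [H, Finset.mul_sum, Finset.sum_mul]
    refine Fintype.sum_equiv (Equiv.mulRight y) _ _ fun x => ?_
    simp only [Equiv.coe_mulRight, mat_mul, conjTranspose_mul]
    simp only [Matrix.mul_assoc]
  have hU : IsUnit H := hHpd.isUnit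
  have hdet : IsUnit H.det := (Matrix.isUnit_iff_isUnit_det _).1 hU
  have key : (mat ρ g)ᴴ = H * mat ρ g⁻¹ * H⁻¹ := by
    have h1 := hinv g
    have h2 : (mat ρ g)ᴴ * H = H * mat ρ g⁻¹ := by
      calc (mat ρ g)ᴴ * H = (mat ρ g)ᴴ * H * (mat ρ g * mat ρ g⁻¹) := by
            rw [mat_mul_inv, mul_one]
        _ = ((mat ρ g)ᴴ * H * mat ρ g) * mat ρ g⁻¹ := by simp only [Matrix.mul_assoc]
        _ = H * mat ρ g⁻¹ := by rw [h1]
    calc (mat ρ g)ᴴ = (mat ρ g)ᴴ * H * H⁻¹ := by
          rw [Matrix.mul_assoc, Matrix.mul_nonsing_inv _ hdet, mul_one]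
      _ = H * mat ρ g⁻¹ * H⁻¹ := by rw [h2]
  rw [character_eq_trace, character_eq_trace]
  have := congrArg Matrix.trace key
  rw [Matrix.trace_conjTranspose, Matrix.trace_mul_cycle, Matrix.nonsing_inv_mul _ hdet,
    one_mul] at this
  rw [← this]
  rfl

/-- `B` is an invariant bilinear form: `X(g)ᵀ B X(g) = B` for all `g`. -/
def IsInv (B : Matrix (Fin n) (Fin n) ℂ) : Prop := ∀ g : G, (mat ρ g)ᵀ * B * mat ρ g = B

variable {ρ}

theorem IsInv.transpose {B : Matrix (Fin n) (Fin n) ℂ} (h : IsInv ρ B) : IsInv ρ Bᵀ := by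
  intro g
  have := congrArg Matrix.transpose (h g)
  simpa [Matrix.transpose_mul, Matrix.mul_assoc] using this

theorem IsInv.smul {B : Matrix (Fin n) (Fin n) ℂ} (h : IsInv ρ B) (c : ℂ) : IsInv ρ (c • B) := by
  intro g
  rw [Matrix.mul_smul, Matrix.smul_mul, h g]

theorem IsInv.mul_mat {B : Matrix (Fin n) (Fin n) ℂ} (h : IsInv ρ B) (g : G) :
    B * mat ρ g = (mat ρ g⁻¹)ᵀ * B := by
  have h1 : (mat ρ g⁻¹)ᵀ * (mat ρ g)ᵀ = 1 := by
    rw [← Matrix.transpose_mul, mat_mul_inv, Matrix.transpose_one]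
  calc B * mat ρ g = ((mat ρ g⁻¹)ᵀ * (mat ρ g)ᵀ) * (B * mat ρ g) := by rw [h1, one_mul]
    _ = (mat ρ g⁻¹)ᵀ * ((mat ρ g)ᵀ * B * mat ρ g) := by simp only [Matrix.mul_assoc]
    _ = (mat ρ g⁻¹)ᵀ * B := by rw [h g]

variable (ρ)

/-- The averaging operator producing invariant forms. -/
noncomputable def avg [Fintype G] (A : Matrix (Fin n) (Fin n) ℂ) : Matrix (Fin n) (Fin n) ℂ :=
  ∑ u : G, (mat ρ u)ᵀ * A * mat ρ u

theorem isInv_avg [Fintype G] (A : Matrix (Fin n) (Fin n) ℂ) : IsInv ρ (avg ρ A) := by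
  intro g
  simp only [avg, Finset.mul_sum, Finset.sum_mul]
  refine Fintype.sum_equiv (Equiv.mulRight g) _ _ fun u => ?_
  simp only [Equiv.coe_mulRight, mat_mul, Matrix.transpose_mul]
  simp only [Matrix.mul_assoc]

theorem avg_single_apply [Fintype G] (i j k l : Fin n) :
    avg ρ (Matrix.single i j (1 : ℂ)) k l = ∑ u : G, mat ρ u i k * mat ρ u j l := by
  classical
  simp only [avg, Matrix.sum_apply]
  refine Finset.sum_congr rfl fun u _ => ?_
  rw [Matrix.mul_apply]
  have : ∀ b, ((mat ρ u)ᵀ * Matrix.single i j (1 : ℂ)) k b = if b = j then mat ρ u i k else 0 := by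
    intro b
    by_cases hb : b = j
    · subst hb
      simp [Matrix.mul_apply, Matrix.single_apply]
    · have hb' : ¬ j = b := fun h => hb h.symm
      simp [Matrix.mul_apply, hb, hb']
  simp only [this, ite_mul, zero_mul, Finset.sum_ite_eq', Finset.mem_univ, if_true]

theorem sum_char_mul_char [Fintype G] :
    ∑ g : G, ρ.character g * ρ.character g =
      ∑ i, ∑ j, avg ρ (Matrix.single i j (1 : ℂ)) i j := by
  simp only [avg_single_apply, character_eq_trace, Matrix.trace, Matrix.diag_apply,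
    Finset.sum_mul_sum]
  rw [Finset.sum_comm]
  refine Finset.sum_congr rfl fun i _ => ?_
  rw [Finset.sum_comm]

theorem sum_char_sq [Fintype G] :
    ∑ g : G, ρ.character (g * g) =
      ∑ i, ∑ j, avg ρ (Matrix.single i j (1 : ℂ)) j i := by
  simp only [avg_single_apply, character_eq_trace, mat_mul, Matrix.trace, Matrix.diag_apply,
    Matrix.mul_apply]
  rw [Finset.sum_comm]
  refine Finset.sum_congr rfl fun i _ => ?_
  rw [Finset.sum_comm]

variable {ρ}

/-- A nonzero invariant form on an irreducible representation is nondegenerate. -/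
theorem IsInv.isUnit_det (hirr : ρ.IsIrreducible) {B : Matrix (Fin n) (Fin n) ℂ}
    (h : IsInv ρ B) (hB : B ≠ 0) : IsUnit B.det := by
  let σ : Subrepresentation ρ :=
    { toSubmodule := LinearMap.ker (Matrix.toLin' B)
      apply_mem_toSubmodule := by
        intro g v hv
        rw [LinearMap.mem_ker] at hv ⊢
        rw [← toLin'_mat ρ g, ← LinearMap.comp_apply, ← Matrix.toLin'_mul, h.mul_mat g,
          Matrix.toLin'_mul, LinearMap.comp_apply, hv, map_zero] }
  rcases hirr.eq_bot_or_eq_top σ with hb | ht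
  · have h1 : LinearMap.ker (Matrix.toLin' B) = ⊥ := congrArg Subrepresentation.toSubmodule hb
    have hinj : Function.Injective (Matrix.toLin' B) := LinearMap.ker_eq_bot.mp h1
    have hunit : IsUnit B := by
      rw [← Matrix.mulVec_injective_iff_isUnit]
      exact hinj
    exact (Matrix.isUnit_iff_isUnit_det _).1 hunit
  · exfalso
    apply hB
    have h1 : LinearMap.ker (Matrix.toLin' B) = ⊤ := congrArg Subrepresentation.toSubmodule ht
    rw [LinearMap.ker_eq_top] at h1
    have := congrArg LinearMap.toMatrix' h1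
    simpa using this

/-- Schur's lemma in matrix form. -/
theorem schur (hirr : ρ.IsIrreducible) (C : Matrix (Fin n) (Fin n) ℂ)
    (hC : ∀ g : G, C * mat ρ g = mat ρ g * C) : ∃ c : ℂ, C = c • (1 : Matrix (Fin n) (Fin n) ℂ) := by
  have := hirr
  let f : Representation.IntertwiningMap ρ ρ :=
    { toLinearMap := Matrix.toLin' C
      isIntertwining' := by
        intro g
        rw [← toLin'_mat ρ g, ← Matrix.toLin'_mul, ← Matrix.toLin'_mul, hC g] }
  obtain ⟨c, hc⟩ :=
    (Representation.IsIrreducible.algebraMap_intertwiningMap_bijective_of_isAlgClosed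
      (ρ := ρ)).2 f
  refine ⟨c, ?_⟩
  have h1 : (c • (1 : Representation.IntertwiningMap ρ ρ)).toLinearMap = f.toLinearMap := by
    rw [← hc]; rfl
  have h2 : f.toLinearMap = Matrix.toLin' C := rfl
  rw [h2] at h1
  have h3 := congrArg LinearMap.toMatrix' h1
  rw [LinearMap.toMatrix'_toLin'] at h3
  rw [← h3]
  ext i j
  simp [Matrix.one_apply, LinearMap.toMatrix'_apply, Representation.IntertwiningMap.toLinearMap_smul]
  rw [Pi.single_apply]
  split_ifs <;> simp

/-- Invariant forms on an irreducible representation are unique up to scalars. -/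
theorem IsInv.eq_smul (hirr : ρ.IsIrreducible) {B₀ B : Matrix (Fin n) (Fin n) ℂ}
    (h0 : IsInv ρ B₀) (hB₀ : B₀ ≠ 0) (h : IsInv ρ B) : ∃ c : ℂ, B = c • B₀ := by
  have hdet := h0.isUnit_det hirr hB₀
  have key : ∀ g : G, mat ρ g * B₀⁻¹ = B₀⁻¹ * (mat ρ g⁻¹)ᵀ := by
    intro g
    calc mat ρ g * B₀⁻¹ = B₀⁻¹ * (B₀ * mat ρ g) * B₀⁻¹ := by
          rw [← Matrix.mul_assoc, Matrix.nonsing_inv_mul _ hdet, one_mul]
      _ = B₀⁻¹ * ((mat ρ g⁻¹)ᵀ * B₀) * B₀⁻¹ := by rw [h0.mul_mat]
      _ = B₀⁻¹ * (mat ρ g⁻¹)ᵀ := by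
          rw [Matrix.mul_assoc, Matrix.mul_assoc, Matrix.mul_nonsing_inv _ hdet, mul_one]
  obtain ⟨c, hc⟩ := schur hirr (B₀⁻¹ * B) (by
    intro g
    rw [Matrix.mul_assoc, h.mul_mat, ← Matrix.mul_assoc, ← key g, Matrix.mul_assoc])
  refine ⟨c, ?_⟩
  calc B = B₀ * (B₀⁻¹ * B) := by
        rw [← Matrix.mul_assoc, Matrix.mul_nonsing_inv _ hdet, one_mul]
    _ = c • B₀ := by rw [hc, Matrix.mul_smul, mul_one]

/-- A nonzero invariant form is symmetric or alternating. -/
theorem IsInv.exists_sign (hirr : ρ.IsIrreducible) {B₀ : Matrix (Fin n) (Fin n) ℂ}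
    (h0 : IsInv ρ B₀) (hB₀ : B₀ ≠ 0) : ∃ ε : ℂ, B₀ᵀ = ε • B₀ :=
  h0.eq_smul hirr hB₀ h0.transpose

variable (ρ)

theorem exists_isInv_ne_zero [Fintype G]
    (hsum : ∑ g : G, ρ.character g * ρ.character g ≠ 0) :
    ∃ B : Matrix (Fin n) (Fin n) ℂ, B ≠ 0 ∧ IsInv ρ B := by
  by_contra hcon
  push Not at hcon
  apply hsum
  rw [sum_char_mul_char]
  refine Finset.sum_eq_zero fun i _ => Finset.sum_eq_zero fun j _ => ?_
  have h0 : avg ρ (Matrix.single i j (1 : ℂ)) = 0 := by
    by_contra hne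
    exact hcon _ hne (isInv_avg ρ _)
  rw [h0]; rfl

variable {ρ}

/-- The Frobenius–Schur sum is the sign of the invariant form times the norm sum. -/
theorem sum_char_sq_eq [Fintype G] (hirr : ρ.IsIrreducible) {B₀ : Matrix (Fin n) (Fin n) ℂ}
    (h0 : IsInv ρ B₀) (hB₀ : B₀ ≠ 0) {ε : ℂ} (hε : B₀ᵀ = ε • B₀) :
    ∑ g : G, ρ.character (g * g) = ε * ∑ g : G, ρ.character g * ρ.character g := by
  rw [sum_char_sq, sum_char_mul_char, Finset.mul_sum]
  refine Finset.sum_congr rfl fun i _ => ?_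
  rw [Finset.mul_sum]
  refine Finset.sum_congr rfl fun j _ => ?_
  obtain ⟨c, hc⟩ := h0.eq_smul hirr hB₀ (isInv_avg ρ (Matrix.single i j (1 : ℂ)))
  rw [hc]
  have h1 : B₀ j i = ε * B₀ i j := by
    have := congrFun (congrFun hε i) j
    simpa using this
  simp only [Matrix.smul_apply, smul_eq_mul, h1]
  ring

/-- For a real-valued irreducible character, `∑ χ(g)² = |G|`. -/
theorem sum_char_mul_char_of_real [Fintype G] (hirr : ρ.IsIrreducible)
    (hreal : ∀ g : G, (ρ.character g).im = 0) :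
    ∑ g : G, ρ.character g * ρ.character g = (Nat.card G : ℂ) := by
  have := hirr
  have hfin : Finite G := Finite.of_fintype G
  have hne : (Nat.card G : ℂ) ≠ 0 := by
    simp
  have : Invertible (Nat.card G : ℂ) := invertibleOfNonzero hne
  have h1 := Representation.char_orthonormal ρ ρ
  rw [if_pos ⟨Representation.Equiv.refl ρ⟩] at h1
  have h2 : ∀ g : G, ρ.character g⁻¹ = ρ.character g := by
    intro g
    rw [character_inv_eq_conj]
    exact Complex.conj_eq_iff_im.mpr (hreal g)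
  simp only [h2] at h1
  have h3 : (Nat.card G : ℂ) * ((Nat.card G : ℂ)⁻¹ * ∑ g : G, ρ.character g * ρ.character g) =
      (Nat.card G : ℂ) * 1 := by rw [h1]
  rw [← mul_assoc, mul_inv_cancel₀ hne, one_mul, mul_one] at h3
  exact h3

end Cfsg.Agent.Helper74.FS
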