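import Mathlib

set_option autoImplicit false

namespace Cfsg.Agent.Helper74.ONS
universe u

/-- (NUM1) a prime power dividing `122760 = 8 * 9 * 5 * 11 * 31` divides one of the factors. -/
theorem prime_pow_dvd (r k : ℕ) (hr : r.Prime) (h : r ^ k ∣ 122760) :
    r ^ k ∣ 8 ∨ r ^ k ∣ 9 ∨ r ^ k ∣ 5 ∨ r ^ k ∣ 11 ∨ r ^ k ∣ 31 := by
  rcases Nat.eq_zero_or_pos k with hk | hk
  · subst hk
    left
    simp
  have hpp : IsPrimePow (r ^ k) := hr.isPrimePow.pow (Nat.pos_iff_ne_zero.mp hk)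
  have e1 : (122760 : ℕ) = 8 * 15345 := by norm_num
  have e2 : (15345 : ℕ) = 9 * 1705 := by norm_num
  have e3 : (1705 : ℕ) = 5 * 341 := by norm_num
  have e4 : (341 : ℕ) = 11 * 31 := by norm_num
  rw [e1] at h
  rcases (Nat.Coprime.isPrimePow_dvd_mul (by norm_num : Nat.Coprime 8 15345) hpp).1 h with h1 | h1
  · exact Or.inl h1
  rw [e2] at h1
  rcases (Nat.Coprime.isPrimePow_dvd_mul (by norm_num : Nat.Coprime 9 1705) hpp).1 h1 with h2 | h2
  · exact Or.inr (Or.inl h2)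
  rw [e3] at h2
  rcases (Nat.Coprime.isPrimePow_dvd_mul (by norm_num : Nat.Coprime 5 341) hpp).1 h2 with h3 | h3
  · exact Or.inr (Or.inr (Or.inl h3))
  rw [e4] at h3
  rcases (Nat.Coprime.isPrimePow_dvd_mul (by norm_num : Nat.Coprime 11 31) hpp).1 h3 with h4 | h4
  · exact Or.inr (Or.inr (Or.inr (Or.inl h4)))
  · exact Or.inr (Or.inr (Or.inr (Or.inr h4)))

end Cfsg.Agent.Helper74.ONS
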