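import Mathlib

set_option autoImplicit false

namespace Cfsg.Agent.Helper74.ONS
universe u

theorem h74_num19_aux : ∀ m : Fin 32, ∀ c : Fin 32,
    ((m : ℕ) ∣ 8 ∨ (m : ℕ) ∣ 9 ∨ (m : ℕ) ∣ 5 ∨ (m : ℕ) ∣ 11 ∨ (m : ℕ) ∣ 31) → (c : ℕ) ∣ (m : ℕ) →
    0 < (c : ℕ) → (m : ℕ) % 19 = (c : ℕ) % 19 → (c : ℕ) = (m : ℕ) := by
  decide

/-- (NUM2) -/
theorem num19 (m c : ℕ) (hm : m ∣ 8 ∨ m ∣ 9 ∨ m ∣ 5 ∨ m ∣ 11 ∨ m ∣ 31) (hc : c ∣ m) (hc0 : 0 < c)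
    (h : m % 19 = c % 19) : c = m := by
  have hm31 : m ≤ 31 := by
    rcases hm with h1 | h1 | h1 | h1 | h1
    · exact (Nat.le_of_dvd (by norm_num) h1).trans (by norm_num)
    · exact (Nat.le_of_dvd (by norm_num) h1).trans (by norm_num)
    · exact (Nat.le_of_dvd (by norm_num) h1).trans (by norm_num)
    · exact (Nat.le_of_dvd (by norm_num) h1).trans (by norm_num)
    · exact Nat.le_of_dvd (by norm_num) h1
  have hm0 : 0 < m := by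
    rcases hm with h1 | h1 | h1 | h1 | h1 <;> exact Nat.pos_of_dvd_of_pos h1 (by norm_num)
  have hcm : c ≤ m := Nat.le_of_dvd hm0 hc
  have := h74_num19_aux ⟨m, by omega⟩ ⟨c, by omega⟩ hm hc hc0 h
  exact this

end Cfsg.Agent.Helper74.ONS
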