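import Mathlib

set_option autoImplicit false

namespace Cfsg.Agent.Helper74.ONS
universe u

/-- (B) -/
theorem mul_mem_of_index_two {H : Type u} [Group H] (L : Subgroup H) [L.Normal] (hL : L.index = 2) (a b : H)
    (ha : a * a = 1) (hb : b * b = 1) (hab : (a * b) ^ 3 = 1) : a * b ∈ L := by
  rw [Subgroup.mul_mem_iff_of_index_two hL]
  have hainv : a⁻¹ = a := inv_eq_of_mul_eq_one_left ha
  have hbinv : b⁻¹ = b := inv_eq_of_mul_eq_one_left hb
  -- b = (a*b) * a * (a*b)⁻¹
  have key : b = (a * b) * a * (a * b)⁻¹ := by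
    have h3 : a * b * (a * b) * (a * b) = 1 := by
      have := hab
      rw [pow_succ, pow_two] at this
      exact this
    -- (ab) a (ab)^-1 = a b a b^-1 a^-1 = a b a b a
    rw [mul_inv_rev, hainv, hbinv]
    -- goal: b = a * b * a * (b * a)
    have h4 : a * b * a * (b * a) * b = 1 := by
      have : a * b * a * (b * a) * b = a * b * (a * b) * (a * b) := by group
      rw [this, h3]
    have h5 : a * b * a * (b * a) = b⁻¹ := eq_inv_of_mul_eq_one_left h4
    rw [h5, hbinv]
  constructor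
  · intro haL
    rw [key]
    exact ‹L.Normal›.conj_mem a haL (a * b)
  · intro hbL
    -- a = (a*b)⁻¹ * b * (a*b)
    have key2 : a = (a * b)⁻¹ * b * (a * b)⁻¹⁻¹ := by
      have e1 : a = (a * b)⁻¹ * ((a * b) * a * (a * b)⁻¹) * (a * b)⁻¹⁻¹ := by group
      rw [← key] at e1
      exact e1
    rw [key2]
    exact ‹L.Normal›.conj_mem b hbL (a * b)⁻¹

end Cfsg.Agent.Helper74.ONS
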