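import Mathlib
import Cfsg.Prelude.Def_Characters
import Cfsg.Prelude.Def_Blocks
import Cfsg.Agent.Lib.Helper74.LinChar
import Cfsg.Agent.Lib.Helper3.Spectral

set_option autoImplicit false

open Cfsg
open scoped ComplexConjugate

namespace Cfsg.Agent.Helper74.Lin

universe u

/-- Bessel's inequality, in counting form. -/
theorem bessel_count {G ι : Type*} [Fintype G] [DecidableEq ι] (a : G → ℂ) (L : Finset ι)
    (f : ι → G → ℂ) (c : ℝ)
    (h1 : ∀ i ∈ L, ∑ g, a g * conj (f i g) = (c : ℂ))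
    (h2 : ∀ i ∈ L, ∀ j ∈ L, ∑ g, f i g * conj (f j g) = if i = j then (c : ℂ) else 0) :
    (L.card : ℝ) * c ≤ ∑ g, Complex.normSq (a g) := by
  set s : G → ℂ := fun g => ∑ i ∈ L, f i g with hs
  have hB : ∑ g, a g * conj (s g) = (L.card : ℂ) * c := by
    simp only [hs, map_sum, Finset.mul_sum]
    rw [Finset.sum_comm, Finset.sum_congr rfl h1]
    simp
  have hB' : ∑ g, s g * conj (a g) = (L.card : ℂ) * c := by
    have := congrArg conj hB
    simp only [map_sum, map_mul, Complex.conj_conj, map_natCast, Complex.conj_ofReal] at this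
    rw [← this]
    exact Finset.sum_congr rfl fun g _ => mul_comm _ _
  have hD : ∑ g, s g * conj (s g) = (L.card : ℂ) * c := by
    have h3 : ∀ g, s g * conj (s g) = ∑ i ∈ L, ∑ j ∈ L, f i g * conj (f j g) := by
      intro g
      simp only [hs, map_sum, Finset.sum_mul, Finset.mul_sum]
      rw [Finset.sum_comm]
    simp only [h3]
    rw [Finset.sum_comm]
    have h4 : ∀ i ∈ L, ∑ g, ∑ j ∈ L, f i g * conj (f j g) = (c : ℂ) := by
      intro i hi
      rw [Finset.sum_comm]
      rw [Finset.sum_congr rfl (h2 i hi)]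
      simp [hi]
    rw [Finset.sum_congr rfl h4]
    simp
  have key : ((∑ g, Complex.normSq (a g - s g) : ℝ) : ℂ) =
      ((∑ g, Complex.normSq (a g) : ℝ) : ℂ) - (L.card : ℂ) * c := by
    push_cast
    simp only [← Complex.mul_conj, map_sub, sub_mul, mul_sub, Finset.sum_sub_distrib]
    rw [hB, hB', hD]
    ring
  have hnn : 0 ≤ ∑ g, Complex.normSq (a g - s g) :=
    Finset.sum_nonneg fun _ _ => Complex.normSq_nonneg _
  have h5 : (∑ g, Complex.normSq (a g - s g) : ℝ) = (∑ g, Complex.normSq (a g)) - L.card * c := by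
    exact_mod_cast key
  linarith

variable {G : Type u} [Group G]

theorem irr_norm_le [Finite G] (χ : IrrCharacter G) (g : G) :
    ‖(χ : G → ℂ) g‖ ≤ (charDegree (χ : G → ℂ) : ℝ) := by
  have h1 := Cfsg.Agent.Helper80.irr_one χ
  obtain ⟨n, ρ, hρ, hχ⟩ := χ.2
  have h2 : ((charDegree (χ : G → ℂ) : ℕ) : ℂ) = (Module.finrank ℂ (Fin n → ℂ) : ℂ) := by
    rw [← h1, ← hχ, Representation.char_one]
  have h3 : charDegree (χ : G → ℂ) = Module.finrank ℂ (Fin n → ℂ) := by exact_mod_cast h2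
  rw [h3, ← hχ]
  exact Cfsg.Agent.Helper3.norm_char_le ρ g

theorem irr_sum_normSq [Fintype G] (χ : IrrCharacter G) :
    ∑ g : G, Complex.normSq ((χ : G → ℂ) g) = (Nat.card G : ℝ) := by
  have h := Cfsg.Agent.Helper80.irr_first_orthogonality χ χ
  rw [if_pos rfl] at h
  simp only [Complex.mul_conj] at h
  exact_mod_cast h

/-- The stabilizer of an irreducible character `χ` in the group of linear characters has at
most `χ(1)²` elements. -/
theorem card_stabilizer_le [Fintype G] (χ : IrrCharacter G) (L : Finset (G →* ℂˣ))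
    (hL : ∀ φ ∈ L, φ • χ = χ) : L.card ≤ (charDegree (χ : G → ℂ)) ^ 2 := by
  classical
  have hfin : Finite G := Finite.of_fintype G
  have hGpos : (0 : ℝ) < (Nat.card G : ℝ) := by
    have : 0 < Nat.card G := Nat.card_pos
    exact_mod_cast this
  have hb := bessel_count (fun g => (χ : G → ℂ) g * conj ((χ : G → ℂ) g)) L
    (fun φ g => ((φ g : ℂˣ) : ℂ)) (Nat.card G : ℝ) ?_ ?_
  · have h1 : ∑ g : G, Complex.normSq ((χ : G → ℂ) g * conj ((χ : G → ℂ) g)) ≤
        ((charDegree (χ : G → ℂ) : ℝ)) ^ 2 * (Nat.card G : ℝ) := by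
      rw [← irr_sum_normSq χ, Finset.mul_sum]
      refine Finset.sum_le_sum fun g _ => ?_
      rw [Complex.normSq_mul, Complex.normSq_conj]
      have h2 : Complex.normSq ((χ : G → ℂ) g) ≤ ((charDegree (χ : G → ℂ) : ℝ)) ^ 2 := by
        rw [Complex.normSq_eq_norm_sq]
        have := irr_norm_le χ g
        have h0 : 0 ≤ ‖(χ : G → ℂ) g‖ := norm_nonneg _
        nlinarith
      exact mul_le_mul_of_nonneg_right h2 (Complex.normSq_nonneg _)
    have h3 : (L.card : ℝ) * (Nat.card G : ℝ) ≤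
        ((charDegree (χ : G → ℂ) : ℝ)) ^ 2 * (Nat.card G : ℝ) := hb.trans h1
    have h4 : (L.card : ℝ) ≤ ((charDegree (χ : G → ℂ) : ℝ)) ^ 2 := le_of_mul_le_mul_right h3 hGpos
    exact_mod_cast h4
  · intro φ hφ
    have h := Cfsg.Agent.Helper80.irr_first_orthogonality χ χ
    rw [if_pos rfl] at h
    push_cast
    refine (Finset.sum_congr rfl fun g _ => ?_).trans h
    have := congrFun (congrArg Subtype.val (hL φ hφ)) g
    rw [smul_apply] at this
    calc (χ : G → ℂ) g * conj ((χ : G → ℂ) g) * conj (((φ g : ℂˣ) : ℂ))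
        = (χ : G → ℂ) g * conj (((φ g : ℂˣ) : ℂ) * (χ : G → ℂ) g) := by rw [map_mul]; ring
      _ = (χ : G → ℂ) g * conj ((χ : G → ℂ) g) := by rw [this]
  · intro φ hφ ψ hψ
    have h := Cfsg.Agent.Helper80.irr_first_orthogonality (ofHom φ) (ofHom ψ)
    simp only [ofHom_apply] at h
    rw [h]
    by_cases hφψ : φ = ψ
    · rw [if_pos hφψ, if_pos (by rw [hφψ])]
      simp
    · rw [if_neg hφψ, if_neg (fun h' => hφψ (ofHom_injective h'))]

end Cfsg.Agent.Helper74.Lin
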