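import Cfsg.Agent.Lib.Helper74.FSForm2
import Cfsg.Agent.Lib.Helper80.FrobSchur

set_option autoImplicit false

namespace Cfsg.Agent.Helper74.FS

open Cfsg
open scoped ComplexConjugate

universe u

variable {G : Type u} [Group G] [Fintype G]

/-- The Frobenius–Schur indicator of an irreducible character. -/
noncomputable def nu (χ : IrrCharacter G) : ℂ :=
  (Nat.card G : ℂ)⁻¹ * ∑ s : G, (χ : G → ℂ) (s * s)

/-- Real-valued characters. -/
def IsRealChar (χ : IrrCharacter G) : Prop := ∀ g : G, ((χ : G → ℂ) g).im = 0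

theorem nu_of_real (χ : IrrCharacter G) (h : IsRealChar χ) : nu χ = 1 ∨ nu χ = -1 := by
  obtain ⟨n, ρ, hρ, hχ⟩ := χ.2
  have hreal : ∀ g : G, (ρ.character g).im = 0 := by
    intro g; rw [hχ]; exact h g
  have := indicator_of_real hρ hreal
  simp only [nu, ← hχ]
  exact this

theorem nu_of_not_real (χ : IrrCharacter G) (h : ¬ IsRealChar χ) : nu χ = 0 := by
  rw [nu, Cfsg.Agent.Helper80.irr_sum_sq_eq_zero_of_not_real χ h, mul_zero]

open Classical in
/-- The indicator as an integer. -/
noncomputable def sgn (χ : IrrCharacter G) : ℤ :=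
  if nu χ = 1 then 1 else if nu χ = -1 then -1 else 0

theorem sgn_cast (χ : IrrCharacter G) : ((sgn χ : ℤ) : ℂ) = nu χ := by
  classical
  unfold sgn
  by_cases hr : IsRealChar χ
  · rcases nu_of_real χ hr with h | h
    · rw [if_pos h, h]; simp
    · have h1 : nu χ ≠ 1 := by
        rw [h]; norm_num
      rw [if_neg h1, if_pos h, h]; simp
  · have h0 := nu_of_not_real χ hr
    have h1 : nu χ ≠ 1 := by rw [h0]; norm_num
    have h2 : nu χ ≠ -1 := by rw [h0]; norm_num
    rw [if_neg h1, if_neg h2, h0]; simp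

theorem sgn_le_one (χ : IrrCharacter G) : sgn χ ≤ 1 := by
  classical
  unfold sgn
  split_ifs <;> norm_num

theorem sgn_eq_zero_of_not_real (χ : IrrCharacter G) (h : ¬ IsRealChar χ) : sgn χ = 0 := by
  classical
  have h0 := nu_of_not_real χ h
  have h1 : nu χ ≠ 1 := by rw [h0]; norm_num
  have h2 : nu χ ≠ -1 := by rw [h0]; norm_num
  unfold sgn
  rw [if_neg h1, if_neg h2]

theorem sgn_trivial : sgn (Cfsg.Agent.Helper80.trivialIrr G) = 1 := by
  classical
  have hfin : Finite G := Finite.of_fintype G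
  have hne : (Nat.card G : ℂ) ≠ 0 := by simp
  have : nu (Cfsg.Agent.Helper80.trivialIrr G) = 1 := by
    simp only [nu, Cfsg.Agent.Helper80.trivialIrr_apply, Finset.sum_const, Finset.card_univ,
      nsmul_eq_mul, mul_one]
    rw [← Nat.card_eq_fintype_card]
    exact inv_mul_cancel₀ hne
  unfold sgn
  rw [if_pos this]

/-- The count of solutions of `u² = 1` as an integer combination of degrees. -/
theorem card_sq_eq_one [Fintype (IrrCharacter G)] :
    (Nat.card {u : G // u * u = 1} : ℤ) =
      ∑ χ : IrrCharacter G, sgn χ * (charDegree (χ : G → ℂ) : ℤ) := by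
  have h := Cfsg.Agent.Helper80.card_sqrt_eq (G := G) 1
  rw [finsum_eq_sum_of_fintype] at h
  have h2 : ∀ χ : IrrCharacter G,
      conj ((Nat.card G : ℂ)⁻¹ * ∑ u : G, (χ : G → ℂ) (u * u)) * (χ : G → ℂ) 1 =
        ((sgn χ * (charDegree (χ : G → ℂ) : ℤ) : ℤ) : ℂ) := by
    intro χ
    have : (Nat.card G : ℂ)⁻¹ * ∑ u : G, (χ : G → ℂ) (u * u) = nu χ := rfl
    rw [this, ← sgn_cast, Cfsg.Agent.Helper80.irr_one]
    simp
  simp only [h2] at h
  rw [← Int.cast_sum] at h
  exact_mod_cast h

/-- Solutions of `u² = 1` are the identity and the involutions. -/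
theorem card_sq_eq_one_eq :
    Nat.card {u : G // u * u = 1} = 1 + Nat.card {x : G // orderOf x = 2} := by
  classical
  rw [Nat.card_eq_fintype_card, Nat.card_eq_fintype_card, Fintype.card_subtype,
    Fintype.card_subtype]
  have : (Finset.univ.filter fun u : G => u * u = 1) =
      insert 1 (Finset.univ.filter fun x : G => orderOf x = 2) := by
    ext u
    simp only [Finset.mem_filter, Finset.mem_univ, true_and, Finset.mem_insert]
    rw [orderOf_eq_prime_iff (p := 2), pow_two]
    constructor
    · intro h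
      by_cases h1 : u = 1
      · exact Or.inl h1
      · exact Or.inr ⟨h, h1⟩
    · rintro (h | h)
      · rw [h, mul_one]
      · exact h.1
  rw [this, Finset.card_insert_of_notMem, add_comm]
  simp

end Cfsg.Agent.Helper74.FS
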