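import Mathlib
import Cfsg.Prelude.Def_Characters
import Cfsg.Agent.Lib.Helper74.FSForm
import Cfsg.Agent.Lib.Helper74.FSCount

set_option autoImplicit false

open Cfsg
open scoped ComplexConjugate Matrix

namespace Cfsg.Agent.Helper74.FS

universe u
variable {G : Type u} [Group G]

section Rep
variable {n : ℕ} {ρ : Representation ℂ G (Fin n → ℂ)}

/-- An irreducible representation with a nonzero invariant bilinear form has real character. -/
theorem IsInv.character_inv [Finite G] (hirr : ρ.IsIrreducible) {B : Matrix (Fin n) (Fin n) ℂ}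
    (h0 : IsInv ρ B) (hB : B ≠ 0) (g : G) : ρ.character g⁻¹ = ρ.character g := by
  have hdet := h0.isUnit_det hirr hB
  have hBu : IsUnit B := (Matrix.isUnit_iff_isUnit_det B).2 hdet
  obtain ⟨Bu, rfl⟩ := hBu
  -- (mat g)ᵀ * B * mat g = B  ⇒  (mat g)ᵀ = B * mat g⁻¹ * B⁻¹
  have h1 : (mat ρ g)ᵀ * (Bu : Matrix (Fin n) (Fin n) ℂ) = (Bu : Matrix (Fin n) (Fin n) ℂ) * mat ρ g⁻¹ := by
    have := h0 g
    calc (mat ρ g)ᵀ * (Bu : Matrix (Fin n) (Fin n) ℂ)
        = (mat ρ g)ᵀ * (Bu : Matrix (Fin n) (Fin n) ℂ) * (mat ρ g * mat ρ g⁻¹) := by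
          rw [mat_mul_inv, mul_one]
      _ = ((mat ρ g)ᵀ * (Bu : Matrix (Fin n) (Fin n) ℂ) * mat ρ g) * mat ρ g⁻¹ := by
          simp only [mul_assoc]
      _ = (Bu : Matrix (Fin n) (Fin n) ℂ) * mat ρ g⁻¹ := by rw [this]
  have h2 : (mat ρ g)ᵀ = (Bu : Matrix (Fin n) (Fin n) ℂ) * mat ρ g⁻¹ * ((Bu⁻¹ : (Matrix (Fin n) (Fin n) ℂ)ˣ) : Matrix (Fin n) (Fin n) ℂ) := by
    rw [← h1, mul_assoc, Units.mul_inv, mul_one]
  rw [character_eq_trace, character_eq_trace, ← Matrix.trace_transpose (mat ρ g), h2,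
    Matrix.trace_mul_comm, ← mul_assoc, Units.inv_mul, one_mul]

theorem sum_char_mul_char_eq_zero [Fintype G] (hirr : ρ.IsIrreducible)
    (hnr : ¬ ∀ g : G, (ρ.character g).im = 0) :
    ∑ g : G, ρ.character g * ρ.character g = 0 := by
  have hfin : Finite G := Finite.of_fintype G
  by_contra hne
  obtain ⟨B, hB, h0⟩ := exists_isInv_ne_zero ρ hne
  apply hnr
  intro g
  have h1 := h0.character_inv hirr hB g
  rw [character_inv_eq_conj] at h1
  exact Complex.conj_eq_iff_im.1 h1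

end Rep

/-- `∑ χ(g)² = |G|` for real irreducible `χ`, and `0` otherwise. -/
theorem irr_sum_mul_self [Fintype G] (χ : IrrCharacter G) [Decidable (IsRealChar χ)] :
    ∑ g : G, (χ : G → ℂ) g * (χ : G → ℂ) g = if IsRealChar χ then (Nat.card G : ℂ) else 0 := by
  obtain ⟨n, ρ, hρ, hχ⟩ := χ.2
  split_ifs with h
  · rw [← hχ]
    apply sum_char_mul_char_of_real hρ
    intro g
    rw [hχ]
    exact h g
  · rw [← hχ]
    apply sum_char_mul_char_eq_zero hρ
    intro hall
    apply h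
    intro g
    rw [← hχ]
    exact hall g

end Cfsg.Agent.Helper74.FS
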