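import Mathlib
import Cfsg.Prelude.Def_Characters
import Cfsg.Prelude.Def_Blocks
import Cfsg.Agent.Lib.Helper74.LinStab
import Cfsg.Agent.Lib.Helper74.RealChars
import Cfsg.Agent.Lib.Helper79.Integrality

set_option autoImplicit false

open Cfsg
open scoped ComplexConjugate
open Classical

namespace Cfsg.Agent.Helper74.AFT

open Cfsg.Agent.Helper74.FS Cfsg.Agent.Helper74.Lin

universe u
variable {G : Type u} [Group G] [Fintype G]

theorem sgn_of_real (χ : IrrCharacter G) (h : IsRealChar χ) : sgn χ = 1 ∨ sgn χ = -1 := by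
  have h1 := sgn_cast χ
  rcases nu_of_real χ h with h2 | h2
  · left
    rw [h2] at h1
    exact_mod_cast h1
  · right
    rw [h2] at h1
    exact_mod_cast h1

theorem sgn_of_real_linear (χ : IrrCharacter G) (h : IsRealChar χ) (h1 : (χ : G → ℂ) 1 = 1) :
    sgn χ = 1 := by
  have hfin : Finite G := Finite.of_fintype G
  have hne : (Nat.card G : ℂ) ≠ 0 := by simp
  have hmul : ∀ x y : G, (χ : G → ℂ) (x * y) = (χ : G → ℂ) x * (χ : G → ℂ) y :=
    Cfsg.Agent.Helper15.linear_char_mul _ ⟨Cfsg.Agent.Helper80.isCharacter_of_irr χ.2, h1⟩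
  have hnu : nu χ = 1 := by
    unfold nu
    simp only [hmul]
    rw [irr_sum_mul_self, if_pos h]
    exact inv_mul_cancel₀ hne
  have h2 := sgn_cast χ
  rw [hnu] at h2
  exact_mod_cast h2

theorem charDegree_eq_one_iff (χ : IrrCharacter G) :
    charDegree (χ : G → ℂ) = 1 ↔ (χ : G → ℂ) 1 = 1 := by
  rw [Cfsg.Agent.Helper80.irr_one]
  constructor
  · intro h; rw [h]; simp
  · intro h; exact_mod_cast h

/-- The contribution of an irreducible character of a `2`-group to the Frobenius–Schur count,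
modulo `4`. -/
theorem term_mod_four (hG : IsPGroup 2 G) (χ : IrrCharacter G) :
    (((sgn χ * (charDegree (χ : G → ℂ) : ℤ) : ℤ)) : ZMod 4) =
      (if charDegree (χ : G → ℂ) = 1 ∧ IsRealChar χ then 1 else 0) +
      2 * (if charDegree (χ : G → ℂ) = 2 ∧ IsRealChar χ then 1 else 0) := by
  have hfin : Finite G := Finite.of_fintype G
  obtain ⟨N, hN⟩ := IsPGroup.iff_card.1 hG
  have hdvd := Cfsg.Agent.Helper79.irr_degree_dvd_card χ
  rw [hN] at hdvd
  obtain ⟨j, _, hj⟩ := (Nat.dvd_prime_pow Nat.prime_two).1 hdvd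
  by_cases hr : IsRealChar χ
  · rcases j with _ | _ | j
    · have hd : charDegree (χ : G → ℂ) = 1 := by simpa using hj
      have h1 : (χ : G → ℂ) 1 = 1 := (charDegree_eq_one_iff χ).1 hd
      rw [sgn_of_real_linear χ hr h1, hd]
      simp [hr]
    · have hd : charDegree (χ : G → ℂ) = 2 := by simpa using hj
      rcases sgn_of_real χ hr with h | h
      · rw [h, hd]
        simp [hr]
      · rw [h, hd]
        simp [hr]
        decide
    · have hd : charDegree (χ : G → ℂ) = 4 * 2 ^ j := by rw [hj]; ring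
      have h4 : (4 : ZMod 4) = 0 := by decide
      have hpos : 0 < 2 ^ j := by positivity
      have hne1 : ¬ (4 * 2 ^ j = 1) := by omega
      have hne2 : ¬ (4 * 2 ^ j = 2) := by omega
      rw [hd]
      push_cast
      simp [h4, hne1, hne2]
  · rw [sgn_eq_zero_of_not_real χ hr]
    simp [hr]

/-- The Frobenius–Schur count for a `2`-group, modulo `4`. -/
theorem count_mod_four (hG : IsPGroup 2 G) [Fintype (IrrCharacter G)] :
    ((1 + Nat.card {x : G // orderOf x = 2} : ℕ) : ZMod 4) =
      ((Finset.univ.filter fun χ : IrrCharacter G =>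
        charDegree (χ : G → ℂ) = 1 ∧ IsRealChar χ).card : ZMod 4) +
      2 * ((Finset.univ.filter fun χ : IrrCharacter G =>
        charDegree (χ : G → ℂ) = 2 ∧ IsRealChar χ).card : ZMod 4) := by
  have h1 := card_sq_eq_one (G := G)
  rw [card_sq_eq_one_eq] at h1
  have h2 : (((1 + Nat.card {x : G // orderOf x = 2} : ℕ) : ℤ) : ZMod 4) =
      ((∑ χ : IrrCharacter G, sgn χ * (charDegree (χ : G → ℂ) : ℤ) : ℤ) : ZMod 4) := by
    rw [h1]
  rw [Int.cast_natCast] at h2
  rw [h2, Int.cast_sum]
  simp only [term_mod_four hG]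
  rw [Finset.sum_add_distrib, ← Finset.mul_sum, Finset.sum_boole, Finset.sum_boole]

end Cfsg.Agent.Helper74.AFT
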