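import Cfsg.Agent.Lib.Helper76.IPCore2
import Cfsg.Agent.Lib.Helper79.Inflation
import Cfsg.Agent.Lib.Helper79.LinearDeg
import Cfsg.Agent.Lib.Helper19.DG2B
import Cfsg.Agent.Lib.Helper76.CD2Basic

set_option autoImplicit false
set_option linter.unusedVariables false
set_option linter.unusedSectionVars false
set_option linter.style.haveILetI false

/-!
# S4463 (Isaacs 12.23), case (a): `G/K` a nonabelian `p`-group all of whose proper quotients are abelian

* `beta_trick` (helper89's (F2)): if `β ∈ Irr(G)` vanishes off `Z` and `β(1)² = |G:Z|`, `β(1) ≥ 2`,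
  then every irreducible character of `Z` has degree `< b(G)`.
* `vanish_off_center`: class-2 group `Q`, `τ ∈ Irr(Q)` with `Q' ∩ ker τ = 1` vanishes off `Z(Q)`.
* `pgroup_case`: Lemma L in case (a) with `H` = preimage of `Z(G/K)`.
-/

namespace Cfsg.Agent.Helper74.IP

open Cfsg Cfsg.Agent.Helper79 Cfsg.Agent.Helper81 Cfsg.Agent.Helper76.IP
open scoped ComplexConjugate

universe u

section fin
variable {G : Type u} [Group G] [Fintype G]

/-- `∑ |ψ(g)|² = |G|` for irreducible `ψ` -/
theorem h74_sum_normSq (ψ : IrrCharacter G) :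
    ∑ g : G, Complex.normSq ((ψ : G → ℂ) g) = (Nat.card G : ℝ) := by
  have horth : classInner (ψ : G → ℂ) (ψ : G → ℂ) = 1 := by
    rw [Cfsg.Agent.Helper81.irr_orthonormal ψ.2 ψ.2, if_pos rfl]
  unfold classInner at horth
  have hH0 : (Nat.card G : ℂ) ≠ 0 := by exact_mod_cast (Nat.card_pos (α := G)).ne'
  have hsum : ∑ h : G, (ψ : G → ℂ) h * conj ((ψ : G → ℂ) h) = (Nat.card G : ℂ) := by
    field_simp at horth
    rw [horth]
  have hterm : ∀ h : G, (ψ : G → ℂ) h * conj ((ψ : G → ℂ) h) =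
      ((Complex.normSq ((ψ : G → ℂ) h) : ℝ) : ℂ) := fun h => Complex.mul_conj _
  simp only [hterm] at hsum
  rw [← Complex.ofReal_sum] at hsum
  have : ((∑ h : G, Complex.normSq ((ψ : G → ℂ) h) : ℝ) : ℂ) = ((Nat.card G : ℝ) : ℂ) := by
    rw [hsum]; simp
  exact Complex.ofReal_injective this

/-- (F2) the β-trick -/
theorem beta_trick (Z : Subgroup G) [Fintype Z] (b : ℕ)
    (hb : ∀ χ : IrrCharacter G, charDegree (χ : G → ℂ) ≤ b)
    (β : IrrCharacter G) (hβ2 : 2 ≤ charDegree (β : G → ℂ))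
    (hvan : ∀ g : G, g ∉ Z → (β : G → ℂ) g = 0)
    (hidx : Z.index = charDegree (β : G → ℂ) ^ 2) (ψ : IrrCharacter Z) :
    charDegree (ψ : Z → ℂ) < b := by
  classical
  rcases lt_or_eq_of_le (deg_le_of_sub Z b hb ψ) with hlt | heq
  · exact hlt
  exfalso
  obtain ⟨χ, hχ⟩ := exists_extension_of_max Z b hb ψ heq
  set f := charDegree (β : G → ℂ) with hf
  set γ : G → ℂ := (χ : G → ℂ) * (β : G → ℂ) with hγdef
  have hγ : IsCharacter G γ :=
    isCharacter_mul (IsIrrCharacter.isCharacter χ.2) (IsIrrCharacter.isCharacter β.2)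
  obtain ⟨k, hk⟩ := exists_nat_classInner_char hγ hγ
  have hG0 : (Nat.card G : ℂ) ≠ 0 := by exact_mod_cast (Nat.card_pos (α := G)).ne'
  -- real form of the norm
  have hterm : ∀ g : G, γ g * conj (γ g) =
      ((Complex.normSq ((χ : G → ℂ) g) * Complex.normSq ((β : G → ℂ) g) : ℝ) : ℂ) := by
    intro g
    rw [Complex.mul_conj, hγdef, Pi.mul_apply, Complex.normSq_mul]
  have hsumC : ∑ g : G, γ g * conj (γ g) = (k : ℂ) * (Nat.card G : ℂ) := by
    unfold classInner at hk
    rw [← hk]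
    field_simp
  simp only [hterm] at hsumC
  rw [← Complex.ofReal_sum] at hsumC
  have hsumR : ∑ g : G, Complex.normSq ((χ : G → ℂ) g) * Complex.normSq ((β : G → ℂ) g) =
      (k : ℝ) * (Nat.card G : ℝ) := by
    have : ((∑ g : G, Complex.normSq ((χ : G → ℂ) g) * Complex.normSq ((β : G → ℂ) g) : ℝ) : ℂ) =
        (((k : ℝ) * (Nat.card G : ℝ) : ℝ) : ℂ) := by
      rw [hsumC]; push_cast; ring
    exact Complex.ofReal_injective this
  -- bound
  have hbound : ∀ g : G, Complex.normSq ((χ : G → ℂ) g) * Complex.normSq ((β : G → ℂ) g) ≤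
      if g ∈ Z then Complex.normSq ((χ : G → ℂ) g) * (f : ℝ) ^ 2 else 0 := by
    intro g
    by_cases hg : g ∈ Z
    · rw [if_pos hg]
      apply mul_le_mul_of_nonneg_left _ (Complex.normSq_nonneg _)
      rw [Complex.normSq_eq_norm_sq]
      have := irr_norm_le β g
      have h0 : 0 ≤ ‖(β : G → ℂ) g‖ := norm_nonneg _
      nlinarith
    · rw [if_neg hg, hvan g hg]
      simp
  have hle : (k : ℝ) * (Nat.card G : ℝ) ≤
      ∑ g : G, (if g ∈ Z then Complex.normSq ((χ : G → ℂ) g) * (f : ℝ) ^ 2 else 0) := by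
    rw [← hsumR]
    exact Finset.sum_le_sum (fun g _ => hbound g)
  rw [← Finset.sum_filter] at hle
  have hsub : ∑ g ∈ Finset.univ.filter (fun g : G => g ∈ Z),
      Complex.normSq ((χ : G → ℂ) g) * (f : ℝ) ^ 2 =
      ∑ z : Z, Complex.normSq ((χ : G → ℂ) z) * (f : ℝ) ^ 2 := by
    exact Finset.sum_subtype (Finset.univ.filter (fun g : G => g ∈ Z)) (by simp)
      (fun g => Complex.normSq ((χ : G → ℂ) g) * (f : ℝ) ^ 2)
  rw [hsub, ← Finset.sum_mul] at hle
  have hψsum : ∑ z : Z, Complex.normSq ((χ : G → ℂ) z) = (Nat.card Z : ℝ) := by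
    rw [← h74_sum_normSq ψ]
    apply Finset.sum_congr rfl
    intro z _
    have : (χ : G → ℂ) z = (ψ : Z → ℂ) z := congrFun hχ z
    rw [this]
  rw [hψsum] at hle
  have hcardG : (Nat.card G : ℝ) = (Nat.card Z : ℝ) * (f : ℝ) ^ 2 := by
    rw [← Subgroup.index_mul_card Z, hidx]
    push_cast; ring
  rw [← hcardG] at hle
  have hGpos : (0 : ℝ) < (Nat.card G : ℝ) := by exact_mod_cast (Nat.card_pos (α := G))
  have hk1 : (k : ℝ) ≤ 1 := by
    by_contra hcon
    push Not at hcon
    have : (Nat.card G : ℝ) < (k : ℝ) * (Nat.card G : ℝ) := by nlinarith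
    linarith
  have hk1' : k ≤ 1 := by exact_mod_cast hk1
  have hk0 : k ≠ 0 := by
    rintro rfl
    rw [Nat.cast_zero] at hk
    have h0 := classInner_self_eq_zero hk
    have h1 := congrFun h0 1
    rw [hγdef, Pi.mul_apply, Pi.zero_apply] at h1
    rcases mul_eq_zero.mp h1 with h | h
    · exact irr_one_ne_zero χ h
    · exact irr_one_ne_zero β h
  have hkeq : k = 1 := by omega
  rw [hkeq, Nat.cast_one] at hk
  have hγirr : IsIrrCharacter G γ := isIrrCharacter_of_classInner_self_eq_one hγ hk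
  have hdeg := hb ⟨γ, hγirr⟩
  have h1 := (irr_one_eq (⟨γ, hγirr⟩ : IrrCharacter G)).1
  have hχdeg : charDegree (χ : G → ℂ) = b := by
    have h2 := (irr_one_eq χ).1
    have h3 := (irr_one_eq ψ).1
    have h4 : (χ : G → ℂ) 1 = (ψ : Z → ℂ) 1 := by
      have := congrFun hχ 1
      simpa using this
    rw [h2, h3, heq] at h4
    exact_mod_cast h4
  have h5 : γ 1 = ((b * f : ℕ) : ℂ) := by
    rw [hγdef, Pi.mul_apply, (irr_one_eq χ).1, (irr_one_eq β).1, hχdeg]
    push_cast; ring
  change γ 1 = _ at h1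
  rw [h5] at h1
  have h6 : b * f = charDegree γ := by exact_mod_cast h1
  have hbpos : 0 < b := by rw [← heq]; exact (irr_one_eq ψ).2
  change charDegree γ ≤ b at hdeg
  rw [← h6] at hdeg
  nlinarith

end fin

section quot
variable {Q : Type u} [Group Q] [Finite Q]

/-- class-2 group, `τ` with `Q' ∩ ker τ = 1`: `τ` vanishes off the centre -/
theorem vanish_off_center (hle : commutator Q ≤ Subgroup.center Q) (τ : IrrCharacter Q)
    (hτ : ∀ c ∈ commutator Q, c ∈ irrKer τ → c = 1) (g : Q) (hg : g ∉ Subgroup.center Q) :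
    (τ : Q → ℂ) g = 0 := by
  rw [Subgroup.mem_center_iff] at hg
  push Not at hg
  obtain ⟨h, hh⟩ := hg
  set c := h * g * h⁻¹ * g⁻¹ with hc
  have hcQ : c ∈ commutator Q := by
    rw [commutator_def, hc, ← commutatorElement_def]
    exact Subgroup.commutator_mem_commutator (Subgroup.mem_top h) (Subgroup.mem_top g)
  have hcZ : c ∈ Subgroup.center Q := hle hcQ
  have hc1 : c ≠ 1 := by
    intro h1
    apply hh
    have : h * g = c * (g * h) := by rw [hc]; group
    rw [this, h1, one_mul]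
  have h1 := irr_central_mul τ c hcZ g
  have h2 : c * g = h * g * h⁻¹ := by rw [hc]; group
  rw [h2, irr_class τ g h] at h1
  by_contra h0
  have h3 : (τ : Q → ℂ) c = (τ : Q → ℂ) 1 := by
    have : (τ : Q → ℂ) g * (τ : Q → ℂ) 1 = (τ : Q → ℂ) g * (τ : Q → ℂ) c := by
      rw [h1]; ring
    exact (mul_left_cancel₀ h0 this).symm
  exact hc1 (hτ c hcQ h3)

/-- fully ramified: `τ(1)² = |Q : Z(Q)|` -/
theorem sq_degree_eq_index_center (τ : IrrCharacter Q)
    (hvan : ∀ g : Q, g ∉ Subgroup.center Q → (τ : Q → ℂ) g = 0) :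
    (Subgroup.center Q).index = charDegree (τ : Q → ℂ) ^ 2 := by
  classical
  haveI : Fintype Q := Fintype.ofFinite Q
  set f := charDegree (τ : Q → ℂ) with hf
  have hsum := h74_sum_normSq τ
  have hval : ∀ g : Q, Complex.normSq ((τ : Q → ℂ) g) =
      if g ∈ Subgroup.center Q then (f : ℝ) ^ 2 else 0 := by
    intro g
    by_cases hg : g ∈ Subgroup.center Q
    · rw [if_pos hg]
      have h1 := irr_central_mul τ g hg g⁻¹
      rw [mul_inv_cancel, irr_inv, (irr_one_eq τ).1, Complex.mul_conj] at h1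
      have : ((Complex.normSq ((τ : Q → ℂ) g) : ℝ) : ℂ) = (((f : ℝ) ^ 2 : ℝ) : ℂ) := by
        rw [← h1]; push_cast; ring
      exact Complex.ofReal_injective this
    · rw [if_neg hg, hvan g hg]
      simp
  simp only [hval] at hsum
  rw [← Finset.sum_filter, Finset.sum_const, nsmul_eq_mul] at hsum
  have hcard : (Finset.univ.filter (fun g : Q => g ∈ Subgroup.center Q)).card =
      Nat.card (Subgroup.center Q) := by
    rw [Nat.card_eq_fintype_card, Fintype.card_subtype]
  rw [hcard] at hsum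
  have h2 : Nat.card (Subgroup.center Q) * f ^ 2 = Nat.card Q := by
    exact_mod_cast hsum
  have h3 := Subgroup.index_mul_card (Subgroup.center Q)
  have hpos : 0 < Nat.card (Subgroup.center Q) := Nat.card_pos
  have : Nat.card (Subgroup.center Q) * f ^ 2 =
      Nat.card (Subgroup.center Q) * (Subgroup.center Q).index := by
    rw [h2, ← h3]; ring
  exact (Nat.eq_of_mul_eq_mul_left hpos this).symm

end quot

section main
variable {G : Type u} [Group G] [Fintype G]

/-- Lemma L, case (a). -/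
theorem pgroup_case (K : Subgroup G) [K.Normal]
    (hK : ¬ commutator G ≤ K)
    (hmax : ∀ L : Subgroup G, L.Normal → K < L → commutator G ≤ L)
    (p : ℕ) (hp : p.Prime) (hpg : IsPGroup p (G ⧸ K))
    (b : ℕ) (hb : ∀ χ : IrrCharacter G, charDegree (χ : G → ℂ) ≤ b) :
    ∃ H : Subgroup G, H.index ≤ b ^ 2 ∧ ∀ ψ : IrrCharacter H, charDegree (ψ : H → ℂ) < b := by
  classical
  haveI : Fact p.Prime := ⟨hp⟩
  obtain ⟨hna, hq⟩ := Cfsg.Agent.Helper19.DG2.bridge K hK hmax
  -- the centre is nontrivial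
  haveI : Nontrivial (G ⧸ K) := by
    by_contra hnt
    rw [not_nontrivial_iff_subsingleton] at hnt
    exact hna (fun a b => Subsingleton.elim _ _)
  have hcen : Subgroup.center (G ⧸ K) ≠ ⊥ := by
    have := hpg.center_nontrivial
    intro h
    rw [h] at this
    exact not_nontrivial _ this
  have hle : commutator (G ⧸ K) ≤ Subgroup.center (G ⧸ K) :=
    hq _ inferInstance hcen
  -- a nonlinear character
  have hnl : ∃ τ : IrrCharacter (G ⧸ K), charDegree (τ : G ⧸ K → ℂ) ≠ 1 := by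
    by_contra hcon
    push Not at hcon
    exact hna (Cfsg.Agent.Helper76.CD2.comm_of_all_linear hcon)
  obtain ⟨τ, hτ1⟩ := hnl
  have hτpos := (irr_one_eq τ).2
  have hτ2 : 2 ≤ charDegree (τ : G ⧸ K → ℂ) := by omega
  -- faithful on the commutator subgroup
  have hker : irrKer τ = ⊥ := by
    by_contra hne
    have h1 := hq (irrKer τ) inferInstance hne
    exact hτ1 ((degree_one_iff τ).2 h1)
  have hτf : ∀ c ∈ commutator (G ⧸ K), c ∈ irrKer τ → c = 1 := by
    intro c _ hc
    rw [hker, Subgroup.mem_bot] at hc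
    exact hc
  have hvanQ := vanish_off_center hle τ hτf
  have hidxQ := sq_degree_eq_index_center τ hvanQ
  -- inflate
  set β : IrrCharacter G := inflate K τ with hβ
  have hβdeg : charDegree (β : G → ℂ) = charDegree (τ : G ⧸ K → ℂ) := charDegree_inflate K τ
  set Z1 : Subgroup G := (Subgroup.center (G ⧸ K)).comap (QuotientGroup.mk' K) with hZ1
  haveI : Fintype Z1 := Fintype.ofFinite _
  have hidx : Z1.index = charDegree (β : G → ℂ) ^ 2 := by
    rw [hβdeg, ← hidxQ, hZ1]
    exact Subgroup.index_comap_of_surjective _ (QuotientGroup.mk'_surjective K)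
  have hvan : ∀ g : G, g ∉ Z1 → (β : G → ℂ) g = 0 := by
    intro g hg
    rw [hβ, inflate_apply]
    apply hvanQ
    intro h
    exact hg (Subgroup.mem_comap.mpr h)
  refine ⟨Z1, ?_, fun ψ => beta_trick Z1 b hb β (by rw [hβdeg]; exact hτ2) hvan hidx ψ⟩
  rw [hidx]
  have : charDegree (β : G → ℂ) ≤ b := hb β
  exact Nat.pow_le_pow_left this 2

end main

end Cfsg.Agent.Helper74.IP
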