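import Mathlib

/-!
# O2520 server (S0984): an element of prime order normalizing a small subgroup centralizes it
(Mathlib only).
-/

set_option autoImplicit false

namespace Cfsg.Agent.Helper74.O2520

/-- If `x` with `x ^ r = 1` (`r` prime) normalizes the finite subgroup `P`, and the only divisor `d` of `|P|`
with `d ≡ |P| (mod r)` is `|P|` itself, then `x` centralizes `P`. -/
theorem h74_centralizes {G : Type*} [Group G] (P : Subgroup G) [Finite P] (x : G) (r : ℕ)
    [hr : Fact r.Prime] (hx : x ∈ Subgroup.normalizer (P : Set G)) (hxr : x ^ r = 1)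
    (hdiv : ∀ d, d ∣ Nat.card P → d % r = Nat.card P % r → d = Nat.card P) :
    ∀ y ∈ P, x * y = y * x := by
  classical
  have : Fintype P := Fintype.ofFinite P
  -- conjugation by `x` as a self-map of `P`
  let f : Function.End ↥P := fun y => ⟨x * y * x⁻¹, (Subgroup.mem_normalizer_iff.mp hx y).mp y.2⟩
  have hfpow : ∀ k : ℕ, ∀ y : ↥P, (((f ^ k) y : ↥P) : G) = x ^ k * y * (x ^ k)⁻¹ := by
    intro k
    induction k with
    | zero =>
      intro y
      rw [pow_zero, pow_zero]
      change (y : G) = 1 * (y : G) * 1⁻¹
      group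
    | succ k ih =>
      intro y
      rw [pow_succ']
      change x * ((f ^ k) y : G) * x⁻¹ = _
      rw [ih y, pow_succ']
      group
  have hf : f ^ r ^ 1 = 1 := by
    rw [pow_one]
    funext y
    apply Subtype.ext
    rw [hfpow r y, hxr]
    change 1 * (y : G) * 1⁻¹ = (y : G)
    group
  have hmod := Equiv.Perm.card_fixedPoints_modEq (p := r) (n := 1) hf
  -- the fixed points are the subgroup `C_P(x)`
  let C : Subgroup ↥P := (Subgroup.centralizer ({x} : Set G)).subgroupOf P
  have hset : Function.fixedPoints f = (C : Set ↥P) := by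
    ext y
    rw [Function.mem_fixedPoints, Function.IsFixedPt, SetLike.mem_coe, Subgroup.mem_subgroupOf,
      Subgroup.mem_centralizer_iff]
    constructor
    · intro h z hz
      rw [Set.mem_singleton_iff] at hz
      subst hz
      have h1 : z * (y : G) * z⁻¹ = (y : G) := congrArg Subtype.val h
      calc z * (y : G) = z * (y : G) * z⁻¹ * z := by group
        _ = (y : G) * z := by rw [h1]
    · intro h
      apply Subtype.ext
      change x * (y : G) * x⁻¹ = (y : G)
      rw [h x (Set.mem_singleton x)]
      group
  have hcard : Fintype.card ↥(Function.fixedPoints f) = Nat.card C := by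
    rw [← Nat.card_eq_fintype_card]
    exact Nat.card_congr (Equiv.setCongr hset)
  rw [hcard, ← Nat.card_eq_fintype_card] at hmod
  have hCdvd : Nat.card C ∣ Nat.card P := Subgroup.card_subgroup_dvd_card C
  have hCeq : Nat.card C = Nat.card P := hdiv _ hCdvd hmod.symm
  have hCtop : C = ⊤ := Subgroup.eq_top_of_card_eq C hCeq
  intro y hy
  have hyC : (⟨y, hy⟩ : ↥P) ∈ C := by rw [hCtop]; exact Subgroup.mem_top _
  rw [Subgroup.mem_subgroupOf, Subgroup.mem_centralizer_iff] at hyC
  exact hyC x (Set.mem_singleton x)

end Cfsg.Agent.Helper74.O2520
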