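import Mathlib
import Cfsg.Agent.Lib.Helper17.Simple
import Cfsg.Agent.Lib.Helper17.Burnside
import Cfsg.Agent.Lib.Helper17.EmbedNormalizer
import Cfsg.Agent.Lib.Helper17.PrimeSylow
import Cfsg.Agent.Lib.Helper55.O2520Defs
import Cfsg.Agent.Lib.Helper74.O2520Cent

/-!
# O2520 server (S0984), piece (N3): in a simple group of order `2520` with `n_7 = 120` and `n_5 = 126`,
either there is a subgroup of order `360` or `n_3 = 70`.
-/

set_option autoImplicit false

namespace Cfsg.Agent.Helper74.O2520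

open Cfsg.Agent.Helper17 Cfsg.Agent.Helper55.O2520

universe u

theorem h74_n3_num : ∀ d ∈ Nat.divisors 280, d % 3 = 1 →
    d = 1 ∨ d = 4 ∨ d = 7 ∨ d = 10 ∨ d = 28 ∨ d = 40 ∨ d = 70 ∨ d = 280 := by
  decide

theorem h74_div9_7' : ∀ d ∈ Nat.divisors 9, d % 7 = 9 % 7 → d = 9 := by decide

theorem h74_div9_7 : ∀ d, d ∣ 9 → d % 7 = 9 % 7 → d = 9 :=
  fun d hd => h74_div9_7' d (Nat.mem_divisors.2 ⟨hd, by norm_num⟩)

theorem h74_div9_5' : ∀ d ∈ Nat.divisors 9, d % 5 = 9 % 5 → d = 9 := by decide

theorem h74_div9_5 : ∀ d, d ∣ 9 → d % 5 = 9 % 5 → d = 9 :=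
  fun d hd => h74_div9_5' d (Nat.mem_divisors.2 ⟨hd, by norm_num⟩)

/-- If a prime `r` (exactly dividing `|G|`) divides `|N(P)|` for a subgroup `P` which every element of order `r`
normalizing it must centralize, then `|P|` divides `|N(Q)|` for some Sylow `r`-subgroup `Q`. -/
theorem h74_link {G : Type u} [Group G] [Finite G] (P : Subgroup G) (r m : ℕ) [hr : Fact r.Prime]
    (hGr : Nat.card G = r ^ 1 * m) (hrm : ¬ r ∣ m)
    (hdiv : ∀ d, d ∣ Nat.card P → d % r = Nat.card P % r → d = Nat.card P)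
    (hdvd : r ∣ Nat.card (Subgroup.normalizer (P : Set G))) :
    ∃ Q : Sylow r G, Nat.card P ∣ Nat.card (Subgroup.normalizer ((Q : Subgroup G) : Set G)) := by
  obtain ⟨x', hx'⟩ := exists_prime_orderOf_dvd_card' (G := ↥(Subgroup.normalizer (P : Set G))) r hdvd
  obtain ⟨x, hx⟩ : ∃ x : G, x = (x' : G) := ⟨_, rfl⟩
  have hxo : orderOf x = r := by rw [hx, Subgroup.orderOf_coe, hx']
  have hxN : x ∈ Subgroup.normalizer (P : Set G) := hx ▸ x'.2
  have hxr : x ^ r = 1 := by rw [← hxo]; exact pow_orderOf_eq_one x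
  have hcomm := h74_centralizes P x r hxN hxr hdiv
  obtain ⟨Q, hxQ⟩ := exists_sylow_mem_of_orderOf x hxo
  have hQc : Nat.card (Q : Subgroup G) = r := by
    have := sylow_card_eq Q hGr hrm
    rwa [pow_one] at this
  have hx1 : x ≠ 1 := by
    rintro rfl
    rw [orderOf_one] at hxo
    exact hr.out.one_lt.ne' hxo.symm
  have hQz := (zpowers_eq_of_card_prime (Q : Subgroup G) hQc x hxQ hx1).1
  refine ⟨Q, Subgroup.card_dvd_of_le ?_⟩
  intro y hy
  apply Subgroup.centralizer_le_normalizer
  rw [Subgroup.mem_centralizer_iff]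
  intro h hh
  rw [SetLike.mem_coe, ← hQz] at hh
  obtain ⟨k, rfl⟩ := Subgroup.mem_zpowers_iff.1 hh
  have hc : Commute x y := hcomm y hy
  exact (hc.zpow_left k).eq

/-- (N3) -/
theorem card_sylow3 {G : Type u} [Group G] [Finite G] [IsSimpleGroup G] (hG : Nat.card G = 2520)
    (h7 : Nat.card (Sylow 7 G) = 120) (h5 : Nat.card (Sylow 5 G) = 126) :
    Done G ∨ Nat.card (Sylow 3 G) = 70 := by
  have h3 : Fact (Nat.Prime 3) := ⟨by norm_num⟩
  have hp5 : Fact (Nat.Prime 5) := ⟨by norm_num⟩
  have hp7 : Fact (Nat.Prime 7) := ⟨by norm_num⟩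
  have hn : Nat.card G = 3 ^ 2 * 280 := by rw [hG]; norm_num
  have hpm : ¬ 3 ∣ 280 := by norm_num
  have hna : ¬ IsMulCommutative G := not_comm_of_not_prime (by rw [hG]; norm_num)
  obtain ⟨hd1, hd2⟩ := sylow_count (G := G) (p := 3) hn hpm
  have hne := sylow_count_ne_one (G := G) (p := 3) hn hpm (by norm_num) (by norm_num)
  obtain ⟨P⟩ : Nonempty (Sylow 3 G) := inferInstance
  have hPc : Nat.card (P : Subgroup G) = 9 := by
    have := sylow_card_eq P hn hpm
    rw [this]; norm_num
  have hN := card_normalizer_mul_sylow_count P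
  rw [hG] at hN
  -- the two links
  have hno7 : ¬ 7 ∣ Nat.card (Subgroup.normalizer ((P : Subgroup G) : Set G)) := by
    intro hdvd
    obtain ⟨Q, hQ⟩ := h74_link (P : Subgroup G) 7 360 (by rw [hG]; norm_num) (by norm_num)
      (by rw [hPc]; exact h74_div9_7) hdvd
    have hNQ := card_normalizer_mul_sylow_count Q
    rw [hG, h7] at hNQ
    have : Nat.card (Subgroup.normalizer ((Q : Subgroup G) : Set G)) = 21 := by omega
    rw [this, hPc] at hQ
    omega
  have hno5 : ¬ 5 ∣ Nat.card (Subgroup.normalizer ((P : Subgroup G) : Set G)) := by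
    intro hdvd
    obtain ⟨Q, hQ⟩ := h74_link (P : Subgroup G) 5 504 (by rw [hG]; norm_num) (by norm_num)
      (by rw [hPc]; exact h74_div9_5) hdvd
    have hNQ := card_normalizer_mul_sylow_count Q
    rw [hG, h5] at hNQ
    have : Nat.card (Subgroup.normalizer ((Q : Subgroup G) : Set G)) = 20 := by omega
    rw [this, hPc] at hQ
    omega
  rcases h74_n3_num _ (Nat.mem_divisors.2 ⟨hd1, by norm_num⟩) hd2 with
    h | h | h | h | h | h | h | h
  · exact absurd h hne
  · exfalso
    have := sylow_count_factorial (G := G) (p := 3) hna hne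
    rw [h, hG] at this
    revert this
    decide
  · left
    refine ⟨Subgroup.normalizer ((P : Subgroup G) : Set G), ?_⟩
    rw [h] at hN
    omega
  · exfalso
    rw [h] at hN
    apply hno7
    have : Nat.card (Subgroup.normalizer ((P : Subgroup G) : Set G)) = 252 := by omega
    rw [this]; norm_num
  · exfalso
    rw [h] at hN
    apply hno5
    have : Nat.card (Subgroup.normalizer ((P : Subgroup G) : Set G)) = 90 := by omega
    rw [this]; norm_num
  · exfalso
    rw [h] at hN
    apply hno7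
    have : Nat.card (Subgroup.normalizer ((P : Subgroup G) : Set G)) = 63 := by omega
    rw [this]; norm_num
  · right; exact h
  · exfalso
    rw [h] at hN
    have hNc : Nat.card (Subgroup.normalizer ((P : Subgroup G) : Set G)) = 9 := by omega
    have hPN : (P : Subgroup G) = Subgroup.normalizer ((P : Subgroup G) : Set G) :=
      Subgroup.eq_of_le_of_card_ge Subgroup.le_normalizer (by rw [hNc, hPc])
    have hcm : IsMulCommutative ↥(P : Subgroup G) :=
      IsPGroup.isMulCommutative_of_card_eq_prime_sq (p := 3) (by rw [hPc]; norm_num)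
    have hab : ∀ a b : ↥(P : Subgroup G), a * b = b * a := fun a b => hcm.is_comm.comm a b
    apply not_normalizer_le_centralizer P (by rw [hPc]; norm_num) (by rw [hPc, hG]; norm_num)
    intro g hg
    rw [← hPN] at hg
    rw [Subgroup.mem_centralizer_iff]
    intro y hy
    have := hab ⟨y, hy⟩ ⟨g, hg⟩
    exact congrArg Subtype.val this

end Cfsg.Agent.Helper74.O2520
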