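import Mathlib
import Cfsg.Agent.Lib.Helper14.TSPDefs

set_option autoImplicit false

/-!
TSP server (helper14, S5980), piece (E1) `conj_mem_of_isometry`.
-/

namespace Cfsg.Agent.Helper74.TSP

open Matrix Module Polynomial
open scoped Kronecker
open Cfsg.Agent.Helper14.TSP

universe u

variable {F : Type u} [Field F]

/-- the invertible matrix of a linear self-equivalence of `ι → F` -/
noncomputable def glOfEquiv {ι : Type} [Fintype ι] [DecidableEq ι]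
    (L : (ι → F) ≃ₗ[F] (ι → F)) : GL ι F :=
  ⟨LinearMap.toMatrix' L.toLinearMap, LinearMap.toMatrix' L.symm.toLinearMap,
    by rw [← LinearMap.toMatrix'_comp]; simp,
    by rw [← LinearMap.toMatrix'_comp]; simp⟩

theorem glOfEquiv_mulVec {ι : Type} [Fintype ι] [DecidableEq ι]
    (L : (ι → F) ≃ₗ[F] (ι → F)) (v : ι → F) : (glOfEquiv L).val *ᵥ v = L v := by
  show LinearMap.toMatrix' L.toLinearMap *ᵥ v = L v
  rw [LinearMap.toMatrix'_mulVec]
  rfl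

theorem glOfEquiv_inv_mulVec {ι : Type} [Fintype ι] [DecidableEq ι]
    (L : (ι → F) ≃ₗ[F] (ι → F)) (v : ι → F) : (glOfEquiv L)⁻¹.val *ᵥ v = L.symm v := by
  show LinearMap.toMatrix' L.symm.toLinearMap *ᵥ v = L.symm v
  rw [LinearMap.toMatrix'_mulVec]
  rfl

/-- (E1) if `Θ` is an isometry from the model form `Φ` (which `X ↦ P (X ∘ e)` also is) and `Θ`
intertwines `x` with a Kronecker product, then `x` is `Sp`-conjugate into the tensor subgroup. -/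
theorem conj_mem_of_isometry {a b d : ℕ} (e : (Fin d ⊕ Fin d) ≃ Fin a × Fin b)
    (P : GL (Fin d ⊕ Fin d) F) (Φ : (Fin a × Fin b → F) → (Fin a × Fin b → F) → F)
    (hS : ∀ X Y : Fin a × Fin b → F,
      Cfsg.sympForm d F (P.val *ᵥ (X ∘ e)) (P.val *ᵥ (Y ∘ e)) = Φ X Y)
    (x : GL (Fin d ⊕ Fin d) F) (Θ : (Fin a × Fin b → F) ≃ₗ[F] (Fin d ⊕ Fin d → F))
    (hΘ : ∀ X Y, Cfsg.sympForm d F (Θ X) (Θ Y) = Φ X Y)
    (A : GL (Fin a) F) (B : GL (Fin b) F)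
    (hx : ∀ X, x.val *ᵥ Θ X = Θ ((A.val ⊗ₖ B.val) *ᵥ X)) :
    ∃ g ∈ Cfsg.spGL d F, g⁻¹ * x * g ∈ Cfsg.Geo.tensorProductSubgroup a b e P := by
  set φ := phiS e P with hφ
  set L : (Fin d ⊕ Fin d → F) ≃ₗ[F] (Fin d ⊕ Fin d → F) := φ.trans Θ with hL
  refine ⟨glOfEquiv L, ?_, ?_⟩
  · -- isometry
    show ∀ u v, Cfsg.sympForm d F ((glOfEquiv L).val *ᵥ u) ((glOfEquiv L).val *ᵥ v) =
      Cfsg.sympForm d F u v
    intro u v
    rw [glOfEquiv_mulVec, glOfEquiv_mulVec]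
    show Cfsg.sympForm d F (Θ (φ u)) (Θ (φ v)) = _
    rw [hΘ, ← hS, ← phiS_symm_apply, ← phiS_symm_apply, ← hφ, LinearEquiv.symm_apply_apply,
      LinearEquiv.symm_apply_apply]
  · rw [mem_tensorS_iff]
    refine ⟨A, B, ?_⟩
    intro v
    rw [Units.val_mul, Units.val_mul, ← Matrix.mulVec_mulVec, ← Matrix.mulVec_mulVec,
      glOfEquiv_mulVec, glOfEquiv_inv_mulVec]
    show φ (L.symm (x.val *ᵥ Θ (φ v))) = _
    rw [hx]
    show φ (φ.symm (Θ.symm (Θ ((A.val ⊗ₖ B.val) *ᵥ φ v)))) = _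
    rw [LinearEquiv.symm_apply_apply, LinearEquiv.apply_symm_apply]

end Cfsg.Agent.Helper74.TSP
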