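import Mathlib
import Cfsg.Agent.Lib.Helper96.SympInvol

set_option autoImplicit false

/-!
TSP server (helper14, S5980), piece (PP) `pick_pos`.
-/

namespace Cfsg.Agent.Helper74.TSP

open Matrix Module Polynomial

universe u

variable {F : Type u} [Field F]
variable {V : Type*} [AddCommGroup V] [Module F V]

/-- the pick step for an eigenvector `u` of eigenvalue `ε = ±1` -/
theorem pick_of_eigen (h2 : (2 : F) ≠ 0) (f : V → V → F)
    (hf : Cfsg.Agent.Helper96.SympInvol.AltForm f) (x : V →ₗ[F] V)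
    (hxf : ∀ u w, f (x u) (x w) = f u w) (hx : ∀ v, x (x v) = v)
    (C : Submodule F V) (hC : ∀ u ∈ C, x u ∈ C) (hCnd : ∀ u ∈ C, u ≠ 0 → ∃ w ∈ C, f u w ≠ 0)
    (κ : F) (ε : F) (hε : ε * ε = 1) (u : V) (huC : u ∈ C) (hu0 : u ≠ 0) (hxu : x u = ε • u) :
    ∃ v ∈ C, f u v = κ ∧ x v = ε • v := by
  obtain ⟨w, hwC, hw⟩ := hCnd u huC hu0
  have h1 : f u (x w) = ε * f u w := by
    have := hxf u (x w)
    rw [hx, hxu, hf.smul_left] at this
    exact this.symm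
  set v₀ : V := w + ε • x w with hv₀
  have hv₀C : v₀ ∈ C := C.add_mem hwC (C.smul_mem _ (hC w hwC))
  have hfv₀ : f u v₀ = 2 * f u w := by
    rw [hv₀, hf.add_right, hf.smul_right, h1, ← mul_assoc, hε]
    ring
  have hxv₀ : x v₀ = ε • v₀ := by
    rw [hv₀, map_add, map_smul, hx, smul_add, smul_smul, hε, one_smul, add_comm]
  have hne : 2 * f u w ≠ 0 := mul_ne_zero h2 hw
  refine ⟨(κ / (2 * f u w)) • v₀, C.smul_mem _ hv₀C, ?_, ?_⟩
  · rw [hf.smul_right, hfv₀, div_mul_cancel₀ _ hne]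
  · rw [map_smul, hxv₀, smul_comm]

/-- (PP) the pick step for an involution. -/
theorem pick_pos (h2 : (2 : F) ≠ 0) (f : V → V → F)
    (hf : Cfsg.Agent.Helper96.SympInvol.AltForm f) (x : V →ₗ[F] V)
    (hxf : ∀ u w, f (x u) (x w) = f u w) (hx : ∀ v, x (x v) = v)
    (C : Submodule F V) (hC : ∀ u ∈ C, x u ∈ C) (hCnd : ∀ u ∈ C, u ≠ 0 → ∃ w ∈ C, f u w ≠ 0)
    (hC0 : C ≠ ⊥) (κ : F) (hκ : κ ≠ 0) :
    ∃ u ∈ C, ∃ v ∈ C, ∃ ε : F, ε ≠ 0 ∧ f u v = κ ∧
      x u = ε • ((1 : Matrix (Fin 2) (Fin 2) F) 0 0 • u + (1 : Matrix (Fin 2) (Fin 2) F) 1 0 • v) ∧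
      x v = ε • ((1 : Matrix (Fin 2) (Fin 2) F) 0 1 • u + (1 : Matrix (Fin 2) (Fin 2) F) 1 1 • v) := by
  have key : ∃ u ∈ C, u ≠ 0 ∧ ∃ ε : F, ε * ε = 1 ∧ x u = ε • u := by
    obtain ⟨c, hcC, hc0⟩ := (Submodule.ne_bot_iff C).mp hC0
    by_cases h : c + x c = 0
    · refine ⟨c - x c, C.sub_mem hcC (hC c hcC), ?_, -1, by ring, ?_⟩
      · intro h'
        have h3 : (2 : F) • c = 0 := by
          have : (2 : F) • c = (c + x c) + (c - x c) := by
            rw [two_smul]; abel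
          rw [this, h, h', add_zero]
        rcases smul_eq_zero.mp h3 with h4 | h4
        · exact h2 h4
        · exact hc0 h4
      · rw [map_sub, hx, neg_smul, one_smul, neg_sub]
    · refine ⟨c + x c, C.add_mem hcC (hC c hcC), h, 1, by ring, ?_⟩
      rw [map_add, hx, one_smul, add_comm]
  obtain ⟨u, huC, hu0, ε, hε, hxu⟩ := key
  obtain ⟨v, hvC, hfv, hxv⟩ := pick_of_eigen h2 f hf x hxf hx C hC hCnd κ ε hε u huC hu0 hxu
  have hε0 : ε ≠ 0 := by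
    intro h0
    rw [h0, mul_zero] at hε
    exact zero_ne_one hε
  refine ⟨u, huC, v, hvC, ε, hε0, hfv, ?_, ?_⟩
  · rw [Matrix.one_apply_eq, Matrix.one_apply_ne (by decide : (1 : Fin 2) ≠ 0), one_smul,
      zero_smul, add_zero]
    exact hxu
  · rw [Matrix.one_apply_eq, Matrix.one_apply_ne (by decide : (0 : Fin 2) ≠ 1), one_smul,
      zero_smul, zero_add]
    exact hxv

end Cfsg.Agent.Helper74.TSP
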