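import Mathlib
import Cfsg.Agent.Lib.Helper7.CWDefs
import Cfsg.Agent.Lib.Helper7.LeechBasic

/-!
CW server (helper7, S0406), piece (ID) `ident`: identification with `leechLattice`.
-/

set_option autoImplicit false
open Matrix

namespace Cfsg.Agent.Helper74.CW
open Cfsg Cfsg.Agent.Helper7.CW

variable {Λ : AddSubgroup V}

theorem sum_uvec (k : Fin 24) : ∑ i, uvec k i = 20 := by
  have h : ∀ i, uvec k i = 1 - 4 * (if i = k then 1 else 0) := by
    intro i
    unfold uvec
    split_ifs <;> norm_num
  simp_rw [h]
  rw [Finset.sum_sub_distrib, ← Finset.mul_sum]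
  simp

theorem cast_sub_two_mul (z t : ℤ) : ((z - 2 * t : ℤ) : ZMod 2) = (z : ZMod 2) := by
  push_cast
  have h2 : (2 : ZMod 2) = 0 := by decide
  rw [h2, zero_mul, sub_zero]

theorem cast_add_two_mul (z t : ℤ) : ((z + 2 * t : ℤ) : ZMod 2) = (z : ZMod 2) := by
  push_cast
  have h2 : (2 : ZMod 2) = 0 := by decide
  rw [h2, zero_mul, add_zero]

/-- (ID) identification with `leechLattice`. -/
theorem ident (h : CL Λ) (k : Fin 24) (hu : uvec k ∈ Λ)
    (hEV : ∀ a : V, dbl a ∈ Λ ↔ (redV a ∈ code Λ ∧ (4 : ℤ) ∣ ∑ i, a i))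
    (e : Fin 24 ≃ Cfsg.GolayPt)
    (he : ∀ w : Cfsg.GolayPt → ZMod 2,
      w ∈ Cfsg.golayCode ↔ (fun i => w (e i)) ∈ code Λ) (y : V) :
    y ∈ Λ ↔ (fun p => y (e.symm p)) ∈ Cfsg.leechLattice := by
  constructor
  · intro hy
    by_cases hpar : (2 : ℤ) ∣ y k
    · -- all coordinates even
      have hall : ∀ i, (2 : ℤ) ∣ y i := fun i => by
        have h1 := h.par y hy i k
        omega
      obtain ⟨a, rfl⟩ : ∃ a : V, y = dbl a :=
        ⟨fun i => y i / 2, by funext i; exact (Int.mul_ediv_cancel' (hall i)).symm⟩
      obtain ⟨hc, h4⟩ := (hEV a).mp hy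
      rw [Cfsg.Agent.Helper7.mem_leechLattice_iff]
      refine ⟨0, fun p => a (e.symm p), fun p => ?_, ?_, ?_⟩
      · show dbl a (e.symm p) = 0 + 2 * a (e.symm p)
        unfold dbl
        ring
      · rw [he]
        have : (fun i => Cfsg.Agent.Helper91.red (fun p => a (e.symm p)) (e i)) = redV a := by
          funext i
          unfold Cfsg.Agent.Helper91.red redV
          simp only [Equiv.symm_apply_apply]
        rw [this]
        exact hc
      · have hs : ∑ p, dbl a (e.symm p) = 2 * ∑ i, a i := by
          rw [Equiv.sum_comp e.symm (dbl a)]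
          unfold dbl
          rw [Finset.mul_sum]
        show (∑ p, dbl a (e.symm p)) ≡ 4 * 0 [ZMOD 8]
        rw [hs]
        obtain ⟨c, hc⟩ := h4
        rw [hc, Int.modEq_iff_dvd]
        exact ⟨-c, by ring⟩
    · -- all coordinates odd
      have hodd : ∀ i, (2 : ℤ) ∣ y i - uvec k i := fun i => by
        have h1 := h.par y hy i k
        unfold uvec
        split_ifs <;> omega
      have hz : y - uvec k ∈ Λ := Λ.sub_mem hy hu
      obtain ⟨a, ha⟩ : ∃ a : V, y - uvec k = dbl a :=
        ⟨fun i => (y i - uvec k i) / 2, by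
          funext i; exact (Int.mul_ediv_cancel' (hodd i)).symm⟩
      rw [ha] at hz
      obtain ⟨hc, h4⟩ := (hEV a).mp hz
      have hy' : ∀ i, y i = uvec k i + 2 * a i := fun i => by
        have := congrFun ha i
        simp only [Pi.sub_apply, dbl] at this
        linarith
      rw [Cfsg.Agent.Helper7.mem_leechLattice_iff]
      refine ⟨1, fun p => a (e.symm p) - 2 * (if e.symm p = k then 1 else 0),
        fun p => ?_, ?_, ?_⟩
      · show y (e.symm p) = 1 + 2 * (a (e.symm p) - 2 * (if e.symm p = k then 1 else 0))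
        rw [hy']
        unfold uvec
        split_ifs <;> ring
      · rw [he]
        have : (fun i => Cfsg.Agent.Helper91.red
            (fun p => a (e.symm p) - 2 * (if e.symm p = k then 1 else 0)) (e i)) = redV a := by
          funext i
          unfold Cfsg.Agent.Helper91.red redV
          simp only [Equiv.symm_apply_apply]
          exact cast_sub_two_mul _ _
        rw [this]
        exact hc
      · show (∑ p, y (e.symm p)) ≡ 4 * 1 [ZMOD 8]
        rw [Equiv.sum_comp e.symm y]
        have hs : ∑ i, y i = 20 + 2 * ∑ i, a i := by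
          simp_rw [hy']
          rw [Finset.sum_add_distrib, sum_uvec, Finset.mul_sum]
        rw [hs]
        obtain ⟨c, hc⟩ := h4
        rw [hc, Int.modEq_iff_dvd]
        exact ⟨-2 - c, by ring⟩
  · intro hx
    rw [Cfsg.Agent.Helper7.mem_leechLattice_iff] at hx
    obtain ⟨m, a', hm, hx1, hcode, hsum⟩ := Cfsg.Agent.Helper91.LP_normalize hx
    have hy1 : ∀ i, y i = m + 2 * a' (e i) := fun i => by
      have := hx1 (e i)
      simp only [Equiv.symm_apply_apply] at this
      exact this
    have hcode' : redV (fun i => a' (e i)) ∈ code Λ := (he _).mp hcode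
    have hsum' : (∑ i, y i) ≡ 4 * m [ZMOD 8] := by
      rw [← Equiv.sum_comp e.symm y]
      exact hsum
    rcases hm with rfl | rfl
    · -- m = 0
      have hyd : y = dbl (fun i => a' (e i)) := by
        funext i
        rw [hy1 i]
        unfold dbl
        ring
      rw [hyd]
      refine (hEV _).mpr ⟨hcode', ?_⟩
      have hs : ∑ i, y i = 2 * ∑ i, a' (e i) := by
        simp_rw [hy1]
        rw [Finset.mul_sum]
        simp
      rw [hs, Int.modEq_iff_dvd] at hsum'
      omega
    · -- m = 1
      have hyd : y = uvec k + dbl (fun i => a' (e i) + 2 * (if i = k then 1 else 0)) := by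
        funext i
        rw [hy1 i]
        simp only [Pi.add_apply, uvec, dbl]
        split_ifs <;> ring
      rw [hyd]
      refine Λ.add_mem hu ((hEV _).mpr ⟨?_, ?_⟩)
      · have : redV (fun i => a' (e i) + 2 * (if i = k then 1 else 0)) =
            redV (fun i => a' (e i)) := by
          funext i
          unfold redV
          exact cast_add_two_mul _ _
        rw [this]
        exact hcode'
      · have hsb : ∑ i, (a' (e i) + 2 * (if i = k then (1 : ℤ) else 0)) =
            ∑ i, a' (e i) + 2 := by
          rw [Finset.sum_add_distrib, ← Finset.mul_sum]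
          simp
        have hs : ∑ i, y i = 24 + 2 * ∑ i, a' (e i) := by
          simp_rw [hy1]
          rw [Finset.sum_add_distrib, ← Finset.mul_sum]
          simp
        rw [hs, Int.modEq_iff_dvd] at hsum'
        rw [hsb]
        omega

end Cfsg.Agent.Helper74.CW
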