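import Mathlib

set_option autoImplicit false

open Classical

namespace Cfsg.Agent.Helper74.AFT

/-- Fixed point congruence for a `2`-subgroup acting on a stable finite set. -/
theorem card_modEq_card_fixed {Λ X : Type*} [Group Λ] [MulAction Λ X]
    (M : Subgroup Λ) (hM : IsPGroup 2 M)
    (P : Finset X) (hP : ∀ φ ∈ M, ∀ χ ∈ P, φ • χ ∈ P)
    [DecidablePred fun χ : X => ∀ φ ∈ M, φ • χ = χ] :
    P.card ≡ (P.filter fun χ => ∀ φ ∈ M, φ • χ = χ).card [MOD 2] := by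
  let _ : MulAction M {χ // χ ∈ P} :=
    { smul := fun φ χ => ⟨φ.1 • χ.1, hP φ.1 φ.2 χ.1 χ.2⟩
      one_smul := fun χ => Subtype.ext (one_smul _ χ.1)
      mul_smul := fun φ ψ χ => Subtype.ext (mul_smul φ.1 ψ.1 χ.1) }
  have hsmul : ∀ (φ : M) (χ : {χ // χ ∈ P}), ((φ • χ : {χ // χ ∈ P}) : X) =
      φ.1 • χ.1 := fun _ _ => rfl
  have : Fact (Nat.Prime 2) := ⟨Nat.prime_two⟩
  have h := hM.card_modEq_card_fixedPoints {χ // χ ∈ P}
  have h1 : Nat.card {χ // χ ∈ P} = P.card := by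
    rw [Nat.card_eq_fintype_card, Fintype.card_coe]
  have h2 : Nat.card (MulAction.fixedPoints M {χ // χ ∈ P}) =
      (P.filter fun χ => ∀ φ ∈ M, φ • χ = χ).card := by
    rw [← Fintype.card_coe, ← Nat.card_eq_fintype_card]
    apply Nat.card_congr
    refine ⟨fun χ => ⟨χ.1.1, ?_⟩, fun χ => ⟨⟨χ.1, (Finset.mem_filter.1 χ.2).1⟩, ?_⟩, ?_, ?_⟩
    · rw [Finset.mem_filter]
      refine ⟨χ.1.2, fun φ hφ => ?_⟩
      have := χ.2 ⟨φ, hφ⟩
      have h3 := congrArg Subtype.val this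
      rw [hsmul] at h3
      exact h3
    · intro φ
      apply Subtype.ext
      rw [hsmul]
      exact (Finset.mem_filter.1 χ.2).2 φ.1 φ.2
    · intro χ; rfl
    · intro χ; rfl
  rw [h1, h2] at h
  exact h

/-- The combinatorial core of the Alperin–Feit–Thompson theorem. -/
theorem aft_core {Λ X : Type*} [CommGroup Λ] [Fintype Λ] [MulAction Λ X]
    (hΛ : IsPGroup 2 Λ) (S : Finset X)
    (h1 : ∀ (φ : Λ) (χ : X), χ ∈ S → (φ ^ 2) • χ = χ → φ • χ ∈ S)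
    (h2 : ∀ χ ∈ S, ∀ L : Finset Λ, (∀ φ ∈ L, φ • χ = χ) → L.card ≤ 4)
    (h3 : S.card % 2 = 1)
    (h4' : 4 ∣ Nat.card {φ : Λ // φ ^ 2 = 1}) :
    Fintype.card Λ = 4 := by
  have h4 : 4 ∣ (Finset.univ.filter fun φ : Λ => φ ^ 2 = 1).card := by
    rw [Nat.card_eq_fintype_card, Fintype.card_subtype] at h4'
    exact h4'
  set L2 := Finset.univ.filter fun φ : Λ => φ ^ 2 = 1 with hL2
  set L2g : Subgroup Λ := (powMonoidHom 2 : Λ →* Λ).ker with hL2gdef
  have hL2g : ∀ φ : Λ, φ ∈ L2g ↔ φ ^ 2 = 1 := fun φ => by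
    rw [hL2gdef, MonoidHom.mem_ker, powMonoidHom_apply]
  set L4g : Subgroup Λ := (powMonoidHom 4 : Λ →* Λ).ker with hL4gdef
  have hL4g : ∀ φ : Λ, φ ∈ L4g ↔ φ ^ 4 = 1 := fun φ => by
    rw [hL4gdef, MonoidHom.mem_ker, powMonoidHom_apply]
  have hL2gp : IsPGroup 2 L2g := hΛ.to_subgroup L2g
  have hL4gp : IsPGroup 2 L4g := hΛ.to_subgroup L4g
  have hSstab : ∀ φ ∈ L2g, ∀ χ ∈ S, φ • χ ∈ S := by
    intro φ hφ χ hχ
    apply h1 φ χ hχ
    rw [(hL2g φ).1 hφ, one_smul]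
  set F := S.filter fun χ => ∀ φ ∈ L2g, φ • χ = χ with hF
  have e1 : S.card ≡ F.card [MOD 2] := card_modEq_card_fixed L2g hL2gp S hSstab
  have hFstab : ∀ φ ∈ L4g, ∀ χ ∈ F, φ • χ ∈ F := by
    intro φ hφ χ hχ
    rw [hF, Finset.mem_filter] at hχ ⊢
    obtain ⟨hχS, hχfix⟩ := hχ
    have hφ2 : φ ^ 2 ∈ L2g := by
      rw [hL2g, ← pow_mul]
      exact (hL4g φ).1 hφ
    refine ⟨h1 φ χ hχS (hχfix _ hφ2), ?_⟩
    intro ε hε
    rw [smul_smul, mul_comm, ← smul_smul, hχfix ε hε]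
  set F' := F.filter fun χ => ∀ φ ∈ L4g, φ • χ = χ with hF'
  have e2 : F.card ≡ F'.card [MOD 2] := card_modEq_card_fixed L4g hL4gp F hFstab
  have hF'odd : F'.card % 2 = 1 := by
    unfold Nat.ModEq at e1 e2
    omega
  have hF'ne : F'.Nonempty := by
    rw [← Finset.card_pos]
    omega
  obtain ⟨χ₁, hχ₁⟩ := hF'ne
  rw [hF', Finset.mem_filter, hF, Finset.mem_filter] at hχ₁
  obtain ⟨⟨hχ₁S, _⟩, hχ₁fix⟩ := hχ₁
  set L4 := Finset.univ.filter fun φ : Λ => φ ^ 4 = 1 with hL4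
  have hb : L4.card ≤ 4 := by
    apply h2 χ₁ hχ₁S L4
    intro φ hφ
    simp only [hL4, Finset.mem_filter, Finset.mem_univ, true_and] at hφ
    exact hχ₁fix φ ((hL4g φ).2 hφ)
  have hsub : L2 ⊆ L4 := by
    intro φ hφ
    simp only [hL2, hL4, Finset.mem_filter, Finset.mem_univ, true_and] at hφ ⊢
    rw [show 4 = 2 * 2 from rfl, pow_mul, hφ, one_pow]
  have hle : L2.card ≤ L4.card := Finset.card_le_card hsub
  have hL2pos : 0 < L2.card := by
    rw [Finset.card_pos]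
    exact ⟨1, by simp [hL2]⟩
  have hL2eq4 : L2.card = 4 := by
    obtain ⟨q, hq⟩ := h4
    omega
  have hL24 : L2 = L4 := Finset.eq_of_subset_of_card_le hsub (by omega)
  have h42 : ∀ φ : Λ, φ ^ 4 = 1 → φ ^ 2 = 1 := by
    intro φ hφ
    have : φ ∈ L4 := by simp [hL4, hφ]
    rw [← hL24] at this
    simpa [hL2] using this
  have hall : ∀ k : ℕ, ∀ φ : Λ, φ ^ (2 ^ k) = 1 → φ ^ 2 = 1 := by
    intro k
    induction k with
    | zero =>
      intro φ hφ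
      rw [pow_zero, pow_one] at hφ
      rw [hφ, one_pow]
    | succ k ih =>
      intro φ hφ
      rcases k with _ | k
      · simpa using hφ
      · apply ih
        have h3' : (φ ^ 2 ^ k) ^ 4 = 1 := by
          rw [← pow_mul, show 2 ^ k * 4 = 2 ^ (k + 1 + 1) by ring]
          exact hφ
        have h4' := h42 _ h3'
        rw [← pow_mul, ← pow_succ] at h4'
        exact h4'
  have huniv : L2 = Finset.univ := by
    ext φ
    simp only [hL2, Finset.mem_filter, Finset.mem_univ, true_and, iff_true]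
    obtain ⟨k, hk⟩ := hΛ φ
    exact hall k φ hk
  rw [← Finset.card_univ, ← huniv]
  exact hL2eq4

end Cfsg.Agent.Helper74.AFT
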