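import Mathlib

set_option autoImplicit false

namespace Cfsg.Agent.Helper74.Cyc

open Subgroup

/-- In a finite commutative `p`-group with at most `p` solutions of `a ^ p = 1`, there are at most
`p ^ k` solutions of `a ^ (p ^ k) = 1`. -/
theorem card_pow_prime_pow_le {A : Type*} [CommGroup A] [Fintype A] [DecidableEq A] {p : ℕ}
    (h : (Finset.univ.filter fun a : A => a ^ p = 1).card ≤ p) (k : ℕ) :
    (Finset.univ.filter fun a : A => a ^ (p ^ k) = 1).card ≤ p ^ k := by
  induction k with
  | zero =>
    simp only [pow_zero, pow_one]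
    rw [Finset.card_le_one]
    intro a ha b hb
    simp only [Finset.mem_filter, Finset.mem_univ, true_and] at ha hb
    rw [ha, hb]
  | succ k ih =>
    set s := Finset.univ.filter fun a : A => a ^ (p ^ (k + 1)) = 1 with hs
    have himg : s.image (fun a => a ^ p) ⊆ Finset.univ.filter fun a : A => a ^ (p ^ k) = 1 := by
      intro b hb
      rw [Finset.mem_image] at hb
      obtain ⟨a, ha, rfl⟩ := hb
      simp only [hs, Finset.mem_filter, Finset.mem_univ, true_and] at ha ⊢
      rw [← pow_mul, ← pow_succ']
      exact ha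
    have hfib : ∀ b ∈ s.image (fun a => a ^ p), (s.filter fun a => a ^ p = b).card ≤ p := by
      intro b hb
      rw [Finset.mem_image] at hb
      obtain ⟨a₀, _, rfl⟩ := hb
      refine le_trans ?_ h
      apply Finset.card_le_card_of_injOn (fun a => a * a₀⁻¹)
      · intro a ha
        have ha' : a ^ p = a₀ ^ p := by
          have := Finset.mem_coe.1 ha
          simp only [Finset.mem_filter] at this
          exact this.2
        simp only [Finset.coe_filter, Finset.mem_univ, true_and, Set.mem_ofPred_eq]
        rw [mul_pow, inv_pow, ha', mul_inv_cancel]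
      · intro a _ b _ hab
        exact mul_right_cancel hab
    calc s.card ≤ p * (s.image (fun a => a ^ p)).card := Finset.card_le_mul_card_image s p hfib
      _ ≤ p * p ^ k := Nat.mul_le_mul_left p ((Finset.card_le_card himg).trans ih)
      _ = p ^ (k + 1) := by rw [pow_succ']

/-- A finite commutative `p`-group with at most `p` solutions of `a ^ p = 1` is cyclic. -/
theorem isCyclic_of_card_pow_prime_le {A : Type*} [CommGroup A] [Finite A] {p : ℕ}
    [hp : Fact p.Prime] (hA : IsPGroup p A) (h : Nat.card {a : A // a ^ p = 1} ≤ p) :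
    IsCyclic A := by
  classical
  have := Fintype.ofFinite A
  have h' : (Finset.univ.filter fun a : A => a ^ p = 1).card ≤ p := by
    rw [← Fintype.card_subtype, ← Nat.card_eq_fintype_card]
    exact h
  obtain ⟨N, hN⟩ := IsPGroup.iff_card.1 hA
  apply isCyclic_of_card_pow_eq_one_le
  intro n hn
  have hdvd : Nat.gcd n (p ^ N) ∣ p ^ N := Nat.gcd_dvd_right _ _
  obtain ⟨k, _, hk⟩ := (Nat.dvd_prime_pow hp.out).1 hdvd
  have hsub : (Finset.univ.filter fun a : A => a ^ n = 1) ⊆
      Finset.univ.filter fun a : A => a ^ (p ^ k) = 1 := by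
    intro a ha
    simp only [Finset.mem_filter, Finset.mem_univ, true_and] at ha ⊢
    rw [← hk]
    refine pow_gcd_eq_one.2 ⟨ha, ?_⟩
    rw [← hN]
    exact pow_card_eq_one'
  have hle : p ^ k ≤ n := by
    rw [← hk]
    exact Nat.le_of_dvd hn (Nat.gcd_dvd_left _ _)
  exact (Finset.card_le_card hsub).trans ((card_pow_prime_pow_le h' k).trans hle)

/-- A nilpotent group generated by its commutator subgroup and one element is generated by that
element. -/
theorem zpowers_eq_top_of_nilpotent (X : Type*) [Group X] [Group.IsNilpotent X] :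
    ∀ x : X, commutator X ⊔ zpowers x = ⊤ → zpowers x = ⊤ := by
  refine Group.nilpotent_center_quotient_ind
    (P := fun X _ _ => ∀ x : X, commutator X ⊔ zpowers x = ⊤ → zpowers x = ⊤) X ?_ ?_
  · intro X _ _ x _
    exact Subsingleton.elim _ _
  · intro X _ _ ih x hx
    set π := QuotientGroup.mk' (center X) with hπ
    have hsurj : Function.Surjective π := QuotientGroup.mk'_surjective _
    have h1 : (commutator X).map π = commutator (X ⧸ center X) := by
      rw [map_commutator_eq, MonoidHom.range_eq_top.mpr hsurj, _root_.commutator_def]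
    have h2 : (commutator X ⊔ zpowers x).map π = ⊤ := by
      rw [hx, ← MonoidHom.range_eq_map, MonoidHom.range_eq_top.mpr hsurj]
    rw [Subgroup.map_sup, h1, MonoidHom.map_zpowers] at h2
    have h3 : zpowers (π x) = ⊤ := ih (π x) h2
    have : IsCyclic (X ⧸ center X) := ⟨⟨π x, fun y => by
      have : y ∈ zpowers (π x) := by rw [h3]; trivial
      exact this⟩⟩
    have hcomm : IsMulCommutative X :=
      MonoidHom.isMulCommutative_of_isCyclic_of_ker_le_center π (by rw [hπ, QuotientGroup.ker_mk'])
    have h4 : commutator X = ⊥ := by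
      rw [commutator_eq_bot_iff]
      exact hcomm
    rwa [h4, bot_sup_eq] at hx

/-- A nilpotent group with cyclic abelianization is cyclic. -/
theorem isCyclic_of_isCyclic_abelianization (X : Type*) [Group X] [Group.IsNilpotent X]
    (h : IsCyclic (Abelianization X)) : IsCyclic X := by
  obtain ⟨a, ha⟩ := h.exists_generator
  obtain ⟨x, rfl⟩ := QuotientGroup.mk_surjective a
  have hx : commutator X ⊔ zpowers x = ⊤ := by
    rw [eq_top_iff]
    intro y _
    obtain ⟨k, hk⟩ := Subgroup.mem_zpowers_iff.1 (ha (QuotientGroup.mk y))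
    have h1 : y * (x ^ k)⁻¹ ∈ commutator X := by
      rw [← QuotientGroup.eq_one_iff]
      rw [QuotientGroup.mk_mul, QuotientGroup.mk_inv, QuotientGroup.mk_zpow]
      rw [mul_inv_eq_one]
      exact hk.symm
    have h2 : y = (y * (x ^ k)⁻¹) * x ^ k := by group
    rw [h2]
    exact Subgroup.mul_mem _ (Subgroup.mem_sup_left h1)
      (Subgroup.mem_sup_right (Subgroup.zpow_mem _ (Subgroup.mem_zpowers x) k))
  have h3 := zpowers_eq_top_of_nilpotent X x hx
  exact ⟨⟨x, fun y => by
    have : y ∈ zpowers x := by rw [h3]; trivial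
    exact this⟩⟩

end Cfsg.Agent.Helper74.Cyc
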