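import Mathlib
import Cfsg.Prelude.Def_Characters
import Cfsg.Prelude.Def_Blocks
import Cfsg.Agent.Lib.Helper74.AFT1
import Cfsg.Agent.Lib.Helper74.CyclicCrit
import Cfsg.Agent.Lib.Helper74.AFTCore

set_option autoImplicit false

open Cfsg
open scoped ComplexConjugate
open Classical

namespace Cfsg.Agent.Helper74.AFT

open Cfsg.Agent.Helper74.FS Cfsg.Agent.Helper74.Lin

universe u
variable {G : Type u} [Group G]

theorem charDegree_smul (φ : G →* ℂˣ) (χ : IrrCharacter G) :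
    charDegree ((φ • χ : IrrCharacter G) : G → ℂ) = charDegree (χ : G → ℂ) := by
  unfold charDegree
  rw [Lin.smul_apply]
  simp

/-- If `φ² • χ = χ` and `χ` is real then `φ • χ` is real. -/
theorem isRealChar_smul [Fintype G] (φ : G →* ℂˣ) (χ : IrrCharacter G) (hχ : IsRealChar χ)
    (h : (φ ^ 2) • χ = χ) : IsRealChar (φ • χ) := by
  intro g
  rw [Lin.smul_apply]
  have h1 := congrFun (congrArg Subtype.val h) g
  rw [Lin.smul_apply] at h1
  by_cases h0 : (χ : G → ℂ) g = 0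
  · rw [h0, mul_zero]; rfl
  · have h2 : (((φ ^ 2) g : ℂˣ) : ℂ) = 1 := by
      have : ((((φ ^ 2) g : ℂˣ) : ℂ) - 1) * (χ : G → ℂ) g = 0 := by
        rw [sub_mul, h1, one_mul, sub_self]
      rcases mul_eq_zero.1 this with h3 | h3
      · exact sub_eq_zero.1 h3
      · exact absurd h3 h0
    have h3 : ((φ g : ℂˣ) : ℂ) ^ 2 = 1 := by
      rw [MonoidHom.pow_apply, Units.val_pow_eq_pow_val] at h2
      exact h2
    have h4 : ((φ g : ℂˣ) : ℂ) = 1 ∨ ((φ g : ℂˣ) : ℂ) = -1 := sq_eq_one_iff.mp h3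
    rcases h4 with h4 | h4
    · rw [h4, one_mul]; exact hχ g
    · rw [h4, neg_one_mul, Complex.neg_im, hχ g, neg_zero]

end Cfsg.Agent.Helper74.AFT
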