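import Mathlib
import Cfsg.Prelude.Def_Characters
import Cfsg.Prelude.Def_Blocks
import Cfsg.Agent.Lib.Helper74.AFT2

set_option autoImplicit false

open Cfsg
open scoped ComplexConjugate
open Classical

namespace Cfsg.Agent.Helper74.AFT

open Cfsg.Agent.Helper74.FS Cfsg.Agent.Helper74.Lin

universe u
variable {G : Type u} [Group G]

/-- Real linear characters correspond to homomorphisms of exponent two. -/
theorem card_real_linear [Fintype G] [Fintype (IrrCharacter G)] [Fintype (G →* ℂˣ)] :
    (Finset.univ.filter fun χ : IrrCharacter G =>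
      charDegree (χ : G → ℂ) = 1 ∧ IsRealChar χ).card =
    (Finset.univ.filter fun φ : G →* ℂˣ => φ ^ 2 = 1).card := by
  have hfin : Finite G := Finite.of_fintype G
  have : (Finset.univ.filter fun χ : IrrCharacter G =>
      charDegree (χ : G → ℂ) = 1 ∧ IsRealChar χ) =
      (Finset.univ.filter fun φ : G →* ℂˣ => φ ^ 2 = 1).image ofHom := by
    ext χ
    simp only [Finset.mem_filter, Finset.mem_univ, true_and, Finset.mem_image]
    constructor
    · rintro ⟨hd, hr⟩
      have h1 := (charDegree_eq_one_iff χ).1 hd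
      refine ⟨toHom χ h1, ?_, ofHom_toHom χ h1⟩
      ext g
      rw [MonoidHom.pow_apply, Units.val_pow_eq_pow_val, toHom_apply, MonoidHom.one_apply,
        Units.val_one]
      have h2 : conj ((χ : G → ℂ) g) = (χ : G → ℂ) g := Complex.conj_eq_iff_im.2 (hr g)
      have h3 := Cfsg.Agent.Helper80.irr_inv χ g
      have h4 := Cfsg.Agent.Helper15.linear_char_inv _
        ⟨Cfsg.Agent.Helper80.isCharacter_of_irr χ.2, h1⟩ g
      have h5 := Cfsg.Agent.Helper15.linear_char_ne_zero _
        ⟨Cfsg.Agent.Helper80.isCharacter_of_irr χ.2, h1⟩ g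
      rw [h3, h2] at h4
      rw [pow_two]
      nth_rewrite 2 [h4]
      exact mul_inv_cancel₀ h5
    · rintro ⟨φ, hφ, rfl⟩
      refine ⟨(charDegree_eq_one_iff _).2 (ofHom_one_eq φ), ?_⟩
      intro g
      rw [ofHom_apply]
      have h1 : ((φ g : ℂˣ) : ℂ) ^ 2 = 1 := by
        have := congrArg (fun ψ : G →* ℂˣ => ((ψ g : ℂˣ) : ℂ)) hφ
        simpa [MonoidHom.pow_apply] using this
      rcases sq_eq_one_iff.mp h1 with h | h
      · rw [h]; rfl
      · rw [h]; simp
  rw [this, Finset.card_image_of_injective _ ofHom_injective]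

/-- The Alperin–Feit–Thompson theorem. -/
theorem aft_main [Fintype G] (hG : IsPGroup 2 G)
    (ht : Nat.card {x : G // orderOf x = 2} % 4 = 1) :
    IsCyclic G ∨ (commutator G).index = 4 := by
  have hfin : Finite G := Finite.of_fintype G
  have hp2 : Fact (Nat.Prime 2) := ⟨Nat.prime_two⟩
  have : Fintype (IrrCharacter G) := Fintype.ofFinite _
  have : Fintype (G →* ℂˣ) := Fintype.ofFinite _
  set S := Finset.univ.filter fun χ : IrrCharacter G =>
    charDegree (χ : G → ℂ) = 2 ∧ IsRealChar χ with hS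
  set L2 := Finset.univ.filter fun φ : G →* ℂˣ => φ ^ 2 = 1 with hL2
  -- the count modulo 4
  have hmod : (L2.card + 2 * S.card) % 4 = 2 := by
    have hcount := count_mod_four hG
    rw [card_real_linear] at hcount
    have h1 : ((1 + Nat.card {x : G // orderOf x = 2} : ℕ) : ZMod 4) =
        ((L2.card + 2 * S.card : ℕ) : ZMod 4) := by
      rw [hcount]
      push_cast
      rfl
    rw [ZMod.natCast_eq_natCast_iff'] at h1
    omega
  -- the group of linear characters is a 2-group
  have hΛcard : Nat.card (G →* ℂˣ) = (commutator G).index := card_hom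
  obtain ⟨N, hN⟩ := IsPGroup.iff_card.1 hG
  have hΛdvd : Nat.card (G →* ℂˣ) ∣ 2 ^ N := by
    rw [hΛcard, ← hN]
    exact Subgroup.index_dvd_card _
  obtain ⟨M, _, hM⟩ := (Nat.dvd_prime_pow Nat.prime_two).1 hΛdvd
  have hΛp : IsPGroup 2 (G →* ℂˣ) := IsPGroup.of_card hM
  set L2g : Subgroup (G →* ℂˣ) := (powMonoidHom 2 : (G →* ℂˣ) →* (G →* ℂˣ)).ker with hL2gdef
  have hL2g : ∀ φ : G →* ℂˣ, φ ∈ L2g ↔ φ ^ 2 = 1 := fun φ => by
    rw [hL2gdef, MonoidHom.mem_ker, powMonoidHom_apply]
  have hL2card : Nat.card L2g = L2.card := by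
    rw [Nat.card_eq_fintype_card, Fintype.card_subtype]
    congr 1
    ext φ
    simp only [Finset.mem_filter, Finset.mem_univ, true_and, hL2, hL2g]
  have hL2dvd : L2.card ∣ 2 ^ M := by
    rw [← hL2card, ← hM]
    exact Subgroup.card_subgroup_dvd_card _
  obtain ⟨j, _, hj⟩ := (Nat.dvd_prime_pow Nat.prime_two).1 hL2dvd
  rcases j with _ | _ | j
  · -- impossible by parity
    rw [pow_zero] at hj
    omega
  · -- cyclic case
    left
    rw [pow_one] at hj
    have h1 : Nat.card {φ : G →* ℂˣ // φ ^ 2 = 1} ≤ 2 := by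
      rw [Nat.card_eq_fintype_card, Fintype.card_subtype]
      exact le_of_eq hj
    have hcyc : IsCyclic (G →* ℂˣ) := Cfsg.Agent.Helper74.Cyc.isCyclic_of_card_pow_prime_le hΛp h1
    obtain ⟨e⟩ := exists_mulEquiv (G := G)
    have hcyc2 : IsCyclic (Abelianization G) :=
      isCyclic_of_surjective e e.surjective
    have hnil : Group.IsNilpotent G := hG.isNilpotent
    exact Cfsg.Agent.Helper74.Cyc.isCyclic_of_isCyclic_abelianization G hcyc2
  · -- the main case
    right
    have hL2four : L2.card = 4 * 2 ^ j := by rw [hj]; ring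
    have hSodd : S.card % 2 = 1 := by omega
    have hL2card' : Nat.card {φ : G →* ℂˣ // φ ^ 2 = 1} = L2.card := by
      rw [Nat.card_eq_fintype_card, Fintype.card_subtype]
    have hcore := aft_core (Λ := G →* ℂˣ) (X := IrrCharacter G) hΛp S ?_ ?_ hSodd
      ⟨2 ^ j, hL2card'.trans hL2four⟩
    · rw [← hΛcard, Nat.card_eq_fintype_card]
      exact hcore
    · intro φ χ hχ hfix
      simp only [hS, Finset.mem_filter, Finset.mem_univ, true_and] at hχ ⊢
      exact ⟨by rw [charDegree_smul]; exact hχ.1, isRealChar_smul φ χ hχ.2 hfix⟩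
    · intro χ hχ L hL
      simp only [hS, Finset.mem_filter, Finset.mem_univ, true_and] at hχ
      have := card_stabilizer_le χ L hL
      rw [hχ.1] at this
      exact this

end Cfsg.Agent.Helper74.AFT
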