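import Mathlib
import Cfsg.Prelude.Def_Blocks
import Cfsg.Agent.Lib.Helper74.DefectOrder

/-!
# Counting blocks against classes via a residue ring (helper74)

* `localSubring M`, `localMax M`, `ResRing M` : the local ring at `M` inside `ℂ`, its maximal
  ideal and the residue ring.
* `card_le_of_dual_system` : if `A * Wᵀ = 1` for `ι × κ` matrices over a nontrivial commutative
  ring then `|ι| ≤ |κ|`.
* `card_blocks_le` : a family of blocks whose idempotents and central characters are jointly
  supported (mod the local ideal) on a family of classes has at most as many members.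
-/

set_option autoImplicit false
set_option linter.unusedSectionVars false
set_option linter.style.haveILetI false

namespace Cfsg.Agent.Helper74.BC

open Cfsg
open Cfsg.Agent.Helper77

universe u

section resring

variable (M : Ideal AlgInt) [hp : M.IsPrime]

/-- The local ring at `M`, as a subring of `ℂ`. -/
def localSubring : Subring ℂ where
  carrier := {z | MemLocalRing M z}
  mul_mem' := fun ha hb => memLocalRing_mul ha hb
  one_mem' := memLocalRing_one hp.ne_top
  add_mem' := fun ha hb => memLocalRing_add ha hb
  zero_mem' := memLocalRing_zero hp.ne_top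
  neg_mem' := fun ha => memLocalRing_neg ha

/-- The maximal ideal of the local ring at `M`. -/
def localMax : Ideal (localSubring M) where
  carrier := {z | MemLocalIdeal M (z : ℂ)}
  add_mem' := fun ha hb => memLocalIdeal_add ha hb
  zero_mem' := memLocalIdeal_zero hp.ne_top
  smul_mem' := fun c _ hz => memLocalIdeal_mul_left c.2 hz

/-- The residue ring of the local ring at `M`. -/
abbrev ResRing : Type := localSubring M ⧸ localMax M

theorem localMax_ne_top : localMax M ≠ ⊤ := by
  rw [Ideal.ne_top_iff_one]
  intro h
  exact not_memLocalIdeal_one (M := M) h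

instance : Nontrivial (ResRing M) := Ideal.Quotient.nontrivial_iff.2 (localMax_ne_top M)

/-- Reduction of a local integer. -/
noncomputable def res (z : ℂ) (hz : MemLocalRing M z) : ResRing M :=
  Ideal.Quotient.mk (localMax M) ⟨z, hz⟩

theorem res_eq_zero_iff (z : ℂ) (hz : MemLocalRing M z) : res M z hz = 0 ↔ MemLocalIdeal M z := by
  unfold res
  rw [Ideal.Quotient.eq_zero_iff_mem]
  rfl

end resring

section dual

theorem card_le_of_dual_system {ι κ : Type*} [Fintype ι] [Fintype κ] [DecidableEq ι]
    {k : Type*} [CommRing k] [Nontrivial k] (A W : ι → κ → k)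
    (h : ∀ i j, ∑ c, A j c * W i c = if i = j then 1 else 0) :
    Fintype.card ι ≤ Fintype.card κ := by
  classical
  let Am : Matrix ι κ k := Matrix.of A
  let Wm : Matrix ι κ k := Matrix.of W
  have hmul : Am * Wm.transpose = 1 := by
    ext j i
    rw [Matrix.mul_apply, Matrix.one_apply]
    simp only [Am, Wm, Matrix.of_apply, Matrix.transpose_apply]
    rw [h i j]
    by_cases hij : i = j
    · rw [if_pos hij, if_pos hij.symm]
    · rw [if_neg hij, if_neg (Ne.symm hij)]
  apply card_le_of_injective k (Matrix.mulVecLin Wm.transpose)
  intro v w hvw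
  have := congrArg (Matrix.mulVecLin Am) hvw
  simp only [Matrix.mulVecLin_apply, Matrix.mulVec_mulVec, hmul, Matrix.one_mulVec] at this
  exact this

end dual

section count

variable {G : Type u} [Group G] [Fintype G] {p : ℕ} [Fact p.Prime] {M : Ideal AlgInt}

theorem card_blocks_le (hM : IsPModular p M) (P : Set (IrrCharacter G) → Prop)
    (hP : ∀ B, P B → IsPBlock M B) (Q : ConjClasses G → Prop)
    (hvanish : ∀ B B' : Set (IrrCharacter G), P B → P B' → ∀ χ ∈ B, ∀ K : ConjClasses G, ¬ Q K →
      MemLocalIdeal M (blockCoeff B' (Quotient.out K) *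
        centralChar (χ : G → ℂ) (Quotient.out K))) :
    Nat.card {B : Set (IrrCharacter G) // P B} ≤ Nat.card {K : ConjClasses G // Q K} := by
  classical
  haveI hp := isPrime_of_isPModular hM
  haveI : Fintype (ConjClasses G) := Fintype.ofFinite _
  haveI : Fintype {B : Set (IrrCharacter G) // P B} := Fintype.ofFinite _
  haveI : Fintype {K : ConjClasses G // Q K} := Fintype.ofFinite _
  rw [Nat.card_eq_fintype_card, Nat.card_eq_fintype_card]
  have hne : ∀ B : {B : Set (IrrCharacter G) // P B}, ∃ χ : IrrCharacter G, χ ∈ B.1 := fun B =>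
    nonempty_of_isPBlock (hP B.1 B.2)
  choose rep hrep using hne
  let A : {B : Set (IrrCharacter G) // P B} → {K : ConjClasses G // Q K} → ResRing M :=
    fun B K => res M (blockCoeff B.1 (Quotient.out K.1)) (memLocalRing_blockCoeff (hP B.1 B.2) _)
  let W : {B : Set (IrrCharacter G) // P B} → {K : ConjClasses G // Q K} → ResRing M :=
    fun B K => res M (centralChar (rep B : G → ℂ) (Quotient.out K.1))
      (memLocalRing_centralChar (rep B).2 _)
  apply card_le_of_dual_system A W
  intro i j
  -- the identity in ℂ
  have hom := omega_blockCoeff j.1 (rep i)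
  rw [omega_eq_sum_conjClasses (isClassFunction_of_isIrrCharacter (rep i).2)
    (isClassFunction_blockCoeff j.1)] at hom
  have hiff : rep i ∈ j.1 ↔ i = j := by
    constructor
    · intro h
      exact Subtype.ext (eq_of_isPBlock_of_mem (hP i.1 i.2) (hP j.1 j.2) (hrep i) h)
    · rintro rfl
      exact hrep i
  -- lift to the subring
  let aS : ConjClasses G → localSubring M := fun K =>
    ⟨blockCoeff j.1 (Quotient.out K), memLocalRing_blockCoeff (hP j.1 j.2) _⟩
  let wS : ConjClasses G → localSubring M := fun K =>
    ⟨centralChar (rep i : G → ℂ) (Quotient.out K), memLocalRing_centralChar (rep i).2 _⟩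
  have hS : (∑ K : ConjClasses G, aS K * wS K) = if i = j then 1 else 0 := by
    apply Subtype.ext
    have h1 : ((∑ K : ConjClasses G, aS K * wS K : localSubring M) : ℂ) =
        ∑ K : ConjClasses G, blockCoeff j.1 (Quotient.out K) *
          centralChar (rep i : G → ℂ) (Quotient.out K) := by
      rw [← Subring.coe_subtype, map_sum]
      rfl
    rw [h1, hom]
    by_cases hij : i = j
    · rw [if_pos (hiff.2 hij), if_pos hij]
      rfl
    · rw [if_neg (fun h => hij (hiff.1 h)), if_neg hij]
      rfl
  have hR := congrArg (Ideal.Quotient.mk (localMax M)) hS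
  rw [map_sum] at hR
  simp only [map_mul] at hR
  have hrhs : (Ideal.Quotient.mk (localMax M)) (if i = j then (1 : localSubring M) else 0) =
      if i = j then (1 : ResRing M) else 0 := by
    by_cases hij : i = j
    · rw [if_pos hij, if_pos hij, map_one]
    · rw [if_neg hij, if_neg hij, map_zero]
  rw [hrhs] at hR
  rw [← hR]
  -- restrict the sum to Q
  let F : ConjClasses G → ResRing M := fun K =>
    (Ideal.Quotient.mk (localMax M)) (aS K) * (Ideal.Quotient.mk (localMax M)) (wS K)
  have hzero : ∀ K : ConjClasses G, ¬ Q K → F K = 0 := by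
    intro K hK
    simp only [F]
    rw [← map_mul, Ideal.Quotient.eq_zero_iff_mem]
    exact hvanish i.1 j.1 i.2 j.2 (rep i) (hrep i) K hK
  have hsub : ∑ c, A j c * W i c = ∑ K ∈ Finset.univ.filter (fun K => Q K), F K :=
    (Finset.sum_subtype (Finset.univ.filter fun K => Q K) (fun K => by simp) F).symm
  rw [hsub]
  exact Finset.sum_filter_of_ne (fun K _ hne => by by_contra hK; exact hne (hzero K hK))

end count

end Cfsg.Agent.Helper74.BC
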