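import Mathlib
import Cfsg.Prelude.Def_Blocks
import Cfsg.Agent.Lib.Helper74.BrauerFeit3

/-!
# Brauer–Feit, part 5: height zero via contribution numbers (helper74)

* `IsContrib.height_zero_of_val` : if `n χ ξ ≠ 0` and `ν_p (n χ ξ) + minVal = ν_p (ξ 1)` for some
  `ξ ∈ B`, then `χ` has height zero.
* `IsContrib.classInner_eq` : `[p^a χ 1_reg, ξ] = p ^ minVal * n χ ξ`.
-/

set_option autoImplicit false
set_option linter.unusedSectionVars false
set_option linter.style.haveILetI false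

namespace Cfsg.Agent.Helper74.BF

open Cfsg
open Cfsg.Agent.Helper77 Cfsg.Agent.Helper78 Cfsg.Agent.Helper16 Cfsg.Agent.Helper74.DO
open scoped ComplexConjugate

universe u

section ht

variable {G : Type u} [Group G] [Fintype G] {p : ℕ} [hpf : Fact p.Prime] {M : Ideal AlgInt}
variable {B : Set (IrrCharacter G)} {n : IrrCharacter G → IrrCharacter G → ℤ}

theorem IsContrib.height_zero_of_val (hM : IsPModular p M) (hB : IsPBlock M B)
    (hn : IsContrib p B n) {χ ξ : IrrCharacter G} (hχ : χ ∈ B) (hξ : ξ ∈ B) (hne : n χ ξ ≠ 0)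
    (hval : (n χ ξ).natAbs.factorization p + minVal p B =
      (charDegree (ξ : G → ℂ)).factorization p) :
    (charDegree (χ : G → ℂ)).factorization p = minVal p B := by
  haveI hp := isPrime_of_isPModular hM
  have hBne : B.Nonempty := ⟨χ, hχ⟩
  by_contra hht
  have hlt : minVal p B < (charDegree (χ : G → ℂ)).factorization p :=
    lt_of_le_of_ne (minVal_le hχ) (Ne.symm hht)
  have hcofne : ((cof p B : ℕ) : ℤ) ≠ 0 := by exact_mod_cast cof_ne_zero (p := p) hBne
  have hdegξ : charDegree (ξ : G → ℂ) ≠ 0 := (Cfsg.Agent.Helper79.irr_one_eq ξ).2.ne'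
  have hdegχ : charDegree (χ : G → ℂ) ≠ 0 := (Cfsg.Agent.Helper79.irr_one_eq χ).2.ne'
  -- pair (ξ, χ)
  have hc := hn.congr hM hB hξ hχ
  rw [hn.symm hχ hξ] at hc
  have hN : (cof p B : ℤ) * n χ ξ ≠ 0 := mul_ne_zero hcofne hne
  have hXr : MemLocalRing M (((cof p B * n χ ξ : ℤ) : ℂ) / (charDegree (ξ : G → ℂ) : ℂ)) := by
    rw [memLocalRing_intCast_div_iff hM _ _ hN hdegξ, factorization_cof_mul hBne hne]
    omega
  have hXn : ¬ MemLocalIdeal M (((cof p B * n χ ξ : ℤ) : ℂ) / (charDegree (ξ : G → ℂ) : ℂ)) := by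
    rw [memLocalIdeal_intCast_div_iff hM _ _ hN hdegξ, factorization_cof_mul hBne hne]
    omega
  have hYn : ¬ MemLocalIdeal M (((cof p B * n χ χ : ℤ) : ℂ) / (charDegree (χ : G → ℂ) : ℂ)) := by
    intro hY
    apply hXn
    have := memLocalIdeal_add hc hY
    rwa [sub_add_cancel] at this
  -- pair (χ₀, χ)
  obtain ⟨χ₀, hχ₀, h0⟩ := exists_minVal (p := p) hBne
  obtain ⟨hne0, hval0⟩ := hn.val_eq hM hB hχ₀ h0 hχ
  have hc0 := hn.congr hM hB hχ₀ hχ
  have hdvd : (p : ℤ) ∣ n χ₀ χ := dvd_of_factorization_pos hne0 (by omega)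
  have hX' := (memLocalIdeal_cof_div_iff hM hχ₀ h0 (n χ₀ χ)).2 hdvd
  apply hYn
  have := memLocalIdeal_sub hX' hc0
  rwa [sub_sub_cancel] at this

/-- The inner product `[p^a χ 1_reg, ξ]` in terms of the contribution numbers. -/
theorem IsContrib.classInner_eq (hn : IsContrib p B n) {χ : IrrCharacter G} (hχ : χ ∈ B)
    (ξ : IrrCharacter G) :
    classInner (fun x : G => if p ∣ orderOf x then (0 : ℂ) else
      ((p ^ (Nat.card G).factorization p : ℕ) : ℂ) * (χ : G → ℂ) x) (ξ : G → ℂ) =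
      (((p : ℤ) ^ minVal p B * n χ ξ : ℤ) : ℂ) := by
  classical
  have hBne : B.Nonempty := ⟨χ, hχ⟩
  have h1 : (fun x : G => if p ∣ orderOf x then (0 : ℂ) else
      ((p ^ (Nat.card G).factorization p : ℕ) : ℂ) * (χ : G → ℂ) x) =
      pRegScaled p ((p ^ (Nat.card G).factorization p : ℕ) : ℂ) (χ : G → ℂ) := rfl
  rw [h1, classInner_pRegScaled]
  have h2 : ∑ x ∈ Finset.univ.filter (fun x : G => ¬ p ∣ orderOf x),
      (χ : G → ℂ) x * conj ((ξ : G → ℂ) x) = regSum p (χ : G → ℂ) (ξ : G → ℂ) := rfl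
  rw [h2, hn.regSum_eq hχ ξ]
  have h3 := cof_mul (p := p) hBne
  have hm := minVal_le_card (p := p) hBne
  have h4 : (Nat.card G).factorization p = minVal p B + blockDefect p B := by
    rw [blockDefect_eq]; omega
  have hG : (Nat.card G : ℂ) = (cof p B : ℂ) * (p : ℂ) ^ blockDefect p B := by
    rw [← h3]; push_cast; ring
  have hc0 : (cof p B : ℂ) ≠ 0 := by exact_mod_cast cof_ne_zero (p := p) hBne
  have hp0 : ((p : ℂ) ^ blockDefect p B) ≠ 0 := pow_ne_zero _ (by exact_mod_cast hpf.out.ne_zero)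
  rw [hG, h4, pow_add]
  push_cast
  field_simp

theorem padicValInt_pow_mul {k : ℤ} (hk : k ≠ 0) (m : ℕ) :
    padicValInt p ((p : ℤ) ^ m * k) = m + k.natAbs.factorization p := by
  have hp : p.Prime := hpf.out
  unfold padicValInt
  rw [Int.natAbs_mul, Int.natAbs_pow, Int.natAbs_natCast, ← Nat.factorization_def _ hp,
    Nat.factorization_mul (pow_ne_zero _ hp.ne_zero) (Int.natAbs_ne_zero.2 hk),
    Nat.Prime.factorization_pow hp]
  simp

end ht

end Cfsg.Agent.Helper74.BF
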