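import Mathlib
import Cfsg.Prelude.Def_Blocks
import Cfsg.Agent.Lib.Helper74.BrauerFeit6

/-!
# Brauer–Feit, part 7: blocks with characters of positive height (helper74)

`pos_height_count` : if `B` has a character of positive height then `2 k(B) ≤ p ^ (2 d - 2)`.
-/

set_option autoImplicit false
set_option linter.unusedSectionVars false
set_option linter.style.haveILetI false

namespace Cfsg.Agent.Helper74.BF

open Cfsg
open Cfsg.Agent.Helper77 Cfsg.Agent.Helper78 Cfsg.Agent.Helper16 Cfsg.Agent.Helper74.DO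

universe u

section cnt

variable {G : Type u} [Group G] [Fintype G] {p : ℕ} [hpf : Fact p.Prime] {M : Ideal AlgInt}
variable {B : Set (IrrCharacter G)}

/-- A row bound: if `f ≥ 0`, `f` sums to `P * N` with `f a = N ^ 2`, and `f ≥ c` on a set `S` not
containing `a`, then `4 * c * |S| ≤ P ^ 2`. -/
theorem row_bound {ι : Type*} [Fintype ι] [DecidableEq ι] (f : ι → ℤ) (hf : ∀ i, 0 ≤ f i)
    (P N : ℤ) (hsum : ∑ i, f i = P * N) (a : ι) (ha : f a = N ^ 2) (S : Finset ι) (haS : a ∉ S)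
    (c : ℤ) (hc : ∀ i ∈ S, c ≤ f i) : 4 * (c * S.card) ≤ P ^ 2 := by
  have h1 : ∑ i ∈ insert a S, f i ≤ ∑ i, f i :=
    Finset.sum_le_sum_of_subset_of_nonneg (Finset.subset_univ _) (fun i _ _ => hf i)
  rw [Finset.sum_insert haS, ha, hsum] at h1
  have h2 : c * S.card ≤ ∑ i ∈ S, f i := by
    have := Finset.card_nsmul_le_sum S f c hc
    rw [nsmul_eq_mul, mul_comm] at this
    exact this
  nlinarith [sq_nonneg (P - 2 * N)]

theorem pos_height_count (hM : IsPModular p M) (hB : IsPBlock M B)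
    (hpos : ∃ ψ ∈ B, minVal p B < (charDegree (ψ : G → ℂ)).factorization p) :
    2 * (Set.toFinite B).toFinset.card ≤ p ^ (2 * blockDefect p B - 2) := by
  classical
  haveI := isPrime_of_isPModular hM
  obtain ⟨n, hn⟩ := exists_contrib hM hB
  obtain ⟨χ₀, hχ₀, h0⟩ := exists_minVal (p := p) (nonempty_of_isPBlock hB)
  obtain ⟨ψ, hψ, hψlt⟩ := hpos
  set Bf := (Set.toFinite B).toFinset with hBf
  have hmem : ∀ φ, φ ∈ Bf ↔ φ ∈ B := fun φ => Set.Finite.mem_toFinset _
  set B0 := Bf.filter (fun φ : IrrCharacter G => (charDegree (φ : G → ℂ)).factorization p = minVal p B) with hB0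
  set Bp := Bf.filter (fun φ : IrrCharacter G => ¬ (charDegree (φ : G → ℂ)).factorization p = minVal p B) with hBp
  have hcard : B0.card + Bp.card = Bf.card := by
    rw [hB0, hBp]
    exact Finset.card_filter_add_card_filter_not
      (fun φ : IrrCharacter G => (charDegree (φ : G → ℂ)).factorization p = minVal p B)
  have hd := hn.height_add_two_le hM hB hψ hψlt
  set d := blockDefect p B with hd'
  have hp2 : (0 : ℤ) < (p : ℤ) ^ 2 := by
    have : (0 : ℤ) < (p : ℤ) := by exact_mod_cast hpf.out.pos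
    positivity
  -- row of χ₀ bounds Bp
  have hrow0 : 4 * ((p : ℤ) ^ 2 * Bp.card) ≤ ((p : ℤ) ^ d) ^ 2 := by
    apply row_bound (fun φ => n χ₀ φ ^ 2) (fun φ => sq_nonneg _) ((p : ℤ) ^ d) (n χ₀ χ₀)
      (hn.sum_sq hχ₀) χ₀ rfl Bp
    · intro h
      have h' : ¬ (charDegree (χ₀ : G → ℂ)).factorization p = minVal p B :=
        (Finset.mem_filter.1 h).2
      exact h' h0
    · intro φ hφ
      obtain ⟨hφf, hφne'⟩ := Finset.mem_filter.1 hφ
      have hφne : ¬ (charDegree (φ : G → ℂ)).factorization p = minVal p B := hφne'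
      have hφB := (hmem φ).1 hφf
      obtain ⟨hne, hval⟩ := hn.val_eq hM hB hχ₀ h0 hφB
      have hle := minVal_le (p := p) hφB
      have := pow_le_natAbs_of_factorization (p := p) hne 1 (by omega)
      simpa using this
  -- row of ψ bounds B0
  have hrowψ : 4 * ((p : ℤ) ^ 2 * B0.card) ≤ ((p : ℤ) ^ d) ^ 2 := by
    apply row_bound (fun φ => n ψ φ ^ 2) (fun φ => sq_nonneg _) ((p : ℤ) ^ d) (n ψ ψ)
      (hn.sum_sq hψ) ψ rfl B0
    · intro h
      have h' : (charDegree (ψ : G → ℂ)).factorization p = minVal p B := (Finset.mem_filter.1 h).2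
      omega
    · intro φ hφ
      obtain ⟨hφf, hφ0'⟩ := Finset.mem_filter.1 hφ
      have hφ0 : (charDegree (φ : G → ℂ)).factorization p = minVal p B := hφ0'
      have hφB := (hmem φ).1 hφf
      obtain ⟨hne, hval⟩ := hn.val_eq hM hB hφB hφ0 hψ
      have hs : n ψ φ = n φ ψ := hn.symm hφB hψ
      show (p : ℤ) ^ 2 ≤ n ψ φ ^ 2
      rw [hs]
      have := pow_le_natAbs_of_factorization (p := p) hne 1 (by omega)
      simpa using this
  -- combine
  have hsplit : ((p : ℤ) ^ d) ^ 2 = (p : ℤ) ^ 2 * (p : ℤ) ^ (2 * d - 2) := by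
    rw [← pow_mul, ← pow_add]
    congr 1
    omega
  rw [hsplit] at hrow0 hrowψ
  have h1 : 4 * (Bp.card : ℤ) ≤ (p : ℤ) ^ (2 * d - 2) := by
    have : (p : ℤ) ^ 2 * (4 * (Bp.card : ℤ)) ≤ (p : ℤ) ^ 2 * (p : ℤ) ^ (2 * d - 2) := by linarith
    exact le_of_mul_le_mul_left this hp2
  have h2 : 4 * (B0.card : ℤ) ≤ (p : ℤ) ^ (2 * d - 2) := by
    have : (p : ℤ) ^ 2 * (4 * (B0.card : ℤ)) ≤ (p : ℤ) ^ 2 * (p : ℤ) ^ (2 * d - 2) := by linarith
    exact le_of_mul_le_mul_left this hp2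
  have h3 : ((2 * Bf.card : ℕ) : ℤ) ≤ ((p ^ (2 * d - 2) : ℕ) : ℤ) := by
    rw [← hcard]
    push_cast
    linarith
  exact_mod_cast h3

end cnt

end Cfsg.Agent.Helper74.BF
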