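import Cfsg.Agent.Lib.Helper55.CD3Defs

set_option autoImplicit false
set_option linter.unusedVariables false
set_option linter.unusedSectionVars false
set_option linter.style.haveILetI false

/-!
# CD3 (A4b) for helper55's server (S4460): abelian normal subgroup of `p`-power index ⇒ M-group

Short route (no Gallagher, no extension): strong induction on `|G|`; `θ ∈ Irr(H)` under `χ`,
`T = I_G(θ)`; if `T < G` use the Clifford correspondence and the induction hypothesis in `T`;
if `T = G` then `χ_H = e θ`, `K = ker θ ◁ G` lies in `ker χ`, `H/K` is central in `G/K` and `G/H` is a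
`p`-group, so `G/K` is nilpotent and `χ` is inflated from a monomial character of `G/K`.
-/

namespace Cfsg.Agent.Helper74.CD3

open Cfsg Cfsg.Agent.Helper79 Cfsg.Agent.Helper81 Cfsg.Agent.Helper55.CD3 Cfsg.Agent.Helper3

universe u

theorem h74_mgroup_aux : ∀ (N : ℕ) (G : Type u) [Group G] [Fintype G], Fintype.card G = N →
    ∀ (p : ℕ), p.Prime → ∀ (H : Subgroup G) (hHn : H.Normal), (∃ k : ℕ, H.index = p ^ k) →
    (∀ a ∈ H, ∀ b ∈ H, a * b = b * a) → ∀ χ : G → ℂ, Cfsg.IsIrrCharacter G χ →
    ∃ (J : Subgroup G) (lam : J →* ℂˣ), χ = Cfsg.indFun J (fun h => ((lam h : ℂˣ) : ℂ)) := by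
  intro N
  induction N using Nat.strong_induction_on with
  | _ N ih =>
    intro G _ _ hN p hp H hHn hidx hHab χ hχ
    classical
    haveI : Fintype H := Fintype.ofFinite _
    have hHc : ∀ a b : H, a * b = b * a := fun a b => Subtype.ext (hHab a a.2 b b.2)
    have hχH : Cfsg.IsCharacter H (fun a : H => χ a) :=
      Helper81.isCharacter_restrict H (isCharacter_of_isIrrCharacter hχ)
    have hχH0 : (fun a : H => χ a) ≠ 0 := by
      intro h
      have h1 := congrFun h 1
      obtain ⟨n, hn, hn1⟩ := irr_one_pos ⟨χ, hχ⟩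
      simp only [OneMemClass.coe_one, Pi.zero_apply] at h1
      change χ 1 = (n : ℂ) at hn1
      rw [hn1] at h1
      have : n = 0 := by exact_mod_cast h1
      omega
    obtain ⟨θ, hθ, hne⟩ := exists_irr_constituent hχH hχH0
    obtain ⟨lam, hlam⟩ := irr_abelian_hom hHc θ hθ
    set T := inertiaSubgroup H hHn θ with hT
    haveI : Fintype T := Fintype.ofFinite _
    by_cases htop : T = ⊤
    · -- `θ` is `G`-invariant
      have hall : ∀ x : G, conjFun H hHn θ x = θ := fun x => by
        have : x ∈ T := by rw [htop]; exact Subgroup.mem_top x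
        exact this
      have hset : conjSet H hHn θ = {θ} := by
        ext φ
        simp only [conjSet, Set.mem_ofPred_eq, Set.mem_singleton_iff]
        constructor
        · rintro ⟨x, rfl⟩; exact hall x
        · rintro rfl; exact ⟨1, (conjFun_one H hHn φ).symm⟩
      have hcl := clifford H hHn hχ hθ hne
      rw [hset, finsum_mem_singleton] at hcl
      set e := Cfsg.classInner (fun a : H => χ a) θ with he_def
      have hval : ∀ a : H, χ a = e * θ a := fun a => by
        have := congrFun hcl a
        simpa using this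
      have hθ1 : θ 1 = 1 := by rw [hlam]; simp
      have he : χ 1 = e := by
        have := hval 1
        simpa [hθ1] using this
      -- invariance of `lam`
      have hinv : ∀ (g : G) (a : H), lam ⟨g * a * g⁻¹, hHn.conj_mem a a.2 g⟩ = lam a := by
        intro g a
        have h1 := congrFun (hall g) a
        rw [conjFun_apply, hlam] at h1
        exact Units.ext h1
      -- the kernel of `lam` as a subgroup of `G`
      let K : Subgroup G := (MonoidHom.ker lam).map H.subtype
      have hKmem' : ∀ x : G, x ∈ K ↔ ∃ hx : x ∈ H, lam ⟨x, hx⟩ = 1 := by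
        intro x
        constructor
        · rintro ⟨a, ha, rfl⟩
          exact ⟨a.2, MonoidHom.mem_ker.mp ha⟩
        · rintro ⟨hx, h1⟩
          exact ⟨⟨x, hx⟩, MonoidHom.mem_ker.mpr h1, rfl⟩
      have hKH : K ≤ H := fun x hx => ((hKmem' x).mp hx).1
      haveI hKn : K.Normal := by
        constructor
        intro x hx g
        obtain ⟨hxH, hx1⟩ := (hKmem' x).mp hx
        rw [hKmem']
        refine ⟨hHn.conj_mem x hxH g, ?_⟩
        have := hinv g ⟨x, hxH⟩
        rw [hx1] at this
        exact this
      have hKχ : ∀ x ∈ K, χ x = χ 1 := by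
        intro x hx
        obtain ⟨hxH, hx1⟩ := (hKmem' x).mp hx
        have h1 := hval ⟨x, hxH⟩
        simp only at h1
        rw [h1, he, hlam]
        simp only
        rw [hx1]
        simp
      haveI : Fintype (G ⧸ K) := Fintype.ofFinite _
      obtain ⟨χb, hχb, hvalb⟩ := isIrrCharacter_quotient K hχ hKχ
      -- `G ⧸ K` is nilpotent
      let f : G ⧸ K →* G ⧸ H := QuotientGroup.map K H (MonoidHom.id G) hKH
      have hfmk : ∀ g : G, f (QuotientGroup.mk g) = QuotientGroup.mk g := fun g => rfl
      have hker : f.ker ≤ Subgroup.center (G ⧸ K) := by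
        intro x hx
        obtain ⟨g, rfl⟩ := QuotientGroup.mk_surjective x
        rw [MonoidHom.mem_ker, hfmk, QuotientGroup.eq_one_iff] at hx
        rw [Subgroup.mem_center_iff]
        intro y
        obtain ⟨y', rfl⟩ := QuotientGroup.mk_surjective y
        rw [← QuotientGroup.mk_mul, ← QuotientGroup.mk_mul, QuotientGroup.eq]
        -- (y' * g)⁻¹ * (g * y') ∈ K
        have hconj : y'⁻¹ * g * y'⁻¹⁻¹ ∈ H := hHn.conj_mem g hx y'⁻¹
        have hmem : (y' * g)⁻¹ * (g * y') ∈ H := by
          have : (y' * g)⁻¹ * (g * y') = g⁻¹ * (y'⁻¹ * g * y'⁻¹⁻¹) := by group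
          rw [this]
          exact H.mul_mem (H.inv_mem hx) hconj
        rw [hKmem']
        refine ⟨hmem, ?_⟩
        have h2 : (⟨(y' * g)⁻¹ * (g * y'), hmem⟩ : H) =
            (⟨g, hx⟩ : H)⁻¹ * ⟨y'⁻¹ * g * y'⁻¹⁻¹, hconj⟩ := by
          apply Subtype.ext
          change (y' * g)⁻¹ * (g * y') = g⁻¹ * (y'⁻¹ * g * y'⁻¹⁻¹)
          group
        rw [h2, map_mul, map_inv, hinv y'⁻¹ ⟨g, hx⟩]
        simp
      obtain ⟨k, hk⟩ := hidx
      haveI : Fact p.Prime := ⟨hp⟩
      have hpg : IsPGroup p (G ⧸ H) := by
        apply IsPGroup.of_card (n := k)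
        rw [← Subgroup.index_eq_card, hk]
      haveI : Group.IsNilpotent (G ⧸ H) := hpg.isNilpotent
      haveI : Group.IsNilpotent (G ⧸ K) := Subgroup.isNilpotent_of_ker_le_center f hker
      have hmon := nilpotent_monomial χb hχb
      exact monomial_of_quotient K hvalb hmon
    · -- `T < G`: Clifford correspondence and induction
      have hT' : ∀ x : G, x ∈ T ↔ conjFun H hHn θ x = θ :=
        fun x => mem_inertiaSubgroup H hHn θ x
      have hHT : H ≤ T := le_inertiaSubgroup H hHn (isClassFunction_of_isIrrCharacter hθ)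
      obtain ⟨ψ, hψ, hind, _⟩ := clifford_corr_surj H T hHn hHT hθ hT' hχ hne
      have hcard : Fintype.card T < N := by
        rw [← hN, ← Nat.card_eq_fintype_card, ← Nat.card_eq_fintype_card]
        have h1 : Nat.card T ≤ Nat.card G := Subgroup.card_le_card_group T
        have h2 : Nat.card T ≠ Nat.card G := fun h => htop (Subgroup.eq_top_of_card_eq T h)
        omega
      obtain ⟨k, hk⟩ := hidx
      have hidxT : ∃ j : ℕ, (H.subgroupOf T).index = p ^ j := by
        have h1 : H.relIndex T ∣ H.index := Subgroup.relIndex_dvd_index_of_normal H T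
        rw [hk] at h1
        obtain ⟨j, _, hj⟩ := (Nat.dvd_prime_pow hp).mp h1
        exact ⟨j, hj⟩
      have habT : ∀ a ∈ H.subgroupOf T, ∀ b ∈ H.subgroupOf T, a * b = b * a := by
        intro a ha b hb
        apply Subtype.ext
        exact hHab a (Subgroup.mem_subgroupOf.mp ha) b (Subgroup.mem_subgroupOf.mp hb)
      have hmon := ih (Fintype.card T) hcard T rfl p hp (H.subgroupOf T)
        (Subgroup.normal_subgroupOf) hidxT habT ψ hψ
      obtain ⟨J, lamJ, h⟩ := monomial_of_induced T hmon
      exact ⟨J, lamJ, hind ▸ h⟩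

section fin
variable {G : Type u} [Group G] [Fintype G]

/-- (A4b) abelian normal `p`-complement ⇒ `G` is an M-group. -/
theorem mgroup_of_abelian_pcompl (p : ℕ) (hp : p.Prime) (H : Subgroup G) [H.Normal]
    (hH : (Nat.card H).Coprime p) (k : ℕ) (hk : H.index = p ^ k)
    (hHab : ∀ a ∈ H, ∀ b ∈ H, a * b = b * a) (χ : IrrCharacter G) : Monomial (χ : G → ℂ) :=
  h74_mgroup_aux (Fintype.card G) G rfl p hp H inferInstance ⟨k, hk⟩ hHab χ χ.2

end fin

end Cfsg.Agent.Helper74.CD3
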