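import Mathlib
import Cfsg.Agent.Lib.Helper53.CD3ADefs
import Cfsg.Agent.Lib.Helper81.CharClifford
import Cfsg.Agent.Lib.Helper81.CharRam
import Cfsg.Agent.Lib.Helper81.CharProd
import Cfsg.Agent.Lib.Helper80.ConjIrr

/-!
CD3A server (helper53, S4460), piece (XI) `closed_eq_univ`.
-/

set_option autoImplicit false

namespace Cfsg.Agent.Helper74.CD3A

open Cfsg Cfsg.Agent.Helper53.CD3A Cfsg.Agent.Helper81
open scoped ComplexConjugate commutatorElement

universe u

theorem classInner_mul_adj {N : Type u} [Group N] [Fintype N] (a b c : N → ℂ) :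
    classInner (a * b) c = classInner a (c * fun x => conj (b x)) := by
  unfold classInner
  congr 1
  apply Finset.sum_congr rfl
  intro g _
  simp only [Pi.mul_apply, map_mul, Complex.conj_conj]
  ring

/-- (XI) a nonempty set `T ⊆ Irr(N)` closed under constituents of products and duals with trivial
common kernel is everything. -/
theorem closed_eq_univ {N : Type u} [Group N] [Fintype N] (T : Set (IrrCharacter N))
    (hne : T.Nonempty)
    (hprod : ∀ φ ∈ T, ∀ φ' ∈ T, ∀ ξ : IrrCharacter N,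
      classInner ((φ : N → ℂ) * (φ' : N → ℂ)) (ξ : N → ℂ) ≠ 0 → ξ ∈ T)
    (hconj : ∀ φ ∈ T, ∀ ξ : IrrCharacter N, ((ξ : N → ℂ) = fun x => conj ((φ : N → ℂ) x)) → ξ ∈ T)
    (hker : ∀ x : N, (∀ φ ∈ T, (φ : N → ℂ) x = (φ : N → ℂ) 1) → x = 1) : T = Set.univ := by
  classical
  have : Fintype (IrrCharacter N) := @Fintype.ofFinite _ irr_finite
  set Tf : Finset (IrrCharacter N) := Finset.univ.filter (· ∈ T) with hTf
  have hmemTf : ∀ φ : IrrCharacter N, φ ∈ Tf ↔ φ ∈ T := by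
    intro φ
    simp [hTf]
  set ξ : N → ℂ := ∑ φ ∈ Tf, ((φ : N → ℂ) 1) • (φ : N → ℂ) with hξ
  -- (S1)
  have hS1 : ∀ σ : IrrCharacter N,
      classInner ξ (σ : N → ℂ) = if σ ∈ T then (σ : N → ℂ) 1 else 0 := by
    intro σ
    rw [hξ, classInner_sum_left]
    simp only [classInner_smul_left]
    have h1 : ∀ φ ∈ Tf, (φ : N → ℂ) 1 * classInner (φ : N → ℂ) (σ : N → ℂ) =
        if φ = σ then (σ : N → ℂ) 1 else 0 := by
      intro φ _
      rw [irr_orthonormal φ.2 σ.2]
      by_cases h : φ = σ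
      · subst h
        simp
      · rw [if_neg h, if_neg (fun h' => h (Subtype.ext h')), mul_zero]
    rw [Finset.sum_congr rfl h1, Finset.sum_ite_eq']
    by_cases hσ : σ ∈ T
    · rw [if_pos ((hmemTf σ).mpr hσ), if_pos hσ]
    · rw [if_neg (fun h => hσ ((hmemTf σ).mp h)), if_neg hσ]
  -- (S2)
  have hS2 : ∀ φ₀ ∈ T, ∀ σ : IrrCharacter N,
      classInner (ξ * (φ₀ : N → ℂ)) (σ : N → ℂ) =
        (φ₀ : N → ℂ) 1 * classInner ξ (σ : N → ℂ) := by
    intro φ₀ hφ₀ σ
    have hexp : ξ * (φ₀ : N → ℂ) =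
        ∑ φ ∈ Tf, ((φ : N → ℂ) 1) • ((φ : N → ℂ) * (φ₀ : N → ℂ)) := by
      rw [hξ, Finset.sum_mul]
      apply Finset.sum_congr rfl
      intro φ _
      rw [smul_mul_assoc]
    rw [hexp, classInner_sum_left]
    simp only [classInner_smul_left]
    rw [hS1 σ]
    by_cases hσ : σ ∈ T
    · rw [if_pos hσ]
      have hφb : Cfsg.Agent.Helper80.cconjIrr φ₀ ∈ T :=
        hconj φ₀ hφ₀ (Cfsg.Agent.Helper80.cconjIrr φ₀) rfl
      set β : N → ℂ := (σ : N → ℂ) * ((Cfsg.Agent.Helper80.cconjIrr φ₀ : IrrCharacter N) : N → ℂ)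
        with hβ
      have hβc : IsCharacter N β :=
        isCharacter_mul (IsIrrCharacter.isCharacter σ.2)
          (IsIrrCharacter.isCharacter (Cfsg.Agent.Helper80.cconjIrr φ₀).2)
      have h1 : ∀ φ ∈ Tf, (φ : N → ℂ) 1 * classInner ((φ : N → ℂ) * (φ₀ : N → ℂ)) (σ : N → ℂ) =
          classInner β (φ : N → ℂ) * (φ : N → ℂ) 1 := by
        intro φ _
        rw [classInner_mul_adj]
        have hb : ((σ : N → ℂ) * fun x => conj ((φ₀ : N → ℂ) x)) = β := rfl
        rw [hb, classInner_conj_symm β (φ : N → ℂ)]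
        obtain ⟨k, hk⟩ := exists_nat_classInner hβc φ.2
        rw [hk]
        simp [mul_comm]
      rw [Finset.sum_congr rfl h1]
      have h2 : ∑ φ ∈ Tf, classInner β (φ : N → ℂ) * (φ : N → ℂ) 1 =
          ∑ φ : IrrCharacter N, classInner β (φ : N → ℂ) * (φ : N → ℂ) 1 := by
        apply Finset.sum_subset (Finset.filter_subset _ _)
        intro φ _ hφ
        have hφT : φ ∉ T := fun h => hφ ((hmemTf φ).mpr h)
        have h0 : classInner β (φ : N → ℂ) = 0 := by
          by_contra h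
          exact hφT (hprod σ hσ _ hφb φ h)
        rw [h0, zero_mul]
      rw [h2]
      have h3 := congrFun (class_function_expansion (isClassFunction_of_isCharacter hβc)) 1
      simp only [Finset.sum_apply, Pi.smul_apply, smul_eq_mul] at h3
      rw [← h3]
      show (σ : N → ℂ) 1 * conj ((φ₀ : N → ℂ) 1) = (φ₀ : N → ℂ) 1 * (σ : N → ℂ) 1
      obtain ⟨k, _, hk⟩ := irr_one_pos φ₀.2
      rw [hk]
      simp [mul_comm]
    · rw [if_neg hσ, mul_zero]
      apply Finset.sum_eq_zero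
      intro φ hφ
      have hφT : φ ∈ T := (hmemTf φ).mp hφ
      have h0 : classInner ((φ : N → ℂ) * (φ₀ : N → ℂ)) (σ : N → ℂ) = 0 := by
        by_contra h
        exact hσ (hprod φ hφT φ₀ hφ₀ σ h)
      rw [h0, mul_zero]
  -- class functions
  have hξc : IsClassFunction N ξ := by
    intro g h
    simp only [hξ, Finset.sum_apply, Pi.smul_apply]
    apply Finset.sum_congr rfl
    intro φ _
    rw [isClassFunction_of_isCharacter (IsIrrCharacter.isCharacter φ.2) g h]
  -- (S3)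
  have hS3 : ∀ φ₀ ∈ T, ξ * (φ₀ : N → ℂ) = ((φ₀ : N → ℂ) 1) • ξ := by
    intro φ₀ hφ₀
    have hφc := isClassFunction_of_isCharacter (IsIrrCharacter.isCharacter φ₀.2)
    have ha : IsClassFunction N (ξ * (φ₀ : N → ℂ)) := by
      intro g h
      simp only [Pi.mul_apply]
      rw [hξc g h, hφc g h]
    have hb : IsClassFunction N (((φ₀ : N → ℂ) 1) • ξ) := by
      intro g h
      simp only [Pi.smul_apply]
      rw [hξc g h]
    calc ξ * (φ₀ : N → ℂ)
        = ∑ σ : IrrCharacter N, classInner (ξ * (φ₀ : N → ℂ)) (σ : N → ℂ) • (σ : N → ℂ) :=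
          class_function_expansion ha
      _ = ∑ σ : IrrCharacter N,
            classInner (((φ₀ : N → ℂ) 1) • ξ) (σ : N → ℂ) • (σ : N → ℂ) := by
          apply Finset.sum_congr rfl
          intro σ _
          rw [hS2 φ₀ hφ₀ σ, classInner_smul_left]
      _ = ((φ₀ : N → ℂ) 1) • ξ := (class_function_expansion hb).symm
  -- ξ vanishes off 1
  have hvan : ∀ x : N, x ≠ 1 → ξ x = 0 := by
    intro x hx
    by_contra hξx
    apply hx
    apply hker
    intro φ₀ hφ₀
    have h := congrFun (hS3 φ₀ hφ₀) x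
    simp only [Pi.mul_apply, Pi.smul_apply, smul_eq_mul] at h
    have h' : ξ x * ((φ₀ : N → ℂ) x - (φ₀ : N → ℂ) 1) = 0 := by
      rw [mul_sub, h]
      ring
    rcases mul_eq_zero.mp h' with h0 | h0
    · exact absurd h0 hξx
    · exact sub_eq_zero.mp h0
  -- ξ 1 ≠ 0
  obtain ⟨φ₁, hφ₁⟩ := hne
  have hξ1 : ξ 1 ≠ 0 := by
    have hd : ∀ φ : IrrCharacter N, ∃ n : ℕ, 0 < n ∧ (φ : N → ℂ) 1 = (n : ℂ) :=
      fun φ => irr_one_pos φ.2
    choose d hdpos hd1 using hd
    have h1 : ξ 1 = ((∑ φ ∈ Tf, d φ * d φ : ℕ) : ℂ) := by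
      simp only [hξ, Finset.sum_apply, Pi.smul_apply, smul_eq_mul]
      push_cast
      apply Finset.sum_congr rfl
      intro φ _
      rw [hd1 φ]
    rw [h1]
    have h2 : d φ₁ * d φ₁ ≤ ∑ φ ∈ Tf, d φ * d φ :=
      Finset.single_le_sum (f := fun φ => d φ * d φ) (fun i _ => Nat.zero_le _)
        ((hmemTf φ₁).mpr hφ₁)
    have h3 : 0 < d φ₁ * d φ₁ := Nat.mul_pos (hdpos φ₁) (hdpos φ₁)
    have h4 : (∑ φ ∈ Tf, d φ * d φ) ≠ 0 := by omega
    exact_mod_cast h4
  -- conclusion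
  rw [Set.eq_univ_iff_forall]
  intro σ
  by_contra hσ
  have h0 := hS1 σ
  rw [if_neg hσ] at h0
  unfold classInner at h0
  rw [Finset.sum_eq_single (1 : N)] at h0
  · obtain ⟨k, hk, hk1⟩ := irr_one_pos σ.2
    have hN : (Nat.card N : ℂ) ≠ 0 := by exact_mod_cast (Nat.card_pos (α := N)).ne'
    have hk0 : (k : ℂ) ≠ 0 := by exact_mod_cast hk.ne'
    rw [hk1] at h0
    simp only [Complex.conj_natCast] at h0
    exact mul_ne_zero (inv_ne_zero hN) (mul_ne_zero hξ1 hk0) h0
  · intro g _ hg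
    rw [hvan g hg, zero_mul]
  · intro h
    exact absurd (Finset.mem_univ _) h

end Cfsg.Agent.Helper74.CD3A
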