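import Mathlib
import Cfsg.Agent.Lib.Helper53.CD3ADefs
import Cfsg.Agent.Lib.Helper81.CharClifford
import Cfsg.Agent.Lib.Helper81.CharRam
import Cfsg.Agent.Lib.Helper81.CharProd
import Cfsg.Agent.Lib.Helper81.CharCorr
import Cfsg.Agent.Lib.Helper80.ConjIrr
import Cfsg.Agent.Lib.Helper74.LinChar
import Cfsg.Agent.Lib.Helper74.CD3AXI

/-!
CD3A server (helper53, S4460), piece (CLO) `lowType_mul`.
-/

set_option autoImplicit false

namespace Cfsg.Agent.Helper74.CD3A

open Cfsg Cfsg.Agent.Helper53.CD3A Cfsg.Agent.Helper81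
open scoped ComplexConjugate commutatorElement

universe u

theorem charDegree_of_eq {G : Type u} [Group G] {χ : G → ℂ} {k : ℕ} (h : χ 1 = (k : ℂ)) :
    charDegree χ = k := by
  unfold charDegree
  rw [h]
  simp

theorem irr_one_eq_charDegree {G : Type u} [Group G] (χ : IrrCharacter G) :
    (χ : G → ℂ) 1 = (charDegree (χ : G → ℂ) : ℂ) := by
  obtain ⟨k, _, hk⟩ := irr_one_pos χ.2
  rw [charDegree_of_eq hk, hk]

theorem degree_le_of_constituent {G : Type u} [Group G] [Fintype G] {α σ : G → ℂ}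
    (hα : IsCharacter G α) (hσ : IsIrrCharacter G σ) (h : classInner α σ ≠ 0) (a : ℕ)
    (ha : α 1 = (a : ℂ)) : charDegree σ ≤ a := by
  obtain ⟨γ, hγ, hαγ⟩ := exists_add_of_classInner_ne_zero hα hσ h
  obtain ⟨k, _, hk⟩ := irr_one_pos hσ
  obtain ⟨c, hc⟩ := char_one_nat hγ
  rw [hαγ, Pi.add_apply, hk, hc] at ha
  have h1 : k + c = a := by exact_mod_cast ha
  rw [charDegree_of_eq hk]
  omega

theorem classInner_mul_ne_zero {N : Type u} [Group N] [Fintype N] {A A' φ φ' ξ : N → ℂ}
    (hA : IsCharacter N A) (hA' : IsCharacter N A') (hφ : IsIrrCharacter N φ)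
    (hφ' : IsIrrCharacter N φ') (hξ : IsIrrCharacter N ξ) (h1 : classInner A φ ≠ 0)
    (h2 : classInner A' φ' ≠ 0) (h3 : classInner (φ * φ') ξ ≠ 0) :
    classInner (A * A') ξ ≠ 0 := by
  obtain ⟨γ, hγ, hAγ⟩ := exists_add_of_classInner_ne_zero hA hφ h1
  obtain ⟨γ', hγ', hA'γ'⟩ := exists_add_of_classInner_ne_zero hA' hφ' h2
  have hφc := IsIrrCharacter.isCharacter hφ
  have hφ'c := IsIrrCharacter.isCharacter hφ'
  have hR : IsCharacter N (φ * γ' + γ * φ' + γ * γ') :=
    isCharacter_add (isCharacter_add (isCharacter_mul hφc hγ') (isCharacter_mul hγ hφ'c))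
      (isCharacter_mul hγ hγ')
  have hexp : A * A' = φ * φ' + (φ * γ' + γ * φ' + γ * γ') := by
    rw [hAγ, hA'γ']
    ring
  rw [hexp, classInner_add_left]
  obtain ⟨k, hk⟩ := exists_nat_classInner (isCharacter_mul hφc hφ'c) hξ
  obtain ⟨l, hl⟩ := exists_nat_classInner hR hξ
  rw [hk] at h3
  rw [hk, hl]
  have hk0 : k ≠ 0 := by
    intro h
    apply h3
    rw [h]
    simp
  have hkl : k + l ≠ 0 := by omega
  exact_mod_cast hkl

theorem exists_constituent_over {G : Type u} [Group G] [Fintype G] (N : Subgroup G) [Fintype N]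
    {α : G → ℂ} (hα : IsCharacter G α) (ξ : N → ℂ)
    (h : classInner (fun x : N => α x) ξ ≠ 0) :
    ∃ σ : IrrCharacter G, classInner α (σ : G → ℂ) ≠ 0 ∧
      classInner (fun x : N => (σ : G → ℂ) x) ξ ≠ 0 := by
  classical
  have : Fintype (IrrCharacter G) := @Fintype.ofFinite _ irr_finite
  by_contra hcon
  push Not at hcon
  apply h
  have hexp := class_function_expansion (isClassFunction_of_isCharacter hα)
  have hres : (fun x : N => α x) =
      ∑ σ : IrrCharacter G, classInner α (σ : G → ℂ) • (fun x : N => (σ : G → ℂ) x) := by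
    funext x
    have h1 := congrFun hexp x
    simp only [Finset.sum_apply, Pi.smul_apply] at h1 ⊢
    exact h1
  rw [hres, classInner_sum_left]
  apply Finset.sum_eq_zero
  intro σ _
  rw [classInner_smul_left]
  by_cases h0 : classInner α (σ : G → ℂ) = 0
  · rw [h0, zero_mul]
  · rw [hcon σ h0, mul_zero]

/-- (CLO) closure of `LowType` under constituents of products. -/
theorem lowType_mul {G : Type u} [Group G] [Fintype G] [Fintype ↥(commutator G)] {m n : ℕ}
    (hm : 1 < m) (hmn : m < n) (hcd : DegIn G m n) (hMM : ProdMM G m) (hnop : NoNPart G m n)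
    (φ φ' ξ : IrrCharacter ↥(commutator G)) (hφ : LowType G n φ) (hφ' : LowType G n φ')
    (hξ : classInner ((φ : ↥(commutator G) → ℂ) * (φ' : ↥(commutator G) → ℂ))
      (ξ : ↥(commutator G) → ℂ) ≠ 0) : LowType G n ξ := by
  classical
  obtain ⟨χ, hχn, hχφ⟩ := hφ
  obtain ⟨χ', hχ'n, hχ'φ'⟩ := hφ'
  have hα : IsCharacter G ((χ : G → ℂ) * (χ' : G → ℂ)) :=
    isCharacter_mul (IsIrrCharacter.isCharacter χ.2) (IsIrrCharacter.isCharacter χ'.2)
  have hresN : classInner (fun x : ↥(commutator G) => ((χ : G → ℂ) * (χ' : G → ℂ)) x)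
      (ξ : ↥(commutator G) → ℂ) ≠ 0 :=
    classInner_mul_ne_zero (isCharacter_restrict _ (IsIrrCharacter.isCharacter χ.2))
      (isCharacter_restrict _ (IsIrrCharacter.isCharacter χ'.2)) φ.2 φ'.2 ξ.2 hχφ hχ'φ' hξ
  obtain ⟨σ, hσ1, hσ2⟩ := exists_constituent_over (commutator G) hα (ξ : ↥(commutator G) → ℂ) hresN
  refine ⟨σ, ?_, hσ2⟩
  have hdeg : ∀ τ : IrrCharacter G, charDegree (τ : G → ℂ) ≠ n →
      charDegree (τ : G → ℂ) = 1 ∨ charDegree (τ : G → ℂ) = m := by
    intro τ h
    rcases hcd τ with h1 | h1 | h1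
    · exact Or.inl h1
    · exact Or.inr h1
    · exact absurd h1 h
  have hprod1 : ((χ : G → ℂ) * (χ' : G → ℂ)) 1 =
      ((charDegree (χ : G → ℂ) * charDegree (χ' : G → ℂ) : ℕ) : ℂ) := by
    rw [Pi.mul_apply, irr_one_eq_charDegree χ, irr_one_eq_charDegree χ']
    push_cast
    ring
  have hle := degree_le_of_constituent hα σ.2 hσ1 _ hprod1
  rcases hdeg χ hχn with h1 | h1
  · rcases hdeg χ' hχ'n with h2 | h2
    · rw [h1, h2] at hle
      omega
    · rw [h1, h2] at hle
      omega
  · rcases hdeg χ' hχ'n with h2 | h2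
    · rw [h1, h2] at hle
      omega
    · by_cases hex : ∃ lam : IrrCharacter G, charDegree (lam : G → ℂ) = 1 ∧
          (χ' : G → ℂ) = fun g => conj ((χ : G → ℂ) g) * (lam : G → ℂ) g
      · obtain ⟨lam, hlam1, hlam⟩ := hex
        intro hσn
        have hl1 : (lam : G → ℂ) 1 = 1 := by
          rw [irr_one_eq_charDegree lam, hlam1]
          simp
        have hlb1 : ((Cfsg.Agent.Helper80.cconjIrr lam : IrrCharacter G) : G → ℂ) 1 = 1 := by
          show conj ((lam : G → ℂ) 1) = 1
          rw [hl1]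
          simp
        set ψ : IrrCharacter G := Cfsg.Agent.Helper74.Lin.twistIrr
          (Cfsg.Agent.Helper74.Lin.toHom (Cfsg.Agent.Helper80.cconjIrr lam) hlb1) σ with hψdef
        have hψ : (ψ : G → ℂ) = (σ : G → ℂ) * fun g => conj ((lam : G → ℂ) g) := by
          funext g
          show conj ((lam : G → ℂ) g) * (σ : G → ℂ) g = (σ : G → ℂ) g * conj ((lam : G → ℂ) g)
          ring
        have hψn : charDegree (ψ : G → ℂ) = n := by
          apply charDegree_of_eq
          rw [hψ]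
          show (σ : G → ℂ) 1 * conj ((lam : G → ℂ) 1) = (n : ℂ)
          rw [hl1, irr_one_eq_charDegree σ, hσn]
          simp
        have h0 := hnop χ ψ h1 hψn
        apply hσ1
        have hprod : (χ : G → ℂ) * (χ' : G → ℂ) =
            (fun g => (χ : G → ℂ) g * conj ((χ : G → ℂ) g)) * (lam : G → ℂ) := by
          rw [hlam]
          funext g
          simp only [Pi.mul_apply]
          ring
        rw [hprod, classInner_mul_adj, ← hψ]
        exact h0
      · push Not at hex
        have h3 := hMM χ χ' h1 h2 (fun lam hl => hex lam hl) σ hσ1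
        rw [h3]
        omega

end Cfsg.Agent.Helper74.CD3A
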