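import Cfsg.Agent.Lib.Helper1.CD3.Defs
import Cfsg.Agent.Lib.Helper81.CharRam
import Mathlib

/-!
CD3B server (helper1, S4460), piece (K2) `degree_over` (with a local copy of (K1)).
-/

set_option autoImplicit false

namespace Cfsg.Agent.Helper74.CD3B

open Cfsg Cfsg.Agent.Helper81 Cfsg.Agent.Helper1.CD3

universe u

/-- local copy of (K1): orbit-stabiliser for `conjSet`. -/
theorem card_conjSet_aux {G : Type u} [Group G] [Fintype G] (W : Subgroup G) (hW : W.Normal)
    (θ : W → ℂ) : Nat.card (conjSet W hW θ) = (stab W hW θ).index := by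
  unfold Subgroup.index
  symm
  apply Nat.card_congr
  refine Equiv.ofBijective (Quotient.lift
    (fun g : G => (⟨conjFun W hW θ g⁻¹, ⟨g⁻¹, rfl⟩⟩ : conjSet W hW θ)) ?_) ⟨?_, ?_⟩
  · intro a b hab
    have h : a⁻¹ * b ∈ stab W hW θ := QuotientGroup.leftRel_apply.mp hab
    apply Subtype.ext
    show conjFun W hW θ a⁻¹ = conjFun W hW θ b⁻¹
    have h2 := (mem_stab W hW θ _).mp h
    calc conjFun W hW θ a⁻¹ = conjFun W hW θ (a⁻¹ * b * b⁻¹) := by rw [mul_inv_cancel_right]
      _ = conjFun W hW (conjFun W hW θ (a⁻¹ * b)) b⁻¹ := (conjFun_mul W hW θ _ _).symm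
      _ = conjFun W hW θ b⁻¹ := by rw [h2]
  · intro x y
    refine Quotient.inductionOn₂ x y ?_
    intro a b hab
    apply Quotient.sound
    apply QuotientGroup.leftRel_apply.mpr
    have h1 : conjFun W hW θ a⁻¹ = conjFun W hW θ b⁻¹ := congrArg Subtype.val hab
    rw [mem_stab]
    calc conjFun W hW θ (a⁻¹ * b)
        = conjFun W hW (conjFun W hW θ a⁻¹) b := (conjFun_mul W hW θ _ _).symm
      _ = conjFun W hW (conjFun W hW θ b⁻¹) b := by rw [h1]
      _ = conjFun W hW θ (b⁻¹ * b) := conjFun_mul W hW θ _ _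
      _ = θ := by rw [inv_mul_cancel, conjFun_one]
  · rintro ⟨ψ, g, rfl⟩
    refine ⟨(QuotientGroup.mk g⁻¹ : G ⧸ stab W hW θ), ?_⟩
    apply Subtype.ext
    show conjFun W hW θ (g⁻¹)⁻¹ = conjFun W hW θ g
    rw [inv_inv]

/-- (K1) orbit-stabiliser: the number of `G`-conjugates of `θ` is the index of its inertia group. -/
theorem card_conjSet {G : Type u} [Group G] [Fintype G] (W : Subgroup G) (hW : W.Normal) (θ : W → ℂ) :
    Nat.card (conjSet W hW θ) = (stab W hW θ).index :=
  card_conjSet_aux W hW θ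

/-- (K2) degree formula from Clifford: `χ(1) = e * |G : G_ω| * ω(1)`. -/
theorem degree_over {G : Type u} [Group G] [Fintype G] (W : Subgroup G) [Fintype W] (hW : W.Normal)
    {χ : G → ℂ} (hχ : IsIrrCharacter G χ) {ω : W → ℂ} (hω : IsIrrCharacter W ω)
    (hne : classInner (fun w : W => χ w) ω ≠ 0) (d : ℕ) (hd : ω 1 = (d : ℂ)) :
    ∃ e : ℕ, 0 < e ∧ χ 1 = ((e * (stab W hW ω).index * d : ℕ) : ℂ) := by
  classical
  have hres : IsCharacter W (fun w : W => χ w) :=
    isCharacter_restrict W (IsIrrCharacter.isCharacter hχ)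
  obtain ⟨e, he⟩ := exists_nat_classInner hres hω
  have he0 : 0 < e := by
    rcases Nat.eq_zero_or_pos e with h | h
    · exfalso
      apply hne
      rw [he, h]
      simp
    · exact h
  refine ⟨e, he0, ?_⟩
  have hcl := clifford W hW hχ hω hne
  have hS := conjSet_finite W hW ω
  have h1 := congrFun hcl 1
  rw [he, finsum_mem_eq_finite_toFinset_sum _ hS] at h1
  simp only [Pi.smul_apply, Finset.sum_apply, smul_eq_mul] at h1
  have hval : ∀ ψ ∈ hS.toFinset, ψ 1 = (d : ℂ) := by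
    intro ψ hψ
    rw [Set.Finite.mem_toFinset] at hψ
    obtain ⟨g, rfl⟩ := hψ
    rw [conjFun_apply, ← hd]
    congr 1
    apply Subtype.ext
    simp
  rw [Finset.sum_congr rfl hval, Finset.sum_const, nsmul_eq_mul] at h1
  have hcard : hS.toFinset.card = (stab W hW ω).index := by
    rw [← card_conjSet_aux W hW ω, Nat.card_coe_set_eq, Set.ncard_eq_toFinset_card _ hS]
  rw [hcard] at h1
  have h2 : χ 1 = χ ((1 : W) : G) := by simp
  rw [h2, h1]
  push_cast
  ring

end Cfsg.Agent.Helper74.CD3B
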