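import Cfsg.Agent.Lib.Helper1.CD3.Defs
import Cfsg.Agent.Lib.Helper81.CharRam
import Cfsg.Agent.Lib.Helper74.LinChar
import Mathlib

/-!
CD3B server (helper1, S4460), piece (K3) `exists_over`.
-/

set_option autoImplicit false

namespace Cfsg.Agent.Helper74.CD3B

open Cfsg Cfsg.Agent.Helper81 Cfsg.Agent.Helper1.CD3

universe u

/-- the trivial character is irreducible -/
theorem trivial_isIrr {W : Type u} [Group W] : IsIrrCharacter W (fun _ => (1 : ℂ)) := by
  have h := (Cfsg.Agent.Helper74.Lin.ofHom (1 : W →* ℂˣ)).2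
  have h1 : ((Cfsg.Agent.Helper74.Lin.ofHom (1 : W →* ℂˣ)) : W → ℂ) = fun _ => 1 := by
    funext g
    simp
  rw [h1] at h
  exact h

/-- an irreducible character constant on `W` has trivial inner product with a nontrivial `ω` -/
theorem classInner_eq_zero_of_const {G : Type u} [Group G] (W : Subgroup G) [Fintype W]
    {χ : G → ℂ} {ω : W → ℂ} (hω : IsIrrCharacter W ω) (hne : ω ≠ fun _ => 1)
    (hc : ∀ w : W, χ w = χ 1) : classInner (fun w : W => χ w) ω = 0 := by
  classical
  have h1 : (fun w : W => χ w) = (χ 1) • (fun _ : W => (1 : ℂ)) := by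
    funext w
    simp [hc w]
  rw [h1, classInner_smul_left, irr_orthonormal trivial_isIrr hω, if_neg (Ne.symm hne), mul_zero]

/-- (K3) every `ω ∈ Irr(W)` lies under some `χ ∈ Irr(G)`; if `ω ≠ 1_W` then `χ` is not constant
on `W`. -/
theorem exists_over {G : Type u} [Group G] [Fintype G] (W : Subgroup G) [Fintype W] (hW : W.Normal)
    {ω : W → ℂ} (hω : IsIrrCharacter W ω) (hne : ω ≠ fun _ => 1) :
    ∃ χ : G → ℂ, IsIrrCharacter G χ ∧ classInner (fun w : W => χ w) ω ≠ 0 ∧ ∃ w : W, χ w ≠ χ 1 := by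
  classical
  have hα : IsCharacter G (indFun W ω) := isCharacter_indFun W (IsIrrCharacter.isCharacter hω)
  obtain ⟨n, hn, hn1⟩ := irr_one_pos hω
  have hα0 : indFun W ω ≠ 0 := by
    intro h0
    have h1 := indFun_one W ω
    rw [h0, Pi.zero_apply, hn1] at h1
    have hidx : (W.index : ℂ) ≠ 0 := by
      exact_mod_cast (Subgroup.index_ne_zero_of_finite (H := W))
    have hn0 : (n : ℂ) ≠ 0 := by exact_mod_cast hn.ne'
    exact mul_ne_zero hidx hn0 h1.symm
  obtain ⟨β, hβ, hβne⟩ := exists_irr_constituent hα hα0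
  have hβc := isClassFunction_of_isCharacter (IsIrrCharacter.isCharacter hβ)
  rw [frobenius_reciprocity W ω hβc] at hβne
  have hne' : classInner (fun w : W => β w) ω ≠ 0 := by
    rw [classInner_conj_symm]
    intro h
    exact hβne ((map_eq_zero _).mp h)
  refine ⟨β, hβ, hne', ?_⟩
  by_contra hcon
  push Not at hcon
  exact hne' (classInner_eq_zero_of_const W hω hne hcon)

end Cfsg.Agent.Helper74.CD3B
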