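import Mathlib
import Cfsg.Agent.Lib.Helper74.Contrib1
import Cfsg.Agent.Lib.Helper74.BrauerFeit3
import Cfsg.Agent.Lib.Helper16.RegNorm
import Cfsg.Agent.Lib.Helper16.PIndex
import Cfsg.Agent.Lib.Helper75.CharGalois

/-!
# Contributions of a subsection (helper74), part 3: integrality and non-vanishing

* `pow_mul_contrib` : `p^d m^{(z,b)}_{χχ'} = ∑_{ψ,ψ'' ∈ b} a_{χψ} a_{χ'ψ''} n_{ψψ''} λ_ψ conj λ_{ψ''}`;
* `not_memLocalIdeal_pow_mul_contrib` : for `χ, χ'` of height zero in `B = b^G` this is a unit of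
  the local ring (Brauer).
-/

set_option autoImplicit false
set_option linter.unusedSectionVars false
set_option linter.style.haveILetI false

namespace Cfsg.Agent.Helper74.CT

open Cfsg
open Cfsg.Agent.Helper77 Cfsg.Agent.Helper78 Cfsg.Agent.Helper74.DO Cfsg.Agent.Helper74.BF
open scoped ComplexConjugate

universe u

section arith

variable {G : Type u} [Group G] [Fintype G] {p : ℕ} [hpf : Fact p.Prime] {M : Ideal AlgInt}
variable {H : Subgroup G} [Fintype H]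

theorem cscal_one (ψ : IrrCharacter H) : cscal (1 : H) ψ = 1 := by
  unfold cscal
  exact div_self (Cfsg.Agent.Helper80.irr_one_ne_zero ψ)

theorem cscal_pow (z : H) (hz : z ∈ Subgroup.center H) (ψ : IrrCharacter H) (m : ℕ) :
    cscal (z ^ m) ψ = cscal z ψ ^ m := by
  induction m with
  | zero => rw [pow_zero, pow_zero, cscal_one]
  | succ m ih =>
    rw [pow_succ, pow_succ, ← ih]
    unfold cscal
    exact irr_central_mul_div ψ (z ^ m) z hz

theorem cscal_pow_eq_one (z : H) (hz : z ∈ Subgroup.center H) (ψ : IrrCharacter H) (m : ℕ)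
    (hm : z ^ m = 1) : cscal z ψ ^ m = 1 := by
  rw [← cscal_pow z hz, hm, cscal_one]

theorem conj_resMult (χ : IrrCharacter G) (ψ : IrrCharacter H) :
    conj (resMult χ ψ) = resMult χ ψ := by
  obtain ⟨m, hm⟩ := resMult_nat χ ψ
  rw [hm, Complex.conj_natCast]

theorem classInner_pReg_pReg (f g : H → ℂ) :
    classInner (pRegularPart p f) (pRegularPart p g) = classInner (pRegularPart p f) g := by
  unfold classInner
  congr 1
  refine Finset.sum_congr rfl fun x _ => ?_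
  by_cases hx : p ∣ orderOf x
  · rw [pRegularPart_of_singular p _ hx, zero_mul, zero_mul]
  · rw [pRegularPart_of_regular p g hx]

theorem classInner_pReg_eq_regSum (f g : H → ℂ) :
    classInner (pRegularPart p f) g = (Nat.card H : ℂ)⁻¹ * BF.regSum p f g := by
  classical
  unfold classInner BF.regSum
  congr 1
  rw [Finset.sum_filter]
  refine Finset.sum_congr rfl fun x _ => ?_
  by_cases hx : p ∣ orderOf x
  · rw [pRegularPart_of_singular p _ hx, zero_mul, if_neg (not_not.2 hx)]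
  · rw [pRegularPart_of_regular p f hx, if_pos hx]

theorem pow_mul_classInner_pReg {b : Set (IrrCharacter H)}
    {n : IrrCharacter H → IrrCharacter H → ℤ} (hn : IsContrib p b n) {ψ : IrrCharacter H}
    (hψ : ψ ∈ b) (ψ'' : IrrCharacter H) :
    (p : ℂ) ^ blockDefect p b * classInner (pRegularPart p (ψ : H → ℂ)) (ψ'' : H → ℂ) =
      ((n ψ ψ'' : ℤ) : ℂ) := by
  rw [hn.cast_eq ψ hψ ψ'', classInner_pReg_eq_regSum]
  ring

/-- the integrality formula for the contributions -/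
theorem pow_mul_contrib (hM : IsPModular p M) {b : Set (IrrCharacter H)} (hb : IsPBlock M b)
    {n : IrrCharacter H → IrrCharacter H → ℤ} (hn : IsContrib p b n)
    (z : H) (hz : z ∈ Subgroup.center H) (χ χ' : IrrCharacter G) :
    (p : ℂ) ^ blockDefect p b * contrib p z b (χ : G → ℂ) (χ' : G → ℂ) =
      ∑ ψ ∈ (Set.toFinite b).toFinset, ∑ ψ'' ∈ (Set.toFinite b).toFinset,
        resMult χ ψ * resMult χ' ψ'' * ((n ψ ψ'' : ℤ) : ℂ) *
          (cscal z ψ * conj (cscal z ψ'')) := by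
  unfold contrib
  rw [secPart_expand hM hb z hz χ, secPart_expand hM hb z hz χ', classInner_sum_left,
    Finset.mul_sum]
  refine Finset.sum_congr rfl fun ψ hψ => ?_
  rw [classInner_sum_right, Finset.mul_sum]
  refine Finset.sum_congr rfl fun ψ'' _ => ?_
  rw [classInner_smul_left, classInner_smul_right, map_mul, conj_resMult, classInner_pReg_pReg,
    ← pow_mul_classInner_pReg hn ((Set.Finite.mem_toFinset _).1 hψ) ψ'']
  ring

/-- `∑_{ψ'' ∈ b} a'_{ψ''} n_{ψψ''} = p^d ⟨ψ°, χ'|_H⟩` -/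
theorem sum_resMult_mul {b : Set (IrrCharacter H)}
    {n : IrrCharacter H → IrrCharacter H → ℤ} (hn : IsContrib p b n) {ψ : IrrCharacter H}
    (hψ : ψ ∈ b) (χ' : IrrCharacter G) :
    ∑ ψ'' ∈ (Set.toFinite b).toFinset, resMult χ' ψ'' * ((n ψ ψ'' : ℤ) : ℂ) =
      (p : ℂ) ^ blockDefect p b *
        classInner (pRegularPart p (ψ : H → ℂ)) (fun h : H => (χ' : G → ℂ) h) := by
  classical
  have hexp := Cfsg.Agent.Helper3.classFunction_eq_sum _ (isClassFunction_restrict (H := H) χ')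
  have h1 : classInner (pRegularPart p (ψ : H → ℂ)) (fun h : H => (χ' : G → ℂ) h) =
      ∑ ψ'' : IrrCharacter H, resMult χ' ψ'' *
        classInner (pRegularPart p (ψ : H → ℂ)) (ψ'' : H → ℂ) := by
    conv_lhs => rw [hexp]
    rw [classInner_sum_right]
    refine Finset.sum_congr rfl fun ψ'' _ => ?_
    rw [classInner_smul_right]
    show conj (resMult χ' ψ'') * _ = _
    rw [conj_resMult]
  rw [h1, Finset.mul_sum, ← Finset.sum_subset (Finset.subset_univ (Set.toFinite b).toFinset)]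
  · refine Finset.sum_congr rfl fun ψ'' _ => ?_
    rw [← pow_mul_classInner_pReg hn hψ ψ'']
    ring
  · intro ψ'' _ hψ''
    have hnb : ψ'' ∉ b := fun h => hψ'' ((Set.Finite.mem_toFinset _).2 h)
    have h2 := pow_mul_classInner_pReg hn hψ ψ''
    rw [hn.zero_of_notMem ψ hψ ψ'' hnb, Int.cast_zero] at h2
    rw [mul_left_comm, h2, mul_zero]

/-- `p^d ⟨ψ°, f⟩ = (ψ(1)/cof) · (regSum ψ f / ψ(1))` -/
theorem pow_mul_classInner_pReg_eq {b : Set (IrrCharacter H)} (hbne : b.Nonempty)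
    (ψ : IrrCharacter H) (f : H → ℂ) :
    (p : ℂ) ^ blockDefect p b * classInner (pRegularPart p (ψ : H → ℂ)) f =
      ((charDegree (ψ : H → ℂ) : ℂ) / (cof p b : ℂ)) *
        (Cfsg.Agent.Helper16.regSum p (ψ : H → ℂ) f / (ψ : H → ℂ) 1) := by
  have h1 := cof_mul (p := p) hbne
  have h2 : (Nat.card H : ℂ) = (cof p b : ℂ) * (p : ℂ) ^ blockDefect p b := by
    rw [← h1]; push_cast; ring
  have hc0 : (cof p b : ℂ) ≠ 0 := by exact_mod_cast cof_ne_zero hbne
  have hp0 : ((p : ℂ) ^ blockDefect p b) ≠ 0 := pow_ne_zero _ (by exact_mod_cast hpf.out.ne_zero)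
  have hψ1 : (ψ : H → ℂ) 1 = (charDegree (ψ : H → ℂ) : ℂ) := (Cfsg.Agent.Helper79.irr_one_eq ψ).1
  have hd0 : (charDegree (ψ : H → ℂ) : ℂ) ≠ 0 := by
    exact_mod_cast (Cfsg.Agent.Helper79.irr_one_eq ψ).2.ne'
  rw [classInner_pReg_eq_regSum, h2, hψ1]
  have : BF.regSum p (ψ : H → ℂ) f = Cfsg.Agent.Helper16.regSum p (ψ : H → ℂ) f := rfl
  rw [this]
  field_simp

theorem isRValued_regConj_restrict [hpr : M.IsPrime] (ξ : IrrCharacter G) :
    IsRValued M (fun h : H => if p ∣ orderOf h then 0 else conj ((ξ : G → ℂ) h)) := by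
  intro g
  by_cases h : p ∣ orderOf g
  · simp only [h, if_true]
    exact memLocalRing_zero hpr.ne_top
  · simp only [h, if_false]
    rw [← Cfsg.Agent.Helper79.irr_inv]
    exact Cfsg.Agent.Helper74.DO.memLocalRing_of_isIntegral
      (Cfsg.Agent.Helper78.IsCharacter.isIntegral
        (Cfsg.Agent.Helper78.IsIrrCharacter.isCharacter ξ.2) (g : G)⁻¹)

/-- `regSum ψ χ|_H / ψ(1)` lies in the local ring -/
theorem memLocalRing_regSum_div [hpr : M.IsPrime] (ξ : IrrCharacter G) (ψ : IrrCharacter H) :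
    MemLocalRing M (Cfsg.Agent.Helper16.regSum p (ψ : H → ℂ) (fun h : H => (ξ : G → ℂ) h) /
      (ψ : H → ℂ) 1) := by
  rw [Cfsg.Agent.Helper16.regSum_div_eq_omega]
  exact memLocalRing_omega ψ.2
    (Cfsg.Agent.Helper16.isClassFunction_regConj p (isClassFunction_restrict (H := H) ξ))
    (isRValued_regConj_restrict ξ)

/-- `regSum ψ χ|_H / ψ(1)` is, modulo the local ideal, independent of `ψ ∈ b` -/
theorem memLocalIdeal_regSum_div_sub (hM : IsPModular p M) {b : Set (IrrCharacter H)}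
    {B : Set (IrrCharacter G)} (hind : IsInducedBlock M H b B) {ξ : IrrCharacter G} (hξ : ξ ∈ B)
    {ψ ψ' : IrrCharacter H} (hψ : ψ ∈ b) (hψ' : ψ' ∈ b) :
    MemLocalIdeal M
      (Cfsg.Agent.Helper16.regSum p (ψ : H → ℂ) (fun h : H => (ξ : G → ℂ) h) / (ψ : H → ℂ) 1 -
        Cfsg.Agent.Helper16.regSum p (ψ' : H → ℂ) (fun h : H => (ξ : G → ℂ) h) /
          (ψ' : H → ℂ) 1) := by
  classical
  haveI hpr := isPrime_of_isPModular hM
  have h1 : restr H (fun g : G => if p ∣ orderOf g then 0 else conj ((ξ : G → ℂ) g)) =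
      (fun h : H => if p ∣ orderOf h then 0 else conj ((ξ : G → ℂ) h)) := by
    funext h
    unfold restr
    simp only [Subgroup.orderOf_coe]
  have hc1 := omega_restr_congr_of_isInducedBlock H hind hψ hξ
    (Cfsg.Agent.Helper16.isClassFunction_regConj p (isClassFunction_of_isIrrCharacter ξ.2))
    (Cfsg.Agent.Helper16.isRValued_regConj (M := M) (p := p) ξ)
  have hc2 := omega_restr_congr_of_isInducedBlock H hind hψ' hξ
    (Cfsg.Agent.Helper16.isClassFunction_regConj p (isClassFunction_of_isIrrCharacter ξ.2))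
    (Cfsg.Agent.Helper16.isRValued_regConj (M := M) (p := p) ξ)
  rw [h1] at hc1 hc2
  rw [Cfsg.Agent.Helper16.regSum_div_eq_omega, Cfsg.Agent.Helper16.regSum_div_eq_omega]
  have := memLocalIdeal_sub hc1 hc2
  rwa [sub_sub_sub_cancel_right] at this

/-- **Brauer**: for a block `b` of `H` inducing `B` and `χ, χ' ∈ B` of height zero, the scaled
contribution `p^{d(b)} m^{(z,b)}_{χχ'}` is a unit of the local ring (`z` a central `p`-element of
`H`). -/
theorem not_memLocalIdeal_pow_mul_contrib (hM : IsPModular p M) {b : Set (IrrCharacter H)}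
    {B : Set (IrrCharacter G)} (hind : IsInducedBlock M H b B) (z : H)
    (hz : z ∈ Subgroup.center H) (k : ℕ) (hzk : z ^ (p ^ k) = 1) {χ χ' : IrrCharacter G}
    (hχ : χ ∈ B) (hχ' : χ' ∈ B)
    (h0 : (charDegree (χ : G → ℂ)).factorization p = minVal p B)
    (h0' : (charDegree (χ' : G → ℂ)).factorization p = minVal p B) :
    ¬ MemLocalIdeal M
      ((p : ℂ) ^ blockDefect p b * contrib p z b (χ : G → ℂ) (χ' : G → ℂ)) := by
  classical
  haveI hpr := isPrime_of_isPModular hM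
  have hb := hind.1
  have hbne : b.Nonempty := nonempty_of_isPBlock hb
  obtain ⟨n, hn⟩ := exists_contrib hM hb
  obtain ⟨ψ₀, hψ₀, hψ₀0⟩ := exists_minVal (p := p) hbne
  have hc0 : (cof p b : ℂ) ≠ 0 := by exact_mod_cast cof_ne_zero hbne
  have hcofne : cof p b ≠ 0 := cof_ne_zero hbne
  have hdeg0 : ∀ ψ : IrrCharacter H, charDegree (ψ : H → ℂ) ≠ 0 :=
    fun ψ => (Cfsg.Agent.Helper79.irr_one_eq ψ).2.ne'
  have hdegc0 : ∀ ψ : IrrCharacter H, (charDegree (ψ : H → ℂ) : ℂ) ≠ 0 :=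
    fun ψ => by exact_mod_cast hdeg0 ψ
  -- the quantities `R ξ ψ`
  obtain ⟨R, hRdef⟩ : ∃ R : IrrCharacter G → IrrCharacter H → ℂ,
      R = fun (ξ : IrrCharacter G) (ψ : IrrCharacter H) =>
      Cfsg.Agent.Helper16.regSum p (ψ : H → ℂ) (fun h : H => (ξ : G → ℂ) h) / (ψ : H → ℂ) 1 :=
    ⟨_, rfl⟩
  have hRring : ∀ ξ ψ, MemLocalRing M (R ξ ψ) := by
    intro ξ ψ; rw [hRdef]; exact memLocalRing_regSum_div ξ ψ
  have hRcong : ∀ ξ ∈ B, ∀ ψ ∈ b, ∀ ψ' ∈ b, MemLocalIdeal M (R ξ ψ - R ξ ψ') := by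
    intro ξ hξ ψ hψ ψ' hψ'; rw [hRdef]; exact memLocalIdeal_regSum_div_sub hM hind hξ hψ hψ'
  have hRunit : ∀ ξ ∈ B, (charDegree (ξ : G → ℂ)).factorization p = minVal p B → ∀ ψ ∈ b,
      ¬ MemLocalIdeal M (R ξ ψ) := by
    intro ξ hξ hξ0 ψ hψ; rw [hRdef]
    exact Cfsg.Agent.Helper16.not_memLocalIdeal_regSum_of_induced hM H hind hξ hξ0 hψ
  -- degrees over the cofactor
  have hdegring : ∀ ψ ∈ b, MemLocalRing M ((charDegree (ψ : H → ℂ) : ℂ) / (cof p b : ℂ)) := by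
    intro ψ hψ
    apply memLocalRing_natCast_div hM _ _ (hdeg0 ψ) hcofne
    rw [cof_factorization hbne]
    exact minVal_le hψ
  have hdegunit : ¬ MemLocalIdeal M ((charDegree (ψ₀ : H → ℂ) : ℂ) / (cof p b : ℂ)) := by
    apply BF.not_memLocalIdeal_natCast_div hM _ _ (hdeg0 ψ₀) hcofne
    rw [cof_factorization hbne, hψ₀0]
  have haring : ∀ (ξ : IrrCharacter G) (ψ : IrrCharacter H), MemLocalRing M (resMult ξ ψ) := by
    intro ξ ψ
    obtain ⟨m, hm⟩ := resMult_nat ξ ψ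
    rw [hm]; exact memLocalRing_natCast m
  -- the key identity
  have hS : ∀ (ξ : IrrCharacter G), ∀ ψ ∈ b,
      ∑ ψ'' ∈ (Set.toFinite b).toFinset, resMult ξ ψ'' * ((n ψ ψ'' : ℤ) : ℂ) =
        ((charDegree (ψ : H → ℂ) : ℂ) / (cof p b : ℂ)) * R ξ ψ := by
    intro ξ ψ hψ
    rw [sum_resMult_mul hn hψ ξ, pow_mul_classInner_pReg_eq hbne ψ, hRdef]
  -- `T = θ_χ(1) / cof`
  obtain ⟨T, hTdef⟩ : ∃ T : ℂ, T = ∑ ψ ∈ (Set.toFinite b).toFinset,
      resMult χ ψ * ((charDegree (ψ : H → ℂ) : ℂ) / (cof p b : ℂ)) := ⟨_, rfl⟩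
  have hTring : MemLocalRing M T := by
    rw [hTdef]
    exact memLocalRing_sum _ _ fun ψ hψ =>
      memLocalRing_mul (haring χ ψ) (hdegring ψ ((Set.Finite.mem_toFinset _).1 hψ))
  have hT : ¬ MemLocalIdeal M T := by
    intro hTI
    have hS' := hS χ ψ₀ hψ₀
    have hunit : ¬ MemLocalIdeal M
        (((charDegree (ψ₀ : H → ℂ) : ℂ) / (cof p b : ℂ)) * R χ ψ₀) :=
      not_memLocalIdeal_mul (hdegring ψ₀ hψ₀) (hRring χ ψ₀) hdegunit (hRunit χ hχ h0 ψ₀ hψ₀)
    apply hunit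
    rw [← hS']
    obtain ⟨ρ, hρdef⟩ : ∃ ρ : ℂ, ρ = ((cof p b * n ψ₀ ψ₀ : ℤ) : ℂ) /
        (charDegree (ψ₀ : H → ℂ) : ℂ) := ⟨_, rfl⟩
    have hn00 : n ψ₀ ψ₀ ≠ 0 := (hn.val_eq hM hb hψ₀ hψ₀0 hψ₀).1
    have hρring : MemLocalRing M ρ := by
      rw [hρdef]
      apply (memLocalRing_intCast_div_iff hM _ _ ?_ (hdeg0 ψ₀)).2
      · rw [factorization_cof_mul hbne hn00, hψ₀0]
        omega
      · exact mul_ne_zero (by exact_mod_cast hcofne) hn00
    have hcong : ∀ ψ ∈ b, MemLocalIdeal M (((n ψ₀ ψ : ℤ) : ℂ) -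
        ρ * ((charDegree (ψ : H → ℂ) : ℂ) / (cof p b : ℂ))) := by
      intro ψ hψ
      have h1 := hn.congr hM hb hψ hψ₀
      have h2 := memLocalIdeal_mul_right h1 (hdegring ψ hψ)
      rw [← hρdef] at h2
      have h3 : (((cof p b * n ψ ψ₀ : ℤ) : ℂ) / (charDegree (ψ : H → ℂ) : ℂ) - ρ) *
          ((charDegree (ψ : H → ℂ) : ℂ) / (cof p b : ℂ)) =
          ((n ψ₀ ψ : ℤ) : ℂ) - ρ * ((charDegree (ψ : H → ℂ) : ℂ) / (cof p b : ℂ)) := by
        rw [hn.symm hψ₀ hψ]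
        have := hdegc0 ψ
        push_cast
        field_simp
      rwa [h3] at h2
    have hsplit : ∑ ψ ∈ (Set.toFinite b).toFinset, resMult χ ψ * ((n ψ₀ ψ : ℤ) : ℂ) =
        ∑ ψ ∈ (Set.toFinite b).toFinset, resMult χ ψ * (((n ψ₀ ψ : ℤ) : ℂ) -
          ρ * ((charDegree (ψ : H → ℂ) : ℂ) / (cof p b : ℂ))) + ρ * T := by
      rw [hTdef, Finset.mul_sum, ← Finset.sum_add_distrib]
      refine Finset.sum_congr rfl fun ψ _ => ?_
      ring
    rw [hsplit]
    exact memLocalIdeal_add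
      (memLocalIdeal_sum _ _ fun ψ hψ =>
        memLocalIdeal_mul_left (haring χ ψ) (hcong ψ ((Set.Finite.mem_toFinset _).1 hψ)))
      (memLocalIdeal_mul_left hρring hTI)
  -- the integer part `N0`
  obtain ⟨N0, hN0def⟩ : ∃ N0 : ℂ, N0 = ∑ ψ ∈ (Set.toFinite b).toFinset,
      ∑ ψ'' ∈ (Set.toFinite b).toFinset, resMult χ ψ * resMult χ' ψ'' * ((n ψ ψ'' : ℤ) : ℂ) :=
    ⟨_, rfl⟩
  have hN0 : ¬ MemLocalIdeal M N0 := by
    intro hN0I
    have h1 : N0 = ∑ ψ ∈ (Set.toFinite b).toFinset, resMult χ ψ *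
        (((charDegree (ψ : H → ℂ) : ℂ) / (cof p b : ℂ)) * R χ' ψ) := by
      rw [hN0def]
      refine Finset.sum_congr rfl fun ψ hψ => ?_
      rw [← hS χ' ψ ((Set.Finite.mem_toFinset _).1 hψ), Finset.mul_sum]
      refine Finset.sum_congr rfl fun ψ'' _ => ?_
      ring
    have h2 : N0 = ∑ ψ ∈ (Set.toFinite b).toFinset, resMult χ ψ *
        (((charDegree (ψ : H → ℂ) : ℂ) / (cof p b : ℂ)) * (R χ' ψ - R χ' ψ₀)) + R χ' ψ₀ * T := by
      rw [h1, hTdef, Finset.mul_sum, ← Finset.sum_add_distrib]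
      refine Finset.sum_congr rfl fun ψ _ => ?_
      ring
    have h3 : MemLocalIdeal M (R χ' ψ₀ * T) := by
      have h4 : MemLocalIdeal M (∑ ψ ∈ (Set.toFinite b).toFinset, resMult χ ψ *
          (((charDegree (ψ : H → ℂ) : ℂ) / (cof p b : ℂ)) * (R χ' ψ - R χ' ψ₀))) :=
        memLocalIdeal_sum _ _ fun ψ hψ =>
          memLocalIdeal_mul_left (haring χ ψ)
            (memLocalIdeal_mul_left (hdegring ψ ((Set.Finite.mem_toFinset _).1 hψ))
              (hRcong χ' hχ' ψ ((Set.Finite.mem_toFinset _).1 hψ) ψ₀ hψ₀))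
      have h5 := memLocalIdeal_sub hN0I h4
      rw [h2] at h5
      simpa using h5
    rcases memLocalIdeal_or_of_mul (hRring χ' ψ₀) hTring h3 with h | h
    · exact hRunit χ' hχ' h0' ψ₀ hψ₀ h
    · exact hT h
  -- the difference is in the ideal
  rw [pow_mul_contrib hM hb hn z hz χ χ']
  intro hα
  apply hN0
  have hdiff : MemLocalIdeal M ((∑ ψ ∈ (Set.toFinite b).toFinset,
      ∑ ψ'' ∈ (Set.toFinite b).toFinset, resMult χ ψ * resMult χ' ψ'' * ((n ψ ψ'' : ℤ) : ℂ) *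
        (cscal z ψ * conj (cscal z ψ''))) - N0) := by
    rw [hN0def, ← Finset.sum_sub_distrib]
    refine memLocalIdeal_sum _ _ fun ψ _ => ?_
    rw [← Finset.sum_sub_distrib]
    refine memLocalIdeal_sum _ _ fun ψ'' _ => ?_
    have h1 : resMult χ ψ * resMult χ' ψ'' * ((n ψ ψ'' : ℤ) : ℂ) *
        (cscal z ψ * conj (cscal z ψ'')) - resMult χ ψ * resMult χ' ψ'' * ((n ψ ψ'' : ℤ) : ℂ) =
        resMult χ ψ * resMult χ' ψ'' * ((n ψ ψ'' : ℤ) : ℂ) *
          (cscal z ψ * conj (cscal z ψ'') - 1) := by ring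
    rw [h1]
    apply memLocalIdeal_mul_left
      (memLocalRing_mul (memLocalRing_mul (haring χ ψ) (haring χ' ψ'')) (memLocalRing_intCast _))
    apply Cfsg.Agent.Helper16.memLocalIdeal_sub_one_of_pow_eq_one hM _ k
    rw [mul_pow, ← map_pow, cscal_pow_eq_one z hz ψ _ hzk, cscal_pow_eq_one z hz ψ'' _ hzk,
      map_one, mul_one]
  have := memLocalIdeal_sub hα hdiff
  rwa [sub_sub_cancel] at this

end arith

end Cfsg.Agent.Helper74.CT
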