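import Mathlib
import Cfsg.Agent.Lib.Helper74.Contrib2
import Cfsg.Agent.Lib.Helper74.Contrib3

/-!
# Contributions of a subsection (helper74), part 4: the Galois norm argument

If all characters of `B` have height zero and `(y, b)` is a subsection with `b^G = B`, then
`k(B)² ≤ p^{2 d(b)} l(b)` (Brauer).
-/

set_option autoImplicit false
set_option linter.unusedSectionVars false
set_option linter.style.haveILetI false

namespace Cfsg.Agent.Helper74.CT

open Cfsg Polynomial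
open Cfsg.Agent.Helper77 Cfsg.Agent.Helper78 Cfsg.Agent.Helper74.DO Cfsg.Agent.Helper74.BF
  Cfsg.Agent.Helper74.SS
open scoped ComplexConjugate

universe u

section poly

variable {G : Type u} [Group G] [Fintype G] {p : ℕ} [hpf : Fact p.Prime] {M : Ideal AlgInt}
variable {H : Subgroup G} [Fintype H]

/-- the scaled contributions of all powers `z ^ m` are the values of one integer polynomial at the
powers `ζ ^ m` of a primitive root of unity -/
theorem exists_poly_contrib (hM : IsPModular p M) {b : Set (IrrCharacter H)} (hb : IsPBlock M b)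
    (z : H) (hz : z ∈ Subgroup.center H) (N : ℕ) (hN : 0 < N) (hzN : z ^ N = 1) (ζ : ℂ)
    (hζ : IsPrimitiveRoot ζ N) (χ χ' : IrrCharacter G) :
    ∃ P : ℤ[X], ∀ m : ℕ, aeval (ζ ^ m) P =
      (p : ℂ) ^ blockDefect p b * contrib p (z ^ m) b (χ : G → ℂ) (χ' : G → ℂ) := by
  classical
  haveI : NeZero N := ⟨hN.ne'⟩
  obtain ⟨n, hn⟩ := exists_contrib hM hb
  choose A hA using fun (ξ : IrrCharacter G) (ψ : IrrCharacter H) => resMult_nat ξ ψ
  have hex : ∀ ψ : IrrCharacter H, ∃ i < N, ζ ^ i = cscal z ψ := fun ψ =>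
    hζ.eq_pow_of_pow_eq_one (cscal_pow_eq_one z hz ψ N hzN)
  choose e _ he using hex
  refine ⟨∑ ψ ∈ (Set.toFinite b).toFinset, ∑ ψ'' ∈ (Set.toFinite b).toFinset,
    monomial (e ψ + (N - 1) * e ψ'') ((A χ ψ : ℤ) * (A χ' ψ'' : ℤ) * n ψ ψ''), ?_⟩
  intro m
  have hzm : z ^ m ∈ Subgroup.center H := Subgroup.pow_mem _ hz m
  rw [pow_mul_contrib hM hb hn (z ^ m) hzm χ χ', map_sum]
  refine Finset.sum_congr rfl fun ψ _ => ?_
  rw [map_sum]
  refine Finset.sum_congr rfl fun ψ'' _ => ?_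
  rw [aeval_monomial, hA χ ψ, hA χ' ψ'', cscal_pow z hz ψ m, cscal_pow z hz ψ'' m]
  have h1 : (ζ ^ m) ^ (e ψ + (N - 1) * e ψ'') =
      cscal z ψ ^ m * conj (cscal z ψ'' ^ m) := by
    have hμ : (cscal z ψ'' ^ m) ^ N = 1 := by
      rw [← pow_mul, mul_comm, pow_mul, cscal_pow_eq_one z hz ψ'' N hzN, one_pow]
    have hconj : conj (cscal z ψ'' ^ m) = (cscal z ψ'' ^ m) ^ (N - 1) := by
      rw [Cfsg.Agent.Helper75.conj_eq_inv_of_pow_eq_one _ N hN hμ]
      have h2 : (cscal z ψ'' ^ m) ^ (N - 1) * (cscal z ψ'' ^ m) = 1 := by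
        rw [← pow_succ, Nat.sub_add_cancel hN, hμ]
      exact (eq_inv_of_mul_eq_one_left h2).symm
    rw [hconj, ← he ψ, ← he ψ'', pow_add]
    congr 1
    · rw [← pow_mul, ← pow_mul, mul_comm]
    · rw [← pow_mul, ← pow_mul, ← pow_mul]
      congr 1
      ring
  rw [h1]
  simp only [eq_intCast, Int.cast_mul, Int.cast_natCast]

end poly

section main

variable {G : Type u} [Group G] [Fintype G] {p : ℕ} [hpf : Fact p.Prime] {M : Ideal AlgInt}

theorem mem_cent_iff' (x t : G) :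
    t ∈ Subgroup.centralizer ({x} : Set G) ↔ x * t = t * x := by
  rw [Subgroup.mem_centralizer_iff]
  constructor
  · intro h
    exact h x (Set.mem_singleton x)
  · intro h g hg
    rw [Set.mem_singleton_iff.1 hg]
    exact h

theorem centralizer_pow_eq (y : G) (m : ℕ) (hm : m.Coprime (orderOf y)) :
    Subgroup.centralizer ({y} : Set G) = Subgroup.centralizer ({y ^ m} : Set G) := by
  ext t
  rw [mem_cent_iff', mem_cent_iff']
  constructor
  · intro h
    exact (Commute.pow_left (show Commute y t from h) m).eq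
  · intro h
    obtain ⟨j, hj⟩ := exists_pow_eq_self_of_coprime hm
    have := (Commute.pow_left (show Commute (y ^ m) t from h) j).eq
    rwa [hj] at this

/-- **Brauer**: if all characters of `B` have height zero and `b` is a block of `C_G(y)`
(`y` a `p`-element) inducing `B`, then `k(B)² ≤ p^{2 d(b)} l(b)`. -/
theorem card_sq_le (hM : IsPModular p M) (y : G) (hy : ∃ k : ℕ, orderOf y = p ^ k)
    [Fintype (Subgroup.centralizer ({y} : Set G))]
    {B : Set (IrrCharacter G)} {b : Set (IrrCharacter (Subgroup.centralizer ({y} : Set G)))}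
    (hind : IsInducedBlock M (Subgroup.centralizer ({y} : Set G)) b B)
    (hh : ∀ χ ∈ B, (charDegree (χ : G → ℂ)).factorization p = minVal p B) :
    (((Set.toFinite B).toFinset.card : ℝ)) ^ 2 ≤
      (p : ℝ) ^ (2 * blockDefect p b) * (blockRank p b : ℝ) := by
  classical
  haveI hpr := isPrime_of_isPModular hM
  obtain ⟨k, hk⟩ := hy
  obtain ⟨N, hNdef⟩ : ∃ N : ℕ, N = p ^ k := ⟨_, rfl⟩
  have hN : 0 < N := by rw [hNdef]; exact pow_pos hpf.out.pos k
  haveI : NeZero N := ⟨hN.ne'⟩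
  obtain ⟨z, hzdef⟩ : ∃ z : Subgroup.centralizer ({y} : Set G), z = zc y := ⟨_, rfl⟩
  have hzc : (z : G) = y := by rw [hzdef]; rfl
  have hz : z ∈ Subgroup.center (Subgroup.centralizer ({y} : Set G)) := by
    rw [hzdef]; exact zc_mem_center y
  have hzN : z ^ N = 1 := by
    apply Subtype.ext
    push_cast
    rw [hzc, hNdef, ← hk, pow_orderOf_eq_one]
  have hzk : z ^ (p ^ k) = 1 := by rw [← hNdef]; exact hzN
  obtain ⟨ζ, hζ⟩ : ∃ ζ : ℂ, IsPrimitiveRoot ζ N := ⟨_, Complex.isPrimitiveRoot_exp N hN.ne'⟩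
  have hb := hind.1
  choose P hP using fun χ χ' : IrrCharacter G =>
    exists_poly_contrib hM hb z hz N hN hzN ζ hζ χ χ'
  obtain ⟨S, hSdef⟩ : ∃ S : Finset (IrrCharacter G), S = (Set.toFinite B).toFinset := ⟨_, rfl⟩
  have hSmem : ∀ χ ∈ S, χ ∈ B := fun χ hχ => by
    rw [hSdef] at hχ; exact (Set.Finite.mem_toFinset _).1 hχ
  obtain ⟨R, hRdef⟩ : ∃ R : Finset ℂ, R = primitiveRoots N ℂ := ⟨_, rfl⟩
  obtain ⟨d, hddef⟩ : ∃ d : ℕ, d = blockDefect p b := ⟨_, rfl⟩
  rw [← hSdef, ← hddef]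
  -- (1) the sum of squares over each Galois conjugate
  have hrow : ∀ η ∈ R, ∑ χ ∈ S, ∑ χ' ∈ S, ‖aeval η (P χ χ')‖ ^ 2 =
      (p : ℝ) ^ (2 * d) * (blockRank p b : ℝ) := by
    intro η hη
    rw [hRdef] at hη
    have hηp : IsPrimitiveRoot η N := (mem_primitiveRoots hN).1 hη
    obtain ⟨m, _, hmc, hmη⟩ := (hζ.isPrimitiveRoot_iff).1 hηp
    have hcop : m.Coprime (orderOf y) := by rw [hk, ← hNdef]; exact hmc
    have hord : orderOf (y ^ m) = p ^ k := by
      rw [Nat.Coprime.orderOf_pow hcop.symm, hk]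
    have hA := sum_contrib_sq' hM (Subgroup.centralizer ({y} : Set G)) (z ^ m) (y ^ m)
      (by push_cast; rw [hzc]) (centralizer_pow_eq y m hcop) ⟨k, hord⟩ hind
    rw [← hSdef] at hA
    apply Complex.ofReal_injective
    push_cast
    rw [← hA, Finset.mul_sum]
    refine Finset.sum_congr rfl fun χ _ => ?_
    rw [Finset.mul_sum]
    refine Finset.sum_congr rfl fun χ' _ => ?_
    have h1 : (‖aeval η (P χ χ')‖ : ℂ) ^ 2 = aeval η (P χ χ') * conj (aeval η (P χ χ')) := by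
      rw [Complex.mul_conj, Complex.normSq_eq_norm_sq]
      push_cast
      rfl
    rw [h1, ← hmη, hP χ χ' m, map_mul, map_pow, Complex.conj_natCast, ← hddef]
    ring
  -- (2) non-vanishing
  have hne : ∀ χ ∈ S, ∀ χ' ∈ S, aeval ζ (P χ χ') ≠ 0 := by
    intro χ hχ χ' hχ' h0
    have h1 := hP χ χ' 1
    rw [pow_one, pow_one] at h1
    have hu := not_memLocalIdeal_pow_mul_contrib hM hind z hz k hzk (hSmem χ hχ) (hSmem χ' hχ')
      (hh χ (hSmem χ hχ)) (hh χ' (hSmem χ' hχ'))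
    rw [← h1, h0] at hu
    exact hu (memLocalIdeal_zero hpr.ne_top)
  -- (3) the norm inequality for each pair
  have hpair : ∀ χ ∈ S, ∀ χ' ∈ S, (R.card : ℝ) ≤ ∑ η ∈ R, ‖aeval η (P χ χ')‖ ^ 2 := by
    intro χ hχ χ' hχ'
    apply Cfsg.Agent.Helper75.card_le_sum_of_one_le_prod R _ (fun η _ => by positivity)
    rw [Finset.prod_pow, hRdef]
    exact one_le_pow₀
      (Cfsg.Agent.Helper75.one_le_prod_norm_aeval N hN ζ hζ _ (hne χ hχ χ' hχ'))
  -- (4) summation
  have hsum : (S.card : ℝ) ^ 2 * R.card ≤ R.card * ((p : ℝ) ^ (2 * d) * (blockRank p b : ℝ)) := by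
    calc (S.card : ℝ) ^ 2 * R.card = ∑ χ ∈ S, ∑ χ' ∈ S, (R.card : ℝ) := by
          simp only [Finset.sum_const, nsmul_eq_mul]
          ring
      _ ≤ ∑ χ ∈ S, ∑ χ' ∈ S, ∑ η ∈ R, ‖aeval η (P χ χ')‖ ^ 2 :=
          Finset.sum_le_sum fun χ hχ => Finset.sum_le_sum fun χ' hχ' => hpair χ hχ χ' hχ'
      _ = ∑ χ ∈ S, ∑ η ∈ R, ∑ χ' ∈ S, ‖aeval η (P χ χ')‖ ^ 2 :=
          Finset.sum_congr rfl fun χ _ => Finset.sum_comm
      _ = ∑ η ∈ R, ∑ χ ∈ S, ∑ χ' ∈ S, ‖aeval η (P χ χ')‖ ^ 2 := Finset.sum_comm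
      _ = ∑ η ∈ R, (p : ℝ) ^ (2 * d) * (blockRank p b : ℝ) := Finset.sum_congr rfl hrow
      _ = R.card * ((p : ℝ) ^ (2 * d) * (blockRank p b : ℝ)) := by
          simp only [Finset.sum_const, nsmul_eq_mul]
  have hRpos : (0 : ℝ) < R.card := by
    have : 0 < R.card := Finset.card_pos.2 ⟨ζ, by rw [hRdef]; exact (mem_primitiveRoots hN).2 hζ⟩
    exact_mod_cast this
  rw [mul_comm] at hsum
  exact le_of_mul_le_mul_left hsum hRpos

end main

end Cfsg.Agent.Helper74.CT
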