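import Mathlib

/-!
# Sums of powers of `2`-power roots of unity over the odd exponents (helper74)

* `sum_cop_pow` : for `μ ^ (2^n) = 1`, `∑_{m < 2^n, (m, 2^n) = 1} μ^m = φ · ε(μ)` with
  `ε(1) = 1`, `ε(-1) = -1`, `ε = 0` otherwise;
* `sum_primitiveRoots_eq` : sums over the primitive roots as sums over the coprime exponents;
* `exists_odd_trace` : the averaged value of a symmetric integral Hermitian expression in
  `2`-power roots of unity is an integer of the same parity as its value at `1`.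
-/

set_option autoImplicit false
set_option linter.unusedSectionVars false

namespace Cfsg.Agent.Helper74.CT2

open scoped ComplexConjugate

/-- the exponents below `N` coprime to `N` -/
def cop (N : ℕ) : Finset ℕ := (Finset.range N).filter (fun m => m.Coprime N)

theorem sum_primitiveRoots_eq {N : ℕ} (hN : 0 < N) {ζ : ℂ} (hζ : IsPrimitiveRoot ζ N)
    {β : Type*} [AddCommMonoid β] (f : ℂ → β) :
    ∑ η ∈ primitiveRoots N ℂ, f η = ∑ m ∈ cop N, f (ζ ^ m) := by
  haveI : NeZero N := ⟨hN.ne'⟩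
  symm
  refine Finset.sum_nbij (fun m => ζ ^ m) ?_ ?_ ?_ ?_
  · intro m hm
    rw [cop, Finset.mem_filter] at hm
    exact (mem_primitiveRoots hN).2 (hζ.pow_of_coprime m hm.2)
  · intro i hi j hj hij
    rw [Finset.mem_coe, cop, Finset.mem_filter, Finset.mem_range] at hi hj
    exact hζ.pow_inj hi.1 hj.1 hij
  · intro η hη
    have hηp : IsPrimitiveRoot η N := (mem_primitiveRoots hN).1 hη
    obtain ⟨m, hmN, hmc, hmη⟩ := (hζ.isPrimitiveRoot_iff).1 hηp
    refine ⟨m, ?_, hmη⟩
    rw [Finset.mem_coe, cop, Finset.mem_filter, Finset.mem_range]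
    exact ⟨hmN, hmc⟩
  · intro m _
    rfl

theorem card_cop_eq {N : ℕ} (hN : 0 < N) {ζ : ℂ} (hζ : IsPrimitiveRoot ζ N) :
    (primitiveRoots N ℂ).card = (cop N).card := by
  have h := sum_primitiveRoots_eq hN hζ (fun _ => (1 : ℕ))
  simpa using h

theorem cop_card_pos {N : ℕ} (hN : 0 < N) : 0 < (cop N).card := by
  obtain ⟨ζ, hζ⟩ : ∃ ζ : ℂ, IsPrimitiveRoot ζ N := ⟨_, Complex.isPrimitiveRoot_exp N hN.ne'⟩
  rw [← card_cop_eq hN hζ]
  exact Finset.card_pos.2 ⟨ζ, (mem_primitiveRoots hN).2 hζ⟩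

/-- full geometric sum of a root of unity -/
theorem geom_sum_root {N : ℕ} (x : ℂ) (hx : x ^ N = 1) :
    ∑ m ∈ Finset.range N, x ^ m = if x = 1 then (N : ℂ) else 0 := by
  by_cases h1 : x = 1
  · rw [if_pos h1, h1]
    simp
  · rw [if_neg h1]
    have h := geom_sum_mul x N
    rw [hx, sub_self] at h
    rcases mul_eq_zero.1 h with h | h
    · exact h
    · exact absurd (sub_eq_zero.1 h) h1

open Classical in
/-- the value `ε(μ)` -/
noncomputable def eps (μ : ℂ) : ℤ := if μ = 1 then 1 else if μ = -1 then -1 else 0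

theorem sum_cop_pow (n : ℕ) (μ : ℂ) (hμ : μ ^ (2 ^ n) = 1) :
    ∑ m ∈ cop (2 ^ n), μ ^ m = ((cop (2 ^ n)).card : ℂ) * (eps μ : ℂ) := by
  classical
  rcases Nat.eq_zero_or_pos n with hn | hn
  · subst hn
    rw [pow_zero, pow_one] at hμ
    have hc : cop (2 ^ 0) = {0} := by
      rw [pow_zero]
      decide
    rw [hc, hμ]
    simp [eps]
  · -- `n ≥ 1`
    have hodd : ∀ m : ℕ, m.Coprime (2 ^ n) ↔ Odd m := by
      intro m
      rw [Nat.coprime_pow_right_iff hn, Nat.coprime_two_right]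
    have hNeven : Even (2 ^ n) := (Nat.even_pow.2 ⟨even_two, hn.ne'⟩)
    have hkey : ∀ ν : ℂ, ν ^ (2 ^ n) = 1 →
        ∑ m ∈ cop (2 ^ n), ν ^ m =
          ((if ν = 1 then ((2 ^ n : ℕ) : ℂ) else 0) - (if -ν = 1 then ((2 ^ n : ℕ) : ℂ) else 0)) / 2 := by
      intro ν hν
      have hν' : (-ν) ^ (2 ^ n) = 1 := by rw [Even.neg_pow hNeven, hν]
      rw [← geom_sum_root ν hν, ← geom_sum_root (-ν) hν', ← Finset.sum_sub_distrib,
        Finset.sum_div, cop, Finset.sum_filter]
      refine Finset.sum_congr rfl fun m _ => ?_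
      by_cases hm : Odd m
      · rw [if_pos ((hodd m).2 hm), Odd.neg_pow hm]
        ring
      · rw [if_neg (fun h => hm ((hodd m).1 h)), Even.neg_pow (Nat.not_odd_iff_even.1 hm)]
        ring
    have h1 := hkey 1 (one_pow _)
    have hcard : ((cop (2 ^ n)).card : ℂ) = ((2 ^ n : ℕ) : ℂ) / 2 := by
      have : ∑ m ∈ cop (2 ^ n), (1 : ℂ) ^ m = ((cop (2 ^ n)).card : ℂ) := by simp
      rw [← this, h1]
      have hne : (-1 : ℂ) ≠ 1 := by norm_num
      rw [if_pos rfl, if_neg hne, sub_zero]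
    rw [hkey μ hμ, hcard]
    unfold eps
    by_cases hμ1 : μ = 1
    · have hne : -μ ≠ 1 := by rw [hμ1]; norm_num
      rw [if_pos hμ1, if_neg hne, if_pos hμ1]
      push_cast
      ring
    · rw [if_neg hμ1, if_neg hμ1]
      by_cases hμ2 : μ = -1
      · have : -μ = 1 := by rw [hμ2]; norm_num
        rw [if_pos this, if_pos hμ2]
        push_cast
        ring
      · have : -μ ≠ 1 := fun h => hμ2 (by rw [← h]; ring)
        rw [if_neg this, if_neg hμ2]
        push_cast
        ring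

/-- the trace of a symmetric integral expression in `2`-power roots of unity -/
theorem exists_odd_trace {ι : Type*} [DecidableEq ι] (s : Finset ι) (c : ι → ι → ℤ)
    (hc : ∀ i ∈ s, ∀ j ∈ s, c i j = c j i) (n : ℕ) (lam : ι → ℂ)
    (hlam : ∀ i, lam i ^ (2 ^ n) = 1) :
    ∃ t : ℤ, (∑ m ∈ cop (2 ^ n), ∑ i ∈ s, ∑ j ∈ s, (c i j : ℂ) * (lam i * conj (lam j)) ^ m =
        ((cop (2 ^ n)).card : ℂ) * (t : ℂ)) ∧ Even (t - ∑ i ∈ s, ∑ j ∈ s, c i j) := by
  classical
  have hN0 : (2 ^ n : ℕ) ≠ 0 := pow_ne_zero _ (by norm_num)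
  have hμ : ∀ i j, (lam i * conj (lam j)) ^ (2 ^ n) = 1 := by
    intro i j
    rw [mul_pow, ← map_pow, hlam i, hlam j, map_one, mul_one]
  have hnorm : ∀ i, lam i * conj (lam i) = 1 := by
    intro i
    rw [Complex.mul_conj, Complex.normSq_eq_norm_sq,
      Complex.norm_eq_one_of_pow_eq_one (hlam i) hN0]
    norm_num
  refine ⟨∑ i ∈ s, ∑ j ∈ s, c i j * eps (lam i * conj (lam j)), ?_, ?_⟩
  · rw [Finset.sum_comm]
    push_cast
    rw [Finset.mul_sum]
    refine Finset.sum_congr rfl fun i _ => ?_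
    rw [Finset.sum_comm, Finset.mul_sum]
    refine Finset.sum_congr rfl fun j _ => ?_
    rw [← Finset.mul_sum, sum_cop_pow n _ (hμ i j)]
    ring
  · rw [even_iff_two_dvd]
    have hcast : ((2 : ℕ) : ℤ) = 2 := rfl
    rw [← hcast, ← ZMod.intCast_zmod_eq_zero_iff_dvd]
    have h2 : (2 : ZMod 2) = 0 := rfl
    -- the sum over the pairs with `μ ≠ ±1` vanishes mod 2
    have hT : ∑ x ∈ (s ×ˢ s).filter (fun x : ι × ι =>
        lam x.1 * conj (lam x.2) ≠ 1 ∧ lam x.1 * conj (lam x.2) ≠ -1),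
        ((c x.1 x.2 : ℤ) : ZMod 2) = 0 := by
      apply Finset.sum_involution (fun x _ => (x.2, x.1))
      · intro x hx
        rw [Finset.mem_filter, Finset.mem_product] at hx
        show ((c x.1 x.2 : ℤ) : ZMod 2) + ((c x.2 x.1 : ℤ) : ZMod 2) = 0
        rw [hc x.2 hx.1.2 x.1 hx.1.1, ← two_mul, h2, zero_mul]
      · intro x hx _ heq
        rw [Finset.mem_filter] at hx
        have h12 : x.2 = x.1 := congrArg Prod.fst heq
        apply hx.2.1
        rw [h12]
        exact hnorm x.1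
      · intro x hx
        rw [Finset.mem_filter, Finset.mem_product] at hx ⊢
        refine ⟨⟨hx.1.2, hx.1.1⟩, ?_, ?_⟩
        · intro h
          apply hx.2.1
          have := congrArg conj h
          rw [map_mul, Complex.conj_conj, map_one, mul_comm] at this
          exact this
        · intro h
          apply hx.2.2
          have := congrArg conj h
          rw [map_mul, Complex.conj_conj, map_neg, map_one, mul_comm] at this
          exact this
      · intro x _
        rfl
    have hterm : ∀ i j : ι, (((c i j * eps (lam i * conj (lam j)) - c i j : ℤ)) : ZMod 2) =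
        if (lam i * conj (lam j) ≠ 1 ∧ lam i * conj (lam j) ≠ -1) then ((c i j : ℤ) : ZMod 2)
        else 0 := by
      intro i j
      unfold eps
      by_cases h1 : lam i * conj (lam j) = 1
      · rw [if_pos h1, if_neg (fun h => h.1 h1)]
        simp
      · rw [if_neg h1]
        by_cases h3 : lam i * conj (lam j) = -1
        · rw [if_pos h3, if_neg (fun h => h.2 h3)]
          push_cast
          have : ((c i j : ℤ) : ZMod 2) * (-1) - ((c i j : ℤ) : ZMod 2) =
              -(2 * ((c i j : ℤ) : ZMod 2)) := by ring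
          rw [this, h2, zero_mul, neg_zero]
        · rw [if_neg h3, if_pos ⟨h1, h3⟩]
          push_cast
          have : ((c i j : ℤ) : ZMod 2) * 0 - ((c i j : ℤ) : ZMod 2) =
              ((c i j : ℤ) : ZMod 2) - 2 * ((c i j : ℤ) : ZMod 2) := by ring
          rw [this, h2, zero_mul, sub_zero]
    have hsub : (∑ i ∈ s, ∑ j ∈ s, c i j * eps (lam i * conj (lam j))) - ∑ i ∈ s, ∑ j ∈ s, c i j =
        ∑ i ∈ s, ∑ j ∈ s, (c i j * eps (lam i * conj (lam j)) - c i j) := by
      rw [← Finset.sum_sub_distrib]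
      refine Finset.sum_congr rfl fun i _ => ?_
      rw [← Finset.sum_sub_distrib]
    rw [hsub, Int.cast_sum]
    have : ∑ i ∈ s, (((∑ j ∈ s, (c i j * eps (lam i * conj (lam j)) - c i j) : ℤ)) : ZMod 2) =
        ∑ i ∈ s, ∑ j ∈ s, (if (lam i * conj (lam j) ≠ 1 ∧ lam i * conj (lam j) ≠ -1) then
          ((c i j : ℤ) : ZMod 2) else 0) := by
      refine Finset.sum_congr rfl fun i _ => ?_
      rw [Int.cast_sum]
      refine Finset.sum_congr rfl fun j _ => ?_
      exact hterm i j
    rw [this, ← Finset.sum_product' s s (fun i j =>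
      if (lam i * conj (lam j) ≠ 1 ∧ lam i * conj (lam j) ≠ -1) then
          ((c i j : ℤ) : ZMod 2) else 0), ← Finset.sum_filter]
    exact hT

end Cfsg.Agent.Helper74.CT2
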