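import Mathlib
import Cfsg.Agent.Lib.Helper74.Contrib4
import Cfsg.Agent.Lib.Helper74.Contrib5

/-!
# Contributions of a subsection (helper74), part 6: height zero characters of `2`-blocks

For a `2`-block `B`, a subsection `(u, b)` with `b` of defect `q`: there is an odd integer `T ≥ 1`
with `k₀(B) ≤ 2^q T` and `k₀(B) T ≤ 2^q l(b)`.
-/

set_option autoImplicit false
set_option linter.unusedSectionVars false
set_option linter.style.haveILetI false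

namespace Cfsg.Agent.Helper74.CT

open Cfsg Polynomial
open Cfsg.Agent.Helper77 Cfsg.Agent.Helper78 Cfsg.Agent.Helper74.DO Cfsg.Agent.Helper74.BF
  Cfsg.Agent.Helper74.SS Cfsg.Agent.Helper74.CT2
open scoped ComplexConjugate

universe u

section general

variable {G : Type u} [Group G] [Fintype G] {p : ℕ} [hpf : Fact p.Prime] {M : Ideal AlgInt}

theorem sum_contrib_row' (hM : IsPModular p M) (H : Subgroup G) [Fintype H] (z : H) (x : G)
    (hzx : (z : G) = x) (hH : H = Subgroup.centralizer ({x} : Set G))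
    (hx : ∃ k : ℕ, orderOf x = p ^ k)
    {B : Set (IrrCharacter G)} {b : Set (IrrCharacter H)} (hind : IsInducedBlock M H b B)
    (χ : IrrCharacter G) :
    ∑ χ' ∈ (Set.toFinite B).toFinset, contrib p z b (χ : G → ℂ) (χ' : G → ℂ) *
        conj (contrib p z b (χ : G → ℂ) (χ' : G → ℂ)) =
      contrib p z b (χ : G → ℂ) (χ : G → ℂ) := by
  subst hH
  have hz : z = zc x := Subtype.ext hzx
  subst hz
  exact sum_contrib_row x hM hx hind χ

theorem sum_contrib_diag' (hM : IsPModular p M) (H : Subgroup G) [Fintype H] (z : H) (x : G)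
    (hzx : (z : G) = x) (hH : H = Subgroup.centralizer ({x} : Set G))
    (hx : ∃ k : ℕ, orderOf x = p ^ k)
    {B : Set (IrrCharacter G)} {b : Set (IrrCharacter H)} (hind : IsInducedBlock M H b B) :
    ∑ χ ∈ (Set.toFinite B).toFinset, contrib p z b (χ : G → ℂ) (χ : G → ℂ) =
      (blockRank p b : ℂ) := by
  subst hH
  have hz : z = zc x := Subtype.ext hzx
  subst hz
  exact sum_contrib_diag x hM hx hind

variable {H : Subgroup G} [Fintype H]

/-- the scaled contribution is congruent to its integral part -/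
theorem memLocalIdeal_pow_mul_contrib_sub (hM : IsPModular p M) {b : Set (IrrCharacter H)}
    (hb : IsPBlock M b) {n : IrrCharacter H → IrrCharacter H → ℤ} (hn : IsContrib p b n)
    (z : H) (hz : z ∈ Subgroup.center H) (k : ℕ) (hzk : z ^ (p ^ k) = 1)
    (χ χ' : IrrCharacter G) :
    MemLocalIdeal M ((p : ℂ) ^ blockDefect p b * contrib p z b (χ : G → ℂ) (χ' : G → ℂ) -
      ∑ ψ ∈ (Set.toFinite b).toFinset, ∑ ψ'' ∈ (Set.toFinite b).toFinset,
        resMult χ ψ * resMult χ' ψ'' * ((n ψ ψ'' : ℤ) : ℂ)) := by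
  haveI hpr := isPrime_of_isPModular hM
  have haring : ∀ (ξ : IrrCharacter G) (ψ : IrrCharacter H), MemLocalRing M (resMult ξ ψ) := by
    intro ξ ψ
    obtain ⟨m, hm⟩ := resMult_nat ξ ψ
    rw [hm]; exact memLocalRing_natCast m
  rw [pow_mul_contrib hM hb hn z hz χ χ', ← Finset.sum_sub_distrib]
  refine memLocalIdeal_sum _ _ fun ψ _ => ?_
  rw [← Finset.sum_sub_distrib]
  refine memLocalIdeal_sum _ _ fun ψ'' _ => ?_
  have h1 : resMult χ ψ * resMult χ' ψ'' * ((n ψ ψ'' : ℤ) : ℂ) *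
      (cscal z ψ * conj (cscal z ψ'')) - resMult χ ψ * resMult χ' ψ'' * ((n ψ ψ'' : ℤ) : ℂ) =
      resMult χ ψ * resMult χ' ψ'' * ((n ψ ψ'' : ℤ) : ℂ) *
        (cscal z ψ * conj (cscal z ψ'') - 1) := by ring
  rw [h1]
  apply memLocalIdeal_mul_left
    (memLocalRing_mul (memLocalRing_mul (haring χ ψ) (haring χ' ψ'')) (memLocalRing_intCast _))
  apply Cfsg.Agent.Helper16.memLocalIdeal_sub_one_of_pow_eq_one hM _ k
  rw [mul_pow, ← map_pow, cscal_pow_eq_one z hz ψ _ hzk, cscal_pow_eq_one z hz ψ'' _ hzk,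
    map_one, mul_one]

/-- the diagonal contributions of the powers `z ^ m` -/
theorem pow_mul_contrib_pow (hM : IsPModular p M) {b : Set (IrrCharacter H)}
    (hb : IsPBlock M b) {n : IrrCharacter H → IrrCharacter H → ℤ} (hn : IsContrib p b n)
    (z : H) (hz : z ∈ Subgroup.center H) (χ χ' : IrrCharacter G) (m : ℕ) :
    (p : ℂ) ^ blockDefect p b * contrib p (z ^ m) b (χ : G → ℂ) (χ' : G → ℂ) =
      ∑ ψ ∈ (Set.toFinite b).toFinset, ∑ ψ'' ∈ (Set.toFinite b).toFinset,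
        resMult χ ψ * resMult χ' ψ'' * ((n ψ ψ'' : ℤ) : ℂ) *
          (cscal z ψ * conj (cscal z ψ'')) ^ m := by
  rw [pow_mul_contrib hM hb hn (z ^ m) (Subgroup.pow_mem _ hz m) χ χ']
  refine Finset.sum_congr rfl fun ψ _ => ?_
  refine Finset.sum_congr rfl fun ψ'' _ => ?_
  rw [cscal_pow z hz ψ m, cscal_pow z hz ψ'' m, mul_pow, map_pow]

end general

section two

variable {G : Type u} [Group G] [Fintype G] {M : Ideal AlgInt}

/-- the height zero characters of a `2`-block and a subsection `(u, b)`: there is an odd `T ≥ 1` with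
`k₀ ≤ 2^q T` and `k₀ T ≤ 2^q l(b)`. -/
theorem k0_bounds [hpf : Fact (Nat.Prime 2)] (hM : IsPModular 2 M) (u : G)
    (hu : ∃ k : ℕ, orderOf u = 2 ^ k) [Fintype (Subgroup.centralizer ({u} : Set G))]
    {B : Set (IrrCharacter G)} {b : Set (IrrCharacter (Subgroup.centralizer ({u} : Set G)))}
    (hind : IsInducedBlock M (Subgroup.centralizer ({u} : Set G)) b B)
    (S₀ : Finset (IrrCharacter G))
    (hS₀ : ∀ χ ∈ S₀, χ ∈ B ∧ (charDegree (χ : G → ℂ)).factorization 2 = minVal 2 B)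
    (hne : S₀.Nonempty) :
    ∃ T : ℤ, Odd T ∧ 1 ≤ T ∧ (S₀.card : ℤ) ≤ 2 ^ blockDefect 2 b * T ∧
      (S₀.card : ℤ) * T ≤ 2 ^ blockDefect 2 b * (blockRank 2 b : ℤ) := by
  classical
  haveI hpr := isPrime_of_isPModular hM
  obtain ⟨k, hk⟩ := hu
  obtain ⟨N, hNdef⟩ : ∃ N : ℕ, N = 2 ^ k := ⟨_, rfl⟩
  have hN : 0 < N := by rw [hNdef]; exact pow_pos (by norm_num) k
  haveI : NeZero N := ⟨hN.ne'⟩
  obtain ⟨z, hzdef⟩ : ∃ z : Subgroup.centralizer ({u} : Set G), z = zc u := ⟨_, rfl⟩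
  have hzc : (z : G) = u := by rw [hzdef]; rfl
  have hz : z ∈ Subgroup.center (Subgroup.centralizer ({u} : Set G)) := by
    rw [hzdef]; exact zc_mem_center u
  have hzk : z ^ (2 ^ k) = 1 := by
    apply Subtype.ext
    push_cast
    rw [hzc, ← hk, pow_orderOf_eq_one]
  have hzN : z ^ N = 1 := by rw [hNdef]; exact hzk
  obtain ⟨ζ, hζ⟩ : ∃ ζ : ℂ, IsPrimitiveRoot ζ N := ⟨_, Complex.isPrimitiveRoot_exp N hN.ne'⟩
  have hb := hind.1
  obtain ⟨n, hn⟩ := exists_contrib hM hb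
  choose P hP using fun χ χ' : IrrCharacter G =>
    exists_poly_contrib hM hb z hz N hN hzN ζ hζ χ χ'
  obtain ⟨S, hSdef⟩ : ∃ S : Finset (IrrCharacter G), S = (Set.toFinite B).toFinset := ⟨_, rfl⟩
  have hS₀S : S₀ ⊆ S := by
    intro χ hχ
    rw [hSdef]
    exact (Set.Finite.mem_toFinset _).2 (hS₀ χ hχ).1
  obtain ⟨d, hddef⟩ : ∃ d : ℕ, d = blockDefect 2 b := ⟨_, rfl⟩
  obtain ⟨Φ, hΦdef⟩ : ∃ Φ : ℕ, Φ = (cop N).card := ⟨_, rfl⟩
  have hΦpos : (0 : ℝ) < Φ := by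
    rw [hΦdef]
    exact_mod_cast cop_card_pos hN
  obtain ⟨mm, hmmdef⟩ : ∃ mm : ℕ → IrrCharacter G → IrrCharacter G → ℂ,
      mm = fun (m : ℕ) (χ χ' : IrrCharacter G) =>
        contrib 2 (z ^ m) b (χ : G → ℂ) (χ' : G → ℂ) := ⟨_, rfl⟩
  have hmmap : ∀ m χ χ', mm m χ χ' = contrib 2 (z ^ m) b (χ : G → ℂ) (χ' : G → ℂ) := by
    intro m χ χ'; rw [hmmdef]
  -- facts for the coprime exponents
  have hcop : ∀ m ∈ cop N, m.Coprime (orderOf u) ∧ orderOf (u ^ m) = 2 ^ k := by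
    intro m hm
    rw [cop, Finset.mem_filter] at hm
    have h1 : m.Coprime (orderOf u) := by rw [hk, ← hNdef]; exact hm.2
    exact ⟨h1, by rw [Nat.Coprime.orderOf_pow h1.symm, hk]⟩
  have hrowC : ∀ m ∈ cop N, ∀ χ : IrrCharacter G,
      ∑ χ' ∈ S, mm m χ χ' * conj (mm m χ χ') = mm m χ χ := by
    intro m hm χ
    have h := sum_contrib_row' hM (Subgroup.centralizer ({u} : Set G)) (z ^ m) (u ^ m)
      (by push_cast; rw [hzc]) (centralizer_pow_eq u m (hcop m hm).1) ⟨k, (hcop m hm).2⟩ hind χ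
    rw [← hSdef] at h
    simp only [hmmap]
    exact h
  have hdiagC : ∀ m ∈ cop N, ∑ χ ∈ S, mm m χ χ = (blockRank 2 b : ℂ) := by
    intro m hm
    have h := sum_contrib_diag' hM (Subgroup.centralizer ({u} : Set G)) (z ^ m) (u ^ m)
      (by push_cast; rw [hzc]) (centralizer_pow_eq u m (hcop m hm).1) ⟨k, (hcop m hm).2⟩ hind
    rw [← hSdef] at h
    simp only [hmmap]
    exact h
  -- real versions
  have hreal : ∀ m ∈ cop N, ∀ χ : IrrCharacter G,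
      mm m χ χ = ((∑ χ' ∈ S, ‖mm m χ χ'‖ ^ 2 : ℝ) : ℂ) := by
    intro m hm χ
    rw [← hrowC m hm χ]
    push_cast
    refine Finset.sum_congr rfl fun χ' _ => ?_
    rw [Complex.mul_conj, Complex.normSq_eq_norm_sq]
    push_cast
    rfl
  have hrow : ∀ m ∈ cop N, ∀ χ : IrrCharacter G,
      ∑ χ' ∈ S, ‖mm m χ χ'‖ ^ 2 = (mm m χ χ).re := by
    intro m hm χ
    conv_rhs => rw [hreal m hm χ]
    rw [Complex.ofReal_re]
  have hre : ∀ m ∈ cop N, ∀ χ : IrrCharacter G, ((mm m χ χ).re : ℂ) = mm m χ χ := by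
    intro m hm χ
    rw [← hrow m hm χ]
    exact (hreal m hm χ).symm
  have hdiag : ∀ m ∈ cop N, ∑ χ ∈ S, (mm m χ χ).re = (blockRank 2 b : ℝ) := by
    intro m hm
    have h := congrArg Complex.re (hdiagC m hm)
    rw [Complex.re_sum] at h
    rw [h]
    simp
  have hre_nonneg : ∀ m ∈ cop N, ∀ χ : IrrCharacter G, 0 ≤ (mm m χ χ).re := by
    intro m hm χ
    rw [← hrow m hm χ]
    positivity
  -- the norm inequality
  have hpair : ∀ χ ∈ S₀, ∀ χ' ∈ S₀,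
      (Φ : ℝ) ≤ ∑ m ∈ cop N, ((2 : ℝ) ^ d) ^ 2 * ‖mm m χ χ'‖ ^ 2 := by
    intro χ hχ χ' hχ'
    have hne0 : aeval ζ (P χ χ') ≠ 0 := by
      intro h0
      have h1 := hP χ χ' 1
      rw [pow_one, pow_one] at h1
      have hu := not_memLocalIdeal_pow_mul_contrib hM hind z hz k hzk (hS₀ χ hχ).1 (hS₀ χ' hχ').1
        (hS₀ χ hχ).2 (hS₀ χ' hχ').2
      rw [← h1, h0] at hu
      exact hu (memLocalIdeal_zero hpr.ne_top)
    have h1 : ((primitiveRoots N ℂ).card : ℝ) ≤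
        ∑ η ∈ primitiveRoots N ℂ, ‖aeval η (P χ χ')‖ ^ 2 := by
      apply Cfsg.Agent.Helper75.card_le_sum_of_one_le_prod _ _ (fun η _ => by positivity)
      rw [Finset.prod_pow]
      exact one_le_pow₀ (Cfsg.Agent.Helper75.one_le_prod_norm_aeval N hN ζ hζ _ hne0)
    rw [sum_primitiveRoots_eq hN hζ, card_cop_eq hN hζ, ← hΦdef] at h1
    refine h1.trans (le_of_eq ?_)
    refine Finset.sum_congr rfl fun m _ => ?_
    rw [hP χ χ' m, norm_mul, mul_pow, ← hddef, hmmap, norm_pow]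
    congr 2
    norm_num
  -- the trace
  have htrace : ∀ χ : IrrCharacter G, ∃ t : ℤ, χ ∈ S₀ →
      (Odd t ∧ ∑ m ∈ cop N, (2 : ℝ) ^ d * (mm m χ χ).re = (Φ : ℝ) * (t : ℝ)) := by
    intro χ
    by_cases hχ : χ ∈ S₀
    swap
    · exact ⟨0, fun h => absurd h hχ⟩
    choose A hA using fun ψ : IrrCharacter (Subgroup.centralizer ({u} : Set G)) =>
      resMult_nat χ ψ
    obtain ⟨t, ht1, ht2⟩ := exists_odd_trace (Set.toFinite b).toFinset
      (fun ψ ψ'' => (A ψ : ℤ) * (A ψ'' : ℤ) * n ψ ψ'')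
      (fun ψ h1 ψ'' h2 => by
        show (A ψ : ℤ) * (A ψ'' : ℤ) * n ψ ψ'' = (A ψ'' : ℤ) * (A ψ : ℤ) * n ψ'' ψ
        rw [hn.symm ((Set.Finite.mem_toFinset _).1 h1) ((Set.Finite.mem_toFinset _).1 h2)]
        ring)
      k (fun ψ => cscal z ψ) (fun ψ => cscal_pow_eq_one z hz ψ _ hzk)
    rw [← hNdef, ← hΦdef] at ht1
    refine ⟨t, fun _ => ⟨?_, ?_⟩⟩
    · -- `t` is odd
      have hα := not_memLocalIdeal_pow_mul_contrib hM hind z hz k hzk (hS₀ χ hχ).1 (hS₀ χ hχ).1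
        (hS₀ χ hχ).2 (hS₀ χ hχ).2
      have hdiff := memLocalIdeal_pow_mul_contrib_sub hM hb hn z hz k hzk χ χ
      have hcast : ∑ ψ ∈ (Set.toFinite b).toFinset, ∑ ψ'' ∈ (Set.toFinite b).toFinset,
          resMult χ ψ * resMult χ ψ'' * ((n ψ ψ'' : ℤ) : ℂ) =
          (((∑ ψ ∈ (Set.toFinite b).toFinset, ∑ ψ'' ∈ (Set.toFinite b).toFinset,
            (A ψ : ℤ) * (A ψ'' : ℤ) * n ψ ψ'') : ℤ) : ℂ) := by
        push_cast
        refine Finset.sum_congr rfl fun ψ _ => Finset.sum_congr rfl fun ψ'' _ => ?_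
        rw [hA ψ, hA ψ'']
      by_contra hodd
      have hte : Even t := Int.not_odd_iff_even.1 hodd
      have hNe : Even (∑ ψ ∈ (Set.toFinite b).toFinset, ∑ ψ'' ∈ (Set.toFinite b).toFinset,
          (A ψ : ℤ) * (A ψ'' : ℤ) * n ψ ψ'') := by
        have h3 := Even.sub hte ht2
        rwa [sub_sub_cancel] at h3
      obtain ⟨r, hr⟩ := hNe
      apply hα
      rw [hcast, hr] at hdiff
      have h4 : MemLocalIdeal M (((r + r : ℤ)) : ℂ) := by
        have : ((r + r : ℤ) : ℂ) = ((2 : ℕ) : ℂ) * ((r : ℤ) : ℂ) := by push_cast; ring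
        rw [this]
        exact memLocalIdeal_mul_right (memLocalIdeal_natCast_self hM) (memLocalRing_intCast r)
      have h5 := memLocalIdeal_add hdiff h4
      rwa [sub_add_cancel] at h5
    · -- the trace equation
      apply Complex.ofReal_injective
      push_cast
      rw [← ht1]
      refine Finset.sum_congr rfl fun m hm => ?_
      rw [hre m hm χ, hmmap, hddef]
      have h := pow_mul_contrib_pow hM hb hn z hz χ χ m
      simp only [Nat.cast_ofNat] at h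
      rw [h]
      refine Finset.sum_congr rfl fun ψ _ => Finset.sum_congr rfl fun ψ'' _ => ?_
      rw [hA ψ, hA ψ'']
      push_cast
      ring
  choose t ht using htrace
  obtain ⟨χ₁, hχ₁, hmin⟩ := Finset.exists_min_image S₀ t hne
  have hK1 : ∀ χ ∈ S₀, (S₀.card : ℝ) ≤ (2 : ℝ) ^ d * (t χ : ℝ) := by
    intro χ hχ
    have h1 : (S₀.card : ℝ) * Φ ≤ (2 : ℝ) ^ d * ((Φ : ℝ) * (t χ : ℝ)) := by
      calc (S₀.card : ℝ) * Φ = ∑ χ' ∈ S₀, (Φ : ℝ) := by
            rw [Finset.sum_const, nsmul_eq_mul]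
        _ ≤ ∑ χ' ∈ S₀, ∑ m ∈ cop N, ((2 : ℝ) ^ d) ^ 2 * ‖mm m χ χ'‖ ^ 2 :=
            Finset.sum_le_sum fun χ' hχ' => hpair χ hχ χ' hχ'
        _ = ∑ m ∈ cop N, ∑ χ' ∈ S₀, ((2 : ℝ) ^ d) ^ 2 * ‖mm m χ χ'‖ ^ 2 := Finset.sum_comm
        _ ≤ ∑ m ∈ cop N, ∑ χ' ∈ S, ((2 : ℝ) ^ d) ^ 2 * ‖mm m χ χ'‖ ^ 2 :=
            Finset.sum_le_sum fun m _ =>
              Finset.sum_le_sum_of_subset_of_nonneg hS₀S (fun _ _ _ => by positivity)
        _ = ∑ m ∈ cop N, (2 : ℝ) ^ d * ((2 : ℝ) ^ d * (mm m χ χ).re) := by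
            refine Finset.sum_congr rfl fun m hm => ?_
            rw [← Finset.mul_sum, hrow m hm χ]
            ring
        _ = (2 : ℝ) ^ d * ∑ m ∈ cop N, (2 : ℝ) ^ d * (mm m χ χ).re := by
            rw [Finset.mul_sum]
        _ = (2 : ℝ) ^ d * ((Φ : ℝ) * (t χ : ℝ)) := by rw [(ht χ hχ).2]
    have h2 : (S₀.card : ℝ) * Φ ≤ ((2 : ℝ) ^ d * (t χ : ℝ)) * Φ := by
      calc (S₀.card : ℝ) * Φ ≤ (2 : ℝ) ^ d * ((Φ : ℝ) * (t χ : ℝ)) := h1
        _ = ((2 : ℝ) ^ d * (t χ : ℝ)) * Φ := by ring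
    exact le_of_mul_le_mul_right h2 hΦpos
  have hK2 : ∑ χ ∈ S₀, (t χ : ℝ) ≤ (2 : ℝ) ^ d * (blockRank 2 b : ℝ) := by
    have h1 : (Φ : ℝ) * ∑ χ ∈ S₀, (t χ : ℝ) ≤ (Φ : ℝ) * ((2 : ℝ) ^ d * (blockRank 2 b : ℝ)) := by
      calc (Φ : ℝ) * ∑ χ ∈ S₀, (t χ : ℝ) = ∑ χ ∈ S₀, (Φ : ℝ) * (t χ : ℝ) := Finset.mul_sum _ _ _
        _ = ∑ χ ∈ S₀, ∑ m ∈ cop N, (2 : ℝ) ^ d * (mm m χ χ).re :=
            Finset.sum_congr rfl fun χ hχ => ((ht χ hχ).2).symm
        _ = ∑ m ∈ cop N, ∑ χ ∈ S₀, (2 : ℝ) ^ d * (mm m χ χ).re := Finset.sum_comm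
        _ ≤ ∑ m ∈ cop N, ∑ χ ∈ S, (2 : ℝ) ^ d * (mm m χ χ).re :=
            Finset.sum_le_sum fun m hm =>
              Finset.sum_le_sum_of_subset_of_nonneg hS₀S
                (fun χ _ _ => mul_nonneg (by positivity) (hre_nonneg m hm χ))
        _ = ∑ m ∈ cop N, (2 : ℝ) ^ d * (blockRank 2 b : ℝ) :=
            Finset.sum_congr rfl fun m hm => by rw [← Finset.mul_sum, hdiag m hm]
        _ = (Φ : ℝ) * ((2 : ℝ) ^ d * (blockRank 2 b : ℝ)) := by
            rw [Finset.sum_const, nsmul_eq_mul, hΦdef]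
    exact le_of_mul_le_mul_left h1 hΦpos
  have hK3 : (S₀.card : ℝ) * (t χ₁ : ℝ) ≤ ∑ χ ∈ S₀, (t χ : ℝ) := by
    calc (S₀.card : ℝ) * (t χ₁ : ℝ) = ∑ χ ∈ S₀, (t χ₁ : ℝ) := by
          rw [Finset.sum_const, nsmul_eq_mul]
      _ ≤ ∑ χ ∈ S₀, (t χ : ℝ) := Finset.sum_le_sum fun χ hχ => by exact_mod_cast hmin χ hχ
  refine ⟨t χ₁, (ht χ₁ hχ₁).1, ?_, ?_, ?_⟩
  · by_contra hlt
    have h0 : t χ₁ ≤ 0 := by omega
    have h1 := hK1 χ₁ hχ₁
    have hcard : (0 : ℝ) < S₀.card := by exact_mod_cast Finset.card_pos.2 hne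
    have h2 : (2 : ℝ) ^ d * (t χ₁ : ℝ) ≤ 0 :=
      mul_nonpos_of_nonneg_of_nonpos (by positivity) (by exact_mod_cast h0)
    linarith
  · have h1 := hK1 χ₁ hχ₁
    rw [← hddef]
    exact_mod_cast h1
  · have h1 := hK3.trans hK2
    rw [← hddef]
    exact_mod_cast h1

end two

end Cfsg.Agent.Helper74.CT
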