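import Mathlib

set_option autoImplicit false

namespace Cfsg.Agent.Helper74.Sqrt

variable {G : Type*} [Group G]

/-- The square root of an odd-order element inside its cyclic group. -/
theorem exists_sqrt_of_odd (h : G) (hodd : Odd (orderOf h)) :
    ∃ h₀ : G, h₀ * h₀ = h ∧ ∀ g : G, g * h = h * g → g * h₀ = h₀ * g := by
  obtain ⟨k, hk⟩ := hodd
  refine ⟨h ^ (k + 1), ?_, ?_⟩
  · rw [← pow_add]
    have : k + 1 + (k + 1) = orderOf h + 1 := by omega
    rw [this, pow_succ, pow_orderOf_eq_one, one_mul]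
  · intro g hg
    have : Commute g h := hg
    exact (this.pow_right (k + 1)).eq

/-- For an element `h` of odd order, square roots of `h` correspond to elements of order at most
two in the centralizer of `h`. -/
theorem card_sqrt_eq_of_odd [Fintype G] [DecidableEq G] (h : G) (hodd : Odd (orderOf h)) :
    (Finset.univ.filter fun g : G => g * g = h).card =
      (Finset.univ.filter fun t : G => t * t = 1 ∧ t * h = h * t).card := by
  obtain ⟨h₀, hh₀, hcomm⟩ := exists_sqrt_of_odd h hodd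
  apply Finset.card_bij' (fun g _ => g * h₀⁻¹) (fun t _ => t * h₀)
  · intro g hg
    simp only [Finset.mem_filter, Finset.mem_univ, true_and] at hg ⊢
    have hgh : g * h = h * g := by rw [← hg, mul_assoc]
    have hgh₀ : g * h₀ = h₀ * g := hcomm g hgh
    have hgh₀' : h₀⁻¹ * g = g * h₀⁻¹ := by
      calc h₀⁻¹ * g = h₀⁻¹ * (g * h₀) * h₀⁻¹ := by group
        _ = h₀⁻¹ * (h₀ * g) * h₀⁻¹ := by rw [hgh₀]
        _ = g * h₀⁻¹ := by group
    constructor
    · calc g * h₀⁻¹ * (g * h₀⁻¹) = g * (h₀⁻¹ * g) * h₀⁻¹ := by group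
        _ = g * (g * h₀⁻¹) * h₀⁻¹ := by rw [hgh₀']
        _ = (g * g) * (h₀ * h₀)⁻¹ := by group
        _ = 1 := by rw [hg, hh₀, mul_inv_cancel]
    · have hh₀h : h₀ * h = h * h₀ := by rw [← hh₀, mul_assoc]
      have hh₀h' : h₀⁻¹ * h = h * h₀⁻¹ := by
        calc h₀⁻¹ * h = h₀⁻¹ * (h * h₀) * h₀⁻¹ := by group
          _ = h₀⁻¹ * (h₀ * h) * h₀⁻¹ := by rw [hh₀h]
          _ = h * h₀⁻¹ := by group
      calc g * h₀⁻¹ * h = g * (h₀⁻¹ * h) := by group
        _ = g * (h * h₀⁻¹) := by rw [hh₀h']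
        _ = (g * h) * h₀⁻¹ := by group
        _ = (h * g) * h₀⁻¹ := by rw [hgh]
        _ = h * (g * h₀⁻¹) := by group
  · intro t ht
    simp only [Finset.mem_filter, Finset.mem_univ, true_and] at ht ⊢
    have hth₀ : t * h₀ = h₀ * t := hcomm t ht.2
    calc t * h₀ * (t * h₀) = t * (h₀ * t) * h₀ := by group
      _ = t * (t * h₀) * h₀ := by rw [hth₀]
      _ = (t * t) * (h₀ * h₀) := by group
      _ = h := by rw [ht.1, hh₀, one_mul]
  · intro g _
    group
  · intro t _
    group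

/-- An involution commuting with a nontrivial element of odd order yields an element of order
`2p` for an odd prime `p` dividing that order. -/
theorem exists_orderOf_two_mul_prime (t h : G) (ht : orderOf t = 2) (hcomm : t * h = h * t)
    (hodd : Odd (orderOf h)) (h1 : h ≠ 1) :
    ∃ p : ℕ, p.Prime ∧ p ≠ 2 ∧ p ∣ orderOf h ∧ ∃ z : G, orderOf z = 2 * p := by
  have hne1 : orderOf h ≠ 1 := by
    intro h'
    exact h1 (orderOf_eq_one_iff.1 h')
  obtain ⟨p, hp, hpdvd⟩ := Nat.exists_prime_and_dvd hne1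
  have hp2 : p ≠ 2 := by
    rintro rfl
    exact (Nat.not_even_iff_odd.2 hodd) (even_iff_two_dvd.2 hpdvd)
  refine ⟨p, hp, hp2, hpdvd, t * h ^ (orderOf h / p), ?_⟩
  have hpos : 0 < orderOf h := Nat.pos_of_ne_zero (fun h0 => by
    rw [h0] at hodd
    obtain ⟨k, hk⟩ := hodd
    omega)
  have hk : orderOf (h ^ (orderOf h / p)) = p := by
    rw [orderOf_pow' h (by
      intro h0
      have := Nat.div_eq_zero_iff.1 h0
      rcases this with h' | h'
      · exact hp.ne_zero h'
      · exact absurd (Nat.le_of_dvd hpos hpdvd) (not_le.2 h')), Nat.gcd_eq_right (Nat.div_dvd_of_dvd hpdvd)]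
    exact Nat.div_div_self hpdvd hpos.ne'
  have hc : Commute t (h ^ (orderOf h / p)) := Commute.pow_right hcomm _
  rw [hc.orderOf_mul_eq_mul_orderOf_of_coprime, ht, hk]
  rw [ht, hk]
  exact (Nat.coprime_primes Nat.prime_two hp).2 (Ne.symm hp2)

end Cfsg.Agent.Helper74.Sqrt
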