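import Mathlib
import Cfsg.Prelude.Def_Characters
import Cfsg.Agent.Lib.Helper74.SqrtCount

set_option autoImplicit false

open Cfsg

namespace Cfsg.Agent.Helper74.DZ

universe u
variable {G : Type u} [Group G]

/-- The Frobenius–Schur sum of a function vanishing on enough singular elements. -/
theorem sum_sq_eq [Fintype G] [DecidableEq G] (χ : G → ℂ)
    (hV2 : ∀ g : G, 2 ∣ orderOf g → χ g = 0)
    (hVp : ∀ p : ℕ, p.Prime → p ≠ 2 → (∃ z : G, orderOf z = 2 * p) →
      ∀ g : G, p ∣ orderOf g → χ g = 0)
    (hsum0 : ∑ g : G, χ g = 0) :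
    ∑ g : G, χ (g * g) = ((Finset.univ.filter fun t : G => orderOf t = 2).card : ℂ) * χ 1 := by
  -- fibre decomposition
  have h1 : ∑ g : G, χ (g * g) =
      ∑ h : G, ((Finset.univ.filter fun g : G => g * g = h).card : ℂ) * χ h := by
    rw [← Finset.sum_fiberwise Finset.univ (fun g : G => g * g) (fun g => χ (g * g))]
    refine Finset.sum_congr rfl fun h _ => ?_
    rw [Finset.sum_congr rfl (fun g hg => by rw [(Finset.mem_filter.1 hg).2] :
      ∀ g ∈ Finset.univ.filter (fun g : G => g * g = h), χ (g * g) = χ h)]
    rw [Finset.sum_const, nsmul_eq_mul]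
  have h2 : ∀ h : G, ((Finset.univ.filter fun g : G => g * g = h).card : ℂ) * χ h =
      ((Finset.univ.filter fun t : G => t * t = 1 ∧ t * h = h * t).card : ℂ) * χ h := by
    intro h
    rcases Nat.even_or_odd (orderOf h) with he | ho
    · rw [hV2 h (even_iff_two_dvd.1 he), mul_zero, mul_zero]
    · rw [Cfsg.Agent.Helper74.Sqrt.card_sqrt_eq_of_odd h ho]
  have h3 : ∀ h : G, ((Finset.univ.filter fun t : G => t * t = 1 ∧ t * h = h * t).card : ℂ) * χ h =
      ∑ t : G, if t * t = 1 ∧ t * h = h * t then χ h else 0 := by
    intro h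
    rw [← Finset.sum_filter, Finset.sum_const, nsmul_eq_mul]
  rw [h1]
  simp only [h2, h3]
  rw [Finset.sum_comm]
  have h4 : ∀ t : G, (∑ h : G, if t * t = 1 ∧ t * h = h * t then χ h else 0) =
      if orderOf t = 2 then χ 1 else 0 := by
    intro t
    by_cases ht : t * t = 1
    · by_cases ht1 : t = 1
      · subst ht1
        have : orderOf (1 : G) ≠ 2 := by rw [orderOf_one]; norm_num
        rw [if_neg this]
        simp only [one_mul, mul_one, and_self, if_true]
        exact hsum0
      · have ht2 : orderOf t = 2 := by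
          rw [orderOf_eq_prime_iff, pow_two]
          exact ⟨ht, ht1⟩
        rw [if_pos ht2]
        rw [Finset.sum_eq_single 1]
        · simp [ht]
        · intro h _ hh1
          by_cases hc : t * t = 1 ∧ t * h = h * t
          · rw [if_pos hc]
            rcases Nat.even_or_odd (orderOf h) with he | ho
            · exact hV2 h (even_iff_two_dvd.1 he)
            · obtain ⟨p, hp, hp2, hpd, hz⟩ :=
                Cfsg.Agent.Helper74.Sqrt.exists_orderOf_two_mul_prime t h ht2 hc.2 ho hh1
              exact hVp p hp hp2 hz h hpd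
          · rw [if_neg hc]
        · intro h
          exact absurd (Finset.mem_univ _) h
    · have ht2 : orderOf t ≠ 2 := by
        intro h
        apply ht
        rw [← pow_two, ← h, pow_orderOf_eq_one]
      rw [if_neg ht2]
      apply Finset.sum_eq_zero
      intro h _
      rw [if_neg (fun hc => ht hc.1)]
  simp only [h4]
  rw [← Finset.sum_filter, Finset.sum_const, nsmul_eq_mul]

end Cfsg.Agent.Helper74.DZ
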