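import Mathlib

set_option autoImplicit false

/-!
# Elements of order three normalizing no nontrivial 2-subgroup: parity of a class constant

Pure group theory used for S4737.
-/

namespace Cfsg.Agent.Helper74.DZ3

variable {G : Type*} [Group G]

/-- `x` normalizes no nontrivial 2-subgroup. -/
def Special (x : G) : Prop :=
  ∀ Q : Subgroup G, IsPGroup 2 ↥Q → x ∈ Subgroup.normalizer (Q : Set G) → Q = ⊥

/-- Klein four subgroup generated by two commuting involutions (possibly degenerate). -/
def klein (a b : G) (ha : a * a = 1) (hb : b * b = 1) (hab : a * b = b * a) : Subgroup G where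
  carrier := {g | g = 1 ∨ g = a ∨ g = b ∨ g = a * b}
  one_mem' := Or.inl rfl
  mul_mem' := by
    rintro x y (rfl | rfl | rfl | rfl) (rfl | rfl | rfl | rfl)
    · left; rw [one_mul]
    · right; left; rw [one_mul]
    · right; right; left; rw [one_mul]
    · right; right; right; rw [one_mul]
    · right; left; rw [mul_one]
    · left; exact ha
    · right; right; right; rfl
    · right; right; left; rw [← mul_assoc, ha, one_mul]
    · right; right; left; rw [mul_one]
    · right; right; right; exact hab.symm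
    · left; exact hb
    · right; left; rw [← mul_assoc, ← hab, mul_assoc, hb, mul_one]
    · right; right; right; rw [mul_one]
    · right; right; left; rw [mul_assoc, ← hab, ← mul_assoc, ha, one_mul]
    · right; left; rw [mul_assoc, hb, mul_one]
    · left; rw [mul_assoc, ← mul_assoc b a b, ← hab, mul_assoc a b b, hb, mul_one, ha]
  inv_mem' := by
    rintro x (rfl | rfl | rfl | rfl)
    · left; rw [inv_one]
    · right; left; exact inv_eq_of_mul_eq_one_right ha
    · right; right; left; exact inv_eq_of_mul_eq_one_right hb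
    · right; right; right
      rw [mul_inv_rev, inv_eq_of_mul_eq_one_right ha, inv_eq_of_mul_eq_one_right hb, hab]

theorem mem_klein_iff (a b : G) (ha : a * a = 1) (hb : b * b = 1) (hab : a * b = b * a) (g : G) :
    g ∈ klein a b ha hb hab ↔ g = 1 ∨ g = a ∨ g = b ∨ g = a * b := Iff.rfl

theorem isPGroup_klein (a b : G) (ha : a * a = 1) (hb : b * b = 1) (hab : a * b = b * a) :
    IsPGroup 2 ↥(klein a b ha hb hab) := by
  rintro ⟨g, hg⟩
  refine ⟨1, ?_⟩
  apply Subtype.ext
  rw [pow_one, Subgroup.coe_pow, Subgroup.coe_mk, Subgroup.coe_one, pow_two]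
  rcases hg with rfl | rfl | rfl | rfl
  · rw [one_mul]
  · exact ha
  · exact hb
  · rw [mul_assoc, ← mul_assoc b a b, ← hab, mul_assoc a b b, hb, mul_one, ha]

theorem mem_normalizer_of_cube {Q : Subgroup G} {x : G} (hx : x ^ 3 = 1)
    (h : ∀ q ∈ Q, x * q * x⁻¹ ∈ Q) : x ∈ Subgroup.normalizer (Q : Set G) := by
  rw [Subgroup.mem_normalizer_iff]
  intro q
  constructor
  · exact h q
  · intro hq
    have h2 := h _ (h _ hq)
    have hx' : x * x * x = 1 := by
      rw [← hx, pow_succ, pow_succ, pow_one]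
    have h3 : x * (x * (x * q * x⁻¹) * x⁻¹) * x⁻¹ = (x * x * x) * q * (x * x * x)⁻¹ := by group
    rw [h3, hx'] at h2
    simpa using h2

/-- If `x` has order dividing 3, `u` is an involution and `u x` has order dividing 3, then `x`
normalizes the four-group generated by `u` and `x u x⁻¹`. -/
theorem not_special_of_inv_mul {x u : G} (hx : x ^ 3 = 1) (hu : u * u = 1) (hu1 : u ≠ 1)
    (h : (u * x) ^ 3 = 1) : ¬ Special x := by
  intro hsp
  obtain ⟨b, hb⟩ : ∃ b : G, b = x * u * x⁻¹ := ⟨_, rfl⟩
  have hbb : b * b = 1 := by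
    have h1 : b * b = x * (u * u) * x⁻¹ := by rw [hb]; group
    rw [h1, hu]; group
  have h' : u * x * (u * x) * (u * x) = 1 := by
    rw [← h, pow_succ, pow_succ, pow_one]
  have hx' : x * x * x = 1 := by
    rw [← hx, pow_succ, pow_succ, pow_one]
  have habc : u * b * (x * b * x⁻¹) = 1 := by
    have h1 : u * b * (x * b * x⁻¹) = (u * x * (u * x) * (u * x)) * (x * x * x)⁻¹ := by
      rw [hb]; group
    rw [h1, h', hx']; simp
  have hc : x * b * x⁻¹ = b * u := by
    have h1 : x * b * x⁻¹ = (u * b)⁻¹ := eq_inv_of_mul_eq_one_right habc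
    rw [h1, mul_inv_rev, inv_eq_of_mul_eq_one_right hu, inv_eq_of_mul_eq_one_right hbb]
  have hcc : (x * b * x⁻¹) * (x * b * x⁻¹) = 1 := by
    have h1 : (x * b * x⁻¹) * (x * b * x⁻¹) = x * (b * b) * x⁻¹ := by group
    rw [h1, hbb]; group
  have hcomm : u * b = b * u := by
    rw [hc] at hcc
    have h2 : b * u = (b * u)⁻¹ := eq_inv_of_mul_eq_one_right hcc
    rw [mul_inv_rev, inv_eq_of_mul_eq_one_right hu, inv_eq_of_mul_eq_one_right hbb] at h2
    exact h2.symm
  have hnorm : x ∈ Subgroup.normalizer ((klein u b hu hbb hcomm : Subgroup G) : Set G) := by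
    apply mem_normalizer_of_cube hx
    rintro q (rfl | rfl | rfl | rfl)
    · left; group
    · right; right; left; exact hb.symm
    · right; right; right; rw [hc, hcomm]
    · right; left
      have h1 : x * (u * b) * x⁻¹ = (x * u * x⁻¹) * (x * b * x⁻¹) := by group
      rw [h1, hc, ← hb, ← mul_assoc, hbb, one_mul]
  have hQ := hsp (klein u b hu hbb hcomm) (isPGroup_klein u b hu hbb hcomm) hnorm
  have hmem : u ∈ klein u b hu hbb hcomm := Or.inr (Or.inl rfl)
  rw [hQ, Subgroup.mem_bot] at hmem
  exact hu1 hmem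

/-- The centralizer of a special element has odd order. -/
theorem not_two_dvd_card_centralizer [Finite G] {g : G} (hsp : Special g) :
    ¬ 2 ∣ Nat.card (Subgroup.centralizer ({g} : Set G)) := by
  intro h2
  haveI : Fact (Nat.Prime 2) := ⟨Nat.prime_two⟩
  obtain ⟨t, ht⟩ := exists_prime_orderOf_dvd_card' 2 h2
  have ht' : orderOf (t : G) = 2 := by rw [Subgroup.orderOf_coe]; exact ht
  have hcomm : Commute g (t : G) := by
    have := t.2
    rw [Subgroup.mem_centralizer_iff] at this
    exact (this g (Set.mem_singleton g))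
  have hconj : ∀ k : ℤ, g * (t : G) ^ k * g⁻¹ = (t : G) ^ k := by
    intro k
    have h1 : Commute g ((t : G) ^ k) := hcomm.zpow_right k
    rw [h1.eq, mul_inv_cancel_right]
  have hQ := hsp (Subgroup.zpowers (t : G)) ?_ ?_
  · have hmem : (t : G) ∈ Subgroup.zpowers (t : G) := Subgroup.mem_zpowers _
    rw [hQ, Subgroup.mem_bot] at hmem
    rw [hmem, orderOf_one] at ht'
    omega
  · apply IsPGroup.of_card (n := 1)
    rw [Nat.card_zpowers, ht', pow_one]
  · rw [Subgroup.mem_normalizer_iff]
    intro h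
    constructor
    · intro hh
      obtain ⟨k, rfl⟩ := Subgroup.mem_zpowers_iff.1 hh
      rw [hconj]; exact hh
    · intro hh
      obtain ⟨k, hk⟩ := Subgroup.mem_zpowers_iff.1 hh
      have h1 : h = g⁻¹ * (g * h * g⁻¹) * g := by group
      rw [h1, ← hk]
      have h2 : g⁻¹ * (t : G) ^ k * g = (t : G) ^ k := by
        have h3 : Commute g ((t : G) ^ k) := hcomm.zpow_right k
        rw [mul_assoc, ← h3.eq, inv_mul_cancel_left]
      rw [h2]; exact Subgroup.zpow_mem_zpowers _ _

theorem aux_mem (y y' w : G) (hw3 : w ^ 3 = 1) (H : y * y' * w = 1) :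
    (w * y' * w⁻¹) * (w⁻¹ * y * w) * w = 1 := by
  have h1 : y' * w = y⁻¹ := eq_inv_of_mul_eq_one_right (by rwa [mul_assoc] at H)
  have hw3' : w * w * w = 1 := by
    rw [← hw3, pow_succ, pow_succ, pow_one]
  have h2 : (w * y' * w⁻¹) * (w⁻¹ * y * w) * w =
      w * (y' * w) * (w * w * w)⁻¹ * y * w⁻¹ * (w * w * w) := by
    group
  rw [h2, hw3', h1]; group

/-- Parity of the class constant. -/
theorem card_filter_modEq [Fintype G] [DecidableEq G] (g w : G) (hg3 : g ^ 3 = 1)
    (hw3 : w ^ 3 = 1) (hw : Special w) :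
    (Finset.univ.filter
      (fun ab : G × G => ab.1 * g * ab.1⁻¹ * (ab.2 * g * ab.2⁻¹) * w = 1)).card ≡
    (Finset.univ.filter (fun a : G => a * g * a⁻¹ = w)).card [MOD 2] := by
  classical
  set S := Finset.univ.filter
      (fun ab : G × G => ab.1 * g * ab.1⁻¹ * (ab.2 * g * ab.2⁻¹) * w = 1) with hS
  have hsplit : (S.filter (fun ab => ab.1 = w * ab.2)).card +
      (S.filter (fun ab => ¬ ab.1 = w * ab.2)).card = S.card :=
    Finset.card_filter_add_card_filter_not _
  have heven : (((S.filter (fun ab => ¬ ab.1 = w * ab.2)).card : ℕ) : ZMod 2) = 0 := by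
    rw [Finset.card_eq_sum_ones, Nat.cast_sum]
    apply Finset.sum_involution (fun ab _ => (w * ab.2, w⁻¹ * ab.1))
    · intro ab _
      simp only [Nat.cast_one]
      decide
    · intro ab hab _ heq
      rw [Finset.mem_filter] at hab
      apply hab.2
      have := congrArg Prod.snd heq
      simp only at this
      rw [← this]; group
    · intro ab hab
      rw [Finset.mem_filter] at hab ⊢
      obtain ⟨hab1, hab2⟩ := hab
      rw [hS, Finset.mem_filter] at hab1 ⊢
      refine ⟨⟨Finset.mem_univ _, ?_⟩, ?_⟩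
      · have h1 := aux_mem (ab.1 * g * ab.1⁻¹) (ab.2 * g * ab.2⁻¹) w hw3 hab1.2
        have h2 : (w * ab.2) * g * (w * ab.2)⁻¹ * ((w⁻¹ * ab.1) * g * (w⁻¹ * ab.1)⁻¹) * w =
            (w * (ab.2 * g * ab.2⁻¹) * w⁻¹) * (w⁻¹ * (ab.1 * g * ab.1⁻¹) * w) * w := by group
        rw [h2]; exact h1
      · intro h
        apply hab2
        have : w * ab.2 = w * (w⁻¹ * ab.1) := h
        rw [mul_inv_cancel_left] at this
        exact this.symm
    · intro ab _
      simp
  have hfix : (S.filter (fun ab => ab.1 = w * ab.2)).card =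
      (Finset.univ.filter (fun a : G => a * g * a⁻¹ = w)).card := by
    apply Finset.card_bij (fun ab _ => ab.1)
    · intro ab hab
      rw [Finset.mem_filter] at hab
      obtain ⟨hab1, hab2⟩ := hab
      rw [hS, Finset.mem_filter] at hab1
      rw [Finset.mem_filter]
      refine ⟨Finset.mem_univ _, ?_⟩
      have hb : ab.2 = w⁻¹ * ab.1 := by rw [hab2, inv_mul_cancel_left]
      obtain ⟨y, hy⟩ : ∃ y : G, y = ab.1 * g * ab.1⁻¹ := ⟨_, rfl⟩
      have hy' : ab.2 * g * ab.2⁻¹ = w⁻¹ * y * w := by rw [hb, hy]; group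
      have H := hab1.2
      rw [hy', ← hy] at H
      -- (y w⁻¹)^2 = 1
      have hw3' : w * w * w = 1 := by
        rw [← hw3, pow_succ, pow_succ, pow_one]
      have hg3' : g * g * g = 1 := by
        rw [← hg3, pow_succ, pow_succ, pow_one]
      have hu : (y * w⁻¹) * (y * w⁻¹) = 1 := by
        have h1 : (y * w⁻¹) * (y * w⁻¹) = y * (w⁻¹ * y * w) * w * (w * w * w)⁻¹ := by group
        rw [h1, H, hw3']; simp
      have hy3 : y ^ 3 = 1 := by
        have h1 : y * y * y = ab.1 * (g * g * g) * ab.1⁻¹ := by rw [hy]; group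
        rw [pow_succ, pow_succ, pow_one, h1, hg3']; group
      by_contra hne
      have hu1 : y * w⁻¹ ≠ 1 := by
        intro h
        apply hne
        rw [← hy]
        exact mul_inv_eq_one.1 h
      apply not_special_of_inv_mul hw3 hu hu1 ?_ hw
      have h1 : y * w⁻¹ * w = y := by group
      rw [h1, hy3]
    · intro ab hab ab' hab' h
      rw [Finset.mem_filter] at hab hab'
      have h1 : ab.2 = w⁻¹ * ab.1 := by rw [hab.2, inv_mul_cancel_left]
      have h2 : ab'.2 = w⁻¹ * ab'.1 := by rw [hab'.2, inv_mul_cancel_left]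
      apply Prod.ext h
      rw [h1, h2, h]
    · intro a ha
      rw [Finset.mem_filter] at ha
      refine ⟨(a, w⁻¹ * a), ?_, rfl⟩
      rw [Finset.mem_filter, hS, Finset.mem_filter]
      refine ⟨⟨Finset.mem_univ _, ?_⟩, ?_⟩
      · have h1 : a * g * a⁻¹ * ((w⁻¹ * a) * g * (w⁻¹ * a)⁻¹) * w =
            (a * g * a⁻¹) * w⁻¹ * (a * g * a⁻¹) * w * w := by group
        simp only
        rw [h1, ha.2]
        have h2 : w * w⁻¹ * w * w * w = w ^ 3 := by
          rw [mul_inv_cancel, one_mul, pow_succ, pow_succ, pow_one]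
        rw [h2, hw3]
      · simp
  have h2 : 2 ∣ (S.filter (fun ab => ¬ ab.1 = w * ab.2)).card :=
    (ZMod.natCast_eq_zero_iff _ 2).1 heven
  obtain ⟨k, hk⟩ := h2
  rw [← hsplit, hfix, hk]
  unfold Nat.ModEq
  omega

end Cfsg.Agent.Helper74.DZ3
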