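import Cfsg.Agent.Lib.Helper74.DZThree1
import Cfsg.Agent.Lib.Helper78.CharSchur
import Cfsg.Agent.Lib.Helper79.Integrality

set_option autoImplicit false

/-!
# 2-defect-zero characters and special classes of elements of order three (S4737)

`T i j = ∑_{χ dz} (|G|/χ(1)) χ(x_i)² χ(x_j)` is congruent to the identity modulo 2 in the ring of
algebraic integers, hence nonsingular; it factors through the dz characters.
-/

open Cfsg

namespace Cfsg.Agent.Helper74.DZ3

open Cfsg.Agent.Helper78 Cfsg.Agent.Helper79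

theorem not_isIntegral_half : ¬ IsIntegral ℤ ((1 : ℂ) / 2) := by
  intro h
  have h2 : IsIntegral ℤ ((1 : ℚ) / 2) := by
    have h3 : ((1 : ℂ) / 2) = algebraMap ℚ ℂ ((1 : ℚ) / 2) := by simp
    rw [h3] at h
    exact (isIntegral_algebraMap_iff (algebraMap ℚ ℂ).injective).mp h
  obtain ⟨n, hn⟩ := IsIntegrallyClosed.isIntegral_iff.mp h2
  have h4 : (2 * n : ℚ) = 1 := by
    have : ((n : ℤ) : ℚ) = 1 / 2 := hn
    rw [this]; norm_num
  have h5 : (2 * n : ℤ) = 1 := by exact_mod_cast h4
  omega

theorem isIntegral_natCast' (n : ℕ) : IsIntegral ℤ (n : ℂ) := by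
  have h : (n : ℂ) = algebraMap ℤ ℂ (n : ℤ) := by simp
  rw [h]; exact isIntegral_algebraMap

/-- A complex matrix congruent to the identity modulo `2` (in the algebraic integers) is
nonsingular. -/
theorem det_ne_zero_of_congr {ι : Type*} [Fintype ι] [DecidableEq ι] (T : Matrix ι ι ℂ)
    (h : ∀ i j, ∃ e : ℂ, IsIntegral ℤ e ∧ T i j = (if i = j then 1 else 0) + 2 * e) :
    T.det ≠ 0 := by
  choose e he using h
  let E : Matrix ι ι (integralClosure ℤ ℂ) := fun i j => ⟨e i j, (he i j).1⟩
  let M : Matrix ι ι (integralClosure ℤ ℂ) :=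
    fun i j => (if i = j then 1 else 0) + (1 + 1) * E i j
  have hT : T = (algebraMap (integralClosure ℤ ℂ) ℂ).mapMatrix M := by
    ext i j
    rw [RingHom.mapMatrix_apply, Matrix.map_apply, (he i j).2]
    have h1 : (algebraMap (integralClosure ℤ ℂ) ℂ) (M i j) =
        ((if i = j then (1 : integralClosure ℤ ℂ) else 0 : integralClosure ℤ ℂ) : ℂ) +
          (1 + 1) * e i j := by
      simp only [M, E, map_add, map_mul, map_one]
      rfl
    rw [h1]
    by_cases hij : i = j
    · rw [if_pos hij, if_pos hij]; push_cast; ring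
    · rw [if_neg hij, if_neg hij]; push_cast; ring
  rw [hT, ← RingHom.map_det]
  intro h0
  have hM0 : M.det = 0 := by
    have hinj : Function.Injective (algebraMap (integralClosure ℤ ℂ) ℂ) := Subtype.val_injective
    exact (map_eq_zero_iff _ hinj).1 h0
  have hπM : (Ideal.Quotient.mk
      (Ideal.span {((1 : integralClosure ℤ ℂ) + 1)})).mapMatrix M = 1 := by
    ext i j
    have h2 : (Ideal.Quotient.mk (Ideal.span {((1 : integralClosure ℤ ℂ) + 1)})) (1 + 1) = 0 :=
      Ideal.Quotient.eq_zero_iff_mem.2 (Ideal.mem_span_singleton_self _)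
    rw [RingHom.mapMatrix_apply, Matrix.map_apply]
    simp only [M]
    rw [map_add, map_mul, h2, zero_mul, add_zero, Matrix.one_apply]
    by_cases hij : i = j
    · rw [if_pos hij, if_pos hij, map_one]
    · rw [if_neg hij, if_neg hij, map_zero]
  have h1 : (Ideal.Quotient.mk (Ideal.span {((1 : integralClosure ℤ ℂ) + 1)})) M.det = 1 := by
    rw [RingHom.map_det, hπM, Matrix.det_one]
  rw [hM0, map_zero] at h1
  have h2 : (1 : integralClosure ℤ ℂ) ∈ Ideal.span {((1 : integralClosure ℤ ℂ) + 1)} := by
    rw [← Ideal.Quotient.eq_zero_iff_mem, map_one]; exact h1.symm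
  obtain ⟨c, hc⟩ := Ideal.mem_span_singleton'.1 h2
  apply not_isIntegral_half
  have h3 : ((c : integralClosure ℤ ℂ) : ℂ) * (1 + 1) = 1 := by
    have := congrArg (fun a : integralClosure ℤ ℂ => (a : ℂ)) hc
    simpa using this
  have h4 : ((1 : ℂ) / 2) = (c : ℂ) := by
    rw [← h3]; ring
  rw [h4]; exact c.2

section

variable {G : Type*} [Group G] [Fintype G]

/-- The cofactor `|G| / χ(1)`. -/
noncomputable def cof (χ : IrrCharacter G) : ℕ := Nat.card G / charDegree (χ : G → ℂ)

theorem cof_mul_deg (χ : IrrCharacter G) : cof χ * charDegree (χ : G → ℂ) = Nat.card G :=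
  Nat.div_mul_cancel (irr_degree_dvd_card χ)

theorem term_eq (χ : IrrCharacter G) (z : ℂ) :
    (Nat.card G : ℂ) * (z / (χ : G → ℂ) 1) = (cof χ : ℂ) * z := by
  have h1 := (irr_one_eq χ).1
  have h2 := (irr_one_eq χ).2
  rw [h1, ← cof_mul_deg χ]
  push_cast
  have h3 : (charDegree (χ : G → ℂ) : ℂ) ≠ 0 := by exact_mod_cast h2.ne'
  field_simp

theorem two_dvd_cof (χ : IrrCharacter G)
    (h : ¬ (charDegree (χ : G → ℂ)).factorization 2 = (Nat.card G).factorization 2) :
    2 ∣ cof χ := by
  have hd := irr_degree_dvd_card χ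
  have hpos : 0 < charDegree (χ : G → ℂ) := (irr_one_eq χ).2
  have hG : Nat.card G ≠ 0 := Nat.card_pos.ne'
  have hle : (charDegree (χ : G → ℂ)).factorization 2 ≤ (Nat.card G).factorization 2 :=
    (Nat.factorization_le_iff_dvd hpos.ne' hG).2 hd 2
  have hlt : (charDegree (χ : G → ℂ)).factorization 2 < (Nat.card G).factorization 2 :=
    lt_of_le_of_ne hle h
  have hf : (cof χ).factorization 2 =
      (Nat.card G).factorization 2 - (charDegree (χ : G → ℂ)).factorization 2 := by
    unfold cof
    rw [Nat.factorization_div hd]; rfl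
  have hcpos : cof χ ≠ 0 := by
    intro h0
    have := cof_mul_deg χ
    rw [h0, zero_mul] at this
    exact hG this.symm
  exact (Nat.Prime.dvd_iff_one_le_factorization Nat.prime_two hcpos).2 (by omega)

open scoped Classical in
theorem sum_cof (g w : G) :
    ∑ χ : IrrCharacter G, (cof χ : ℂ) * ((χ : G → ℂ) g * (χ : G → ℂ) g * (χ : G → ℂ) w) =
      ((Finset.univ.filter
        (fun ab : G × G => ab.1 * g * ab.1⁻¹ * (ab.2 * g * ab.2⁻¹) * w = 1)).card : ℂ) := by
  rw [← sum_irr_mul_mul_div g g w, Finset.mul_sum]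
  apply Finset.sum_congr rfl
  intro χ _
  rw [term_eq]

open scoped Classical in
theorem entry (g w : G) (δ k : ℕ)
    (hpar : (Finset.univ.filter
      (fun ab : G × G => ab.1 * g * ab.1⁻¹ * (ab.2 * g * ab.2⁻¹) * w = 1)).card = δ + 2 * k) :
    ∃ e : ℂ, IsIntegral ℤ e ∧
      ∑ χ ∈ Finset.univ.filter (fun χ : IrrCharacter G =>
          (charDegree (χ : G → ℂ)).factorization 2 = (Nat.card G).factorization 2),
        (cof χ : ℂ) * ((χ : G → ℂ) g * (χ : G → ℂ) g * (χ : G → ℂ) w) = (δ : ℂ) + 2 * e := by
  have htot := sum_cof g w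
  rw [hpar, ← Finset.sum_filter_add_sum_filter_not Finset.univ (fun χ : IrrCharacter G =>
      (charDegree (χ : G → ℂ)).factorization 2 = (Nat.card G).factorization 2)] at htot
  have h2 : ∑ χ ∈ Finset.univ.filter (fun χ : IrrCharacter G =>
        ¬ (charDegree (χ : G → ℂ)).factorization 2 = (Nat.card G).factorization 2),
      (cof χ : ℂ) * ((χ : G → ℂ) g * (χ : G → ℂ) g * (χ : G → ℂ) w) =
      2 * ∑ χ ∈ Finset.univ.filter (fun χ : IrrCharacter G =>
        ¬ (charDegree (χ : G → ℂ)).factorization 2 = (Nat.card G).factorization 2),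
      ((cof χ / 2 : ℕ) : ℂ) * ((χ : G → ℂ) g * (χ : G → ℂ) g * (χ : G → ℂ) w) := by
    rw [Finset.mul_sum]
    apply Finset.sum_congr rfl
    intro χ hχ
    obtain ⟨c, hc⟩ := two_dvd_cof χ (Finset.mem_filter.1 hχ).2
    rw [hc, Nat.mul_div_cancel_left c (by norm_num : 0 < 2)]
    push_cast
    ring
  refine ⟨(k : ℂ) - ∑ χ ∈ Finset.univ.filter (fun χ : IrrCharacter G =>
        ¬ (charDegree (χ : G → ℂ)).factorization 2 = (Nat.card G).factorization 2),
      ((cof χ / 2 : ℕ) : ℂ) * ((χ : G → ℂ) g * (χ : G → ℂ) g * (χ : G → ℂ) w), ?_, ?_⟩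
  · apply IsIntegral.sub
    · exact isIntegral_natCast' k
    · apply IsIntegral.sum
      intro χ _
      apply IsIntegral.mul
      · exact isIntegral_natCast' _
      · exact ((irr_isIntegral χ g).mul (irr_isIntegral χ g)).mul (irr_isIntegral χ w)
  · push_cast at htot
    linear_combination htot - h2

/-- Main abstract statement: pairwise non-conjugate special elements of order three are at most
as many as the characters of 2-defect zero. -/
theorem card_le_card_dz {ι : Type*} [Fintype ι] [DecidableEq ι] (x : ι → G)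
    (h3 : ∀ i, x i ^ 3 = 1) (hsp : ∀ i, Special (x i))
    (hinj : ∀ i j, IsConj (x i) (x j) → i = j) :
    Fintype.card ι ≤ Nat.card {χ : IrrCharacter G //
      (charDegree (χ : G → ℂ)).factorization 2 = (Nat.card G).factorization 2} := by
  classical
  -- parity of the class constants
  have hpar : ∀ i j, ∃ k : ℕ, (Finset.univ.filter (fun ab : G × G =>
      ab.1 * x i * ab.1⁻¹ * (ab.2 * x i * ab.2⁻¹) * x j = 1)).card =
      (if i = j then 1 else 0) + 2 * k := by
    intro i j
    have hmod := card_filter_modEq (x i) (x j) (h3 i) (h3 j) (hsp j)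
    by_cases hij : i = j
    · subst hij
      rw [if_pos rfl]
      have hT : (Finset.univ.filter (fun a : G => a * x i * a⁻¹ = x i)).card =
          Nat.card (Subgroup.centralizer ({x i} : Set G)) := by
        rw [Nat.card_eq_fintype_card, Fintype.card_subtype]
        apply congrArg
        apply Finset.filter_congr
        intro a _
        rw [Subgroup.mem_centralizer_iff]
        constructor
        · intro h b hb
          rw [Set.mem_singleton_iff] at hb
          rw [hb]
          have : a * x i * a⁻¹ * a = x i * a := by rw [h]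
          rw [← this]; group
        · intro h
          have := h (x i) (Set.mem_singleton _)
          rw [← this]; group
      have hodd := not_two_dvd_card_centralizer (hsp i)
      rw [← hT] at hodd
      unfold Nat.ModEq at hmod
      refine ⟨(Finset.univ.filter (fun ab : G × G =>
        ab.1 * x i * ab.1⁻¹ * (ab.2 * x i * ab.2⁻¹) * x i = 1)).card / 2, ?_⟩
      omega
    · rw [if_neg hij]
      have hT : (Finset.univ.filter (fun a : G => a * x i * a⁻¹ = x j)).card = 0 := by
        rw [Finset.card_eq_zero, Finset.filter_eq_empty_iff]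
        intro a _ h
        exact hij (hinj i j (isConj_iff.2 ⟨a, h⟩))
      rw [hT] at hmod
      unfold Nat.ModEq at hmod
      refine ⟨(Finset.univ.filter (fun ab : G × G =>
        ab.1 * x i * ab.1⁻¹ * (ab.2 * x i * ab.2⁻¹) * x j = 1)).card / 2, ?_⟩
      omega
  choose k hk using hpar
  -- the matrices
  let W : Matrix ι {χ : IrrCharacter G //
      (charDegree (χ : G → ℂ)).factorization 2 = (Nat.card G).factorization 2} ℂ :=
    fun i χ => (cof χ.1 : ℂ) * ((χ.1 : G → ℂ) (x i) * (χ.1 : G → ℂ) (x i))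
  let V : Matrix {χ : IrrCharacter G //
      (charDegree (χ : G → ℂ)).factorization 2 = (Nat.card G).factorization 2} ι ℂ :=
    fun χ j => (χ.1 : G → ℂ) (x j)
  have hdet : (W * V).det ≠ 0 := by
    apply det_ne_zero_of_congr
    intro i j
    obtain ⟨e, he1, he2⟩ := entry (x i) (x j) (if i = j then 1 else 0) (k i j) (hk i j)
    refine ⟨e, he1, ?_⟩
    rw [Matrix.mul_apply]
    have h5 : ((if i = j then 1 else 0 : ℕ) : ℂ) = (if i = j then 1 else 0 : ℂ) := by
      split_ifs <;> simp
    rw [← h5, ← he2]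
    rw [Finset.sum_subtype (p := fun χ : IrrCharacter G =>
        (charDegree (χ : G → ℂ)).factorization 2 = (Nat.card G).factorization 2)
        (Finset.univ.filter (fun χ : IrrCharacter G =>
        (charDegree (χ : G → ℂ)).factorization 2 = (Nat.card G).factorization 2))
        (fun χ => by
          rw [Finset.mem_filter]
          exact ⟨fun h => h.2, fun h => ⟨Finset.mem_univ _, h⟩⟩)
        (fun χ => (cof χ : ℂ) * ((χ : G → ℂ) (x i) * (χ : G → ℂ) (x i) * (χ : G → ℂ) (x j)))]
    apply Finset.sum_congr rfl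
    intro χ _
    simp only [W, V]
    ring
  have hunit : IsUnit (W * V) := (Matrix.isUnit_iff_isUnit_det _).2 (isUnit_iff_ne_zero.2 hdet)
  have hr := Matrix.rank_of_isUnit (W * V) hunit
  have h1 := Matrix.rank_mul_le_left W V
  have h2 := Matrix.rank_le_card_width W
  rw [Nat.card_eq_fintype_card]
  omega

end

end Cfsg.Agent.Helper74.DZ3
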