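import Cfsg.Agent.Lib.Helper74.FSForm

set_option autoImplicit false

namespace Cfsg.Agent.Helper74.FS

open Matrix
open scoped ComplexConjugate

variable {G : Type*} [Group G] {n : ℕ} {ρ : Representation ℂ G (Fin n → ℂ)}

theorem IsInv.sign_sq (hirr : ρ.IsIrreducible) {B₀ : Matrix (Fin n) (Fin n) ℂ}
    (hB₀ : B₀ ≠ 0) {ε : ℂ} (hε : B₀ᵀ = ε • B₀) : ε = 1 ∨ ε = -1 := by
  have h1 : B₀ = (ε * ε) • B₀ := by
    have := congrArg Matrix.transpose hε
    rw [Matrix.transpose_transpose, Matrix.transpose_smul, hε, smul_smul] at this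
    exact this
  have h2 : ∃ i j, B₀ i j ≠ 0 := by
    by_contra hcon
    push Not at hcon
    apply hB₀
    ext i j
    exact hcon i j
  obtain ⟨i, j, hij⟩ := h2
  have h3 := congrFun (congrFun h1 i) j
  simp only [Matrix.smul_apply, smul_eq_mul] at h3
  have h4 : ε * ε = 1 := by
    have : (ε * ε - 1) * B₀ i j = 0 := by rw [sub_mul, one_mul, ← h3, sub_self]
    rcases mul_eq_zero.mp this with h | h
    · exact sub_eq_zero.mp h
    · exact absurd h hij
  have h5 : (ε - 1) * (ε + 1) = 0 := by ring_nf; rw [← h4]; ring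
  rcases mul_eq_zero.mp h5 with h | h
  · left; exact sub_eq_zero.mp h
  · right; exact eq_neg_of_add_eq_zero_left h

/-- The Frobenius–Schur indicator of a real-valued irreducible character is `±1`. -/
theorem indicator_of_real [Fintype G] (hirr : ρ.IsIrreducible)
    (hreal : ∀ g : G, (ρ.character g).im = 0) :
    (Nat.card G : ℂ)⁻¹ * ∑ s : G, ρ.character (s * s) = 1 ∨
      (Nat.card G : ℂ)⁻¹ * ∑ s : G, ρ.character (s * s) = -1 := by
  have hfin : Finite G := Finite.of_fintype G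
  have hne : (Nat.card G : ℂ) ≠ 0 := by simp
  have hsum := sum_char_mul_char_of_real hirr hreal
  obtain ⟨B₀, hB₀, h0⟩ := exists_isInv_ne_zero ρ (by rw [hsum]; exact hne)
  obtain ⟨ε, hε⟩ := h0.exists_sign hirr hB₀
  have hν : (Nat.card G : ℂ)⁻¹ * ∑ s : G, ρ.character (s * s) = ε := by
    rw [sum_char_sq_eq hirr h0 hB₀ hε, hsum, mul_comm ε, ← mul_assoc,
      inv_mul_cancel₀ hne, one_mul]
  rw [hν]
  exact IsInv.sign_sq hirr hB₀ hε

end Cfsg.Agent.Helper74.FS
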