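import Mathlib
import Cfsg.Agent.Lib.Helper75.CharGalois

set_option autoImplicit false
set_option linter.unusedSectionVars false

/-!
# The stabilizer of a character under the Galois twists `g ↦ g ^ u`

For a representation `ρ` of a group of exponent dividing `n`, the units `u` of `ZMod n` with
`χ (g ^ u) = χ g` for all `g` form a subgroup `stab` of `(ZMod n)ˣ`, and
`φ(n) ≤ |stab| * [ℚ(χ) : ℚ]`.
-/

namespace Cfsg.Agent.Helper74.FV

open Polynomial

section

variable {G : Type*} [Group G] {V : Type*} [AddCommGroup V] [Module ℂ V] [FiniteDimensional ℂ V]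
  (ρ : Representation ℂ G V)

theorem pow_val_mul {n : ℕ} [NeZero n] (hexp : ∀ g : G, g ^ n = 1) (u v : (ZMod n)ˣ) (g : G) :
    g ^ ((u * v : (ZMod n)ˣ) : ZMod n).val = (g ^ (u : ZMod n).val) ^ (v : ZMod n).val := by
  rw [Units.val_mul, ZMod.val_mul, ← pow_mul]
  exact pow_eq_pow_of_modEq (Nat.mod_modEq _ _) (hexp g)

theorem pow_val_one {n : ℕ} [NeZero n] (hexp : ∀ g : G, g ^ n = 1) (g : G) :
    g ^ ((1 : (ZMod n)ˣ) : ZMod n).val = g := by
  rw [Units.val_one, ZMod.val_one_eq_one_mod]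
  have := pow_eq_pow_of_modEq (Nat.mod_modEq 1 n) (hexp g)
  rw [this, pow_one]

/-- the stabilizer of the character in `(ZMod n)ˣ` -/
def stab (n : ℕ) [NeZero n] (hexp : ∀ g : G, g ^ n = 1) : Subgroup (ZMod n)ˣ where
  carrier := {u | ∀ g : G, ρ.character (g ^ (u : ZMod n).val) = ρ.character g}
  one_mem' := by
    intro g
    rw [pow_val_one hexp]
  mul_mem' := by
    intro u v hu hv g
    rw [pow_val_mul hexp, hv, hu]
  inv_mem' := by
    intro u hu g
    have h := hu (g ^ ((u⁻¹ : (ZMod n)ˣ) : ZMod n).val)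
    rw [← pow_val_mul hexp, inv_mul_cancel, pow_val_one hexp] at h
    exact h.symm

theorem mem_stab {n : ℕ} [NeZero n] (hexp : ∀ g : G, g ^ n = 1) (u : (ZMod n)ˣ) :
    u ∈ stab ρ n hexp ↔ ∀ g : G, ρ.character (g ^ (u : ZMod n).val) = ρ.character g := Iff.rfl

/-- the Galois twists as embeddings of the field of values -/
theorem exists_embedding (n : ℕ) (hn : 0 < n) (hexp : ∀ g : G, g ^ n = 1) (k : ℕ)
    (hk : k.Coprime n) :
    ∃ τ : (IntermediateField.adjoin ℚ (Set.range ρ.character)) →ₐ[ℚ] ℂ,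
      ∀ (g : G) (hx : ρ.character g ∈ IntermediateField.adjoin ℚ (Set.range ρ.character)),
        τ ⟨ρ.character g, hx⟩ = ρ.character (g ^ k) := by
  classical
  set ζ : ℂ := Complex.exp (2 * Real.pi * Complex.I / (n : ℕ)) with hζdef
  have hζ : IsPrimitiveRoot ζ n := Complex.isPrimitiveRoot_exp n hn.ne'
  have hpoly : ∀ g : G, ∃ P : ℚ[X], ∀ j : ℕ, ρ.character (g ^ j) = aeval (ζ ^ j) P := by
    intro g
    obtain ⟨F, -, hF⟩ := Helper75.exists_poly ρ g n hn (hexp g) ζ hζ
    refine ⟨F.map (Int.castRingHom ℚ), fun j => ?_⟩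
    rw [hF j, ← algebraMap_int_eq, aeval_map_algebraMap]
  choose P hP using hpoly
  have hint : IsIntegral ℚ ζ := by
    refine ⟨X ^ n - 1, monic_X_pow_sub_C 1 hn.ne', ?_⟩
    simp [hζ.pow_eq_one]
  set L : IntermediateField ℚ ℂ := IntermediateField.adjoin ℚ {ζ} with hL
  have hFL : IntermediateField.adjoin ℚ (Set.range ρ.character) ≤ L := by
    rw [IntermediateField.adjoin_le_iff]
    rintro _ ⟨g, rfl⟩
    have h1 := hP g 1
    rw [pow_one, pow_one] at h1
    rw [h1]
    have h2 : aeval ζ (P g) ∈ Algebra.adjoin ℚ {ζ} := aeval_mem_adjoin_singleton ℚ ζ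
    exact IntermediateField.algebra_adjoin_le_adjoin ℚ _ h2
  set pb := IntermediateField.adjoin.powerBasis hint with hpb
  have hgen : pb.gen = IntermediateField.AdjoinSimple.gen ℚ ζ :=
    IntermediateField.adjoin.powerBasis_gen hint
  have hζk : IsPrimitiveRoot (ζ ^ k) n := hζ.pow_of_coprime k hk
  have hroot : aeval (ζ ^ k) (minpoly ℚ pb.gen) = 0 := by
    have hmp : minpoly ℚ pb.gen = minpoly ℚ ζ := by
      rw [hgen]
      exact IntermediateField.minpoly_gen ℚ ζ
    rw [hmp, ← cyclotomic_eq_minpoly_rat hζ hn, cyclotomic_eq_minpoly_rat hζk hn]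
    exact minpoly.aeval ℚ _
  set σ : L →ₐ[ℚ] ℂ := pb.lift (ζ ^ k) hroot with hσ
  have hσgen : σ (IntermediateField.AdjoinSimple.gen ℚ ζ) = ζ ^ k := by
    rw [← hgen]
    exact pb.lift_gen (ζ ^ k) hroot
  refine ⟨σ.comp (IntermediateField.inclusion hFL), fun g hx => ?_⟩
  have h1 := hP g 1
  rw [pow_one, pow_one] at h1
  have hx2 : (IntermediateField.inclusion hFL ⟨ρ.character g, hx⟩ : L) =
      aeval (IntermediateField.AdjoinSimple.gen ℚ ζ) (P g) := by
    apply Subtype.ext
    have h3 := aeval_algHom_apply L.val (IntermediateField.AdjoinSimple.gen ℚ ζ) (P g)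
    have h4 : L.val (IntermediateField.AdjoinSimple.gen ℚ ζ) = ζ :=
      IntermediateField.AdjoinSimple.coe_gen ℚ ζ
    rw [h4] at h3
    change ρ.character g = L.val (aeval (IntermediateField.AdjoinSimple.gen ℚ ζ) (P g))
    rw [← h3, h1]
  change σ (IntermediateField.inclusion hFL ⟨ρ.character g, hx⟩) = _
  rw [hx2, ← aeval_algHom_apply, hσgen, ← hP g k]

/-- **Counting**: `φ(n) ≤ |stab| * [ℚ(χ) : ℚ]`. -/
theorem card_units_le (n : ℕ) [NeZero n] (hexp : ∀ g : G, g ^ n = 1)
    [FiniteDimensional ℚ (IntermediateField.adjoin ℚ (Set.range ρ.character))] :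
    Nat.card (ZMod n)ˣ ≤ Nat.card (stab ρ n hexp) *
      Module.finrank ℚ (IntermediateField.adjoin ℚ (Set.range ρ.character)) := by
  classical
  have hn : 0 < n := Nat.pos_of_ne_zero (NeZero.ne n)
  have hmem : ∀ g : G, ρ.character g ∈ IntermediateField.adjoin ℚ (Set.range ρ.character) :=
    fun g => IntermediateField.subset_adjoin ℚ _ ⟨g, rfl⟩
  have hex : ∀ u : (ZMod n)ˣ,
      ∃ τ : (IntermediateField.adjoin ℚ (Set.range ρ.character)) →ₐ[ℚ] ℂ,
      ∀ (g : G) (hx : ρ.character g ∈ IntermediateField.adjoin ℚ (Set.range ρ.character)),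
        τ ⟨ρ.character g, hx⟩ = ρ.character (g ^ (u : ZMod n).val) :=
    fun u => exists_embedding ρ n hn hexp _ (ZMod.val_coe_unit_coprime u)
  choose Ψ hΨ using hex
  have := Fintype.ofFinite (stab ρ n hexp)
  have hfib : ∀ b ∈ Finset.image Ψ Finset.univ,
      (Finset.univ.filter (fun u => Ψ u = b)).card ≤ Nat.card (stab ρ n hexp) := by
    intro b hb
    obtain ⟨u₀, -, rfl⟩ := Finset.mem_image.mp hb
    have hcard : Nat.card (stab ρ n hexp) =
        (Finset.univ.filter (fun u : (ZMod n)ˣ => u ∈ stab ρ n hexp)).card := by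
      rw [Nat.card_eq_fintype_card, Fintype.card_subtype]
    rw [hcard]
    apply Finset.card_le_card_of_injOn (fun u => u * u₀⁻¹)
    · intro u hu
      have hu' : Ψ u = Ψ u₀ := (Finset.mem_filter.mp hu).2
      simp only [Finset.coe_filter, Finset.mem_univ, true_and, Set.mem_setOf_eq]
      rw [mem_stab]
      intro g
      rw [mul_comm u, pow_val_mul hexp, ← hΨ u _ (hmem _), hu', hΨ u₀ _ (hmem _),
        ← pow_val_mul hexp, inv_mul_cancel, pow_val_one hexp]
    · intro u _ v _ huv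
      exact mul_right_cancel huv
  have h1 := Finset.card_le_mul_card_image (f := Ψ) Finset.univ _ hfib
  have h2 : (Finset.image Ψ Finset.univ).card ≤
      Module.finrank ℚ (IntermediateField.adjoin ℚ (Set.range ρ.character)) := by
    rw [← AlgHom.card ℚ (IntermediateField.adjoin ℚ (Set.range ρ.character)) ℂ]
    exact Finset.card_le_univ _
  rw [Nat.card_eq_fintype_card, ← Finset.card_univ]
  exact h1.trans (Nat.mul_le_mul_left _ h2)

end

end Cfsg.Agent.Helper74.FV
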