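import Mathlib
import Cfsg.Agent.Lib.Helper75.UnitaryAbelian
import Cfsg.Agent.Lib.Helper53.UniqueInvol2

set_option autoImplicit false
set_option linter.unusedSectionVars false

/-!
# A self-centralizing abelian normal subgroup of a linear group of degree `n` has index dividing `n!`

Let `ρ` be a faithful complex representation of the finite group `P` on a space of dimension `n`,
and `K` an abelian normal subgroup with `C_P(K) ≤ K`.  Then `P` permutes the weights of `K`
(at most `n` of them), and the kernel of this permutation action is `C_P(K) ≤ K`; hence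
`|P : K|` divides `n!`.
-/

namespace Cfsg.Agent.Helper74.JD

open Cfsg.Agent.Helper75.UA

section

variable {P : Type*} [Group P] {E : Type*} [AddCommGroup E] [Module ℂ E]
  [FiniteDimensional ℂ E]
  (ρ : Representation ℂ P E) (K : Subgroup P) [hK : K.Normal]

/-- conjugation action on weights of the normal subgroup `K` -/
def wact (g : P) (μ : K → ℂ) : K → ℂ := fun a => μ ⟨g⁻¹ * a * g, by
  have := hK.conj_mem a a.2 g⁻¹; simpa using this⟩

theorem wact_apply (g : P) (μ : K → ℂ) (a : K) :
    wact K g μ a = μ ⟨g⁻¹ * a * g, by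
      have := hK.conj_mem a a.2 g⁻¹; simpa using this⟩ := rfl

/-- the family of operators of `K` -/
def fam : K → Module.End ℂ E := fun a => ρ (a : P)

theorem fam_apply (a : K) : fam ρ K a = ρ (a : P) := rfl

theorem map_jointEig (g : P) (μ : K → ℂ) (v : E) (hv : v ∈ jointEig (fam ρ K) μ) :
    ρ g v ∈ jointEig (fam ρ K) (wact K g μ) := by
  rw [mem_jointEig] at hv ⊢
  intro a
  have h1 : ρ (a : P) (ρ g v) = ρ g (ρ (g⁻¹ * a * g) v) := by
    rw [← Module.End.mul_apply, ← Module.End.mul_apply, ← map_mul, ← map_mul]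
    congr 2
    group
  have h2 := hv ⟨g⁻¹ * a * g, by
      have := hK.conj_mem a a.2 g⁻¹; simpa using this⟩
  rw [fam_apply] at h2 ⊢
  rw [h1]
  simp only at h2
  rw [h2, map_smul, wact_apply]

theorem rho_inv_apply (g : P) (v : E) : ρ g⁻¹ (ρ g v) = v := by
  rw [← Module.End.mul_apply, ← map_mul, inv_mul_cancel, map_one, Module.End.one_apply]

/-- the set of weights -/
abbrev Om := {μ : K → ℂ // jointEig (fam ρ K) μ ≠ ⊥}

theorem wact_ne_bot (g : P) (μ : K → ℂ) (hμ : jointEig (fam ρ K) μ ≠ ⊥) :
    jointEig (fam ρ K) (wact K g μ) ≠ ⊥ := by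
  intro hbot
  apply hμ
  rw [Submodule.eq_bot_iff] at hbot ⊢
  intro v hv
  have h := hbot _ (map_jointEig ρ K g μ v hv)
  have h2 := rho_inv_apply ρ g v
  rw [h, map_zero] at h2
  exact h2.symm

noncomputable instance instMulActionOm : MulAction P (Om ρ K) where
  smul g μ := ⟨wact K g μ.1, wact_ne_bot ρ K g μ.1 μ.2⟩
  one_smul μ := by
    apply Subtype.ext
    funext a
    change wact K 1 μ.1 a = μ.1 a
    rw [wact_apply]
    exact congrArg μ.1 (Subtype.ext (by simp))
  mul_smul g h μ := by
    apply Subtype.ext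
    funext a
    change wact K (g * h) μ.1 a = wact K g (wact K h μ.1) a
    rw [wact_apply, wact_apply, wact_apply]
    exact congrArg μ.1 (Subtype.ext (by simp [mul_assoc]))

theorem smul_val (g : P) (μ : Om ρ K) : (g • μ).1 = wact K g μ.1 := rfl

end

section

variable {P : Type*} [Group P] [Finite P] {E : Type*} [AddCommGroup E] [Module ℂ E]
  [FiniteDimensional ℂ E]
  (ρ : Representation ℂ P E) (K : Subgroup P) [hK : K.Normal]

theorem fam_fin (a : K) : ∃ k, 0 < k ∧ fam ρ K a ^ k = 1 := by
  refine ⟨orderOf (a : P), orderOf_pos _, ?_⟩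
  rw [fam_apply, ← map_pow, pow_orderOf_eq_one, map_one]

theorem fam_comm (hab : ∀ x ∈ K, ∀ y ∈ K, x * y = y * x) (a b : K) :
    Commute (fam ρ K a) (fam ρ K b) := by
  change fam ρ K a * fam ρ K b = fam ρ K b * fam ρ K a
  rw [fam_apply, fam_apply, ← map_mul, ← map_mul, hab a a.2 b b.2]

theorem finite_Om (hab : ∀ x ∈ K, ∀ y ∈ K, x * y = y * x) : Finite (Om ρ K) := by
  have hind := iSupIndep_jointEig (fam ρ K) (fam_comm ρ K hab) (fam_fin ρ K)
  have := hind.fintypeNeBotOfFiniteDimensional
  exact Finite.of_fintype _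

theorem card_Om_le (hab : ∀ x ∈ K, ∀ y ∈ K, x * y = y * x) :
    Nat.card (Om ρ K) ≤ Module.finrank ℂ E := by
  have hind := iSupIndep_jointEig (fam ρ K) (fam_comm ρ K hab) (fam_fin ρ K)
  have := hind.fintypeNeBotOfFiniteDimensional
  rw [Nat.card_eq_fintype_card]
  exact hind.subtype_ne_bot_le_finrank

/-- an element fixing all weights centralizes `K` -/
theorem mem_centralizer_of_fix (hinj : Function.Injective ρ)
    (hab : ∀ x ∈ K, ∀ y ∈ K, x * y = y * x) (g : P)
    (hg : ∀ μ : Om ρ K, g • μ = μ) : g ∈ Subgroup.centralizer (K : Set P) := by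
  have htop := iSup_jointEig (fam ρ K) (fam_comm ρ K hab) (fam_fin ρ K)
  have key : ∀ a : K, ρ (g⁻¹ * a * g) = ρ (a : P) := by
    intro a
    have hle : (⊤ : Submodule ℂ E) ≤ LinearMap.eqLocus (ρ (g⁻¹ * a * g)) (ρ (a : P)) := by
      rw [← htop]
      apply iSup_le
      intro μ
      by_cases hμ : jointEig (fam ρ K) μ = ⊥
      · rw [hμ]; exact bot_le
      · intro v hv
        have h1 := congrArg Subtype.val (hg ⟨μ, hμ⟩)
        rw [smul_val] at h1
        simp only at h1
        have h2 := congrFun h1 a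
        rw [wact_apply] at h2
        rw [mem_jointEig] at hv
        have h3 := hv a
        have h4 := hv ⟨g⁻¹ * a * g, by
          have := hK.conj_mem a a.2 g⁻¹; simpa using this⟩
        rw [fam_apply] at h3 h4
        simp only at h4
        rw [LinearMap.mem_eqLocus, h3, h4, h2]
    apply LinearMap.ext
    intro v
    exact hle (Submodule.mem_top : v ∈ ⊤)
  rw [Subgroup.mem_centralizer_iff]
  intro a ha
  have := hinj (key ⟨a, ha⟩)
  simp only at this
  calc a * g = g * (g⁻¹ * a * g) := by group
    _ = g * a := by rw [this]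

/-- **Key lemma**: a self-centralizing abelian normal subgroup of a linear group of degree `n`
has index dividing `n!`. -/
theorem index_dvd_factorial (hinj : Function.Injective ρ)
    (hab : ∀ x ∈ K, ∀ y ∈ K, x * y = y * x)
    (hcent : Subgroup.centralizer (K : Set P) ≤ K) :
    K.index ∣ (Module.finrank ℂ E).factorial := by
  classical
  have hfin := finite_Om ρ K hab
  let φ : P →* Equiv.Perm (Om ρ K) := MulAction.toPermHom P (Om ρ K)
  have hker : φ.ker ≤ K := by
    intro g hg
    apply hcent
    apply mem_centralizer_of_fix ρ K hinj hab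
    intro μ
    rw [MonoidHom.mem_ker] at hg
    have := congrArg (fun σ : Equiv.Perm (Om ρ K) => σ μ) hg
    simpa [φ] using this
  have h1 : K.index ∣ φ.ker.index := Subgroup.index_dvd_of_le hker
  have h2 : φ.ker.index = Nat.card φ.range := Subgroup.index_ker φ
  have h3 : Nat.card φ.range ∣ Nat.card (Equiv.Perm (Om ρ K)) :=
    Subgroup.card_subgroup_dvd_card _
  have h4 : Nat.card (Equiv.Perm (Om ρ K)) = (Nat.card (Om ρ K)).factorial := by
    have := Fintype.ofFinite (Om ρ K)
    rw [Nat.card_eq_fintype_card, Fintype.card_perm, Nat.card_eq_fintype_card]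
  have h5 : (Nat.card (Om ρ K)).factorial ∣ (Module.finrank ℂ E).factorial :=
    Nat.factorial_dvd_factorial (card_Om_le ρ K hab)
  rw [h2] at h1
  exact h1.trans (h3.trans (h4 ▸ h5))

end

/-- a `p`-group with a faithful representation of degree `n` has an abelian subgroup of index
dividing `n!` -/
theorem exists_abelian_index_dvd_factorial {P : Type*} [Group P] [Finite P] {E : Type*}
    [AddCommGroup E] [Module ℂ E] [FiniteDimensional ℂ E]
    (ρ : Representation ℂ P E) (hinj : Function.Injective ρ) (p : ℕ) [Fact p.Prime]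
    (hP : IsPGroup p P) :
    ∃ K : Subgroup P, (∀ x ∈ K, ∀ y ∈ K, x * y = y * x) ∧
      K.index ∣ (Module.finrank ℂ E).factorial := by
  obtain ⟨K, hKn, hab, hcent⟩ := Cfsg.Agent.Helper53.exists_normal_abelian_self_centralizing hP
  exact ⟨K, hab, index_dvd_factorial ρ K hinj hab hcent⟩

end Cfsg.Agent.Helper74.JD
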