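import Mathlib
import Cfsg.Agent.Lib.Helper74.Jordan1

set_option autoImplicit false
set_option linter.unusedSectionVars false

/-!
# Weights of an abelian subgroup: multiplicativity, multiplicity formula, Galois closure
-/

namespace Cfsg.Agent.Helper74.FV

open Cfsg.Agent.Helper75.UA Cfsg.Agent.Helper74.JD

section

variable {P : Type*} [Group P] {E : Type*} [AddCommGroup E] [Module ℂ E]
  [FiniteDimensional ℂ E] (ρ : Representation ℂ P E) (K : Subgroup P) [hK : K.Normal]

/-- weights are multiplicative -/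
theorem weight_mul (μ : K → ℂ) (hμ : jointEig (fam ρ K) μ ≠ ⊥) :
    μ 1 = 1 ∧ ∀ a b : K, μ (a * b) = μ a * μ b := by
  obtain ⟨v, hv, hv0⟩ := (Submodule.ne_bot_iff _).mp hμ
  rw [mem_jointEig] at hv
  constructor
  · have h1 := hv 1
    rw [fam_apply] at h1
    simp only [OneMemClass.coe_one, map_one, Module.End.one_apply] at h1
    have : (μ 1 - 1) • v = 0 := by rw [sub_smul, one_smul, ← h1, sub_self]
    rcases smul_eq_zero.mp this with h | h
    · exact sub_eq_zero.mp h
    · exact absurd h hv0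
  · intro a b
    have h1 := hv (a * b)
    have h2 := hv a
    have h3 := hv b
    rw [fam_apply] at h1 h2 h3
    have h4 : ρ ((a * b : K) : P) v = (μ a * μ b) • v := by
      rw [Subgroup.coe_mul, map_mul, Module.End.mul_apply, h3, map_smul, h2, smul_smul, mul_comm]
    rw [h1] at h4
    have : (μ (a * b) - μ a * μ b) • v = 0 := by rw [sub_smul, h4, sub_self]
    rcases smul_eq_zero.mp this with h | h
    · exact sub_eq_zero.mp h
    · exact absurd h hv0

/-- a weight as a homomorphism to the units -/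
theorem exists_hom_of_weight (μ : K → ℂ) (hμ : jointEig (fam ρ K) μ ≠ ⊥) :
    ∃ ν : K →* ℂˣ, ∀ a : K, ((ν a : ℂˣ) : ℂ) = μ a := by
  obtain ⟨h1, hm⟩ := weight_mul ρ K μ hμ
  have hne : ∀ a : K, μ a ≠ 0 := by
    intro a h0
    have := hm a a⁻¹
    rw [mul_inv_cancel, h1, h0, zero_mul] at this
    exact one_ne_zero this
  refine ⟨{ toFun := fun a => Units.mk0 (μ a) (hne a), map_one' := ?_, map_mul' := ?_ },
    fun a => rfl⟩
  · apply Units.ext
    simpa using h1
  · intro a b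
    apply Units.ext
    simpa using hm a b

variable [Fintype K]

/-- the (unnormalized) projector onto a weight space -/
noncomputable def psum (ν : K →* ℂˣ) : Module.End ℂ E :=
  ∑ a : K, (((ν a)⁻¹ : ℂˣ) : ℂ) • fam ρ K a

theorem psum_apply (ν : K →* ℂˣ) (v : E) :
    psum ρ K ν v = ∑ a : K, (((ν a)⁻¹ : ℂˣ) : ℂ) • fam ρ K a v := by
  unfold psum
  rw [LinearMap.sum_apply]
  rfl

theorem fam_psum (ν : K →* ℂˣ) (b : K) (v : E) :
    fam ρ K b (psum ρ K ν v) = ((ν b : ℂˣ) : ℂ) • psum ρ K ν v := by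
  rw [psum_apply, map_sum, Finset.smul_sum]
  rw [← Equiv.sum_comp (Equiv.mulLeft b)
    (fun a => ((ν b : ℂˣ) : ℂ) • (((ν a)⁻¹ : ℂˣ) : ℂ) • fam ρ K a v)]
  apply Finset.sum_congr rfl
  intro a _
  simp only [Equiv.coe_mulLeft]
  have hs : (ν a)⁻¹ = ν b * (ν (b * a))⁻¹ := by
    rw [map_mul, mul_inv_rev, mul_comm (ν a)⁻¹, mul_inv_cancel_left]
  have hs' : (((ν a)⁻¹ : ℂˣ) : ℂ) = ((ν b : ℂˣ) : ℂ) * (((ν (b * a))⁻¹ : ℂˣ) : ℂ) := by
    rw [hs, Units.val_mul]
  rw [map_smul, smul_smul, ← hs']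
  congr 1
  rw [fam_apply, fam_apply, fam_apply, Subgroup.coe_mul, map_mul, Module.End.mul_apply]

theorem psum_of_mem (ν : K →* ℂˣ) (v : E)
    (hv : v ∈ jointEig (fam ρ K) (fun a => ((ν a : ℂˣ) : ℂ))) :
    psum ρ K ν v = (Fintype.card K : ℂ) • v := by
  rw [mem_jointEig] at hv
  rw [psum_apply]
  have : ∀ a : K, (((ν a)⁻¹ : ℂˣ) : ℂ) • fam ρ K a v = v := by
    intro a
    rw [hv a, smul_smul, ← Units.val_mul, inv_mul_cancel, Units.val_one, one_smul]
  simp only [this]
  rw [Finset.sum_const, Finset.card_univ, Nat.cast_smul_eq_nsmul]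

theorem card_ne_zero' : (Fintype.card K : ℂ) ≠ 0 := by
  have : 0 < Fintype.card K := Fintype.card_pos
  exact_mod_cast this.ne'

theorem proj_isProj (ν : K →* ℂˣ) :
    LinearMap.IsProj (jointEig (fam ρ K) (fun a => ((ν a : ℂˣ) : ℂ)))
      ((Fintype.card K : ℂ)⁻¹ • psum ρ K ν) := by
  constructor
  · intro v
    rw [mem_jointEig]
    intro b
    rw [LinearMap.smul_apply, map_smul, fam_psum, smul_comm]
  · intro v hv
    rw [LinearMap.smul_apply, psum_of_mem ρ K ν v hv, smul_smul,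
      inv_mul_cancel₀ (card_ne_zero' K), one_smul]

/-- the multiplicity formula -/
theorem finrank_weight (ν : K →* ℂˣ) :
    (Module.finrank ℂ (jointEig (fam ρ K) (fun a => ((ν a : ℂˣ) : ℂ))) : ℂ) =
      (Fintype.card K : ℂ)⁻¹ * ∑ a : K, (((ν a)⁻¹ : ℂˣ) : ℂ) * ρ.character (a : P) := by
  rw [← (proj_isProj ρ K ν).trace, map_smul, smul_eq_mul]
  congr 1
  unfold psum
  rw [map_sum]
  apply Finset.sum_congr rfl
  intro a _
  rw [map_smul, smul_eq_mul]
  rfl

/-- **Galois closure** of the set of weights -/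
theorem weight_pow (ν : K →* ℂˣ)
    (hν : jointEig (fam ρ K) (fun a => ((ν a : ℂˣ) : ℂ)) ≠ ⊥) (u : ℕ)
    (hu : (Nat.card K).Coprime u)
    (hinv : ∀ a : K, ρ.character ((a : P) ^ u) = ρ.character (a : P)) :
    jointEig (fam ρ K) (fun a => (((ν ^ u) a : ℂˣ) : ℂ)) ≠ ⊥ := by
  intro h
  have h1 := finrank_weight ρ K (ν ^ u)
  rw [h, finrank_bot, Nat.cast_zero] at h1
  have h2 := finrank_weight ρ K ν
  have h3 : ∑ a : K, ((((ν ^ u) a)⁻¹ : ℂˣ) : ℂ) * ρ.character (a : P) =
      ∑ a : K, (((ν a)⁻¹ : ℂˣ) : ℂ) * ρ.character (a : P) := by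
    rw [← Equiv.sum_comp (powCoprime hu)
      (fun a => (((ν a)⁻¹ : ℂˣ) : ℂ) * ρ.character (a : P))]
    apply Finset.sum_congr rfl
    intro a _
    rw [powCoprime_apply, MonoidHom.pow_apply, map_pow, Subgroup.coe_pow, hinv]
  rw [h3, ← h2] at h1
  have h4 : Module.finrank ℂ (jointEig (fam ρ K) (fun a => ((ν a : ℂˣ) : ℂ))) = 0 := by
    exact_mod_cast h1.symm
  exact hν (Submodule.finrank_eq_zero.mp h4)

end

section

variable {P : Type*} [Group P] [Finite P] {E : Type*} [AddCommGroup E] [Module ℂ E]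
  [FiniteDimensional ℂ E] (ρ : Representation ℂ P E) (K : Subgroup P) [hK : K.Normal]

/-- the weights separate the points of `K` -/
theorem eq_one_of_weights (hinj : Function.Injective ρ)
    (hab : ∀ x ∈ K, ∀ y ∈ K, x * y = y * x) (a : K)
    (h : ∀ μ : K → ℂ, jointEig (fam ρ K) μ ≠ ⊥ → μ a = 1) : a = 1 := by
  have htop := iSup_jointEig (fam ρ K) (fam_comm ρ K hab) (fam_fin ρ K)
  have key : ρ (a : P) = ρ 1 := by
    have hle : (⊤ : Submodule ℂ E) ≤ LinearMap.eqLocus (ρ (a : P)) (ρ 1) := by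
      rw [← htop]
      apply iSup_le
      intro μ
      by_cases hμ : jointEig (fam ρ K) μ = ⊥
      · rw [hμ]; exact bot_le
      · intro v hv
        rw [mem_jointEig] at hv
        have h3 := hv a
        rw [fam_apply] at h3
        rw [LinearMap.mem_eqLocus, h3, h μ hμ, one_smul, map_one, Module.End.one_apply]
    apply LinearMap.ext
    intro v
    exact hle (Submodule.mem_top : v ∈ ⊤)
  have := hinj key
  exact Subtype.ext this

end

end Cfsg.Agent.Helper74.FV
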