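import Mathlib
import Cfsg.Agent.Lib.Helper74.FieldVal1

set_option autoImplicit false
set_option linter.unusedSectionVars false

/-!
# A finite group of exponent `p ^ a` separated by a Galois-closed set of `m` linear characters

If the set is closed under the twists by a subgroup `Γ ≤ (ZMod (p ^ a))ˣ` with
`p ^ a ≤ |Γ| * p ^ (t + 1)`, then the group has order at most `(p ^ (t + 1)) ^ m`.
-/

namespace Cfsg.Agent.Helper74.FV

theorem mul_le_pow' (B m : ℕ) (hB : 2 ≤ B) (hm : 1 ≤ m) : m * B ≤ B ^ m := by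
  induction m, hm using Nat.le_induction with
  | base => simp
  | succ m hm ih =>
    have h1 : B ≤ B ^ m := by
      calc B = B ^ 1 := (pow_one B).symm
        _ ≤ B ^ m := Nat.pow_le_pow_right (by omega) hm
    calc (m + 1) * B = m * B + B := by ring
      _ ≤ B ^ m + B ^ m := Nat.add_le_add ih h1
      _ = B ^ m * 2 := by ring
      _ ≤ B ^ m * B := Nat.mul_le_mul_left _ hB
      _ = B ^ (m + 1) := by ring

section

variable {K : Type*} [Group K] [Finite K] (p a t : ℕ) [hp : Fact p.Prime]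
  (hexp : ∀ x : K, x ^ (p ^ a) = 1)

instance neZero_pow : NeZero (p ^ a) := ⟨pow_ne_zero a hp.out.ne_zero⟩

include hexp

theorem hom_pow_eq_one (ν : K →* ℂˣ) : ν ^ (p ^ a) = 1 := by
  ext x
  rw [MonoidHom.pow_apply, ← map_pow, hexp x, map_one, MonoidHom.one_apply]

theorem hom_pow_val (ν : K →* ℂˣ) (k : ℕ) (x : K) : (ν ^ k) x = ν (x ^ k) := by
  rw [MonoidHom.pow_apply, map_pow]

/-- orbit bound -/
theorem card_range_le_orbit [DecidableEq (K →* ℂˣ)] (Γ : Subgroup (ZMod (p ^ a))ˣ) [Fintype Γ]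
    (hΓ : p ^ a ≤ Fintype.card Γ * p ^ (t + 1)) (μ : K →* ℂˣ) :
    Nat.card μ.range ≤
      (Finset.image (fun u : Γ => μ ^ ((u : (ZMod (p ^ a))ˣ) : ZMod (p ^ a)).val)
        Finset.univ).card * p ^ (t + 1) := by
  haveI : Finite μ.range := Finite.of_surjective μ.rangeRestrict μ.rangeRestrict_surjective
  haveI : IsCyclic μ.range := subgroup_units_cyclic μ.range
  obtain ⟨g, hg⟩ := IsCyclic.exists_generator (α := μ.range)
  obtain ⟨x, hx⟩ := g.2
  have hord : orderOf (μ x) = Nat.card μ.range := by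
    rw [← orderOf_eq_card_of_forall_mem_zpowers hg, ← Subgroup.orderOf_coe, hx]
  have hdvd : orderOf (μ x) ∣ p ^ a := by
    apply orderOf_dvd_of_pow_eq_one
    rw [← map_pow, hexp x, map_one]
  obtain ⟨s, hs, hps⟩ := (Nat.dvd_prime_pow hp.out).mp hdvd
  rw [← hord, hps]
  set f : Γ → (K →* ℂˣ) :=
    fun u => μ ^ ((u : (ZMod (p ^ a))ˣ) : ZMod (p ^ a)).val with hf
  have hfib : ∀ b ∈ Finset.image f Finset.univ,
      (Finset.univ.filter (fun u => f u = b)).card ≤ p ^ (a - s) := by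
    intro b hb
    obtain ⟨u₀, -, rfl⟩ := Finset.mem_image.mp hb
    have hmod : ∀ u : Γ, f u = f u₀ →
        ((u : (ZMod (p ^ a))ˣ) : ZMod (p ^ a)).val % p ^ s =
        ((u₀ : (ZMod (p ^ a))ˣ) : ZMod (p ^ a)).val % p ^ s := by
      intro u hu
      have h1 := congrArg (fun ν : K →* ℂˣ => ν x) hu
      simp only [hf, MonoidHom.pow_apply] at h1
      have h2 := pow_eq_pow_iff_modEq.mp h1
      rw [hps] at h2
      exact h2
    rw [← Finset.card_range (p ^ (a - s))]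
    apply Finset.card_le_card_of_injOn
      (fun u : Γ => ((u : (ZMod (p ^ a))ˣ) : ZMod (p ^ a)).val / p ^ s)
    · intro u _
      simp only [Finset.coe_range, Set.mem_Iio]
      apply Nat.div_lt_of_lt_mul
      rw [← pow_add, Nat.add_sub_cancel' hs]
      exact ZMod.val_lt _
    · intro u hu v hv huv
      simp only [Finset.coe_filter, Finset.mem_univ, true_and, Set.mem_setOf_eq] at hu hv
      simp only at huv
      have h1 := hmod u hu
      have h2 := hmod v hv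
      have h3 : ((u : (ZMod (p ^ a))ˣ) : ZMod (p ^ a)).val =
          ((v : (ZMod (p ^ a))ˣ) : ZMod (p ^ a)).val := by
        rw [← Nat.div_add_mod (((u : (ZMod (p ^ a))ˣ) : ZMod (p ^ a)).val) (p ^ s),
          ← Nat.div_add_mod (((v : (ZMod (p ^ a))ˣ) : ZMod (p ^ a)).val) (p ^ s), huv, h1, h2]
      exact Subtype.ext (Units.ext (ZMod.val_injective _ h3))
  have h1 := Finset.card_le_mul_card_image (f := f) Finset.univ _ hfib
  rw [Finset.card_univ] at h1
  have h2 : p ^ (a - s) * p ^ s ≤ p ^ (a - s) * ((Finset.image f Finset.univ).card * p ^ (t + 1)) := by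
    calc p ^ (a - s) * p ^ s = p ^ a := by rw [← pow_add, Nat.sub_add_cancel hs]
      _ ≤ Fintype.card Γ * p ^ (t + 1) := hΓ
      _ ≤ (p ^ (a - s) * (Finset.image f Finset.univ).card) * p ^ (t + 1) :=
        Nat.mul_le_mul_right _ h1
      _ = _ := by ring
  exact Nat.le_of_mul_le_mul_left h2 (pow_pos hp.out.pos _)

/-- the main induction -/
theorem index_iInf_le (Γ : Subgroup (ZMod (p ^ a))ˣ)
    (hΓ : p ^ a ≤ Nat.card Γ * p ^ (t + 1)) :
    ∀ (m : ℕ) (Ω : Finset (K →* ℂˣ)), Ω.card = m →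
      (∀ μ ∈ Ω, ∀ u ∈ Γ, μ ^ ((u : ZMod (p ^ a))).val ∈ Ω) →
      (⨅ μ ∈ Ω, (μ : K →* ℂˣ).ker).index ≤ (p ^ (t + 1)) ^ m := by
  classical
  have := Fintype.ofFinite Γ
  rw [Nat.card_eq_fintype_card] at hΓ
  intro m
  induction m using Nat.strong_induction_on with
  | _ m ih =>
    intro Ω hcard hcl
    by_cases hne : Ω = ∅
    · subst hne
      simp only [Finset.notMem_empty, iInf_false, iInf_top, Subgroup.index_top]
      exact Nat.one_le_pow _ _ (pow_pos hp.out.pos _)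
    obtain ⟨μ, hμ⟩ := Finset.nonempty_iff_ne_empty.mpr hne
    set f : Γ → (K →* ℂˣ) :=
      fun u => μ ^ ((u : (ZMod (p ^ a))ˣ) : ZMod (p ^ a)).val with hf
    set O := Finset.image f Finset.univ with hO
    have hOsub : O ⊆ Ω := by
      intro ν hν
      obtain ⟨u, -, rfl⟩ := Finset.mem_image.mp hν
      exact hcl μ hμ u u.2
    have hμO : μ ∈ O := by
      refine Finset.mem_image.mpr ⟨1, Finset.mem_univ _, ?_⟩
      simp only [hf, OneMemClass.coe_one]
      apply MonoidHom.ext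
      intro x
      rw [hom_pow_val p a hexp, pow_val_one hexp]
    have hOpos : 1 ≤ O.card := Finset.card_pos.mpr ⟨μ, hμO⟩
    have hcard' : (Ω \ O).card = m - O.card := by
      rw [Finset.card_sdiff_of_subset hOsub, hcard]
    have hOle : O.card ≤ m := hcard ▸ Finset.card_le_card hOsub
    have hcl' : ∀ ν ∈ Ω \ O, ∀ u ∈ Γ, ν ^ ((u : ZMod (p ^ a))).val ∈ Ω \ O := by
      intro ν hν u hu
      rw [Finset.mem_sdiff] at hν ⊢
      refine ⟨hcl ν hν.1 u hu, fun hcon => hν.2 ?_⟩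
      obtain ⟨w, -, hw⟩ := Finset.mem_image.mp hcon
      simp only [hf] at hw
      refine Finset.mem_image.mpr ⟨w * ⟨u, hu⟩⁻¹, Finset.mem_univ _, ?_⟩
      simp only [hf]
      have hw' : ∀ y : K, μ (y ^ ((w : (ZMod (p ^ a))ˣ) : ZMod (p ^ a)).val) =
          ν (y ^ (u : ZMod (p ^ a)).val) := by
        intro y
        have := DFunLike.congr_fun hw y
        rwa [hom_pow_val p a hexp, hom_pow_val p a hexp] at this
      apply MonoidHom.ext
      intro x
      rw [hom_pow_val p a hexp, Subgroup.coe_mul, Subgroup.coe_inv, Subgroup.coe_mk, mul_comm,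
        pow_val_mul hexp, hw', ← pow_val_mul hexp, inv_mul_cancel, pow_val_one hexp]
    have ih' := ih (m - O.card) (by omega) (Ω \ O) hcard' hcl'
    have hle : (⨅ ν ∈ Ω \ O, (ν : K →* ℂˣ).ker) ⊓ μ.ker ≤ ⨅ ν ∈ Ω, (ν : K →* ℂˣ).ker := by
      intro x hx
      rw [Subgroup.mem_inf] at hx
      simp only [Subgroup.mem_iInf] at hx ⊢
      intro ν hν
      by_cases hνO : ν ∈ O
      · obtain ⟨u, -, rfl⟩ := Finset.mem_image.mp hνO
        simp only [hf]
        rw [MonoidHom.mem_ker, MonoidHom.pow_apply, MonoidHom.mem_ker.mp hx.2, one_pow]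
      · exact hx.1 ν (Finset.mem_sdiff.mpr ⟨hν, hνO⟩)
    have h1 : (⨅ ν ∈ Ω, (ν : K →* ℂˣ).ker).index ≤
        ((⨅ ν ∈ Ω \ O, (ν : K →* ℂˣ).ker) ⊓ μ.ker).index :=
      Nat.le_of_dvd (Nat.pos_of_ne_zero Subgroup.index_ne_zero_of_finite)
        (Subgroup.index_dvd_of_le hle)
    have h2 := Subgroup.index_inf_le (H := ⨅ ν ∈ Ω \ O, (ν : K →* ℂˣ).ker) (K := μ.ker)
    have h3 : μ.ker.index ≤ (p ^ (t + 1)) ^ O.card := by
      rw [Subgroup.index_ker]
      refine (card_range_le_orbit p a t hexp Γ hΓ μ).trans ?_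
      apply mul_le_pow' _ _ _ hOpos
      calc 2 ≤ p := hp.out.two_le
        _ = p ^ 1 := (pow_one p).symm
        _ ≤ p ^ (t + 1) := Nat.pow_le_pow_right hp.out.pos (by omega)
    calc (⨅ ν ∈ Ω, (ν : K →* ℂˣ).ker).index
        ≤ (⨅ ν ∈ Ω \ O, (ν : K →* ℂˣ).ker).index * μ.ker.index := h1.trans h2
      _ ≤ (p ^ (t + 1)) ^ (m - O.card) * (p ^ (t + 1)) ^ O.card := Nat.mul_le_mul ih' h3
      _ = (p ^ (t + 1)) ^ m := by rw [← pow_add, Nat.sub_add_cancel hOle]

/-- **The bound.** -/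
theorem card_le_pow (Γ : Subgroup (ZMod (p ^ a))ˣ)
    (hΓ : p ^ a ≤ Nat.card Γ * p ^ (t + 1)) (Ω : Finset (K →* ℂˣ))
    (hcl : ∀ μ ∈ Ω, ∀ u ∈ Γ, μ ^ ((u : ZMod (p ^ a))).val ∈ Ω)
    (hsep : ∀ x : K, (∀ μ ∈ Ω, μ x = 1) → x = 1) :
    Nat.card K ≤ (p ^ (t + 1)) ^ Ω.card := by
  have h := index_iInf_le p a t hexp Γ hΓ Ω.card Ω rfl hcl
  have hbot : (⨅ μ ∈ Ω, (μ : K →* ℂˣ).ker) = ⊥ := by
    rw [eq_bot_iff]
    intro x hx
    simp only [Subgroup.mem_iInf, MonoidHom.mem_ker] at hx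
    exact Subgroup.mem_bot.mpr (hsep x hx)
  rw [hbot, Subgroup.index_bot] at h
  exact h

end

end Cfsg.Agent.Helper74.FV
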