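import Mathlib
import Cfsg.Agent.Lib.Helper14.GLIDefs
import Cfsg.Agent.Lib.Helper63.GLIGFIX
import Cfsg.Agent.Lib.Helper25.GLIGST
import Cfsg.Agent.Lib.Helper12.GLIGCOARSE

/-!
# GLI piece (GLE) `gl_decomp_of_arith` for helper14's server (S5958)
= Helper49.SPILE without the form / evenness.  (GSPLIT) and (GJOIN) are proved locally
(`h74_gl_split`, `h74_gl_join`) so that this file only needs GFIX, GST and GCOARSE.
-/

set_option autoImplicit false

namespace Cfsg.Agent.Helper74.GLI

open Module Polynomial Cfsg.Agent.Helper14.GLI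

/-- a colouring of `Fin m` with prescribed fibre sizes -/
theorem h74_exists_colouring {t m : ℕ} (h : Fin t → ℕ) (hm : ∑ j, h j = m) :
    ∃ c : Fin m → Fin t, ∀ j, (Finset.univ.filter (fun i => c i = j)).card = h j := by
  subst hm
  let φ : Fin (∑ j, h j) ≃ (Σ j : Fin t, Fin (h j)) := finSigmaFinEquiv.symm
  refine ⟨fun i => (φ i).1, fun j => ?_⟩
  have hset : Finset.univ.filter (fun i => (φ i).1 = j) =
      (Finset.univ : Finset (Fin (h j))).map
        ⟨fun y => φ.symm ⟨j, y⟩, fun y y' hyy' => by
          have h1 := φ.symm.injective hyy'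
          simpa using h1⟩ := by
    ext i
    simp only [Finset.mem_filter, Finset.mem_univ, true_and, Finset.mem_map]
    constructor
    · intro hi
      rcases hφi : φ i with ⟨j', y'⟩
      rw [hφi] at hi
      have hi' : j' = j := hi
      subst hi'
      refine ⟨y', ?_⟩
      show φ.symm ⟨j', y'⟩ = i
      rw [← hφi, Equiv.symm_apply_apply]
    · rintro ⟨y, rfl⟩
      show (φ (φ.symm ⟨j, y⟩)).1 = j
      rw [Equiv.apply_symm_apply]
  rw [hset, Finset.card_map, Finset.card_univ, Fintype.card_fin]

/-- (GSPLIT), local copy: a subspace splits into independent subspaces of prescribed dimensions. -/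
theorem h74_gl_split {F V : Type*} [Field F] [AddCommGroup V] [Module F V] [FiniteDimensional F V]
    (U : Submodule F V) {t : ℕ} (e : Fin t → ℕ) (hsum : ∑ j, e j = finrank F U) :
    ∃ E : Fin t → Submodule F V, IsIndepFam U E ∧ ∀ j, finrank F (E j) = e j := by
  classical
  obtain ⟨c, hc⟩ := h74_exists_colouring e hsum
  let b : Basis (Fin (finrank F U)) F U := Module.finBasis F U
  set v : Fin (finrank F U) → V := fun i => ((b i : U) : V) with hvdef
  have hv : LinearIndependent F v :=
    b.linearIndependent.map' U.subtype (Submodule.ker_subtype U)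
  have hUspan : U = Submodule.span F (Set.range v) := by
    have h := congrArg (Submodule.map U.subtype) b.span_eq
    rw [Submodule.map_subtype_top, Submodule.map_span, ← Set.range_comp] at h
    exact h.symm
  set W : Fin (finrank F U) → Submodule F V := fun i => Submodule.span F {v i} with hWdef
  have hW : IsIndepFam U W := by
    refine ⟨hv.iSupIndep_span_singleton, ?_⟩
    exact ((Submodule.span_range_eq_iSup (R := F) (v := v)).symm).trans hUspan.symm
  obtain ⟨h1, h2⟩ := Cfsg.Agent.Helper12.GLI.gl_coarsen U W hW c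
  refine ⟨_, h1, fun j => ?_⟩
  rw [h2 j]
  have h3 : ∀ k, finrank F (W k) = 1 := fun k => finrank_span_singleton (hv.ne_zero k)
  rw [Finset.sum_congr rfl (fun k _ => h3 k), Finset.sum_const, smul_eq_mul, mul_one]
  exact hc j

/-- (GJOIN), local copy: two independent families on complementary subspaces join. -/
theorem h74_gl_join {F V : Type*} [Field F] [AddCommGroup V] [Module F V] {K K' : Type*}
    (U R T : Submodule F V) (hUR : U ⊓ R = ⊥) (hsup : U ⊔ R = T)
    (E : K → Submodule F V) (W : K' → Submodule F V)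
    (hE : IsIndepFam U E) (hW : IsIndepFam R W) :
    IsIndepFam T (Sum.elim E W) := by
  have hEU : ∀ k, E k ≤ U := fun k => hE.sup ▸ le_iSup E k
  have hWR : ∀ k, W k ≤ R := fun k => hW.sup ▸ le_iSup W k
  have hdisj : Disjoint U R := disjoint_iff.mpr hUR
  refine ⟨?_, ?_⟩
  · rw [iSupIndep_def]
    rintro (k | k)
    · have h1 : Disjoint (E k) (⨆ (j) (_ : j ≠ k), E j) := (iSupIndep_def.mp hE.indep) k
      have h2 : E k ⊔ (⨆ (j) (_ : j ≠ k), E j) ≤ U :=
        sup_le (hEU k) (iSup₂_le fun j _ => hEU j)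
      have h3 : Disjoint (E k ⊔ (⨆ (j) (_ : j ≠ k), E j)) R := hdisj.mono_left h2
      have h4 := h1.disjoint_sup_right_of_disjoint_sup_left h3
      refine h4.mono_right ?_
      refine iSup₂_le ?_
      rintro (j | j) hj
      · have hjk : j ≠ k := fun h => hj (by rw [h])
        exact le_sup_of_le_left (le_iSup₂ (f := fun j (_ : j ≠ k) => E j) j hjk)
      · exact le_sup_of_le_right (hWR j)
    · have h1 : Disjoint (W k) (⨆ (j) (_ : j ≠ k), W j) := (iSupIndep_def.mp hW.indep) k
      have h2 : W k ⊔ (⨆ (j) (_ : j ≠ k), W j) ≤ R :=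
        sup_le (hWR k) (iSup₂_le fun j _ => hWR j)
      have h3 : Disjoint (W k ⊔ (⨆ (j) (_ : j ≠ k), W j)) U := hdisj.symm.mono_left h2
      have h4 := h1.disjoint_sup_right_of_disjoint_sup_left h3
      refine h4.mono_right ?_
      refine iSup₂_le ?_
      rintro (j | j) hj
      · exact le_sup_of_le_right (hEU j)
      · have hjk : j ≠ k := fun h => hj (by rw [h])
        exact le_sup_of_le_left (le_iSup₂ (f := fun j (_ : j ≠ k) => W j) j hjk)
  · rw [iSup_sum]
    simp only [Sum.elim_inl, Sum.elim_inr]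
    rw [hE.sup, hW.sup, hsup]

/-- the order of `q` modulo a prime `r ∤ q` is positive -/
theorem h74_orderOf_pos (q r : ℕ) [Fact r.Prime] (hrq : ¬ r ∣ q) :
    0 < orderOf ((q : ℕ) : ZMod r) := by
  have hr := (Fact.out : r.Prime)
  have hne : ((q : ℕ) : ZMod r) ≠ 0 := by
    intro h
    exact hrq ((ZMod.natCast_eq_zero_iff q r).1 h)
  have hpow : ((q : ℕ) : ZMod r) ^ (r - 1) = 1 := ZMod.pow_card_sub_one_eq_one hne
  have hdvd := orderOf_dvd_of_pow_eq_one hpow
  rcases Nat.eq_zero_or_pos (orderOf ((q : ℕ) : ZMod r)) with h | h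
  · rw [h] at hdvd
    have h0 := Nat.eq_zero_of_zero_dvd hdvd
    have := hr.two_le
    omega
  · exact h

/-- (GLE) = SPI (LE) without the form: (GFIX) with `W = ⊤`, (GST) on `⊤.map (x-1)`, (GSPLIT) on
`⊤ ⊓ ker (x-1)`, (GJOIN), (GCOARSE); block `k < m ≤ t * (a / c)` goes to part `k / (a / c)`. -/
theorem gl_decomp_of_arith {F V : Type*} [Field F] [Fintype F] [AddCommGroup V] [Module F V]
    [FiniteDimensional F V] (x : V →ₗ[F] V) (r : ℕ) [Fact r.Prime]
    (hr0 : (r : F) ≠ 0) (hrq : ¬ r ∣ Fintype.card F) (hxr : x ^ r = 1)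
    (a t : ℕ) (hat : finrank F V = a * t)
    (hca : orderOf ((Fintype.card F : ℕ) : ZMod r) ≤ a)
    (hk : finrank F V % orderOf ((Fintype.card F : ℕ) : ZMod r)
      = t * (a % orderOf ((Fintype.card F : ℕ) : ZMod r))) :
    ∃ D : Fin t → Submodule F V, IsIndepFam ⊤ D ∧ (∀ j, finrank F (D j) = a) ∧
      ∀ j, (D j).map x ≤ D j := by
  classical
  have hc0 := h74_orderOf_pos (Fintype.card F) r hrq
  -- Step 1: fixed / moved decomposition of the whole space
  obtain ⟨h1, h2, h6, h7⟩ :=
    Cfsg.Agent.Helper63.GLI.gl_fix_decomp x r hr0 hxr ⊤ le_top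
  -- Step 2: blocks on the moved part
  obtain ⟨m, W, hWfam, hWinv, hWdim, -⟩ :=
    Cfsg.Agent.Helper25.GLI.gl_block_decomp x r hr0 hrq hxr _ h6 h7
  generalize hcdef : orderOf ((Fintype.card F : ℕ) : ZMod r) = c at hc0 hca hk hWdim
  generalize hV0 : (⊤ : Submodule F V) ⊓ LinearMap.ker (x - 1) = V0 at h1 h2
  generalize hV1 : (⊤ : Submodule F V).map (x - 1) = V1 at h1 h2 h6 h7 hWfam
  -- dimensions
  have hdim01 : finrank F V0 + finrank F V1 = finrank F V := by
    have := Submodule.finrank_sup_add_finrank_inf_eq V0 V1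
    rw [h2, h1] at this
    simpa using this.symm
  have hdim1 : finrank F V1 = m * c := by
    obtain ⟨hfam1, hd1⟩ :=
      Cfsg.Agent.Helper12.GLI.gl_coarsen V1 W hWfam (fun _ : Fin m => (0 : Fin 1))
    have hs := hfam1.sup
    rw [iSup_unique] at hs
    rw [← hs, hd1 default]
    have : Finset.univ.filter (fun k : Fin m => (0 : Fin 1) = default) = Finset.univ :=
      Finset.filter_true_of_mem (fun _ _ => Subsingleton.elim _ _)
    rw [this]
    simp [hWdim]
  -- arithmetic
  set κ := a / c with hκdef
  have hκ : 1 ≤ κ := Nat.div_pos hca hc0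
  have hadiv : c * κ + a % c = a := Nat.div_add_mod a c
  have hρ : t * (a % c) < c := by rw [← hk]; exact Nat.mod_lt _ hc0
  have hm : m ≤ κ * t := by
    by_contra hcon
    have h' : κ * t + 1 ≤ m := by omega
    have e1 : (κ * t + 1) * c = c * κ * t + c := by ring
    have e2 : (κ * t + 1) * c ≤ m * c := Nat.mul_le_mul_right c h'
    have e3 : a * t = c * κ * t + a % c * t := by
      calc a * t = (c * κ + a % c) * t := by rw [hadiv]
        _ = c * κ * t + a % c * t := by ring
    have e4 : a % c * t = t * (a % c) := Nat.mul_comm _ _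
    omega
  let g : Fin m → Fin t := fun k =>
    ⟨k.1 / κ, (Nat.div_lt_iff_lt_mul hκ).2 (lt_of_lt_of_le k.2 (by rw [Nat.mul_comm]; exact hm))⟩
  set s : Fin t → ℕ := fun j => (Finset.univ.filter (fun k : Fin m => g k = j)).card with hsdef
  have hs_le : ∀ j, s j ≤ κ := by
    intro j
    have : s j ≤ (Finset.range κ).card := by
      apply Finset.card_le_card_of_injOn (fun k : Fin m => k.1 % κ)
      · intro k _
        simp only [Finset.coe_range, Set.mem_Iio]
        exact Nat.mod_lt _ hκ
      · intro k hk1 k' hk2 hkk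
        simp only [Finset.coe_filter, Finset.mem_univ, true_and, Set.mem_ofPred_eq] at hk1 hk2
        have q1 : k.1 / κ = k'.1 / κ := by
          have := congrArg Fin.val (hk1.trans hk2.symm)
          simpa [g] using this
        have d1 := Nat.div_add_mod k.1 κ
        have d2 := Nat.div_add_mod k'.1 κ
        simp only at hkk
        apply Fin.ext
        rw [← d1, ← d2, q1, hkk]
    simpa using this
  have hs_sum : ∑ j, s j = m := by
    have := Finset.card_eq_sum_card_fiberwise (f := g) (s := (Finset.univ : Finset (Fin m)))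
      (t := (Finset.univ : Finset (Fin t))) (fun _ _ => Finset.mem_univ _)
    simpa using this.symm
  have hsc : ∀ j, s j * c ≤ a := by
    intro j
    calc s j * c ≤ κ * c := Nat.mul_le_mul_right c (hs_le j)
      _ = c * κ := Nat.mul_comm _ _
      _ ≤ a := by omega
  set e : Fin t → ℕ := fun j => a - s j * c with hedef
  have he_sum : ∑ j, e j = finrank F V0 := by
    have h8 : ∑ j : Fin t, (e j + s j * c) = ∑ _j : Fin t, a :=
      Finset.sum_congr rfl (fun j _ => Nat.sub_add_cancel (hsc j))
    rw [Finset.sum_add_distrib, ← Finset.sum_mul, hs_sum, Finset.sum_const, Finset.card_univ,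
      Fintype.card_fin, smul_eq_mul] at h8
    have h9 : t * a = a * t := Nat.mul_comm _ _
    omega
  -- Step 5: split the fixed part
  obtain ⟨E, hE, hEdim⟩ := h74_gl_split V0 e he_sum
  -- Step 6: join
  have hjoin : IsIndepFam ⊤ (Sum.elim E W) := h74_gl_join V0 V1 ⊤ h1 h2 E W hE hWfam
  -- Step 7: coarsen
  obtain ⟨hD, hDdim⟩ :=
    Cfsg.Agent.Helper12.GLI.gl_coarsen ⊤ (Sum.elim E W) hjoin (Sum.elim id g)
  refine ⟨_, hD, ?_, ?_⟩
  · intro j
    have key : ∑ k ∈ Finset.univ.filter (fun k : Fin t ⊕ Fin m => Sum.elim id g k = j),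
          finrank F ↥(Sum.elim E W k)
        = (∑ k : Fin t, if k = j then finrank F ↥(E k) else 0) +
          ∑ k : Fin m, if g k = j then finrank F ↥(W k) else 0 := by
      rw [Finset.sum_filter, Fintype.sum_sum_type]
      rfl
    have hB' : (∑ a₂ : Fin m, if g a₂ = j then finrank F ↥(W a₂) else 0) = s j * c := by
      rw [← Finset.sum_filter, Finset.sum_congr rfl (fun k _ => hWdim k), Finset.sum_const,
        smul_eq_mul]
    have hA' : (∑ k : Fin t, if k = j then finrank F ↥(E k) else 0) = e j := by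
      rw [Finset.sum_ite_eq']
      simp [hEdim j]
    rw [hDdim j]
    refine Eq.trans ?_ (Nat.sub_add_cancel (hsc j))
    refine Eq.trans ?_ (congrArg₂ (· + ·) hA' hB')
    convert key using 2
  · intro j
    rw [Submodule.map_iSup]
    apply iSup_le
    intro k
    rw [Submodule.map_iSup]
    apply iSup_le
    intro hkj
    have hpiece : (Sum.elim E W k).map x ≤ Sum.elim E W k := by
      rcases k with k | k
      · simp only [Sum.elim_inl]
        have hle : E k ≤ V0 := by rw [← hE.sup]; exact le_iSup E k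
        rintro _ ⟨v, hv, rfl⟩
        have hv0 : v ∈ V0 := hle hv
        rw [← hV0] at hv0
        have hker : (x - 1) v = 0 := LinearMap.mem_ker.1 hv0.2
        have hxv : x v = v := by
          have : x v - v = 0 := by simpa using hker
          exact sub_eq_zero.1 this
        rw [hxv]; exact hv
      · simp only [Sum.elim_inr]
        exact hWinv k
    exact hpiece.trans (le_iSup₂_of_le k hkj le_rfl)

end Cfsg.Agent.Helper74.GLI
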