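import Cfsg.Agent.Lib.Helper53.IPDefs
import Cfsg.Agent.Lib.Helper74.IPPG

set_option autoImplicit false
set_option linter.unusedVariables false
set_option linter.unusedSectionVars false
set_option linter.style.haveILetI false

/-! IP (P1) `exists_ramified` for helper53's server (S4463): wrapper of `Helper74.IP` (IPPG). -/

namespace Cfsg.Agent.Helper74.IP

open Cfsg Cfsg.Agent.Helper53.IP Cfsg.Agent.Helper79
open scoped ComplexConjugate commutatorElement

universe u

/-- `|τ(z)|² = τ(1)²` for central `z` -/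
theorem normSq_center {Q : Type u} [Group Q] [Finite Q] (τ : IrrCharacter Q) (z : Q)
    (hz : z ∈ Subgroup.center Q) :
    Complex.normSq ((τ : Q → ℂ) z) = ((charDegree (τ : Q → ℂ) : ℕ) : ℝ) ^ 2 := by
  have h1 := irr_central_mul τ z hz z⁻¹
  rw [mul_inv_cancel, irr_inv, (irr_one_eq τ).1, Complex.mul_conj] at h1
  have : ((Complex.normSq ((τ : Q → ℂ) z) : ℝ) : ℂ) =
      ((((charDegree (τ : Q → ℂ) : ℕ) : ℝ) ^ 2 : ℝ) : ℂ) := by
    rw [← h1]; push_cast; ring
  exact Complex.ofReal_injective this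

/-- (P1) a nonabelian `p`-group all of whose proper quotients are abelian has a fully ramified character. -/
theorem exists_ramified {Q : Type u} [Group Q] [Finite Q] (p : ℕ) (hp : p.Prime)
    (hP : IsPGroup p Q) (hna : ¬ ∀ a b : Q, a * b = b * a)
    (hq : ∀ L : Subgroup Q, L.Normal → L ≠ ⊥ → commutator Q ≤ L) :
    ∃ τ : IrrCharacter Q, 1 < charDegree (τ : Q → ℂ) ∧
      (∀ x : Q, x ∉ Subgroup.center Q → (τ : Q → ℂ) x = 0) ∧
      (∀ z ∈ Subgroup.center Q,
        Complex.normSq ((τ : Q → ℂ) z) = ((charDegree (τ : Q → ℂ) : ℕ) : ℝ) ^ 2) ∧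
      (Subgroup.center Q).index = (charDegree (τ : Q → ℂ)) ^ 2 := by
  classical
  haveI : Fact p.Prime := ⟨hp⟩
  haveI : Nontrivial Q := by
    by_contra hnt
    rw [not_nontrivial_iff_subsingleton] at hnt
    exact hna (fun a b => Subsingleton.elim _ _)
  have hcen : Subgroup.center Q ≠ ⊥ := by
    have := hP.center_nontrivial
    intro h
    rw [h] at this
    exact not_nontrivial _ this
  have hle : commutator Q ≤ Subgroup.center Q := hq _ inferInstance hcen
  have hnl : ∃ τ : IrrCharacter Q, charDegree (τ : Q → ℂ) ≠ 1 := by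
    by_contra hcon
    push Not at hcon
    exact hna (Cfsg.Agent.Helper76.CD2.comm_of_all_linear hcon)
  obtain ⟨τ, hτ1⟩ := hnl
  have hτpos := (irr_one_eq τ).2
  have hker : irrKer τ = ⊥ := by
    by_contra hne
    have h1 := hq (irrKer τ) inferInstance hne
    exact hτ1 ((degree_one_iff τ).2 h1)
  have hτf : ∀ c ∈ commutator Q, c ∈ irrKer τ → c = 1 := by
    intro c _ hc
    rw [hker, Subgroup.mem_bot] at hc
    exact hc
  have hvanQ := vanish_off_center hle τ hτf
  exact ⟨τ, by omega, hvanQ, fun z hz => normSq_center τ z hz, sq_degree_eq_index_center τ hvanQ⟩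

end Cfsg.Agent.Helper74.IP
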