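import Mathlib
import Cfsg.Agent.Lib.Helper74.Jordan1

set_option autoImplicit false

/-!
# Assembling the explicit bound for linear groups: arithmetic and index lemmas
-/

namespace Cfsg.Agent.Helper74.JD

/-- if `p` does not divide `|G : H|` then the `p`-part of `|G : N|` divides `|H : H ∩ N|` -/
theorem ordProj_dvd_relIndex {G : Type*} [Group G] [Finite G] (N H : Subgroup G) (p : ℕ)
    (hp : p.Prime) (hH : ¬ p ∣ H.index) :
    p ^ (N.index.factorization p) ∣ N.relIndex H := by
  have h1 : N.index ∣ (N ⊓ H).index := Subgroup.index_dvd_of_le inf_le_left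
  have h2 : (N ⊓ H).relIndex H * H.index = (N ⊓ H).index :=
    Subgroup.relIndex_mul_index inf_le_right
  rw [Subgroup.inf_relIndex_right] at h2
  have h3 : p ^ (N.index.factorization p) ∣ N.relIndex H * H.index := by
    rw [h2]
    exact (Nat.ordProj_dvd _ _).trans h1
  have hcop : (p ^ (N.index.factorization p)).Coprime H.index :=
    Nat.Coprime.pow_left _ ((Nat.Prime.coprime_iff_not_dvd hp).mpr hH)
  exact hcop.dvd_of_dvd_mul_right h3

theorem relIndex_ne_zero' {G : Type*} [Group G] [Finite G] (N K : Subgroup G) :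
    N.relIndex K ≠ 0 := by
  rw [Subgroup.relIndex]
  exact Subgroup.index_ne_zero_of_finite

theorem relIndex_le_mul {G : Type*} [Group G] [Finite G] (N K P : Subgroup G) (hKP : K ≤ P) :
    N.relIndex P ≤ N.relIndex K * K.relIndex P := by
  have h1 : (N ⊓ K).relIndex K * K.relIndex P = (N ⊓ K).relIndex P :=
    Subgroup.relIndex_mul_relIndex _ _ _ inf_le_right hKP
  rw [Subgroup.inf_relIndex_right] at h1
  have h2 : (N ⊓ P).relIndex P ∣ (N ⊓ K).relIndex P :=
    Subgroup.relIndex_dvd_of_le_left P (inf_le_inf_left N hKP)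
  rw [Subgroup.inf_relIndex_right, ← h1] at h2
  apply Nat.le_of_dvd _ h2
  apply Nat.mul_pos
  · exact Nat.pos_of_ne_zero (relIndex_ne_zero' _ _)
  · exact Nat.pos_of_ne_zero (relIndex_ne_zero' _ _)

theorem prod_primes_factorial (n : ℕ) :
    ∏ p ∈ (Finset.range (n + 2)).filter Nat.Prime, p ^ (n.factorial.factorization p)
      = n.factorial := by
  conv_rhs => rw [← Nat.prod_factorization_pow_eq_self (Nat.factorial_ne_zero n)]
  rw [Finsupp.prod]
  symm
  apply Finset.prod_subset
  · intro p hp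
    rw [Nat.support_factorization] at hp
    have hpp := Nat.prime_of_mem_primeFactors hp
    have hdvd := Nat.dvd_of_mem_primeFactors hp
    have hle : p ≤ n := (Nat.Prime.dvd_factorial hpp).mp hdvd
    rw [Finset.mem_filter, Finset.mem_range]
    exact ⟨by omega, hpp⟩
  · intro p _ hp
    rw [Finsupp.mem_support_iff, not_not] at hp
    rw [hp, pow_zero]

theorem card_primes_le (n : ℕ) :
    ((Finset.range (n + 2)).filter Nat.Prime).card = Nat.primeCounting (n + 1) := by
  rw [Nat.primeCounting, Nat.primeCounting', Nat.count_eq_card_filter_range]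

theorem arith_bound (M n B : ℕ) (hM : M ≠ 0) (RH : ℕ) (hRH0 : RH ≠ 0) (hRH : RH ≤ B)
    (hbig : ∀ p : ℕ, p.Prime → n + 1 < p → p ^ (M.factorization p) ∣ RH)
    (hsmall : ∀ p : ℕ, p.Prime → p ≤ n + 1 → ∃ R : ℕ, R ≠ 0 ∧ p ^ (M.factorization p) ∣ R ∧
      R ≤ p ^ (n.factorial.factorization p) * B) :
    M ≤ n.factorial * B ^ (Nat.primeCounting (n + 1) + 1) := by
  classical
  have h' : ∀ p : ℕ, ∃ R : ℕ, R ≠ 0 ∧ (p.Prime → p ≤ n + 1 → p ^ (M.factorization p) ∣ R ∧
      R ≤ p ^ (n.factorial.factorization p) * B) := by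
    intro p
    by_cases h : p.Prime ∧ p ≤ n + 1
    · obtain ⟨R, h0, h1, h2⟩ := hsmall p h.1 h.2
      exact ⟨R, h0, fun _ _ => ⟨h1, h2⟩⟩
    · exact ⟨1, one_ne_zero, fun h1 h2 => absurd ⟨h1, h2⟩ h⟩
  choose R hR0 hR using h'
  set S := (Finset.range (n + 2)).filter Nat.Prime with hS
  have hT0 : (∏ p ∈ S, R p) * RH ≠ 0 := by
    apply mul_ne_zero _ hRH0
    rw [Finset.prod_ne_zero_iff]
    intro p _
    exact hR0 p
  have hdvd : M ∣ (∏ p ∈ S, R p) * RH := by
    rw [← Nat.factorization_prime_le_iff_dvd hM hT0]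
    intro p hp
    rw [← Nat.Prime.pow_dvd_iff_le_factorization hp hT0]
    by_cases hle : p ≤ n + 1
    · have hpS : p ∈ S := by
        rw [hS, Finset.mem_filter, Finset.mem_range]
        exact ⟨by omega, hp⟩
      exact ((hR p hp hle).1.trans (Finset.dvd_prod_of_mem R hpS)).trans (dvd_mul_right _ _)
    · exact (hbig p hp (by omega)).trans (dvd_mul_left _ _)
  have h1 : M ≤ (∏ p ∈ S, R p) * RH := Nat.le_of_dvd (Nat.pos_of_ne_zero hT0) hdvd
  have h2 : ∏ p ∈ S, R p ≤ ∏ p ∈ S, (p ^ (n.factorial.factorization p) * B) := by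
    apply Finset.prod_le_prod
    · intro p _; exact Nat.zero_le _
    · intro p hpS
      rw [hS, Finset.mem_filter, Finset.mem_range] at hpS
      exact (hR p hpS.2 (by omega)).2
  have h3 : ∏ p ∈ S, (p ^ (n.factorial.factorization p) * B)
      = n.factorial * B ^ (Nat.primeCounting (n + 1)) := by
    rw [Finset.prod_mul_distrib, Finset.prod_const, hS, prod_primes_factorial, card_primes_le]
  calc M ≤ (∏ p ∈ S, R p) * RH := h1
    _ ≤ (n.factorial * B ^ (Nat.primeCounting (n + 1))) * B := by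
        rw [← h3]
        exact Nat.mul_le_mul h2 hRH
    _ = n.factorial * B ^ (Nat.primeCounting (n + 1) + 1) := by
        rw [pow_succ, mul_assoc]

/-- **Sylow part**: for a linear group `G` of degree `n`, every Sylow `p`-subgroup `P` contains
an abelian subgroup `K` with `|P : K|` dividing `p ^ ν_p(n!)`. -/
theorem sylow_abelian {G : Type*} [Group G] [Finite G] {E : Type*}
    [AddCommGroup E] [Module ℂ E] [FiniteDimensional ℂ E]
    (ρ : Representation ℂ G E) (hinj : Function.Injective ρ) (p : ℕ) [hp : Fact p.Prime]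
    (P : Sylow p G) :
    ∃ K : Subgroup G, K ≤ P ∧ (∀ x ∈ K, ∀ y ∈ K, x * y = y * x) ∧
      K.relIndex P ∣ p ^ ((Module.finrank ℂ E).factorial.factorization p) := by
  let ρ' : Representation ℂ (P : Subgroup G) E := ρ.comp (P : Subgroup G).subtype
  have hinj' : Function.Injective ρ' := by
    intro x y hxy
    exact Subtype.ext (hinj hxy)
  obtain ⟨K', hab, hdvd⟩ := exists_abelian_index_dvd_factorial ρ' hinj' p P.isPGroup'
  refine ⟨K'.map (P : Subgroup G).subtype, ?_, ?_, ?_⟩
  · intro x hx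
    obtain ⟨y, _, rfl⟩ := hx
    exact y.2
  · intro x hx y hy
    obtain ⟨x', hx', rfl⟩ := hx
    obtain ⟨y', hy', rfl⟩ := hy
    rw [← map_mul, ← map_mul, hab x' hx' y' hy']
  · have h1 : (K'.map (P : Subgroup G).subtype).relIndex P = K'.index := by
      rw [Subgroup.relIndex, Subgroup.subgroupOf,
        Subgroup.comap_map_eq_self_of_injective (Subgroup.subtype_injective _)]
    rw [h1]
    obtain ⟨a, ha⟩ := (IsPGroup.iff_card (p := p)).mp P.isPGroup'
    have h2 : K'.index ∣ p ^ a := ha ▸ K'.index_dvd_card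
    obtain ⟨b, _, hb⟩ := (Nat.dvd_prime_pow hp.out).mp h2
    rw [hb] at hdvd ⊢
    have := (Nat.Prime.pow_dvd_iff_le_factorization hp.out (Nat.factorial_ne_zero _)).mp hdvd
    exact pow_dvd_pow p this

/-- **The explicit bound.**  If `N` is a subgroup of the linear group `G` of degree `n` with
`|H : H ∩ N| ≤ B` for all abelian subgroups `H`, and `G` has an abelian subgroup `H₀` whose index is
divisible by primes `≤ n + 1` only, then `|G : N| ≤ n! B^(π(n+1)+1)`. -/
theorem index_le_of_uniform {G : Type*} [Group G] [Finite G] {E : Type*}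
    [AddCommGroup E] [Module ℂ E] [FiniteDimensional ℂ E]
    (ρ : Representation ℂ G E) (hinj : Function.Injective ρ) (n : ℕ)
    (hn : Module.finrank ℂ E = n) (N : Subgroup G) (B : ℕ)
    (hN : ∀ H : Subgroup G, (∀ x ∈ H, ∀ y ∈ H, x * y = y * x) → (N.subgroupOf H).index ≤ B)
    (H₀ : Subgroup G) (hH₀ : ∀ x ∈ H₀, ∀ y ∈ H₀, x * y = y * x)
    (hH₀i : ∀ q : ℕ, q.Prime → q ∣ H₀.index → q ≤ n + 1) :
    N.index ≤ n.factorial * B ^ (Nat.primeCounting (n + 1) + 1) := by
  apply arith_bound N.index n B Subgroup.index_ne_zero_of_finite (N.relIndex H₀)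
    (relIndex_ne_zero' _ _) (hN H₀ hH₀)
  · intro p hp hlt
    apply ordProj_dvd_relIndex N H₀ p hp
    intro hdvd
    have := hH₀i p hp hdvd
    omega
  · intro p hp _
    have : Fact p.Prime := ⟨hp⟩
    obtain P : Sylow p G := default
    obtain ⟨K, hKP, hKab, hKi⟩ := sylow_abelian ρ hinj p P
    refine ⟨N.relIndex P, relIndex_ne_zero' _ _, ?_, ?_⟩
    · exact ordProj_dvd_relIndex N P p hp P.not_dvd_index
    · rw [hn] at hKi
      calc N.relIndex P ≤ N.relIndex K * K.relIndex P := relIndex_le_mul N K P hKP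
        _ ≤ B * p ^ (n.factorial.factorization p) := by
            apply Nat.mul_le_mul (hN K hKab)
            exact Nat.le_of_dvd (pow_pos hp.pos _) hKi
        _ = p ^ (n.factorial.factorization p) * B := mul_comm _ _

end Cfsg.Agent.Helper74.JD
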