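import Mathlib

/-!
# Groups of order `4 · odd` without a normal `2`-complement (helper74)

Pure group theory: if `|G| = 4 g₀` with `g₀` odd and `G` has no normal subgroup of order `g₀`,
then (Burnside's transfer theorem) a Sylow `2`-subgroup is a Klein four group all of whose
involutions are conjugate in `G`; hence `G` has a single class of involutions.
-/

set_option autoImplicit false
set_option linter.unusedSectionVars false
set_option linter.style.haveILetI false

namespace Cfsg.Agent.Helper74.KG

universe u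

section basic

variable {G : Type u} [Group G] [Finite G]

/-- Sylow: every `p`-element is conjugate into a given Sylow `p`-subgroup. -/
theorem exists_conj_mem_sylow {p : ℕ} [Fact p.Prime] (P : Sylow p G) (x : G)
    (hx : ∃ k : ℕ, orderOf x = p ^ k) : ∃ g : G, g * x * g⁻¹ ∈ (P : Subgroup G) := by
  obtain ⟨k, hk⟩ := hx
  have hpg : IsPGroup p (Subgroup.zpowers x) := by
    apply IsPGroup.of_card (n := k)
    rw [Nat.card_zpowers, hk]
  obtain ⟨Q, hQ⟩ := hpg.exists_le_sylow
  obtain ⟨g, hg⟩ := MulAction.exists_smul_eq G Q P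
  refine ⟨g, ?_⟩
  have hxQ : x ∈ (Q : Subgroup G) := hQ (Subgroup.mem_zpowers x)
  have h := Subgroup.smul_mem_pointwise_smul x (MulAut.conj g) (Q : Subgroup G) hxQ
  rw [← Sylow.coe_subgroup_smul, hg] at h
  simpa [MulAut.smul_def] using h

/-- four distinct elements exhaust a type with four elements -/
theorem eq_of_card_four {Q : Type*} [Finite Q] (h4 : Nat.card Q = 4) (a b c d : Q)
    (hab : a ≠ b) (hac : a ≠ c) (had : a ≠ d) (hbc : b ≠ c) (hbd : b ≠ d) (hcd : c ≠ d) (r : Q) :
    r = a ∨ r = b ∨ r = c ∨ r = d := by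
  classical
  letI : Fintype Q := Fintype.ofFinite Q
  have hcard : ({a, b, c, d} : Finset Q).card = 4 := by
    rw [Finset.card_insert_of_notMem, Finset.card_insert_of_notMem, Finset.card_insert_of_notMem,
      Finset.card_singleton]
    · rw [Finset.mem_singleton]; exact hcd
    · rw [Finset.mem_insert, Finset.mem_singleton]
      rintro (h | h)
      · exact hbc h
      · exact hbd h
    · rw [Finset.mem_insert, Finset.mem_insert, Finset.mem_singleton]
      rintro (h | h | h)
      · exact hab h
      · exact hac h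
      · exact had h
  have huniv : ({a, b, c, d} : Finset Q) = Finset.univ := by
    apply Finset.eq_univ_of_card
    rw [hcard, ← Nat.card_eq_fintype_card, h4]
  have hr : r ∈ ({a, b, c, d} : Finset Q) := by rw [huniv]; exact Finset.mem_univ r
  simpa [Finset.mem_insert, Finset.mem_singleton] using hr

/-- the elements of a group of order four and exponent two -/
theorem eq_of_klein {Q : Type*} [Group Q] [Finite Q] (h4 : Nat.card Q = 4) (z q : Q)
    (hz : z ≠ 1) (hq1 : q ≠ 1) (hqz : q ≠ z) (hzz : z * z = 1) (r : Q) :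
    r = 1 ∨ r = z ∨ r = q ∨ r = z * q := by
  apply eq_of_card_four h4 1 z q (z * q) (Ne.symm hz) (Ne.symm hq1)
  · intro h
    apply hqz
    calc q = (z * z) * q := by rw [hzz, one_mul]
      _ = z * (z * q) := by rw [mul_assoc]
      _ = z := by rw [← h, mul_one]
  · exact Ne.symm hqz
  · intro h
    apply hq1
    have : z * 1 = z * q := by rw [mul_one]; exact h
    exact (mul_left_cancel this).symm
  · intro h
    apply hz
    have : 1 * q = z * q := by rw [one_mul]; exact h
    exact (mul_right_cancel this).symm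

/-- the odd order trick: in the normalizer of an abelian Sylow `2`-subgroup `P`, an element whose
square centralizes `u ∈ P` centralizes `u`. -/
theorem commute_of_sq_commute (P : Sylow 2 G)
    (hab : ∀ a ∈ (P : Subgroup G), ∀ b ∈ (P : Subgroup G), a * b = b * a) (n : G)
    (hn : n ∈ Subgroup.normalizer ((P : Subgroup G) : Set G)) (u : G) (hu : u ∈ (P : Subgroup G))
    (h2 : n ^ 2 * u = u * n ^ 2) : n * u = u * n := by
  haveI : Fact (Nat.Prime 2) := ⟨Nat.prime_two⟩
  obtain ⟨k, m, hm, hkm⟩ := Nat.exists_eq_two_pow_mul_odd (orderOf_pos n).ne'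
  -- `n ^ m` is a `2`-element
  have hpow : (n ^ m) ^ 2 ^ k = 1 := by
    rw [← pow_mul, mul_comm, ← hkm]
    exact pow_orderOf_eq_one n
  have hpg : IsPGroup 2 (Subgroup.zpowers (n ^ m)) := by
    obtain ⟨j, _, hj⟩ := (Nat.dvd_prime_pow Nat.prime_two).1 (orderOf_dvd_of_pow_eq_one hpow)
    apply IsPGroup.of_card (n := j)
    rw [Nat.card_zpowers, hj]
  have hmem : n ^ m ∈ Subgroup.zpowers (n ^ m) ⊓ Subgroup.normalizer (P : Set G) :=
    ⟨Subgroup.mem_zpowers _, Subgroup.pow_mem _ hn m⟩
  rw [hpg.inf_normalizer_sylow P] at hmem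
  have hnmP : n ^ m ∈ (P : Subgroup G) := hmem.2
  have hc1 : n ^ m * u = u * n ^ m := hab _ hnmP _ hu
  obtain ⟨j, hj⟩ := hm
  have hc2 : Commute (n ^ (2 * j)) u := by
    rw [pow_mul]
    exact (show Commute (n ^ 2) u from h2).pow_left j
  have h3 : n ^ (2 * j) * (n * u) = n ^ (2 * j) * (u * n) := by
    calc n ^ (2 * j) * (n * u) = n ^ m * u := by rw [hj, pow_succ, mul_assoc]
      _ = u * n ^ m := hc1
      _ = (u * n ^ (2 * j)) * n := by rw [hj, pow_succ, mul_assoc]
      _ = (n ^ (2 * j) * u) * n := by rw [hc2.eq]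
      _ = n ^ (2 * j) * (u * n) := by rw [mul_assoc]
  exact mul_left_cancel h3

end basic

section main

variable {G : Type u} [Group G] [Finite G]

/-- **Burnside**: a group of order `4 · odd` with no normal `2`-complement has Klein four Sylow
`2`-subgroups and a single class of involutions. -/
theorem klein_of_no_normal_complement (g₀ : ℕ) (hg₀ : Odd g₀) (hG : Nat.card G = 4 * g₀)
    (hnc : ¬ ∃ N : Subgroup G, N.Normal ∧ Nat.card N = g₀) (P : Sylow 2 G) (J : G)
    (hJ : J ∈ (P : Subgroup G)) (hJ2 : orderOf J = 2) :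
    Nat.card P = 4 ∧ (∀ x : P, x * x = 1) ∧
      (∀ s t : G, orderOf s = 2 → orderOf t = 2 → IsConj s t) := by
  classical
  haveI : Fact (Nat.Prime 2) := ⟨Nat.prime_two⟩
  have hg₀pos : g₀ ≠ 0 := (Odd.pos hg₀).ne'
  have hfac : (4 * g₀).factorization 2 = 2 := by
    rw [Nat.factorization_mul (by norm_num) hg₀pos, Finsupp.add_apply]
    have h1 : (4 : ℕ).factorization 2 = 2 := by
      have h4 : (4 : ℕ) = 2 ^ 2 := by norm_num
      rw [h4, Nat.Prime.factorization_pow Nat.prime_two, Finsupp.single_eq_same]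
    have h2 : g₀.factorization 2 = 0 := by
      apply Nat.factorization_eq_zero_of_not_dvd
      rw [← even_iff_two_dvd, Nat.not_even_iff_odd]
      exact hg₀
    rw [h1, h2]
  have hP4 : Nat.card P = 4 := by
    rw [Sylow.card_eq_multiplicity P, hG, hfac]
    norm_num
  have hP4' : Nat.card (P : Subgroup G) = 4 := hP4
  have hcomm : IsMulCommutative (P : Subgroup G) :=
    IsPGroup.isMulCommutative_of_card_eq_prime_sq (p := 2) (by rw [hP4']; norm_num)
  have hab : ∀ a ∈ (P : Subgroup G), ∀ b ∈ (P : Subgroup G), a * b = b * a := by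
    intro a ha b hb
    have := hcomm.is_comm.comm (⟨a, ha⟩ : (P : Subgroup G)) ⟨b, hb⟩
    exact congrArg Subtype.val this
  -- Burnside
  have hNC : ¬ Subgroup.normalizer ((P : Subgroup G) : Set G) ≤ Subgroup.centralizer (P : Set G) := by
    intro hNC
    apply hnc
    refine ⟨(MonoidHom.transferSylow P hNC).ker, inferInstance, ?_⟩
    have h := (MonoidHom.ker_transferSylow_isComplement' P hNC).card_mul_card
    rw [hP4', hG] at h
    omega
  obtain ⟨n, hnN, hnC⟩ := SetLike.not_le_iff_exists.1 hNC
  rw [Subgroup.mem_centralizer_iff] at hnC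
  push Not at hnC
  obtain ⟨u, huP, hun⟩ := hnC
  have huP' : u ∈ (P : Subgroup G) := huP
  have hnorm := Subgroup.mem_normalizer_iff.1 hnN
  obtain ⟨v, hvdef⟩ : ∃ v : G, v = n * u * n⁻¹ := ⟨_, rfl⟩
  obtain ⟨w, hwdef⟩ : ∃ w : G, w = n * v * n⁻¹ := ⟨_, rfl⟩
  have hvP : v ∈ (P : Subgroup G) := by rw [hvdef]; exact (hnorm u).1 huP'
  have hwP : w ∈ (P : Subgroup G) := by rw [hwdef]; exact (hnorm v).1 hvP
  have hu1 : u ≠ 1 := by
    intro h
    apply hun
    rw [h, one_mul, mul_one]
  have hvu : v ≠ u := by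
    intro h
    apply hun
    rw [hvdef] at h
    have : n * u = u * n := by
      calc n * u = (n * u * n⁻¹) * n := by group
        _ = u * n := by rw [h]
    exact this.symm
  have hv1 : v ≠ 1 := by
    intro h
    apply hu1
    rw [hvdef] at h
    calc u = n⁻¹ * (n * u * n⁻¹) * n := by group
      _ = 1 := by rw [h]; group
  have hwv : w ≠ v := by
    intro h
    apply hvu
    rw [hwdef] at h
    nth_rewrite 2 [hvdef] at h
    have h' : n * v = n * u := by
      calc n * v = (n * v * n⁻¹) * n := by group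
        _ = (n * u * n⁻¹) * n := by rw [h]
        _ = n * u := by group
    exact mul_left_cancel h'
  have hw1 : w ≠ 1 := by
    intro h
    apply hv1
    rw [hwdef] at h
    calc v = n⁻¹ * (n * v * n⁻¹) * n := by group
      _ = 1 := by rw [h]; group
  have hwu : w ≠ u := by
    intro h
    apply hun
    have h2 : n ^ 2 * u = u * n ^ 2 := by
      rw [hwdef, hvdef] at h
      have h' : n * (n * u * n⁻¹) * n⁻¹ * (n * n) = u * (n * n) := by rw [h]
      have h'' : n * (n * u * n⁻¹) * n⁻¹ * (n * n) = n * n * u := by group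
      rw [pow_two, ← h'', h']
    exact (commute_of_sq_commute P hab n hnN u huP' h2).symm
  -- the four elements of `P`
  have hall : ∀ r ∈ (P : Subgroup G), r = 1 ∨ r = u ∨ r = v ∨ r = w := by
    intro r hr
    have h := eq_of_card_four hP4' (1 : (P : Subgroup G)) ⟨u, huP'⟩ ⟨v, hvP⟩ ⟨w, hwP⟩
      (fun h => hu1 (congrArg Subtype.val h).symm)
      (fun h => hv1 (congrArg Subtype.val h).symm)
      (fun h => hw1 (congrArg Subtype.val h).symm)
      (fun h => hvu (congrArg Subtype.val h).symm)
      (fun h => hwu (congrArg Subtype.val h).symm)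
      (fun h => hwv (congrArg Subtype.val h).symm) ⟨r, hr⟩
    rcases h with h | h | h | h
    · exact Or.inl (congrArg Subtype.val h)
    · exact Or.inr (Or.inl (congrArg Subtype.val h))
    · exact Or.inr (Or.inr (Or.inl (congrArg Subtype.val h)))
    · exact Or.inr (Or.inr (Or.inr (congrArg Subtype.val h)))
  have huv : IsConj u v := isConj_iff.2 ⟨n, hvdef.symm⟩
  have hvw : IsConj v w := isConj_iff.2 ⟨n, hwdef.symm⟩
  have hconj_u : ∀ r ∈ (P : Subgroup G), r ≠ 1 → IsConj u r := by
    intro r hr hr1
    rcases hall r hr with h | h | h | h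
    · exact absurd h hr1
    · rw [h]
    · rw [h]; exact huv
    · rw [h]; exact huv.trans hvw
  have hJ1 : J ≠ 1 := by
    intro h
    rw [h, orderOf_one] at hJ2
    norm_num at hJ2
  have huJ : IsConj u J := hconj_u J hJ hJ1
  have hconj : ∀ r ∈ (P : Subgroup G), r ≠ 1 → IsConj r J := fun r hr hr1 =>
    (hconj_u r hr hr1).symm.trans huJ
  have hord : ∀ r ∈ (P : Subgroup G), r ≠ 1 → orderOf r = 2 := by
    intro r hr hr1
    obtain ⟨c, hc⟩ := isConj_iff.1 (hconj r hr hr1)
    rw [← hJ2, ← hc]
    exact ((MulAut.conj c).orderOf_eq r).symm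
  refine ⟨hP4, ?_, ?_⟩
  · intro x
    by_cases hx : (x : G) = 1
    · have : x = 1 := Subtype.ext hx
      rw [this, one_mul]
    · have h := hord x x.2 hx
      apply Subtype.ext
      have : (x : G) ^ 2 = 1 := by
        have h' := pow_orderOf_eq_one (x : G)
        rwa [h] at h'
      rw [pow_two] at this
      exact_mod_cast this
  · have hinv : ∀ s : G, orderOf s = 2 → IsConj s J := by
      intro s hs
      obtain ⟨g, hg⟩ := exists_conj_mem_sylow P s ⟨1, by rw [hs, pow_one]⟩
      have hs1 : s ≠ 1 := by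
        intro h
        rw [h, orderOf_one] at hs
        norm_num at hs
      have hg1 : g * s * g⁻¹ ≠ 1 := by
        intro h
        apply hs1
        calc s = g⁻¹ * (g * s * g⁻¹) * g := by group
          _ = 1 := by rw [h]; group
      exact (isConj_iff.2 ⟨g, rfl⟩ : IsConj s (g * s * g⁻¹)).trans (hconj _ hg hg1)
    intro s t hs ht
    exact (hinv s hs).trans (hinv t ht).symm

end main

end Cfsg.Agent.Helper74.KG
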