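import Mathlib
import Cfsg.Prelude.Def_Blocks
import Cfsg.Agent.Lib.Helper77.MinMax
import Cfsg.Agent.Lib.Helper77.Principal
import Cfsg.Agent.Lib.Helper16.Osima
import Cfsg.Agent.Lib.Helper80.ConjIrr

/-!
# Real 2-blocks of full defect (helper74)

* `two_dvd_index_of_real` : a nontrivial real element of odd order has an even class.
* `sum_mem_of_involution` : a sum over a finite type with an involution lies in an additive
  subgroup when fixed terms do and paired terms sum into it.
* `real_block_full_defect` : a 2-block of full defect closed under complex conjugation is the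
  principal block.
-/

set_option autoImplicit false
set_option linter.unusedSectionVars false
set_option linter.style.haveILetI false

namespace Cfsg.Agent.Helper74.RB

open Cfsg
open scoped ComplexConjugate

universe u

section grp

variable {G : Type u} [Group G]

theorem isConj_inv_inv {a b : G} (h : IsConj a b) : IsConj a⁻¹ b⁻¹ := by
  obtain ⟨c, hc⟩ := isConj_iff.1 h
  refine isConj_iff.2 ⟨c, ?_⟩
  rw [← hc]
  group

/-- A nontrivial element of odd order conjugate to its inverse has a class of even size. -/
theorem two_dvd_index_of_real [Finite G] (k : G) (hodd : ¬ 2 ∣ orderOf k) (hreal : IsConj k k⁻¹)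
    (hk : k ≠ 1) : 2 ∣ (Subgroup.centralizer ({k} : Set G)).index := by
  classical
  have := Fintype.ofFinite G
  by_contra hnd
  rw [← Cfsg.Agent.Helper77.card_isConj_eq_index, Nat.card_eq_fintype_card] at hnd
  have hmem : ∀ h : {h : G // IsConj k h}, IsConj k (h : G)⁻¹ := fun h =>
    hreal.trans (isConj_inv_inv h.2)
  let σ : Equiv.Perm {h : G // IsConj k h} :=
    { toFun := fun h => ⟨(h : G)⁻¹, hmem h⟩
      invFun := fun h => ⟨(h : G)⁻¹, hmem h⟩
      left_inv := fun h => Subtype.ext (inv_inv _)
      right_inv := fun h => Subtype.ext (inv_inv _) }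
  have hσ : σ ^ 2 ^ 1 = 1 := by
    ext h
    simp [σ, pow_two]
  haveI : Fact (Nat.Prime 2) := ⟨Nat.prime_two⟩
  obtain ⟨h, hh⟩ := Equiv.Perm.exists_fixed_point_of_prime hnd hσ
  have h1 : (h : G)⁻¹ = (h : G) := congrArg Subtype.val hh
  have h2 : (h : G) ^ 2 = 1 := by
    rw [pow_two]
    nth_rewrite 1 [← h1]
    exact inv_mul_cancel _
  have h3 : orderOf (h : G) ∣ 2 := orderOf_dvd_of_pow_eq_one h2
  obtain ⟨c, hc⟩ := isConj_iff.1 h.2
  have h4 : orderOf (h : G) = orderOf k := by
    rw [← hc]
    exact orderOf_injective (MulAut.conj c).toMonoidHom (MulAut.conj c).injective k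
  rw [h4] at h3
  have h5 : orderOf k = 1 := by
    rcases (Nat.dvd_prime Nat.prime_two).1 h3 with h | h
    · exact h
    · exact absurd (h ▸ dvd_refl _) hodd
  exact hk (orderOf_eq_one_iff.1 h5)

end grp

section invol

theorem sum_mem_of_involution {X : Type*} [Fintype X] [DecidableEq X] (I : AddSubgroup ℂ)
    (σ : X → X) (hσ : ∀ x, σ (σ x) = x) (F : X → ℂ) (hfix : ∀ x, σ x = x → F x ∈ I)
    (hpair : ∀ x, F x + F (σ x) ∈ I) : ∑ x, F x ∈ I := by
  rw [← QuotientAddGroup.eq_zero_iff, QuotientAddGroup.mk_sum]
  refine Finset.sum_involution (fun x _ => σ x) ?_ ?_ (fun _ _ => Finset.mem_univ _)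
    (fun x _ => hσ x)
  · intro x _
    rw [← QuotientAddGroup.mk_add, QuotientAddGroup.eq_zero_iff]
    exact hpair x
  · intro x _ hx hfx
    apply hx
    rw [QuotientAddGroup.eq_zero_iff]
    exact hfix x hfx

end invol


section main

open Cfsg.Agent.Helper77 Cfsg.Agent.Helper80

variable {G : Type u} [Group G] [Fintype G] {M : Ideal AlgInt}

/-- The local ideal as an additive subgroup of `ℂ`. -/
def localIdeal (M : Ideal AlgInt) [hp : M.IsPrime] : AddSubgroup ℂ where
  carrier := {z | MemLocalIdeal M z}
  zero_mem' := memLocalIdeal_zero hp.ne_top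
  add_mem' := fun ha hb => memLocalIdeal_add ha hb
  neg_mem' := fun ha => memLocalIdeal_neg ha

theorem mem_localIdeal [hp : M.IsPrime] (z : ℂ) : z ∈ localIdeal M ↔ MemLocalIdeal M z := Iff.rfl

theorem classFunction_of_isConj {f : G → ℂ} (hf : IsClassFunction G f) {x y : G}
    (h : IsConj x y) : f x = f y := by
  obtain ⟨c, hc⟩ := isConj_iff.1 h
  rw [← hc, hf]

theorem centralizer_inv (g : G) :
    Subgroup.centralizer ({g⁻¹} : Set G) = Subgroup.centralizer ({g} : Set G) := by
  ext x
  simp only [Subgroup.mem_centralizer_iff, Set.mem_singleton_iff, forall_eq]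
  constructor
  · intro h
    have : x * g⁻¹ = g⁻¹ * x := h.symm
    calc g * x = g * (x * g⁻¹) * g := by group
      _ = g * (g⁻¹ * x) * g := by rw [this]
      _ = x * g := by group
  · intro h
    have : x * g = g * x := h.symm
    calc g⁻¹ * x = g⁻¹ * (x * g) * g⁻¹ := by group
      _ = g⁻¹ * (g * x) * g⁻¹ := by rw [this]
      _ = x * g⁻¹ := by group

theorem centralChar_inv (χ : IrrCharacter G) (g : G) :
    centralChar (χ : G → ℂ) g⁻¹ = centralChar (cconjIrr χ : G → ℂ) g := by
  unfold centralChar
  rw [centralizer_inv, Cfsg.Agent.Helper79.irr_inv, cconjIrr_apply, cconjIrr_apply,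
    ← Cfsg.Agent.Helper79.irr_inv χ 1, inv_one]

theorem centralChar_one (χ : IrrCharacter G) : centralChar (χ : G → ℂ) 1 = 1 := by
  unfold centralChar
  have h1 : Subgroup.centralizer ({1} : Set G) = ⊤ := by
    rw [Subgroup.centralizer_eq_top_iff_subset]
    intro x hx
    rw [Set.mem_singleton_iff] at hx
    subst hx
    exact Subgroup.one_mem _
  rw [h1, Subgroup.index_top, Nat.cast_one, one_mul,
    div_self (Cfsg.Agent.Helper79.irr_one_ne_zero χ)]

/-- A set of irreducible characters closed under complex conjugation has an idempotent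
coefficient function invariant under inversion. -/
theorem blockCoeff_inv {B : Set (IrrCharacter G)} (hbar : ∀ χ ∈ B, cconjIrr χ ∈ B) (g : G) :
    blockCoeff B g⁻¹ = blockCoeff B g := by
  rw [blockCoeff_eq_sum, blockCoeff_eq_sum]
  congr 1
  refine Finset.sum_nbij' (fun χ => cconjIrr χ) (fun χ => cconjIrr χ) ?_ ?_ ?_ ?_ ?_
  · intro χ hχ
    rw [Set.Finite.mem_toFinset] at hχ ⊢
    exact hbar χ hχ
  · intro χ hχ
    rw [Set.Finite.mem_toFinset] at hχ ⊢
    exact hbar χ hχ
  · intro χ _
    exact cconjIrr_cconjIrr χ
  · intro χ _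
    exact cconjIrr_cconjIrr χ
  · intro χ _
    rw [cconjIrr_apply, cconjIrr_apply, Cfsg.Agent.Helper79.irr_inv, Complex.conj_conj,
      ← Cfsg.Agent.Helper79.irr_inv χ 1, inv_one]

/-- The inverse class. -/
noncomputable def invClass (K : ConjClasses G) : ConjClasses G :=
  ConjClasses.mk (Quotient.out K)⁻¹

theorem out_invClass (K : ConjClasses G) :
    IsConj (Quotient.out (invClass K)) (Quotient.out K)⁻¹ := by
  rw [← ConjClasses.mk_eq_mk_iff_isConj, mk_out_conjClasses]
  rfl

theorem invClass_invClass (K : ConjClasses G) : invClass (invClass K) = K := by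
  have h := isConj_inv_inv (out_invClass K)
  rw [inv_inv] at h
  unfold invClass at h ⊢
  rw [ConjClasses.mk_eq_mk_iff_isConj.2 h, mk_out_conjClasses]

theorem isConj_of_invClass_eq {K : ConjClasses G} (h : invClass K = K) :
    IsConj (Quotient.out K) (Quotient.out K)⁻¹ := by
  rw [← ConjClasses.mk_eq_mk_iff_isConj, mk_out_conjClasses]
  exact h.symm

/-- **Real 2-blocks of full defect**: a 2-block whose defect groups are Sylow 2-subgroups and
which is closed under complex conjugation is the principal block. -/
theorem real_block_full_defect (hM : IsPModular 2 M) {B : Set (IrrCharacter G)}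
    (hB : IsPBlock M B) (P : Sylow 2 G) (hfull : IsDefectGroup 2 M B (P : Subgroup G))
    (hbar : ∀ χ ∈ B, cconjIrr χ ∈ B) : B = principalBlock M G := by
  classical
  by_contra hnp
  haveI hp := isPrime_of_isPModular hM
  haveI : Fact (Nat.Prime 2) := ⟨Nat.prime_two⟩
  haveI : Fintype (ConjClasses G) := Fintype.ofFinite _
  obtain ⟨χ, hχ⟩ := nonempty_of_isPBlock hB
  have htriv : trivIrr G ∉ B := fun h =>
    hnp (eq_of_isPBlock_of_mem hB (isPBlock_principalBlock M) h (trivIrr_mem_principalBlock M))
  have ha_cl := isClassFunction_blockCoeff B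
  have hχcl := isClassFunction_of_isIrrCharacter χ.2
  have htcl := isClassFunction_of_isIrrCharacter (trivIrr G).2
  have h1 : omega (χ : G → ℂ) (blockCoeff B) = 1 := by rw [omega_blockCoeff, if_pos hχ]
  have h0 : omega (trivIrr G : G → ℂ) (blockCoeff B) = 0 := by
    rw [omega_blockCoeff, if_neg htriv]
  set F : ConjClasses G → ℂ := fun K => blockCoeff B (Quotient.out K) *
    (centralChar (χ : G → ℂ) (Quotient.out K) - centralChar (trivIrr G : G → ℂ) (Quotient.out K))
    with hF
  have hdiff : omega (χ : G → ℂ) (blockCoeff B) - omega (trivIrr G : G → ℂ) (blockCoeff B) =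
      ∑ K : ConjClasses G, F K := by
    rw [omega_eq_sum_conjClasses hχcl ha_cl, omega_eq_sum_conjClasses htcl ha_cl,
      ← Finset.sum_sub_distrib]
    refine Finset.sum_congr rfl fun K _ => ?_
    rw [hF]
    ring
  obtain ⟨g₀, hg₀, P₀, hP₀⟩ := hfull
  have hPle : (P : Subgroup G) ≤ Subgroup.centralizer ({g₀} : Set G) := by
    rw [hP₀]
    exact sylow_map_le_centralizer g₀ P₀
  have hGpos : Nat.card G ≠ 0 := Nat.card_pos.ne'
  -- nonvanishing central character forces an odd class
  have hodd_of : ∀ k : G, ¬ MemLocalIdeal M (centralChar (χ : G → ℂ) k) →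
      ¬ 2 ∣ (Subgroup.centralizer ({k} : Set G)).index := by
    intro k hk h2
    obtain ⟨D⟩ : Nonempty (Sylow 2 (Subgroup.centralizer ({k} : Set G))) := inferInstance
    have hdef := defectLE_blockCoeff hM hB k D hχ hk
    obtain ⟨x, hx⟩ := hdef g₀ hg₀.2.1 (P : Subgroup G) P.isPGroup' hPle
    have hle : (P : Subgroup G).map (MulAut.conj x).toMonoidHom ≤
        Subgroup.centralizer ({k} : Set G) := hx.trans (sylow_map_le_centralizer k D)
    have hcard : Nat.card ((P : Subgroup G).map (MulAut.conj x).toMonoidHom) =
        2 ^ (Nat.card G).factorization 2 := by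
      rw [Subgroup.card_map_of_injective (MulAut.conj x).injective]
      exact P.card_eq_multiplicity
    have hdvd : 2 ^ (Nat.card G).factorization 2 ∣
        Nat.card (Subgroup.centralizer ({k} : Set G)) := by
      rw [← hcard]
      exact Subgroup.card_dvd_of_le hle
    have hmul := Subgroup.card_mul_index (Subgroup.centralizer ({k} : Set G))
    have : 2 ^ ((Nat.card G).factorization 2 + 1) ∣ Nat.card G := by
      rw [pow_succ]
      calc 2 ^ (Nat.card G).factorization 2 * 2 ∣
          Nat.card (Subgroup.centralizer ({k} : Set G)) *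
            (Subgroup.centralizer ({k} : Set G)).index := mul_dvd_mul hdvd h2
        _ = Nat.card G := hmul
    exact Nat.pow_succ_factorization_not_dvd hGpos Nat.prime_two this
  have h2I : MemLocalIdeal M (2 : ℂ) := by
    have := (memLocalIdeal_natCast_iff hM 2).2 (dvd_refl 2)
    simpa using this
  have hmem : ∑ K : ConjClasses G, F K ∈ localIdeal M := by
    refine sum_mem_of_involution (localIdeal M) invClass invClass_invClass F ?_ ?_
    · -- fixed classes
      intro K hK
      rw [mem_localIdeal, hF]
      simp only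
      have hreal := isConj_of_invClass_eq hK
      by_cases hk1 : Quotient.out K = 1
      · rw [hk1, centralChar_one, centralChar_one, sub_self, mul_zero]
        exact memLocalIdeal_zero hp.ne_top
      by_cases h2 : 2 ∣ orderOf (Quotient.out K)
      · rw [Cfsg.Agent.Helper16.blockCoeff_eq_zero_of_singular hM hB _ h2, zero_mul]
        exact memLocalIdeal_zero hp.ne_top
      have heven := two_dvd_index_of_real (Quotient.out K) h2 hreal hk1
      apply memLocalIdeal_mul_left (memLocalRing_blockCoeff hB _)
      apply memLocalIdeal_sub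
      · by_contra hnot
        exact hodd_of _ hnot heven
      · rw [centralChar_trivIrr]
        exact (memLocalIdeal_natCast_iff hM _).2 heven
    · -- paired classes
      intro K
      rw [mem_localIdeal, hF]
      simp only
      have hc := out_invClass K
      rw [classFunction_of_isConj ha_cl hc, blockCoeff_inv hbar,
        classFunction_of_isConj (f := centralChar (χ : G → ℂ))
          (fun g h => centralChar_conj hχcl g h) hc,
        classFunction_of_isConj (f := centralChar (trivIrr G : G → ℂ))
          (fun g h => centralChar_conj htcl g h) hc,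
        centralChar_inv, centralChar_trivIrr, centralChar_trivIrr, centralizer_inv, ← mul_add]
      apply memLocalIdeal_mul_left (memLocalRing_blockCoeff hB _)
      have hsame : MemLocalIdeal M (centralChar (cconjIrr χ : G → ℂ) (Quotient.out K) -
          centralChar (χ : G → ℂ) (Quotient.out K)) :=
        sameBlock_of_mem hB (hbar χ hχ) hχ _
      have hloc : MemLocalRing M (centralChar (χ : G → ℂ) (Quotient.out K) -
          ((Subgroup.centralizer ({Quotient.out K} : Set G)).index : ℂ)) :=
        memLocalRing_sub (memLocalRing_centralChar χ.2 _) (memLocalRing_natCast _)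
      have h3 := memLocalIdeal_add (memLocalIdeal_mul_right h2I hloc) hsame
      convert h3 using 1
      ring
  rw [← hdiff, h1, h0, sub_zero] at hmem
  exact not_memLocalIdeal_one hmem

end main

end Cfsg.Agent.Helper74.RB
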