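import Mathlib
import Cfsg.Prelude.Def_Blocks
import Cfsg.Agent.S0925
import Cfsg.Agent.Lib.Helper74.RealBlock
import Cfsg.Agent.Lib.Helper74.KleinGroup1
import Cfsg.Agent.Lib.Helper80.FrobSchur2
import Cfsg.Agent.Lib.Helper80.ConjIrr
import Cfsg.Agent.Lib.Helper78.CharOrtho
import Cfsg.Agent.Lib.Helper77.CentralChar
import Cfsg.Agent.Lib.Helper3.CharIntegral
import Cfsg.Agent.Lib.Helper79.CharBasic

/-!
# Block-wise Frobenius–Schur count for elementary abelian Sylow 2-subgroups (helper74)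

* `cconj_mem_principalBlock` : the principal block is closed under complex conjugation.
* `fs_block_vanish` : if the Sylow 2-subgroups have exponent two, then for every 2-block `B` and
  every involution `J` the sum over `χ ∈ B` of `ν(χ) χ(J)` vanishes.
* `degree_dvd_index` : if `χ(g) = ±1` then `χ(1)` divides the class size of `g`.
-/

set_option autoImplicit false
set_option linter.unusedSectionVars false
set_option linter.style.haveILetI false

namespace Cfsg.Agent.Helper74.KFS

open Cfsg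
open scoped ComplexConjugate
open Cfsg.Agent.Helper80 (cconjIrr cconjIrr_apply)

universe u

variable {G : Type u} [Group G]

/-- The principal block is closed under complex conjugation. -/
theorem cconj_mem_principalBlock [Fintype G] (M : Ideal AlgInt) {χ : IrrCharacter G}
    (hχ : χ ∈ principalBlock M G) : cconjIrr χ ∈ principalBlock M G := by
  show SameBlock M (fun _ : G => (1 : ℂ)) (cconjIrr χ : G → ℂ)
  intro g
  have h : MemLocalIdeal M (centralChar (fun _ : G => (1 : ℂ)) g⁻¹ -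
      centralChar (χ : G → ℂ) g⁻¹) := hχ g⁻¹
  rw [Cfsg.Agent.Helper74.RB.centralChar_inv] at h
  have h1 : centralChar (fun _ : G => (1 : ℂ)) g⁻¹ = centralChar (fun _ : G => (1 : ℂ)) g := by
    unfold centralChar
    rw [Cfsg.Agent.Helper74.RB.centralizer_inv]
  rw [h1] at h
  exact h

/-- The number of square roots is a class function. -/
theorem sqrtCount_isClassFunction [Finite G] :
    IsClassFunction G (fun g : G => (Nat.card {u : G // u * u = g} : ℂ)) := by
  intro g h
  show (Nat.card {u : G // u * u = h * g * h⁻¹} : ℂ) = (Nat.card {u : G // u * u = g} : ℂ)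
  congr 1
  apply Nat.card_congr
  refine ⟨fun u => ⟨h⁻¹ * u.1 * h, ?_⟩, fun u => ⟨h * u.1 * h⁻¹, ?_⟩, ?_, ?_⟩
  · have := u.2
    calc h⁻¹ * u.1 * h * (h⁻¹ * u.1 * h) = h⁻¹ * (u.1 * u.1) * h := by group
      _ = g := by rw [this]; group
  · have := u.2
    calc h * u.1 * h⁻¹ * (h * u.1 * h⁻¹) = h * (u.1 * u.1) * h⁻¹ := by group
      _ = h * g * h⁻¹ := by rw [this]
  · intro u
    apply Subtype.ext
    show h * (h⁻¹ * u.1 * h) * h⁻¹ = u.1
    group
  · intro u
    apply Subtype.ext
    show h⁻¹ * (h * u.1 * h⁻¹) * h = u.1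
    group

/-- With Sylow 2-subgroups of exponent two, an element whose 2-part is an involution has no square
root. -/
theorem no_sqrt_of_exponent_two [Finite G] (P : Sylow 2 G) (hexp : ∀ x : P, x * x = 1)
    (u z w : G) (hz2 : orderOf z = 2) (hpart : IsPPart 2 u z) (hw : w * w = u) : False := by
  haveI : Fact (Nat.Prime 2) := ⟨Nat.prime_two⟩
  obtain ⟨y, hzy, hcomm, -, hy⟩ := hpart
  obtain ⟨n, hn⟩ : ∃ n, n = orderOf y := ⟨_, rfl⟩
  have hnodd : Odd n := by
    rw [hn, ← Nat.not_even_iff_odd, even_iff_two_dvd]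
    exact hy
  have hzz : z * z = 1 := by
    have h := pow_orderOf_eq_one z
    rw [hz2, pow_two] at h
    exact h
  have hz1 : z ≠ 1 := by
    intro h
    rw [h, orderOf_one] at hz2
    norm_num at hz2
  have hzn : z ^ n = z := by
    obtain ⟨k, hk⟩ := hnodd
    rw [hk, pow_succ, pow_mul, pow_two, hzz, one_pow, one_mul]
  have hun : u ^ n = z := by
    rw [← hzy, hcomm.mul_pow, hzn, hn, pow_orderOf_eq_one, mul_one]
  obtain ⟨v, hvdef⟩ : ∃ v : G, v = w ^ n := ⟨_, rfl⟩
  have hvv : v * v = z := by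
    rw [hvdef, ← pow_add, ← two_mul, pow_mul, pow_two, hw, hun]
  have hv4 : v ^ 4 = 1 := by
    have h4 : (4 : ℕ) = 2 * 2 := by norm_num
    rw [h4, pow_mul, pow_two v, hvv, pow_two, hzz]
  have hvord : ∃ k : ℕ, orderOf v = 2 ^ k := by
    have hdvd : orderOf v ∣ 2 ^ 2 := by
      apply orderOf_dvd_of_pow_eq_one
      norm_num
      exact hv4
    obtain ⟨k, -, hk⟩ := (Nat.dvd_prime_pow Nat.prime_two).1 hdvd
    exact ⟨k, hk⟩
  obtain ⟨g, hg⟩ := Cfsg.Agent.Helper74.KG.exists_conj_mem_sylow P v hvord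
  have h1 := hexp ⟨g * v * g⁻¹, hg⟩
  have h2 : g * v * g⁻¹ * (g * v * g⁻¹) = 1 := by
    have := congrArg Subtype.val h1
    simpa using this
  have h3 : v * v = 1 := by
    calc v * v = g⁻¹ * (g * v * g⁻¹ * (g * v * g⁻¹)) * g := by group
      _ = 1 := by rw [h2]; group
  rw [hvv] at h3
  exact hz1 h3

/-- Block-wise Frobenius–Schur count: with Sylow 2-subgroups of exponent two, the sum of
`ν(χ) χ(J)` over a 2-block vanishes for every involution `J`. -/
theorem fs_block_vanish [Fintype G] (M : Ideal AlgInt) (hM : IsPModular 2 M)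
    (P : Sylow 2 G) (hexp : ∀ x : P, x * x = 1) (J : G) (hJ2 : orderOf J = 2)
    {B : Set (IrrCharacter G)} (hB : IsPBlock M B) :
    ∑ χ ∈ (Set.toFinite B).toFinset,
      ((Nat.card G : ℂ)⁻¹ * ∑ s : G, (χ : G → ℂ) (s * s)) * (χ : G → ℂ) J = 0 := by
  classical
  haveI : Fact (Nat.Prime 2) := ⟨Nat.prime_two⟩
  obtain ⟨ϑ, hϑdef⟩ : ∃ ϑ : G → ℂ, ϑ = fun g : G => (Nat.card {u : G // u * u = g} : ℂ) :=
    ⟨_, rfl⟩
  have hcl : IsClassFunction G ϑ := by
    rw [hϑdef]; exact sqrtCount_isClassFunction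
  have hvan : ∀ u z : G, IsPPart 2 u z → IsConj J z → ϑ u = 0 := by
    intro u z hpart hconj
    have hz2 : orderOf z = 2 := by
      obtain ⟨c, hc⟩ := isConj_iff.1 hconj
      have hsc : SemiconjBy c J z := by
        show c * J = z * c
        rw [← hc]; group
      rw [← hsc.orderOf_eq]
      exact hJ2
    rw [hϑdef]
    show (Nat.card {w : G // w * w = u} : ℂ) = 0
    have hempty : IsEmpty {w : G // w * w = u} :=
      ⟨fun w => no_sqrt_of_exponent_two P hexp u z w.1 hz2 hpart w.2⟩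
    rw [Nat.card_of_isEmpty]
    norm_num
  have hJpart : IsPPart 2 J J :=
    ⟨1, mul_one J, Commute.one_right J, ⟨1, by rw [hJ2, pow_one]⟩, by rw [orderOf_one]; norm_num⟩
  have h0 := (Cfsg.Agent.S0925.result 2 M hM).1 ϑ hcl J ⟨1, by rw [hJ2, pow_one]⟩ hvan B hB J J
    hJpart (IsConj.refl J)
  rw [Cfsg.Agent.S0925.blockPart_eq] at h0
  rw [← h0]
  refine Finset.sum_congr rfl fun χ _ => ?_
  congr 1
  -- the inner product of the count with `χ`
  have hexpand : ϑ = ∑ ψ : IrrCharacter G,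
      conj ((Nat.card G : ℂ)⁻¹ * ∑ s : G, (ψ : G → ℂ) (s * s)) • (ψ : G → ℂ) := by
    funext g
    rw [hϑdef]
    show (Nat.card {u : G // u * u = g} : ℂ) = _
    rw [Cfsg.Agent.Helper80.card_sqrt_eq g, finsum_eq_sum_of_fintype, Finset.sum_apply]
    refine Finset.sum_congr rfl fun ψ _ => ?_
    rw [Pi.smul_apply, smul_eq_mul]
  rw [hexpand, Cfsg.Agent.Helper78.classInner_decomp]
  obtain ⟨h1, -, -⟩ := Cfsg.Agent.Helper80.irr_fs χ
  rcases h1 with h | h | h
  · rw [h, map_zero]
  · rw [h, map_one]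
  · rw [h, map_neg, map_one]

/-- If `χ(g) = ±1` then the degree of `χ` divides the class size of `g`. -/
theorem degree_dvd_index [Fintype G] (χ : IrrCharacter G) (g : G)
    (h : (χ : G → ℂ) g = 1 ∨ (χ : G → ℂ) g = -1) :
    charDegree (χ : G → ℂ) ∣ (Subgroup.centralizer ({g} : Set G)).index := by
  have hint := Cfsg.Agent.Helper77.centralChar_isIntegral χ.2 g
  obtain ⟨h1, hpos⟩ := Cfsg.Agent.Helper79.irr_one_eq χ
  unfold centralChar at hint
  rw [h1] at hint
  apply Cfsg.Agent.Helper3.rat_of_isIntegral_natCast_div _ _ hpos.ne'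
  rcases h with h | h
  · rw [h, mul_one] at hint
    exact hint
  · rw [h] at hint
    have h2 := hint.neg
    have h3 : -(((Subgroup.centralizer ({g} : Set G)).index : ℂ) * -1 /
        (charDegree (χ : G → ℂ) : ℂ)) =
        ((Subgroup.centralizer ({g} : Set G)).index : ℂ) / (charDegree (χ : G → ℂ) : ℂ) := by
      ring
    rw [h3] at h2
    exact h2

end Cfsg.Agent.Helper74.KFS
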