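import Mathlib
import Cfsg.Agent.Lib.Helper74.KleinGroup1

/-!
# Counting pairs of involutions in a group with a central involution and Klein four Sylow
`2`-subgroup (helper74)

Let `H` be a finite group with a Sylow `2`-subgroup `Q` of order four and exponent two and a
central involution `z ∈ Q`.  Burnside's transfer gives a retraction `τ : H →* Q` whose kernel is
the set of elements of odd order.  The number of pairs `(x, y)` of involutions of `H` such that
`z x y` has odd order is `2 (|H| / |C_H(Q)|)²`.
-/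

set_option autoImplicit false
set_option linter.unusedSectionVars false
set_option linter.style.haveILetI false
set_option maxHeartbeats 800000

namespace Cfsg.Agent.Helper74.KG

universe u

theorem card_class_mul_card_centralizer' {G : Type*} [Group G] [Finite G] (g : G) :
    Nat.card {x : G // IsConj g x} * Nat.card (Subgroup.centralizer ({g} : Set G)) =
      Nat.card G := by
  rw [Subgroup.nat_card_centralizer_nat_card_stabilizer]
  have e := MulAction.orbitProdStabilizerEquivGroup (ConjAct G) g
  have h1 := Nat.card_congr e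
  rw [Nat.card_prod] at h1
  have h2 : Nat.card (MulAction.orbit (ConjAct G) g) = Nat.card {x : G // IsConj g x} := by
    apply Nat.card_congr
    apply Equiv.subtypeEquivRight
    intro x
    rw [ConjAct.mem_orbit_conjAct, isConj_comm]
  rw [← h2, h1]
  exact Nat.card_congr ConjAct.ofConjAct.toEquiv

section loc

variable {H : Type u} [Group H] [Finite H] (Q : Sylow 2 H) (hQ4 : Nat.card Q = 4)
  (hexp : ∀ x : Q, x * x = 1) (z : H) (hzQ : z ∈ (Q : Subgroup H)) (hz2 : orderOf z = 2)
  (hzc : ∀ h : H, z * h = h * z)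

include hQ4 in
theorem sylow_comm : ∀ a ∈ (Q : Subgroup H), ∀ b ∈ (Q : Subgroup H), a * b = b * a := by
  haveI : Fact (Nat.Prime 2) := ⟨Nat.prime_two⟩
  have hQ4' : Nat.card (Q : Subgroup H) = 4 := hQ4
  have hcomm : IsMulCommutative (Q : Subgroup H) :=
    IsPGroup.isMulCommutative_of_card_eq_prime_sq (p := 2) (by rw [hQ4']; norm_num)
  intro a ha b hb
  have := hcomm.is_comm.comm (⟨a, ha⟩ : (Q : Subgroup H)) ⟨b, hb⟩
  exact congrArg Subtype.val this

include hQ4 hzQ hz2 hzc in
theorem normalizer_le_centralizer :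
    Subgroup.normalizer (Q : Set H) ≤ Subgroup.centralizer (Q : Set H) := by
  haveI : Fact (Nat.Prime 2) := ⟨Nat.prime_two⟩
  have hQ4' : Nat.card (Q : Subgroup H) = 4 := hQ4
  have hab := sylow_comm Q hQ4
  have hz1 : z ≠ 1 := by
    intro h
    rw [h, orderOf_one] at hz2
    norm_num at hz2
  have hzz : z * z = 1 := by
    have h := pow_orderOf_eq_one z
    rwa [hz2, pow_two] at h
  intro n hn
  rw [Subgroup.mem_centralizer_iff]
  intro q hq
  have hqQ : q ∈ (Q : Subgroup H) := hq
  have hnorm : ∀ h : H, h ∈ (Q : Subgroup H) ↔ n * h * n⁻¹ ∈ (Q : Subgroup H) :=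
    Subgroup.mem_set_normalizer_iff.1 hn
  by_cases hq1 : q = 1
  · rw [hq1, one_mul, mul_one]
  by_cases hqz : q = z
  · rw [hqz]; exact hzc n
  have hσ : n * q * n⁻¹ ∈ (Q : Subgroup H) := (hnorm q).1 hqQ
  have h4 := eq_of_klein hQ4' (⟨z, hzQ⟩ : (Q : Subgroup H)) ⟨q, hqQ⟩
    (fun h => hz1 (congrArg Subtype.val h)) (fun h => hq1 (congrArg Subtype.val h))
    (fun h => hqz (congrArg Subtype.val h)) (Subtype.ext hzz) ⟨n * q * n⁻¹, hσ⟩
  rcases h4 with h | h | h | h
  · have h' : n * q * n⁻¹ = 1 := congrArg Subtype.val h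
    exfalso
    apply hq1
    calc q = n⁻¹ * (n * q * n⁻¹) * n := by group
      _ = 1 := by rw [h']; group
  · have h' : n * q * n⁻¹ = z := congrArg Subtype.val h
    exfalso
    apply hqz
    calc q = n⁻¹ * (n * q * n⁻¹) * n := by group
      _ = n⁻¹ * z * n := by rw [h']
      _ = z := by rw [mul_assoc, hzc n, ← mul_assoc, inv_mul_cancel, one_mul]
  · have h' : n * q * n⁻¹ = q := congrArg Subtype.val h
    calc q * n = (n * q * n⁻¹) * n := by rw [h']
      _ = n * q := by group
  · have h' : n * q * n⁻¹ = z * q := congrArg Subtype.val h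
    have e1 : n * (n * q * n⁻¹) * n⁻¹ = q := by
      calc n * (n * q * n⁻¹) * n⁻¹ = n * (z * q) * n⁻¹ := by rw [h']
        _ = (n * z) * q * n⁻¹ := by group
        _ = (z * n) * q * n⁻¹ := by rw [hzc n]
        _ = z * (n * q * n⁻¹) := by group
        _ = z * (z * q) := by rw [h']
        _ = q := by rw [← mul_assoc, hzz, one_mul]
    have e2 : n * (n * q * n⁻¹) * n⁻¹ * (n * n) = n * n * q := by group
    have h2 : n ^ 2 * q = q * n ^ 2 := by
      rw [pow_two, ← e2, e1]
    exact (commute_of_sq_commute Q hab n hn q hqQ h2).symm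

include hQ4 hexp hzQ hz2 hzc in
/-- the retraction onto the Sylow subgroup -/
theorem exists_retraction : ∃ τ : H →* (Q : Subgroup H),
    (∀ q : (Q : Subgroup H), τ (q : H) = q) ∧ (∀ h : H, Odd (orderOf h) ↔ τ h = 1) := by
  haveI : Fact (Nat.Prime 2) := ⟨Nat.prime_two⟩
  have hNC := normalizer_le_centralizer Q hQ4 z hzQ hz2 hzc
  have hsq : ∀ q : (Q : Subgroup H), q ^ 2 = 1 := by
    intro q
    rw [pow_two]
    exact hexp q
  refine ⟨MonoidHom.transferSylow Q hNC, ?_, ?_⟩
  · intro q
    rw [MonoidHom.transferSylow_eq_pow Q hNC (q : H) q.2]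
    apply Subtype.ext
    show (q : H) ^ (Q : Subgroup H).index = (q : H)
    have hodd : Odd (Q : Subgroup H).index := by
      rw [← Nat.not_even_iff_odd, even_iff_two_dvd]
      exact Q.not_dvd_index
    obtain ⟨j, hj⟩ := hodd
    have hq2 : (q : H) ^ 2 = 1 := by
      have := congrArg Subtype.val (hsq q)
      simpa using this
    rw [hj, pow_succ, pow_mul, hq2, one_pow, one_mul]
  · intro h
    constructor
    · intro hodd
      obtain ⟨j, hj⟩ := hodd
      have h1 : (MonoidHom.transferSylow Q hNC h) ^ (orderOf h) = 1 := by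
        rw [← map_pow, pow_orderOf_eq_one, map_one]
      rw [hj, pow_succ, pow_mul, hsq, one_pow, one_mul] at h1
      exact h1
    · intro hker
      have hmem : h ∈ (MonoidHom.transferSylow Q hNC).ker := hker
      have hdvd : orderOf h ∣ Nat.card (MonoidHom.transferSylow Q hNC).ker := by
        have := orderOf_dvd_natCard (⟨h, hmem⟩ : (MonoidHom.transferSylow Q hNC).ker)
        rwa [Subgroup.orderOf_mk] at this
      have hnd := MonoidHom.not_dvd_card_ker_transferSylow Q hNC
      rw [← Nat.not_even_iff_odd, even_iff_two_dvd]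
      exact fun h2 => hnd (h2.trans hdvd)

end loc

end Cfsg.Agent.Helper74.KG
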