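import Mathlib
import Cfsg.Agent.Lib.Helper74.KleinGroup2

/-!
# The local count (helper74)

`H` finite with Sylow `2`-subgroup `Q` of order four, exponent two, central involution `z ∈ Q`:
the number of pairs `(x, y)` of involutions with `z x y` of odd order is `2 (|H| / |C_H(Q)|)²`.
-/

set_option autoImplicit false
set_option linter.unusedSectionVars false
set_option linter.style.haveILetI false
set_option maxHeartbeats 800000

namespace Cfsg.Agent.Helper74.KG

universe u

section loc

variable {H : Type u} [Group H] [Finite H] (Q : Sylow 2 H) (hQ4 : Nat.card Q = 4)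
  (hexp : ∀ x : Q, x * x = 1) (z : H) (hzQ : z ∈ (Q : Subgroup H)) (hz2 : orderOf z = 2)
  (hzc : ∀ h : H, z * h = h * z)

include hQ4 hexp hzQ hz2 hzc in
theorem local_count :
    Nat.card {p : H × H // orderOf p.1 = 2 ∧ orderOf p.2 = 2 ∧ Odd (orderOf (z * p.1 * p.2))} *
      Nat.card (Subgroup.centralizer (Q : Set H)) ^ 2 = 2 * Nat.card H ^ 2 := by
  classical
  letI : Fintype H := Fintype.ofFinite H
  letI : Fintype (Q : Subgroup H) := Fintype.ofFinite _
  haveI : Fact (Nat.Prime 2) := ⟨Nat.prime_two⟩
  have hQ4' : Nat.card (Q : Subgroup H) = 4 := hQ4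
  obtain ⟨τ, hτQ, hτodd⟩ := exists_retraction Q hQ4 hexp z hzQ hz2 hzc
  have hab := sylow_comm Q hQ4
  have hQcomm : ∀ a b : (Q : Subgroup H), a * b = b * a := by
    intro a b
    exact Subtype.ext (hab a a.2 b b.2)
  have hz1 : z ≠ 1 := by
    intro h
    rw [h, orderOf_one] at hz2
    norm_num at hz2
  have hzz : z * z = 1 := by
    have h := pow_orderOf_eq_one z
    rwa [hz2, pow_two] at h
  obtain ⟨z', hz'def⟩ : ∃ z' : (Q : Subgroup H), z' = ⟨z, hzQ⟩ := ⟨_, rfl⟩
  have hz'val : (z' : H) = z := by rw [hz'def]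
  have hz'1 : z' ≠ 1 := by
    intro h
    apply hz1
    rw [← hz'val, h]
    rfl
  have hτz : τ z = z' := by
    rw [← hz'val]
    exact hτQ z'
  have hτconj : ∀ g x : H, τ (g * x * g⁻¹) = τ x := by
    intro g x
    rw [map_mul, map_mul, map_inv, hQcomm (τ g) (τ x), mul_assoc, mul_inv_cancel, mul_one]
  -- involutions map to conjugates
  have hconj : ∀ x : H, orderOf x = 2 → IsConj x (τ x : H) := by
    intro x hx
    obtain ⟨g, hg⟩ := exists_conj_mem_sylow Q x ⟨1, by rw [hx, pow_one]⟩
    have h2 := hτQ ⟨g * x * g⁻¹, hg⟩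
    have h3 : (τ x : H) = g * x * g⁻¹ := by
      rw [← hτconj g x]
      exact congrArg Subtype.val h2
    rw [h3]
    exact isConj_iff.2 ⟨g, rfl⟩
  have hτne : ∀ x : H, orderOf x = 2 → τ x ≠ 1 := by
    intro x hx h
    have h1 := hconj x hx
    rw [h] at h1
    have h2 : x = 1 := isConj_one_left.1 h1
    rw [h2, orderOf_one] at hx
    norm_num at hx
  have hord : ∀ q : (Q : Subgroup H), q ≠ 1 → orderOf (q : H) = 2 := by
    intro q hq
    apply orderOf_eq_prime
    · rw [pow_two]
      exact_mod_cast congrArg Subtype.val (hexp q)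
    · intro h
      exact hq (Subtype.ext h)
  -- the fibres
  obtain ⟨S, hSdef⟩ : ∃ S : ↥(Q : Subgroup H) → Finset H,
      S = fun q => Finset.univ.filter (fun x : H => orderOf x = 2 ∧ τ x = q) := ⟨_, rfl⟩
  have hSmem : ∀ q x, x ∈ S q ↔ orderOf x = 2 ∧ τ x = q := by
    intro q x
    rw [hSdef]
    simp only [Finset.mem_filter, Finset.mem_univ, true_and]
  have hS1 : S 1 = ∅ := by
    apply Finset.eq_empty_of_forall_notMem
    intro x hx
    rw [hSmem] at hx
    exact hτne x hx.1 hx.2
  have hSconj : ∀ q : (Q : Subgroup H), q ≠ 1 →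
      S q = Finset.univ.filter (fun x : H => IsConj (q : H) x) := by
    intro q hq
    ext x
    rw [hSmem]
    simp only [Finset.mem_filter, Finset.mem_univ, true_and]
    constructor
    · rintro ⟨hx, hτx⟩
      have := hconj x hx
      rw [hτx] at this
      exact this.symm
    · intro hc
      obtain ⟨g, hg⟩ := isConj_iff.1 hc
      constructor
      · have e : orderOf (g * (q : H) * g⁻¹) = orderOf (q : H) :=
          (MulAut.conj g).orderOf_eq (q : H)
        rw [← hg, e]
        exact hord q hq
      · rw [← hg, hτconj]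
        exact hτQ q
  have hcent : ∀ q : (Q : Subgroup H), q ≠ 1 → q ≠ z' →
      Subgroup.centralizer ({(q : H)} : Set H) = Subgroup.centralizer (Q : Set H) := by
    intro q hq1 hqz
    ext h
    rw [Subgroup.mem_centralizer_iff, Subgroup.mem_centralizer_iff]
    constructor
    · intro hh r hr
      have hrQ : r ∈ (Q : Subgroup H) := hr
      have hq := hh (q : H) (Set.mem_singleton _)
      have h4 := eq_of_klein hQ4' z' q hz'1 hq1 hqz
        (by rw [hz'def]; exact Subtype.ext hzz) ⟨r, hrQ⟩
      rcases h4 with e | e | e | e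
      · have e' : r = 1 := congrArg Subtype.val e
        rw [e', one_mul, mul_one]
      · have e' : r = z := by
          have := congrArg Subtype.val e
          rw [hz'val] at this
          exact this
        rw [e']
        exact hzc h
      · have e' : r = (q : H) := congrArg Subtype.val e
        rw [e']
        exact hq
      · have e' : r = z * (q : H) := by
          have := congrArg Subtype.val e
          rw [Subgroup.coe_mul, hz'val] at this
          exact this
        rw [e', mul_assoc, hq, ← mul_assoc, hzc h, mul_assoc]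
    · intro hh r hr
      rw [Set.mem_singleton_iff.1 hr]
      exact hh (q : H) q.2
  have hScard : ∀ q : (Q : Subgroup H), q ≠ 1 → q ≠ z' →
      (S q).card * Nat.card (Subgroup.centralizer (Q : Set H)) = Nat.card H := by
    intro q hq1 hqz
    have h := card_class_mul_card_centralizer' (q : H)
    rw [hcent q hq1 hqz] at h
    rw [← h, hSconj q hq1]
    congr 1
    rw [Nat.card_eq_fintype_card, Fintype.card_subtype]
  -- the set of pairs
  obtain ⟨T, hTdef⟩ : ∃ T : Finset (H × H), T = Finset.univ.filter
      (fun p : H × H => orderOf p.1 = 2 ∧ orderOf p.2 = 2 ∧ Odd (orderOf (z * p.1 * p.2))) :=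
    ⟨_, rfl⟩
  have hTcard : Nat.card {p : H × H // orderOf p.1 = 2 ∧ orderOf p.2 = 2 ∧
      Odd (orderOf (z * p.1 * p.2))} = T.card := by
    rw [Nat.card_eq_fintype_card, Fintype.card_subtype, hTdef]
  have hinvQ : ∀ a b : (Q : Subgroup H), z' * a * b = 1 ↔ b = z' * a := by
    intro a b
    constructor
    · intro h
      calc b = (z' * a) * (z' * a) * b := by rw [hexp (z' * a), one_mul]
        _ = (z' * a) * (z' * a * b) := by rw [mul_assoc]
        _ = z' * a := by rw [h, mul_one]
    · intro h
      rw [h]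
      exact hexp (z' * a)
  have hfib : ∀ q : (Q : Subgroup H),
      T.filter (fun p => τ p.1 = q) = S q ×ˢ S (z' * q) := by
    intro q
    ext p
    rw [Finset.mem_product, hSmem, hSmem, Finset.mem_filter, hTdef]
    simp only [Finset.mem_filter, Finset.mem_univ, true_and]
    rw [hτodd, map_mul, map_mul, hτz, hinvQ]
    constructor
    · rintro ⟨⟨h1, h2, h3⟩, h4⟩
      exact ⟨⟨h1, h4⟩, h2, by rw [h3, h4]⟩
    · rintro ⟨⟨h1, h4⟩, h2, h3⟩
      exact ⟨⟨h1, h2, by rw [h3, h4]⟩, h4⟩
  have hsum : T.card = ∑ q : (Q : Subgroup H), (S q).card * (S (z' * q)).card := by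
    rw [Finset.card_eq_sum_card_fiberwise (f := fun p : H × H => τ p.1) (t := Finset.univ)
      (fun _ _ => Finset.mem_univ _)]
    refine Finset.sum_congr rfl fun q _ => ?_
    rw [hfib q, Finset.card_product]
  -- a third element
  have hex : ∃ q₀ : (Q : Subgroup H), q₀ ≠ 1 ∧ q₀ ≠ z' := by
    have hlt : ({1, z'} : Finset (Q : Subgroup H)).card < (Finset.univ : Finset (Q : Subgroup H)).card := by
      rw [Finset.card_univ, ← Nat.card_eq_fintype_card, hQ4']
      exact lt_of_le_of_lt (Finset.card_insert_le _ _) (by simp)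
    obtain ⟨q₀, _, hq₀⟩ := Finset.exists_mem_notMem_of_card_lt_card hlt
    rw [Finset.mem_insert, Finset.mem_singleton] at hq₀
    push Not at hq₀
    exact ⟨q₀, hq₀.1, hq₀.2⟩
  obtain ⟨q₀, hq₀1, hq₀z⟩ := hex
  have hzq1 : z' * q₀ ≠ 1 := by
    intro h
    apply hq₀z
    calc q₀ = (z' * z') * q₀ := by rw [hexp z', one_mul]
      _ = z' * (z' * q₀) := by rw [mul_assoc]
      _ = z' := by rw [h, mul_one]
  have hzqz : z' * q₀ ≠ z' := by
    intro h
    apply hq₀1
    have : z' * q₀ = z' * 1 := by rw [mul_one]; exact h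
    exact mul_left_cancel this
  have hzqq : z' * q₀ ≠ q₀ := by
    intro h
    apply hz'1
    have : z' * q₀ = 1 * q₀ := by rw [one_mul]; exact h
    exact mul_right_cancel this
  have huniv : (Finset.univ : Finset (Q : Subgroup H)) = {1, z', q₀, z' * q₀} := by
    ext r
    simp only [Finset.mem_univ, Finset.mem_insert, Finset.mem_singleton, true_iff]
    exact eq_of_klein hQ4' z' q₀ hz'1 hq₀1 hq₀z (hexp z') r
  have hzzq : z' * (z' * q₀) = q₀ := by rw [← mul_assoc, hexp z', one_mul]
  rw [hTcard, hsum, huniv, Finset.sum_insert, Finset.sum_insert, Finset.sum_insert,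
    Finset.sum_singleton, hS1, Finset.card_empty, zero_mul, zero_add, hexp z', hS1,
    Finset.card_empty, mul_zero, zero_add, hzzq]
  · have e1 := hScard q₀ hq₀1 hq₀z
    have e2 := hScard (z' * q₀) hzq1 hzqz
    calc ((S q₀).card * (S (z' * q₀)).card + (S (z' * q₀)).card * (S q₀).card) *
          Nat.card (Subgroup.centralizer (Q : Set H)) ^ 2
        = 2 * (((S q₀).card * Nat.card (Subgroup.centralizer (Q : Set H))) *
          ((S (z' * q₀)).card * Nat.card (Subgroup.centralizer (Q : Set H)))) := by ring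
      _ = 2 * (Nat.card H * Nat.card H) := by rw [e1, e2]
      _ = 2 * Nat.card H ^ 2 := by ring
  · rw [Finset.mem_singleton]; exact fun h => hzqq h.symm
  · rw [Finset.mem_insert, Finset.mem_singleton]
    rintro (h | h)
    · exact hq₀z h.symm
    · exact hzqz h.symm
  · rw [Finset.mem_insert, Finset.mem_insert, Finset.mem_singleton]
    rintro (h | h | h)
    · exact hz'1 h.symm
    · exact hq₀1 h.symm
    · exact hzq1 h.symm

end loc

end Cfsg.Agent.Helper74.KG
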