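import Mathlib
import Cfsg.Agent.Lib.Helper74.KleinGroup3

/-!
# The count of pairs of involutions, in the group `G` (helper74)

Transport of `KG.local_count` from `H = C_G(J)` to `G`.
-/

set_option autoImplicit false
set_option linter.unusedSectionVars false
set_option linter.style.haveILetI false
set_option maxHeartbeats 800000

namespace Cfsg.Agent.Helper74.KG

universe u

section glob

variable {G : Type u} [Group G]

/-- two involutions whose product `g` commutes with the involution `J`, with `J g` of odd order,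
both commute with `J` -/
theorem commute_of_pair (J x y : G) (hJJ : J * J = 1) (hxx : x * x = 1) (hyy : y * y = 1)
    (hc : J * (x * y) = (x * y) * J) (hodd : Odd (orderOf (J * (x * y)))) :
    J * x = x * J ∧ J * y = y * J := by
  obtain ⟨j, hj⟩ := hodd
  obtain ⟨g, hgdef⟩ : ∃ g : G, g = x * y := ⟨_, rfl⟩
  rw [← hgdef] at hc hj
  have hJinv : J⁻¹ = J := inv_eq_of_mul_eq_one_left hJJ
  have hxinv : x⁻¹ = x := inv_eq_of_mul_eq_one_left hxx
  have hyinv : y⁻¹ = y := inv_eq_of_mul_eq_one_left hyy
  have hJm : J ^ (2 * j + 1) = J := by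
    rw [pow_succ, pow_mul, pow_two, hJJ, one_pow, one_mul]
  have hgm : g ^ (2 * j + 1) = J := by
    have h1 : (J * g) ^ (2 * j + 1) = 1 := by rw [← hj]; exact pow_orderOf_eq_one _
    rw [(show Commute J g from hc).mul_pow, hJm] at h1
    calc g ^ (2 * j + 1) = J⁻¹ * (J * g ^ (2 * j + 1)) := by group
      _ = J := by rw [h1, mul_one, hJinv]
  have hginv : g⁻¹ = y * x := by rw [hgdef, mul_inv_rev, hxinv, hyinv]
  have hx : x * g * x⁻¹ = g⁻¹ := by
    rw [hginv, hgdef, hxinv, ← mul_assoc, hxx, one_mul]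
  have hy : y * g * y⁻¹ = g⁻¹ := by
    rw [hginv, hgdef, mul_assoc, mul_assoc, mul_inv_cancel, mul_one]
  have key : ∀ w : G, w * g * w⁻¹ = g⁻¹ → J * w = w * J := by
    intro w hw
    have h1 : w * J * w⁻¹ = J := by
      rw [← hgm, ← conj_pow, hw, inv_pow, hgm, hJinv]
    calc J * w = (w * J * w⁻¹) * w := by rw [h1]
      _ = w * J := by group
  exact ⟨key x hx, key y hy⟩

variable [Finite G]

theorem global_count (P : Sylow 2 G) (hP4 : Nat.card P = 4) (hexp : ∀ x : P, x * x = 1) (J : G)
    (hJP : J ∈ (P : Subgroup G)) (hJ2 : orderOf J = 2) :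
    Nat.card {p : G × G // orderOf p.1 = 2 ∧ orderOf p.2 = 2 ∧
      J * (p.1 * p.2) = (p.1 * p.2) * J ∧ Odd (orderOf (J * (p.1 * p.2)))} *
      Nat.card (Subgroup.centralizer ((P : Subgroup G) : Set G)) ^ 2 =
    2 * Nat.card (Subgroup.centralizer ({J} : Set G)) ^ 2 := by
  classical
  haveI : Fact (Nat.Prime 2) := ⟨Nat.prime_two⟩
  have hab := sylow_comm P hP4
  have hJJ : J * J = 1 := by
    have h := pow_orderOf_eq_one J
    rwa [hJ2, pow_two] at h
  have hmemH : ∀ g : G, g ∈ Subgroup.centralizer ({J} : Set G) ↔ J * g = g * J := by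
    intro g
    rw [Subgroup.mem_centralizer_iff]
    constructor
    · intro h
      exact h J (Set.mem_singleton J)
    · intro h s hs
      rw [Set.mem_singleton_iff.1 hs]
      exact h
  have hPH : (P : Subgroup G) ≤ Subgroup.centralizer ({J} : Set G) := by
    intro y hy
    rw [hmemH]
    exact hab J hJP y hy
  obtain ⟨Q, hQdef⟩ : ∃ Q : Sylow 2 (Subgroup.centralizer ({J} : Set G)), Q = P.subtype hPH :=
    ⟨_, rfl⟩
  have hQmem : ∀ h : Subgroup.centralizer ({J} : Set G),
      h ∈ (Q : Subgroup (Subgroup.centralizer ({J} : Set G))) ↔ (h : G) ∈ (P : Subgroup G) := by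
    intro h
    rw [hQdef, Sylow.coe_subtype, Subgroup.mem_subgroupOf]
  have hQ4 : Nat.card Q = 4 := by
    rw [← hP4]
    have e : ((P : Subgroup G).subgroupOf (Subgroup.centralizer ({J} : Set G))) ≃*
        (P : Subgroup G) := Subgroup.subgroupOfEquivOfLe hPH
    have h1 : (Q : Subgroup (Subgroup.centralizer ({J} : Set G))) =
        (P : Subgroup G).subgroupOf (Subgroup.centralizer ({J} : Set G)) := by
      rw [hQdef, Sylow.coe_subtype]
    show Nat.card (Q : Subgroup (Subgroup.centralizer ({J} : Set G))) =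
      Nat.card (P : Subgroup G)
    rw [h1]
    exact Nat.card_congr e.toEquiv
  have hQexp : ∀ x : Q, x * x = 1 := by
    intro x
    have hxP : ((x : Subgroup.centralizer ({J} : Set G)) : G) ∈ (P : Subgroup G) :=
      (hQmem x).1 x.2
    have h := congrArg Subtype.val (hexp ⟨_, hxP⟩)
    apply Subtype.ext
    apply Subtype.ext
    exact h
  have hJH : J ∈ Subgroup.centralizer ({J} : Set G) := (hmemH J).2 rfl
  obtain ⟨z, hzdef⟩ : ∃ z : Subgroup.centralizer ({J} : Set G), z = ⟨J, hJH⟩ := ⟨_, rfl⟩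
  have hzval : (z : G) = J := by rw [hzdef]
  have hzQ : z ∈ (Q : Subgroup (Subgroup.centralizer ({J} : Set G))) := by
    rw [hQmem, hzval]; exact hJP
  have hz2 : orderOf z = 2 := by
    rw [← Subgroup.orderOf_coe, hzval]; exact hJ2
  have hzc : ∀ h : Subgroup.centralizer ({J} : Set G), z * h = h * z := by
    intro h
    apply Subtype.ext
    push_cast
    rw [hzval]
    exact (hmemH h).1 h.2
  have hloc := local_count Q hQ4 hQexp z hzQ hz2 hzc
  -- the pairs
  have e1 : Nat.card {p : Subgroup.centralizer ({J} : Set G) × Subgroup.centralizer ({J} : Set G) //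
      orderOf p.1 = 2 ∧ orderOf p.2 = 2 ∧ Odd (orderOf (z * p.1 * p.2))} =
      Nat.card {p : G × G // orderOf p.1 = 2 ∧ orderOf p.2 = 2 ∧
        J * (p.1 * p.2) = (p.1 * p.2) * J ∧ Odd (orderOf (J * (p.1 * p.2)))} := by
    have hfwd : ∀ p : Subgroup.centralizer ({J} : Set G) × Subgroup.centralizer ({J} : Set G),
        (orderOf p.1 = 2 ∧ orderOf p.2 = 2 ∧ Odd (orderOf (z * p.1 * p.2))) →
        (orderOf (p.1 : G) = 2 ∧ orderOf (p.2 : G) = 2 ∧
          J * ((p.1 : G) * (p.2 : G)) = ((p.1 : G) * (p.2 : G)) * J ∧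
          Odd (orderOf (J * ((p.1 : G) * (p.2 : G))))) := by
      rintro ⟨x, y⟩ ⟨h1, h2, h3⟩
      refine ⟨by rw [Subgroup.orderOf_coe]; exact h1, by rw [Subgroup.orderOf_coe]; exact h2, ?_, ?_⟩
      · have hx := (hmemH x).1 x.2
        have hy := (hmemH y).1 y.2
        show J * ((x : G) * (y : G)) = (x : G) * (y : G) * J
        rw [← mul_assoc, hx, mul_assoc, hy, mul_assoc]
      · have : ((z * x * y : Subgroup.centralizer ({J} : Set G)) : G) = J * ((x : G) * (y : G)) := by
          push_cast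
          rw [hzval, mul_assoc]
        show Odd (orderOf (J * ((x : G) * (y : G))))
        rw [← this, Subgroup.orderOf_coe]
        exact h3
    apply Nat.card_congr
    refine Equiv.ofBijective (fun p => ⟨((p.1.1 : G), (p.1.2 : G)), hfwd p.1 p.2⟩) ⟨?_, ?_⟩
    · rintro ⟨⟨x, y⟩, hp⟩ ⟨⟨x', y'⟩, hp'⟩ h
      have h' := congrArg Subtype.val h
      have hx : (x : G) = (x' : G) := congrArg Prod.fst h'
      have hy : (y : G) = (y' : G) := congrArg Prod.snd h'
      apply Subtype.ext
      exact Prod.ext (Subtype.ext hx) (Subtype.ext hy)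
    · rintro ⟨⟨x, y⟩, h1, h2, h3, h4⟩
      have hxx : x * x = 1 := by
        have h := pow_orderOf_eq_one x
        rwa [h1, pow_two] at h
      have hyy : y * y = 1 := by
        have h := pow_orderOf_eq_one y
        rwa [h2, pow_two] at h
      obtain ⟨hx, hy⟩ := commute_of_pair J x y hJJ hxx hyy h3 h4
      have hxH := (hmemH x).2 hx
      have hyH := (hmemH y).2 hy
      refine ⟨⟨(⟨x, hxH⟩, ⟨y, hyH⟩), ?_, ?_, ?_⟩, rfl⟩
      · rw [← Subgroup.orderOf_coe]; exact h1
      · rw [← Subgroup.orderOf_coe]; exact h2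
      · have : ((z * ⟨x, hxH⟩ * ⟨y, hyH⟩ : Subgroup.centralizer ({J} : Set G)) : G) =
            J * (x * y) := by
          push_cast
          rw [hzval, mul_assoc]
        rw [← Subgroup.orderOf_coe, this]
        exact h4
  -- the centralizers
  have e2 : Nat.card (Subgroup.centralizer (Q : Set (Subgroup.centralizer ({J} : Set G)))) =
      Nat.card (Subgroup.centralizer ((P : Subgroup G) : Set G)) := by
    have hfwd : ∀ h : Subgroup.centralizer ({J} : Set G),
        h ∈ Subgroup.centralizer (Q : Set (Subgroup.centralizer ({J} : Set G))) →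
        (h : G) ∈ Subgroup.centralizer ((P : Subgroup G) : Set G) := by
      intro h hh
      rw [Subgroup.mem_centralizer_iff] at hh ⊢
      intro r hr
      have hrP : r ∈ (P : Subgroup G) := hr
      have := hh ⟨r, hPH hrP⟩ ((hQmem _).2 hrP)
      exact congrArg Subtype.val this
    apply Nat.card_congr
    refine Equiv.ofBijective (fun h => ⟨(h.1 : G), hfwd h.1 h.2⟩) ⟨?_, ?_⟩
    · rintro ⟨h, hh⟩ ⟨h', hh'⟩ e
      have e' := congrArg Subtype.val e
      apply Subtype.ext
      apply Subtype.ext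
      exact e'
    · rintro ⟨g, hg⟩
      have hgH : g ∈ Subgroup.centralizer ({J} : Set G) := by
        rw [hmemH]
        rw [Subgroup.mem_centralizer_iff] at hg
        exact hg J hJP
      refine ⟨⟨⟨g, hgH⟩, ?_⟩, rfl⟩
      rw [Subgroup.mem_centralizer_iff]
      intro r hr
      have hrP : (r : G) ∈ (P : Subgroup G) := (hQmem r).1 hr
      apply Subtype.ext
      rw [Subgroup.mem_centralizer_iff] at hg
      exact hg (r : G) hrP
  rw [e1, e2] at hloc
  exact hloc

end glob

end Cfsg.Agent.Helper74.KG
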