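import Mathlib
import Cfsg.Agent.Lib.Helper74.Subsec3
import Cfsg.Agent.S0840

/-!
# Counting pairs of involutions with product in the section of an involution (helper74)

`G` with a single class of involutions, `J` an involution.  The number of pairs `(x, y)` of
involutions such that `x y` commutes with `J` and `J x y` has odd order is expressed through the
irreducible characters (class multiplication coefficients, `S0840`).
-/

set_option autoImplicit false
set_option linter.unusedSectionVars false
set_option linter.style.haveILetI false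
set_option maxHeartbeats 800000

namespace Cfsg.Agent.Helper74.KO

open Cfsg
open Cfsg.Agent.Helper77 Cfsg.Agent.Helper78 Cfsg.Agent.Helper74.SS
open scoped ComplexConjugate

universe u

section count

variable {G : Type u} [Group G] [Fintype G]

/-- the sum of `χ (J c)` over the `2`-regular `c ∈ C_G(J)` -/
noncomputable def sreg (J : G) [Fintype (Subgroup.centralizer ({J} : Set G))]
    (χ : IrrCharacter G) : ℂ :=
  ∑ c : Subgroup.centralizer ({J} : Set G),
    pRegularPart 2 (fun c : Subgroup.centralizer ({J} : Set G) => (χ : G → ℂ) (J * (c : G))) c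

open scoped Classical in
theorem sreg_eq (J : G) (hJ2 : orderOf J = 2) [Fintype (Subgroup.centralizer ({J} : Set G))]
    (χ : IrrCharacter G) :
    ∑ g : G, (if J * g = g * J ∧ Odd (orderOf (J * g)) then (χ : G → ℂ) g else 0) = sreg J χ := by
  have hJJ : J * J = 1 := by
    have h := pow_orderOf_eq_one J
    rwa [hJ2, pow_two] at h
  have hJC := self_mem_cent J
  obtain ⟨z, hz⟩ : ∃ z : Subgroup.centralizer ({J} : Set G), z = ⟨J, hJC⟩ := ⟨_, rfl⟩
  have hzval : (z : G) = J := by rw [hz]
  rw [← sum_subgroup_eq (Subgroup.centralizer ({J} : Set G))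
    (fun g : G => if J * g = g * J ∧ Odd (orderOf (J * g)) then (χ : G → ℂ) g else 0)]
  · unfold sreg
    rw [← Equiv.sum_comp (Equiv.mulLeft z)]
    refine Finset.sum_congr rfl fun c _ => ?_
    show (if J * ((z * c : Subgroup.centralizer ({J} : Set G)) : G) =
        ((z * c : Subgroup.centralizer ({J} : Set G)) : G) * J ∧
        Odd (orderOf (J * ((z * c : Subgroup.centralizer ({J} : Set G)) : G))) then
        (χ : G → ℂ) ((z * c : Subgroup.centralizer ({J} : Set G)) : G) else 0) = _
    have h3 : ((z * c : Subgroup.centralizer ({J} : Set G)) : G) = J * (c : G) := by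
      push_cast; rw [hzval]
    have hc : J * (c : G) = (c : G) * J := (mem_cent_iff J (c : G)).1 c.2
    have h4 : J * (J * (c : G)) = (c : G) := by rw [← mul_assoc, hJJ, one_mul]
    have h5 : (c : G) = J * (c : G) * J := by rw [hc, mul_assoc, hJJ, mul_one]
    rw [h3, h4]
    by_cases hreg : 2 ∣ orderOf c
    · have hreg' : ¬ Odd (orderOf (c : G)) := by
        rw [Nat.not_odd_iff_even, even_iff_two_dvd, Subgroup.orderOf_coe]
        exact hreg
      rw [pRegularPart_of_singular 2 _ hreg, if_neg (fun h => hreg' h.2)]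
    · have hreg' : Odd (orderOf (c : G)) := by
        rw [← Nat.not_even_iff_odd, even_iff_two_dvd, Subgroup.orderOf_coe]
        exact hreg
      rw [pRegularPart_of_regular 2 _ hreg, if_pos ⟨h5, hreg'⟩]
  · intro g hg
    have : ¬ (J * g = g * J) := fun h => hg ((mem_cent_iff J g).2 h)
    rw [if_neg (fun h => this h.1)]

theorem pairs_count (J : G) (hJ2 : orderOf J = 2)
    (hone : ∀ s t : G, orderOf s = 2 → orderOf t = 2 → IsConj s t)
    [Fintype (Subgroup.centralizer ({J} : Set G))] :
    (Nat.card {p : G × G // orderOf p.1 = 2 ∧ orderOf p.2 = 2 ∧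
      J * (p.1 * p.2) = (p.1 * p.2) * J ∧ Odd (orderOf (J * (p.1 * p.2)))} : ℂ) =
    (Nat.card {x : G // IsConj J x} : ℂ) * (Nat.card {x : G // IsConj J x} : ℂ) /
      (Nat.card G : ℂ) *
      ∑ χ : IrrCharacter G, (χ : G → ℂ) J * (χ : G → ℂ) J * conj (sreg J χ) / (χ : G → ℂ) 1 := by
  classical
  have hinv : ∀ x : G, orderOf x = 2 ↔ IsConj J x := by
    intro x
    constructor
    · intro hx
      exact hone J x hJ2 hx
    · intro hc
      obtain ⟨g, hg⟩ := isConj_iff.1 hc
      rw [← hg]
      exact ((MulAut.conj g).orderOf_eq J).trans hJ2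
  obtain ⟨T, hTdef⟩ : ∃ T : Finset (G × G), T = Finset.univ.filter
      (fun p : G × G => orderOf p.1 = 2 ∧ orderOf p.2 = 2 ∧
        J * (p.1 * p.2) = (p.1 * p.2) * J ∧ Odd (orderOf (J * (p.1 * p.2)))) := ⟨_, rfl⟩
  have hcard : Nat.card {p : G × G // orderOf p.1 = 2 ∧ orderOf p.2 = 2 ∧
      J * (p.1 * p.2) = (p.1 * p.2) * J ∧ Odd (orderOf (J * (p.1 * p.2)))} = T.card := by
    rw [Nat.card_eq_fintype_card, Fintype.card_subtype, hTdef]
  have hfib : T.card = ∑ g : G, (T.filter (fun p => p.1 * p.2 = g)).card :=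
    Finset.card_eq_sum_card_fiberwise (f := fun p : G × G => p.1 * p.2) (t := Finset.univ)
      (fun _ _ => Finset.mem_univ _)
  obtain ⟨K, hKdef⟩ : ∃ K : ℂ, K = (Nat.card {x : G // IsConj J x} : ℂ) *
      (Nat.card {x : G // IsConj J x} : ℂ) / (Nat.card G : ℂ) := ⟨_, rfl⟩
  have hterm : ∀ g : G, ((T.filter (fun p => p.1 * p.2 = g)).card : ℂ) =
      K * ∑ χ : IrrCharacter G, (χ : G → ℂ) J * (χ : G → ℂ) J *
        conj (if J * g = g * J ∧ Odd (orderOf (J * g)) then (χ : G → ℂ) g else 0) /
          (χ : G → ℂ) 1 := by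
    intro g
    by_cases hg : J * g = g * J ∧ Odd (orderOf (J * g))
    · have hset : T.filter (fun p => p.1 * p.2 = g) = Finset.univ.filter
          (fun p : G × G => IsConj J p.1 ∧ IsConj J p.2 ∧ p.1 * p.2 = g) := by
        ext p
        rw [hTdef]
        simp only [Finset.mem_filter, Finset.mem_univ, true_and]
        constructor
        · rintro ⟨⟨h1, h2, _, _⟩, h5⟩
          exact ⟨(hinv _).1 h1, (hinv _).1 h2, h5⟩
        · rintro ⟨h1, h2, h5⟩
          refine ⟨⟨(hinv _).2 h1, (hinv _).2 h2, ?_, ?_⟩, h5⟩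
          · rw [h5]; exact hg.1
          · rw [h5]; exact hg.2
      have hc : ((T.filter (fun p => p.1 * p.2 = g)).card : ℂ) =
          (Nat.card {p : G × G // IsConj J p.1 ∧ IsConj J p.2 ∧ p.1 * p.2 = g} : ℂ) := by
        rw [hset, Nat.card_eq_fintype_card, Fintype.card_subtype]
      rw [hc, Cfsg.Agent.S0840.result J J g, finsum_eq_sum_of_fintype, ← hKdef]
      simp only [if_pos hg]
    · have hset : T.filter (fun p => p.1 * p.2 = g) = ∅ := by
        apply Finset.eq_empty_of_forall_notMem
        intro p hp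
        rw [Finset.mem_filter] at hp
        obtain ⟨hpT, h5⟩ := hp
        rw [hTdef, Finset.mem_filter] at hpT
        apply hg
        rw [← h5]
        exact ⟨hpT.2.2.2.1, hpT.2.2.2.2⟩
      rw [hset, Finset.card_empty]
      simp only [if_neg hg, map_zero, mul_zero, zero_div, Finset.sum_const_zero, Nat.cast_zero]
  rw [hcard, hfib, ← hKdef]
  push_cast
  rw [Finset.sum_congr rfl (fun g _ => hterm g), ← Finset.mul_sum, Finset.sum_comm]
  congr 1
  refine Finset.sum_congr rfl fun χ _ => ?_
  rw [← sreg_eq J hJ2 χ, map_sum, Finset.mul_sum, Finset.sum_div]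

end count

end Cfsg.Agent.Helper74.KO
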