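import Mathlib
import Cfsg.Agent.Lib.Helper74.KleinOrder1
import Cfsg.Agent.Lib.Helper74.Klein3

/-!
# Evaluation of `sreg` through the second and third main theorems (helper74)
-/

set_option autoImplicit false
set_option linter.unusedSectionVars false
set_option linter.style.haveILetI false
set_option maxHeartbeats 800000

namespace Cfsg.Agent.Helper74.KO

open Cfsg
open Cfsg.Agent.Helper77 Cfsg.Agent.Helper78 Cfsg.Agent.Helper74.SS Cfsg.Agent.Helper74.KL
open scoped ComplexConjugate

universe u

section ev

variable {G : Type u} [Group G] [Fintype G] {M : Ideal AlgInt} (J : G)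
  [Fintype (Subgroup.centralizer ({J} : Set G))]

theorem sreg_eq_card_mul_gdn (χ : IrrCharacter G) :
    sreg J χ = (Nat.card (Subgroup.centralizer ({J} : Set G)) : ℂ) *
      gdn 2 J χ (trivIrr (Subgroup.centralizer ({J} : Set G))) := by
  have hC : (Nat.card (Subgroup.centralizer ({J} : Set G)) : ℂ) ≠ 0 := by
    exact_mod_cast Nat.card_pos.ne'
  unfold sreg gdn classInner
  rw [← mul_assoc, mul_inv_cancel₀ hC, one_mul]
  refine Finset.sum_congr rfl fun c _ => ?_
  rw [trivIrr_apply, map_one, mul_one]

theorem sreg_of_notMem (hM : IsPModular 2 M) (hJ : ∃ k : ℕ, orderOf J = 2 ^ k)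
    {χ : IrrCharacter G} (hχ : χ ∉ principalBlock M G) : sreg J χ = 0 := by
  haveI : Fact (Nat.Prime 2) := ⟨Nat.prime_two⟩
  haveI := isPrime_of_isPModular hM
  rw [sreg_eq_card_mul_gdn]
  have hz : gdn 2 J χ (trivIrr (Subgroup.centralizer ({J} : Set G))) = 0 := by
    apply gdn_eq_zero J hM hJ χ
    intro hind
    have h1 : IsInducedBlock M (Subgroup.centralizer ({J} : Set G))
        (principalBlock M (Subgroup.centralizer ({J} : Set G))) (blockOf M (χ : G → ℂ)) := hind
    have h2 : IsInducedBlock M (Subgroup.centralizer ({J} : Set G))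
        (principalBlock M (Subgroup.centralizer ({J} : Set G))) (principalBlock M G) :=
      (blocks_inducing_principal hM J hJ _).2 rfl
    have h3 := isInducedBlock_unique _ h1 h2
    apply hχ
    rw [← h3]
    exact mem_blockOf_self χ
  rw [hz, mul_zero]

theorem sreg_of_mem (hM : IsPModular 2 M) (hJ : ∃ k : ℕ, orderOf J = 2 ^ k)
    (hrank : blockRank 2 (principalBlock M (Subgroup.centralizer ({J} : Set G))) = 1)
    {χ : IrrCharacter G} (hχ : χ ∈ principalBlock M G) :
    sreg J χ = (χ : G → ℂ) J * sreg J (trivIrr G) := by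
  haveI : Fact (Nat.Prime 2) := ⟨Nat.prime_two⟩
  unfold sreg
  rw [Finset.mul_sum]
  refine Finset.sum_congr rfl fun c _ => ?_
  by_cases hc : 2 ∣ orderOf c
  · rw [pRegularPart_of_singular 2 _ hc, pRegularPart_of_singular 2 _ hc, mul_zero]
  · rw [pRegularPart_of_regular 2 _ hc, pRegularPart_of_regular 2 _ hc, trivIrr_apply, mul_one]
    exact shift_const J hM hJ hrank hχ c hc

end ev

section ev2

variable {G : Type u} [Group G] [Fintype G] {M : Ideal AlgInt} (J : G)

theorem secNorm_trivIrr :
    letI : Fintype (Subgroup.centralizer ({J} : Set G)) := Fintype.ofFinite _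
    secNorm 2 J (trivIrr G) =
      (Nat.card (Subgroup.centralizer ({J} : Set G)) : ℂ)⁻¹ * sreg J (trivIrr G) := by
  letI : Fintype (Subgroup.centralizer ({J} : Set G)) := Fintype.ofFinite _
  unfold secNorm sreg classInner
  congr 1
  refine Finset.sum_congr rfl fun c _ => ?_
  by_cases hc : 2 ∣ orderOf c
  · rw [pRegularPart_of_singular 2 _ hc, zero_mul]
  · rw [pRegularPart_of_regular 2 _ hc, trivIrr_apply, map_one, mul_one]

end ev2

end Cfsg.Agent.Helper74.KO
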