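import Mathlib
import Cfsg.Prelude.Def_Characters
import Cfsg.Agent.Lib.Helper81.CharCorr
import Cfsg.Agent.Lib.Helper81.CharProd
import Cfsg.Agent.Lib.Helper81.CharRam

set_option autoImplicit false
set_option linter.unusedVariables false
set_option linter.unusedSectionVars false
set_option linter.style.haveILetI false

/-!
# Characters of maximal degree of a subgroup (for S4463, Isaacs 12.23)

`ψ ∈ Irr(H)` with `ψ(1) = b ≥ χ(1)` for all `χ ∈ Irr(G)`:
* FACT E: every irreducible constituent of `ψ^G` restricts to `ψ` (so `ψ` extends to `G`);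
* A': `ψ` vanishes on `H ∖ core_G(H)`  (Mackey-free: `ψ^G = χ · (1_H)^G` and `(ψ^G)_H = |G:H| ψ`).
-/

namespace Cfsg.Agent.Helper74.MaxDeg

open Cfsg Cfsg.Agent.Helper81
open scoped ComplexConjugate

universe u

variable {G : Type u} [Group G] [Fintype G]

/-- a constituent of `ψ^G` restricts to `ψ` when `ψ(1)` is the largest degree of `G` -/
theorem restrict_eq_of_constituent (H : Subgroup G) [Fintype H] {ψ : H → ℂ}
    (hψ : IsIrrCharacter H ψ) (b : ℕ) (hψ1 : ψ 1 = (b : ℂ))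
    (hb : ∀ χ : G → ℂ, IsIrrCharacter G χ → ∃ n : ℕ, n ≤ b ∧ χ 1 = (n : ℂ))
    {χ : G → ℂ} (hχ : IsIrrCharacter G χ) (hne : classInner (indFun H ψ) χ ≠ 0) :
    (fun h : H => χ h) = ψ := by
  have hχc := isClassFunction_of_isCharacter (IsIrrCharacter.isCharacter hχ)
  rw [frobenius_reciprocity H ψ hχc] at hne
  have hne' : classInner (fun h : H => χ h) ψ ≠ 0 := by
    rw [classInner_conj_symm]
    intro h
    apply hne
    have := congrArg conj h
    simpa using this
  have hres : IsCharacter H (fun h : H => χ h) :=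
    isCharacter_restrict H (IsIrrCharacter.isCharacter hχ)
  obtain ⟨α', hα', hadd⟩ := exists_add_of_classInner_ne_zero hres hψ hne'
  obtain ⟨n, hn, hχ1⟩ := hb χ hχ
  obtain ⟨k, hk⟩ := char_one_nat hα'
  have h1 := congrFun hadd 1
  simp only [OneMemClass.coe_one, Pi.add_apply] at h1
  rw [hχ1, hψ1, hk] at h1
  have h2 : n = b + k := by exact_mod_cast h1
  have hk0 : k = 0 := by omega
  have hα0 : α' = 0 := by
    apply eq_zero_of_char_one_eq_zero hα'
    rw [hk, hk0]; simp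
  rw [hadd, hα0, add_zero]

/-- FACT E: `ψ` extends to `G`. -/
theorem exists_extension (H : Subgroup G) [Fintype H] {ψ : H → ℂ}
    (hψ : IsIrrCharacter H ψ) (b : ℕ) (hψ1 : ψ 1 = (b : ℂ))
    (hb : ∀ χ : G → ℂ, IsIrrCharacter G χ → ∃ n : ℕ, n ≤ b ∧ χ 1 = (n : ℂ)) :
    ∃ χ : G → ℂ, IsIrrCharacter G χ ∧ (fun h : H => χ h) = ψ := by
  have hind : IsCharacter G (indFun H ψ) := isCharacter_indFun H (IsIrrCharacter.isCharacter hψ)
  obtain ⟨m, hm, hm1⟩ := irr_one_pos hψ
  have hind0 : indFun H ψ ≠ 0 := by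
    intro h
    have h1 := congrFun h 1
    rw [indFun_one, hm1] at h1
    simp only [Pi.zero_apply, mul_eq_zero, Nat.cast_eq_zero] at h1
    rcases h1 with h1 | h1
    · exact (Subgroup.index_ne_zero_of_finite (H := H)) h1
    · omega
  obtain ⟨χ, hχ, hne⟩ := exists_irr_constituent hind hind0
  exact ⟨χ, hχ, restrict_eq_of_constituent H hψ b hψ1 hb hχ hne⟩

/-- `(ψ^G)_H = |G:H| ψ`. -/
theorem indFun_restrict_eq (H : Subgroup G) [Fintype H] {ψ : H → ℂ}
    (hψ : IsIrrCharacter H ψ) (b : ℕ) (hψ1 : ψ 1 = (b : ℂ))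
    (hb : ∀ χ : G → ℂ, IsIrrCharacter G χ → ∃ n : ℕ, n ≤ b ∧ χ 1 = (n : ℂ)) (h : H) :
    indFun H ψ h = (H.index : ℂ) * ψ h := by
  classical
  haveI : Fintype (IrrCharacter G) := @Fintype.ofFinite _ irr_finite
  have hind : IsCharacter G (indFun H ψ) := isCharacter_indFun H (IsIrrCharacter.isCharacter hψ)
  obtain ⟨m, hm⟩ := exists_nat_decomp hind
  have hcoef : ∀ ξ : IrrCharacter G, classInner (indFun H ψ) (ξ : G → ℂ) = (m ξ : ℂ) := by
    intro ξ
    conv_lhs => rw [hm]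
    exact classInner_nat_decomp (fun χ' => (m χ' : ℂ)) ξ
  have hterm : ∀ (ξ : IrrCharacter G) (h : H),
      ((m ξ : ℂ) • (ξ : G → ℂ)) h = (m ξ : ℂ) * ψ h := by
    intro ξ h
    by_cases h0 : m ξ = 0
    · simp [h0]
    · have hne : classInner (indFun H ψ) (ξ : G → ℂ) ≠ 0 := by
        rw [hcoef]; exact_mod_cast h0
      have := restrict_eq_of_constituent H hψ b hψ1 hb ξ.2 hne
      have h2 : (ξ : G → ℂ) h = ψ h := congrFun this h
      simp only [Pi.smul_apply, smul_eq_mul]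
      rw [h2]
  have hval : ∀ h : H, indFun H ψ h = (∑ ξ : IrrCharacter G, (m ξ : ℂ)) * ψ h := by
    intro h
    conv_lhs => rw [hm]
    rw [Finset.sum_apply, Finset.sum_mul]
    apply Finset.sum_congr rfl
    intro ξ _
    exact hterm ξ h
  obtain ⟨k, hk, hk1⟩ := irr_one_pos hψ
  have hsum : (∑ ξ : IrrCharacter G, (m ξ : ℂ)) = (H.index : ℂ) := by
    have h1 := hval 1
    rw [OneMemClass.coe_one, indFun_one] at h1
    have hψ0 : ψ 1 ≠ 0 := by
      rw [hk1]; exact_mod_cast hk.ne'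
    exact (mul_right_cancel₀ hψ0 h1).symm
  rw [hval h, hsum]

/-- A': `ψ` vanishes on `H ∖ core_G(H)`. -/
theorem mem_normalCore_of_ne_zero (H : Subgroup G) [Fintype H] {ψ : H → ℂ}
    (hψ : IsIrrCharacter H ψ) (b : ℕ) (hψ1 : ψ 1 = (b : ℂ))
    (hb : ∀ χ : G → ℂ, IsIrrCharacter G χ → ∃ n : ℕ, n ≤ b ∧ χ 1 = (n : ℂ))
    (h : H) (hh : ψ h ≠ 0) : (h : G) ∈ H.normalCore := by
  classical
  obtain ⟨χ, hχ, hres⟩ := exists_extension H hψ b hψ1 hb
  have hχc := isClassFunction_of_isCharacter (IsIrrCharacter.isCharacter hχ)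
  have hpp := indFun_mul_restrict H (fun _ : H => (1 : ℂ)) hχc
  have hfun : ((fun _ : H => (1 : ℂ)) * fun n : H => χ n) = ψ := by
    rw [hres]
    funext x
    simp
  rw [hfun] at hpp
  have h1 := congrFun hpp h
  rw [indFun_restrict_eq H hψ b hψ1 hb h, Pi.mul_apply] at h1
  have hχh : χ h = ψ h := congrFun hres h
  rw [hχh] at h1
  have hπ : indFun H (fun _ : H => (1 : ℂ)) h = (H.index : ℂ) := by
    exact (mul_right_cancel₀ hh h1).symm
  -- count
  rw [indFun_apply] at hπ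
  have hext : ∀ x : G, extendByZero H (fun _ : H => (1 : ℂ)) (x⁻¹ * (h : G) * x) =
      if x⁻¹ * (h : G) * x ∈ H then 1 else 0 := by
    intro x
    by_cases hx : x⁻¹ * (h : G) * x ∈ H
    · rw [if_pos hx, extendByZero_apply_mem H _ hx]
    · rw [if_neg hx, extendByZero_apply_not_mem H _ hx]
  simp only [hext] at hπ
  rw [Finset.sum_boole] at hπ
  set S := Finset.univ.filter (fun x : G => x⁻¹ * (h : G) * x ∈ H) with hS
  have hH0 : (Nat.card H : ℂ) ≠ 0 := by exact_mod_cast (Nat.card_pos (α := H)).ne'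
  have hcard : (S.card : ℂ) = (Fintype.card G : ℂ) := by
    have h2 : (S.card : ℂ) = (Nat.card H : ℂ) * (H.index : ℂ) := by
      rw [← hπ]; field_simp
    rw [h2, ← Nat.card_eq_fintype_card, ← Subgroup.index_mul_card H]
    push_cast; ring
  have hcard' : S.card = Fintype.card G := by exact_mod_cast hcard
  have hSuniv : S = Finset.univ := Finset.eq_univ_of_card S hcard'
  change ∀ g : G, g * (h : G) * g⁻¹ ∈ H
  intro g
  have hg : g⁻¹ ∈ S := by rw [hSuniv]; exact Finset.mem_univ _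
  rw [hS, Finset.mem_filter] at hg
  simpa using hg.2

end Cfsg.Agent.Helper74.MaxDeg
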