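import Mathlib
import Cfsg.Agent.S1017
import Cfsg.Agent.Lib.Helper17.Simple
import Cfsg.Agent.Lib.Helper17.SylowCount
import Cfsg.Agent.Lib.Helper85.O4320BASE2
import Cfsg.Agent.Lib.Helper54.O5760BDefs

/-!
# N96 (P8) `c360_false` for helper54's server (S0980, case n_5 = 96): the transfer argument.
-/

set_option autoImplicit false

namespace Cfsg.Agent.Helper74.N96

open Cfsg MulAction Cfsg.Agent.Helper54.O5760B

universe u

section Sylow

variable {G : Type u} [Group G] [Finite G] [IsSimpleGroup G]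

open scoped IsMulCommutative in
/-- (P8) TRANSFER. -/
theorem c360_false (hG : Nat.card G = 5760) (x : G) (hx : orderOf x = 3) (M : Subgroup G)
    (hCM : Subgroup.centralizer ({x} : Set G) ≤ M)
    (hC : Nat.card (Subgroup.centralizer ({x} : Set G)) = 360) (hM : Nat.card M = 360)
    (hfx : ∀ g : G, g⁻¹ * x * g ∈ M → g ∈ M) : False := by
  classical
  have : Fact (Nat.Prime 3) := ⟨by norm_num⟩
  -- M = C(x)
  have hMC : M = Subgroup.centralizer ({x} : Set G) :=
    (Subgroup.eq_of_le_of_card_ge hCM (by rw [hC, hM])).symm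
  have hx3 : x ^ 3 = 1 := by rw [← hx]; exact pow_orderOf_eq_one x
  have hx1 : x ≠ 1 := by
    intro h
    rw [h, orderOf_one] at hx
    norm_num at hx
  -- a Sylow 3-subgroup containing x
  have hz3 : IsPGroup 3 (Subgroup.zpowers x) := by
    apply IsPGroup.of_card (n := 1)
    rw [Nat.card_zpowers, hx, pow_one]
  obtain ⟨P, hP⟩ := hz3.exists_le_sylow
  have hxP : x ∈ (P : Subgroup G) := hP (Subgroup.mem_zpowers x)
  have hP9 : Nat.card (P : Subgroup G) = 3 ^ 2 :=
    Cfsg.Agent.S1017.sylow_card_eq P 2 640 (by rw [hG]; norm_num) (by norm_num)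
  have hPmc : IsMulCommutative (P : Subgroup G) :=
    IsPGroup.isMulCommutative_of_card_eq_prime_sq hP9
  have hPcomm : ∀ a b : (P : Subgroup G), a * b = b * a := fun a b => hPmc.is_comm.comm a b
  -- P ≤ M
  have hPM : (P : Subgroup G) ≤ M := by
    intro y hy
    rw [hMC, Subgroup.mem_centralizer_iff]
    intro z hz
    rw [Set.mem_singleton_iff] at hz
    subst hz
    have := hPcomm ⟨z, hxP⟩ ⟨y, hy⟩
    exact congrArg Subtype.val this
  -- the key property
  have key : ∀ (k : ℕ) (g₀ : G), g₀⁻¹ * x ^ k * g₀ ∈ (P : Subgroup G) →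
      g₀⁻¹ * x ^ k * g₀ = x ^ k := by
    intro k g₀ hk
    by_cases hk1 : x ^ k = 1
    · rw [hk1]; group
    -- 3 ∤ k
    have h3k : ¬ 3 ∣ k := by
      intro hd
      apply hk1
      obtain ⟨j, rfl⟩ := hd
      rw [pow_mul, hx3, one_pow]
    -- x is a power of x^k
    have hxpow : ∃ j : ℕ, (x ^ k) ^ j = x := by
      have hk3 : k % 3 = 1 ∨ k % 3 = 2 := by omega
      rcases hk3 with h | h
      · refine ⟨1, ?_⟩
        rw [pow_one, ← Nat.div_add_mod k 3, h, pow_add, pow_mul, hx3, one_pow, one_mul, pow_one]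
      · refine ⟨2, ?_⟩
        rw [← pow_mul, ← Nat.div_add_mod k 3, h]
        have : (3 * (k / 3) + 2) * 2 = 3 * (2 * (k / 3) + 1) + 1 := by ring
        rw [this, pow_add, pow_mul, hx3, one_pow, one_mul, pow_one]
    obtain ⟨j, hj⟩ := hxpow
    have hconj : g₀⁻¹ * x * g₀ ∈ M := by
      apply hPM
      have h1 : g₀⁻¹ * x * g₀ = (g₀⁻¹ * x ^ k * g₀) ^ j := by
        have hpw : ∀ (y : G) (n : ℕ), (g₀⁻¹ * y * g₀) ^ n = g₀⁻¹ * y ^ n * g₀ := by
          intro y n
          induction n with
          | zero => simp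
          | succ n ih => rw [pow_succ, ih, pow_succ]; group
        rw [hpw, hj]
      rw [h1]
      exact (P : Subgroup G).pow_mem hk j
    have hg₀ : g₀ ∈ Subgroup.centralizer ({x} : Set G) := by
      rw [← hMC]; exact hfx g₀ hconj
    rw [Subgroup.mem_centralizer_iff] at hg₀
    have hcomm : x * g₀ = g₀ * x := hg₀ x (Set.mem_singleton x)
    have hcommk : x ^ k * g₀ = g₀ * x ^ k := by
      have : Commute x g₀ := hcomm
      exact (this.pow_left k)
    rw [mul_assoc, hcommk, inv_mul_cancel_left]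
  -- the transfer homomorphism
  let τ : G →* (P : Subgroup G) := MonoidHom.transfer (MonoidHom.id (P : Subgroup G))
  have hτ : τ x = ⟨x ^ (P : Subgroup G).index, MonoidHom.transfer_eq_pow_aux x key⟩ :=
    MonoidHom.transfer_eq_pow (MonoidHom.id (P : Subgroup G)) x key
  have hidx : (P : Subgroup G).index = 640 := by
    have h1 := (P : Subgroup G).card_mul_index
    rw [hP9, hG] at h1
    omega
  have hx640 : x ^ 640 = x := by
    have : (640 : ℕ) = 3 * 213 + 1 := by norm_num
    rw [this, pow_add, pow_mul, hx3, one_pow, one_mul, pow_one]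
  have hτx : τ x ≠ 1 := by
    intro h
    rw [hτ] at h
    have h2 := congrArg Subtype.val h
    simp only [Subgroup.coe_one] at h2
    rw [hidx, hx640] at h2
    exact hx1 h2
  -- kernel is trivial
  have hker : τ.ker = ⊥ := by
    rcases (inferInstance : τ.ker.Normal).eq_bot_or_eq_top with h | h
    · exact h
    · exfalso
      apply hτx
      have : x ∈ τ.ker := by rw [h]; trivial
      exact this
  have hinj : Function.Injective τ := (MonoidHom.ker_eq_bot_iff τ).1 hker
  have hle : Nat.card G ≤ Nat.card (P : Subgroup G) := Nat.card_le_card_of_injective τ hinj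
  rw [hG, hP9] at hle
  norm_num at hle

end Sylow

end Cfsg.Agent.Helper74.N96
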