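import Mathlib
import Cfsg.Agent.Lib.Helper87.SVKit
import Cfsg.Agent.Lib.Helper75.FixKill
import Cfsg.Agent.Lib.Helper17.SylowLink
import Cfsg.Agent.Lib.Helper17.Simple
import Cfsg.Agent.Lib.Helper17.SelfCent
import Cfsg.Agent.Lib.Helper74.DihedralChars

/-!
# O175560 (N58520): no simple group of order 58520 = 2^3 * 5 * 7 * 11 * 19 (helper24's server, S4274)

`n_19 ∈ {77, 1540}`; `77` dies by the fixed points of an element of order `5` of `C(P19)` on `Syl_19`.
So `n_19 = 1540`, `|N(P19)| = 38`, `C(P19) = P19`.  `n_7 ∈ {22, 190, 4180}`: `22` and `190` die by links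
to `P19` and `P11`.  So `|N(P7)| = 14`, `C(P7) = P7`.  The degree equation at `p = 19` gives nine
irreducible characters of degree `55`; the one at `p = 7` shows that at most five irreducible
characters have degree prime to `7`.
-/

set_option autoImplicit false

namespace Cfsg.Agent.Helper74.O175560

open Nat MulAction Cfsg.Agent.Helper17 Cfsg.Agent.Helper17.Sieve Cfsg.Agent.Helper75.FixKill
  Cfsg.Agent.Helper87.SV

universe u

set_option maxRecDepth 100000 in
theorem h74_58520_adm19 : ∀ d ∈ List.range (3080 + 1), d ∣ 3080 → d % 19 = 1 →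
    ¬ Bad (19 ^ 1 * 3080) 19 1 3080 d → d = 77 ∨ d = 1540 := by
  decide +kernel

set_option maxRecDepth 100000 in
theorem h74_58520_adm11 : ∀ d ∈ List.range (5320 + 1), d ∣ 5320 → d % 11 = 1 →
    ¬ Bad (11 ^ 1 * 5320) 11 1 5320 d → d = 56 ∨ d = 133 := by
  decide +kernel

set_option maxRecDepth 100000 in
theorem h74_58520_adm7 : ∀ d ∈ List.range (8360 + 1), d ∣ 8360 → d % 7 = 1 →
    ¬ Bad (7 ^ 1 * 8360) 7 1 8360 d → d = 22 ∨ d = 190 ∨ d = 4180 := by
  decide +kernel

set_option maxRecDepth 100000 in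
theorem h74_58520_deg1 : ∀ x ∈ List.range (3080 + 1), x ∣ 3080 → 1 < x → 19 ∣ x - 1 →
    x + 1 ∣ 58520 → False := by
  decide +kernel

set_option maxRecDepth 100000 in
theorem h74_58520_deg2 : ∀ x ∈ List.range (3080 + 1), x ∣ 3080 → 1 < x → 19 ∣ x + 1 →
    x - 1 ∣ 58520 → x = 56 := by
  decide +kernel

/-- no nonabelian simple group of order 58520 -/
theorem h74_no_58520 : NoSimple.{u} 58520 := by
  intro G _ _ _ hna hn0
  have h19 : Fact (Nat.Prime 19) := ⟨by norm_num⟩
  have h11 : Fact (Nat.Prime 11) := ⟨by norm_num⟩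
  have h7 : Fact (Nat.Prime 7) := ⟨by norm_num⟩
  have h5 : Fact (Nat.Prime 5) := ⟨by norm_num⟩
  have hn19 : Nat.card G = 19 ^ 1 * 3080 := by rw [hn0]; norm_num
  have hn11 : Nat.card G = 11 ^ 1 * 5320 := by rw [hn0]; norm_num
  have hn7 : Nat.card G = 7 ^ 1 * 8360 := by rw [hn0]; norm_num
  obtain ⟨hP19, hr19, hd19, hm19, hb19, hone19, he19⟩ :=
    h87_data hna 19 3080 (by norm_num) hn19 (by norm_num)
  obtain ⟨hP11, hr11, hd11, hm11, hb11, -, he11⟩ :=
    h87_data hna 11 5320 (by norm_num) hn11 (by norm_num)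
  obtain ⟨hP7, hr7, hd7, hm7, hb7, -, he7⟩ :=
    h87_data hna 7 8360 (by norm_num) hn7 (by norm_num)
  obtain ⟨P19⟩ : Nonempty (Sylow 19 G) := inferInstance
  obtain ⟨P7⟩ : Nonempty (Sylow 7 G) := inferInstance
  -- Step 1: `n_19 = 1540`
  have hc19 : Nat.card (Sylow 19 G) = 1540 := by
    rcases h74_58520_adm19 _ hr19 hd19 hm19 hb19 with h | h
    · exfalso
      obtain ⟨e, hea, heb, hec⟩ := he19 P19
      have hele : e ≤ 18 := Nat.le_of_dvd (by norm_num) hea
      rw [h] at hec
      have h5c : 5 ∣ Nat.card (Subgroup.centralizer ((P19 : Subgroup G) : Set G)) := by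
        generalize Nat.card (Subgroup.centralizer ((P19 : Subgroup G) : Set G)) = c at hec
        interval_cases e <;> omega
      obtain ⟨f, m', -, hf1, hf2, -, hf3, -⟩ :=
        exists_fix (G := G) (by rw [hn0]; norm_num) (p := 19) (r := 5) (by norm_num) P19
          (hP19 P19) hone19 h5c
      rw [h] at hf2 hf3
      omega
    · exact h
  -- Step 2: `n_7 = 4180`
  have hc7 : Nat.card (Sylow 7 G) = 4180 := by
    obtain ⟨e, hea, heb, hec⟩ := he7 P7
    have hele : e ≤ 6 := Nat.le_of_dvd (by norm_num) hea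
    rcases h74_58520_adm7 _ hr7 hd7 hm7 hb7 with h | h | h
    · exfalso
      rw [h] at hec
      have h19c : 19 ∣ Nat.card (Subgroup.centralizer ((P7 : Subgroup G) : Set G)) := by
        generalize Nat.card (Subgroup.centralizer ((P7 : Subgroup G) : Set G)) = c at hec
        interval_cases e <;> omega
      have := h87_link hP7 hP19 P7 h19c
      rw [hn0, hc19] at this
      omega
    · exfalso
      rw [h] at hec
      have h11c : 11 ∣ Nat.card (Subgroup.centralizer ((P7 : Subgroup G) : Set G)) := by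
        generalize Nat.card (Subgroup.centralizer ((P7 : Subgroup G) : Set G)) = c at hec
        interval_cases e <;> omega
      have := h87_link hP7 hP11 P7 h11c
      rw [hn0] at this
      rcases h74_58520_adm11 _ hr11 hd11 hm11 hb11 with h' | h' <;> rw [h'] at this <;> omega
    · exact h
  -- normalizers
  have hG19 : Nat.card G ≠ 19 := by rw [hn0]; norm_num
  have hG7 : Nat.card G ≠ 7 := by rw [hn0]; norm_num
  have hN19 : Nat.card ↥(Subgroup.normalizer ((P19 : Subgroup G) : Set G)) = 19 * 2 := by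
    rw [h87_card_normalizer P19, hn0, hc19]
  have hN7 : Nat.card ↥(Subgroup.normalizer ((P7 : Subgroup G) : Set G)) = 7 * 2 := by
    rw [h87_card_normalizer P7, hn0, hc7]
  have hC19 := centralizer_eq_of_card_normalizer P19 (hP19 P19) hG19 Nat.prime_two hN19
  have hC7 := centralizer_eq_of_card_normalizer P7 (hP7 P7) hG7 Nat.prime_two hN7
  -- characters
  have hperf : commutator G = ⊤ :=
    Cfsg.Agent.Helper17.PrimeTI.perfect_of_simple (by rw [hn0]; norm_num)
  have : Fintype G := Fintype.ofFinite G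
  obtain ⟨E, d, x, hEcard, hEdeg, hx1, hxdvd, hddvd, hcase⟩ :=
    Cfsg.Agent.Helper74.DihedralChars.h74_dihedral_exc hperf (P19 : Subgroup G) 19 9
      (hP19 P19) hC19 hN19 (by norm_num) (by norm_num)
  rw [hn0] at hxdvd hddvd
  -- `x ∣ 3080`
  have hx19 : ¬ 19 ∣ x := by
    intro h
    rcases hcase with ⟨h1, -⟩ | ⟨h1, -⟩ <;> omega
  have hx3080 : x ∣ 3080 := by
    have hcop : Nat.Coprime x 19 :=
      ((Nat.Prime.coprime_iff_not_dvd (by norm_num : (19 : ℕ).Prime)).2 hx19).symm
    have : x ∣ 19 * 3080 := by norm_num; exact hxdvd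
    exact hcop.dvd_of_dvd_mul_left this
  have hxle : x ≤ 3080 := Nat.le_of_dvd (by norm_num) hx3080
  have hxr : x ∈ List.range (3080 + 1) := List.mem_range.2 (by omega)
  have hd55 : d = 55 := by
    rcases hcase with ⟨h1, h2⟩ | ⟨h1, h2⟩
    · exfalso
      rw [h2] at hddvd
      exact h74_58520_deg1 x hxr hx3080 hx1 h1 hddvd
    · rw [h2] at hddvd
      have := h74_58520_deg2 x hxr hx3080 hx1 h1 hddvd
      omega
  have hcount := Cfsg.Agent.Helper74.DihedralChars.h74_dihedral_count (P7 : Subgroup G) 7 3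
    (hP7 P7) hC7 hN7 (by norm_num) (by norm_num) E (by
      intro ψ hψ
      rw [hEdeg ψ hψ, hd55]
      norm_num)
  omega

theorem no_58520 {G : Type u} [Group G] [Finite G] [IsSimpleGroup G] : Nat.card G ≠ 58520 := by
  intro h
  have hna : ¬ IsMulCommutative G :=
    Cfsg.Agent.Helper17.not_comm_of_not_prime (by rw [h]; norm_num)
  exact h74_no_58520 G hna h

end Cfsg.Agent.Helper74.O175560
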