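import Mathlib
import Cfsg.Agent.S1017
import Cfsg.Agent.Lib.Helper17.Simple
import Cfsg.Agent.Lib.Helper17.Burnside
import Cfsg.Agent.Lib.Helper17.EmbedNormalizer
import Cfsg.Agent.Lib.Helper17.PrimeSylow

/-!
# O2520 server (S0984), piece (N7), part a: the case `n_7 = 36` - the centralizer `C(P7)` of order `35` acts
freely on the other `35` Sylow `7`-subgroups.
-/

set_option autoImplicit false

namespace Cfsg.Agent.Helper74.O2520

open MulAction

universe u

/-- a nontrivial subgroup of order dividing `35` has order divisible by `5` or by `7` -/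
theorem h74_dvd35' : ∀ n ∈ Nat.divisors 35, n ≠ 1 → 5 ∣ n ∨ 7 ∣ n := by decide

theorem h74_dvd35 (n : ℕ) (h : n ∣ 35) (h1 : n ≠ 1) : 5 ∣ n ∨ 7 ∣ n :=
  h74_dvd35' n (Nat.mem_divisors.2 ⟨h, by norm_num⟩) h1

theorem h74_f36 (f : ℕ) (h7 : f % 7 = 1) (h5 : f % 5 = 1) (hle : f ≤ 36) (h2 : 2 ≤ f) : f = 36 := by
  omega

section
variable {G : Type u} [Group G] [Finite G] [IsSimpleGroup G]

/-- FREENESS: with `n_7 = 36` and `|C(P7)| = 35`, a nontrivial element of `C(P7)` fixes no other Sylow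
`7`-subgroup. -/
theorem h74_free (h36 : Nat.card (Sylow 7 G) = 36)
    [hp7 : Fact (Nat.Prime 7)] [hp5 : Fact (Nat.Prime 5)] (P : Sylow 7 G)
    (hPc : Nat.card (P : Subgroup G) = 7)
    (hC : Nat.card (Subgroup.centralizer ((P : Subgroup G) : Set G)) = 35)
    (g : G) (hg : g ∈ Subgroup.centralizer ((P : Subgroup G) : Set G)) (R : Sylow 7 G) (hR : R ≠ P)
    (hfix : g • R = R) : g = 1 := by
  by_contra hg1
  set Cs := Subgroup.centralizer ((P : Subgroup G) : Set G) with hCs
  have hCN : Cs ≤ Subgroup.normalizer ((P : Subgroup G) : Set G) :=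
    Subgroup.centralizer_le_normalizer _
  set S : Subgroup G := Cs ⊓ stabilizer G R with hS
  have hgS : g ∈ S := ⟨hg, hfix⟩
  have hSd : Nat.card S ∣ 35 := by
    rw [← hC]; exact Subgroup.card_dvd_of_le inf_le_left
  have hS1 : Nat.card S ≠ 1 := by
    intro h1
    have : S = ⊥ := Subgroup.card_eq_one.mp h1
    rw [this, Subgroup.mem_bot] at hgS
    exact hg1 hgS
  rcases h74_dvd35 _ hSd hS1 with h5 | h7
  · -- an element of order 5
    obtain ⟨h', hh'⟩ := exists_prime_orderOf_dvd_card' (G := ↥S) 5 h5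
    obtain ⟨h, hh⟩ : ∃ h : G, h = (h' : G) := ⟨_, rfl⟩
    have hho : orderOf h = 5 := by rw [hh, Subgroup.orderOf_coe, hh']
    have hhS : h ∈ S := hh ▸ h'.2
    have hhC : h ∈ Cs := hhS.1
    have hhR : h • R = R := hhS.2
    have hhP : h • P = P := Sylow.smul_eq_iff_mem_normalizer.mpr (hCN hhC)
    have hm7 := Cfsg.Agent.S1017.card_fixedBy_sylow_modEq P hPc h hhC
    have hm5 := Cfsg.Agent.S1017.card_modEq_card_fixedBy (α := Sylow 7 G) h (r := 5) hho
    rw [h36] at hm5
    have hle : Nat.card (fixedBy (Sylow 7 G) h) ≤ 36 := by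
      rw [← h36]
      exact Nat.card_le_card_of_injective _ Subtype.val_injective
    have h2 : 2 ≤ Nat.card (fixedBy (Sylow 7 G) h) := by
      have hc : Nat.card {x : fixedBy (Sylow 7 G) h // x ≠ ⟨P, hhP⟩} =
          Nat.card (fixedBy (Sylow 7 G) h) - 1 :=
        Cfsg.Agent.S1017.card_ne_subtype (⟨P, hhP⟩ : fixedBy (Sylow 7 G) h)
      have hne : Nonempty {x : fixedBy (Sylow 7 G) h // x ≠ ⟨P, hhP⟩} :=
        ⟨⟨⟨R, hhR⟩, fun e => hR (congrArg Subtype.val e)⟩⟩
      have hpos : 0 < Nat.card {x : fixedBy (Sylow 7 G) h // x ≠ ⟨P, hhP⟩} := Nat.card_pos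
      omega
    have hf := h74_f36 _ (by have := hm7; unfold Nat.ModEq at this; omega)
      (by have := hm5; unfold Nat.ModEq at this; omega) hle h2
    have hall := Cfsg.Agent.S1017.forall_smul_eq_of_card (α := Sylow 7 G) h (by rw [hf, h36])
    have hnt := Cfsg.Agent.S1017.sylow_action_nontrivial (G := G) (p := 7) (by rw [h36]; norm_num)
    have h1 := Cfsg.Agent.S1017.eq_one_of_forall_smul_eq hnt h hall
    rw [h1, orderOf_one] at hho
    omega
  · -- an element of order 7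
    obtain ⟨h', hh'⟩ := exists_prime_orderOf_dvd_card' (G := ↥S) 7 h7
    obtain ⟨h, hh⟩ : ∃ h : G, h = (h' : G) := ⟨_, rfl⟩
    have hho : orderOf h = 7 := by rw [hh, Subgroup.orderOf_coe, hh']
    have hhS : h ∈ S := hh ▸ h'.2
    have hhP := Cfsg.Agent.S1017.mem_sylow_of_mem_normalizer P h hho (hCN hhS.1)
    have h1 := Cfsg.Agent.S1017.eq_one_of_smul_eq P R hPc hR h hhP hhS.2
    rw [h1, orderOf_one] at hho
    omega

end

end Cfsg.Agent.Helper74.O2520
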