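import Mathlib
import Cfsg.Agent.S1017
import Cfsg.Agent.Lib.Helper17.Simple
import Cfsg.Agent.Lib.Helper17.Burnside
import Cfsg.Agent.Lib.Helper17.EmbedNormalizer
import Cfsg.Agent.Lib.Helper17.PrimeSylow
import Cfsg.Agent.Lib.Helper74.O2520N7a

/-!
# O2520 server (S0984), piece (N7), part b: `n_7 = 36` is impossible in a simple group of order `2520`.
-/

set_option autoImplicit false

namespace Cfsg.Agent.Helper74.O2520

open MulAction Cfsg.Agent.Helper17

universe u

/-- the centralizer of `P` is normalized by the normalizer of `P` -/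
theorem h74_conj_mem_centralizer {G : Type u} [Group G] (P : Subgroup G) (t h : G)
    (ht : t ∈ Subgroup.normalizer (P : Set G)) (hh : h ∈ Subgroup.centralizer (P : Set G)) :
    t⁻¹ * h * t ∈ Subgroup.centralizer (P : Set G) := by
  rw [Subgroup.mem_centralizer_iff] at hh ⊢
  intro x hx
  have hx' : t * x * t⁻¹ ∈ (P : Set G) := (Subgroup.mem_normalizer_iff.mp ht x).mp hx
  have e1 : x * (t⁻¹ * h * t) = t⁻¹ * ((t * x * t⁻¹) * h) * t := by group
  have e2 : (t⁻¹ * h * t) * x = t⁻¹ * (h * (t * x * t⁻¹)) * t := by group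
  rw [e1, e2, hh _ hx']

theorem h74_n5_num : ∀ d ∈ Nat.divisors 504, d % 5 = 1 → 70 ∣ 2520 / d → d = 1 ∨ d = 6 ∨ d = 36 := by
  decide

theorem h74_fact6 : ¬ (2 * 2520 ∣ Nat.factorial 6) := by decide

section
variable {G : Type u} [Group G] [Finite G] [IsSimpleGroup G]

/-- an element `y` of order `5` commuting with an involution `t` and centralizing a Sylow `7`-subgroup `P`
is impossible in a simple group of order `2520`. -/
theorem h74_no_y (hG : Nat.card G = 2520) [hp7 : Fact (Nat.Prime 7)] [hp5 : Fact (Nat.Prime 5)]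
    (P : Sylow 7 G) (hPc : Nat.card (P : Subgroup G) = 7) (t y : G) (hto : orderOf t = 2)
    (hyo : orderOf y = 5) (hyC : y ∈ Subgroup.centralizer ((P : Subgroup G) : Set G))
    (hty : t * y = y * t) : False := by
  have hna : ¬ IsMulCommutative G := not_comm_of_not_prime (by rw [hG]; norm_num)
  have hn5 : Nat.card G = 5 ^ 1 * 504 := by rw [hG]; norm_num
  obtain ⟨Q, hyQ⟩ := exists_sylow_mem_of_orderOf y hyo
  have hQc : Nat.card (Q : Subgroup G) = 5 := by
    have := sylow_card_eq Q hn5 (by norm_num)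
    rwa [pow_one] at this
  have hy1 : y ≠ 1 := Cfsg.Agent.S1017.ne_one_of_orderOf_prime y hp5.out hyo
  have hQz := (zpowers_eq_of_card_prime (Q : Subgroup G) hQc y hyQ hy1).1
  set CQ := Subgroup.centralizer ((Q : Subgroup G) : Set G) with hCQ
  set NQ := Subgroup.normalizer ((Q : Subgroup G) : Set G) with hNQ
  -- membership in `C(Q)` from commuting with `y`
  have hmemCQ : ∀ x : G, x * y = y * x → x ∈ CQ := by
    intro x hx
    rw [hCQ, Subgroup.mem_centralizer_iff]
    intro q hq
    rw [SetLike.mem_coe, ← hQz] at hq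
    obtain ⟨k, rfl⟩ := Subgroup.mem_zpowers_iff.1 hq
    have hc : Commute y x := hx.symm
    exact (hc.zpow_left k).eq
  have hPle : (P : Subgroup G) ≤ CQ := by
    intro x hx
    apply hmemCQ
    exact ((Subgroup.mem_centralizer_iff.mp hyC) x hx)
  have htCQ : t ∈ CQ := hmemCQ t hty
  have hQle : (Q : Subgroup G) ≤ CQ := Cfsg.Agent.S1017.le_centralizer_self Q hQc
  have h7d : 7 ∣ Nat.card CQ := by rw [← hPc]; exact Subgroup.card_dvd_of_le hPle
  have h5d : 5 ∣ Nat.card CQ := by rw [← hQc]; exact Subgroup.card_dvd_of_le hQle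
  have h2d : 2 ∣ Nat.card CQ := by rw [← hto]; exact Subgroup.orderOf_dvd_natCard _ htCQ
  have h70 : 70 ∣ Nat.card CQ := by
    have h35 : 35 ∣ Nat.card CQ :=
      Nat.Coprime.mul_dvd_of_dvd_of_dvd (by norm_num : Nat.Coprime 5 7) h5d h7d
    exact Nat.Coprime.mul_dvd_of_dvd_of_dvd (by norm_num : Nat.Coprime 2 35) h2d h35
  have hCN : CQ ≤ NQ := Subgroup.centralizer_le_normalizer _
  have hCNd : Nat.card CQ ∣ Nat.card NQ := Subgroup.card_dvd_of_le hCN
  have hN := card_normalizer_mul_sylow_count Q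
  rw [hG] at hN
  obtain ⟨hd1, hd2⟩ := sylow_count (G := G) (p := 5) hn5 (by norm_num)
  have hne := sylow_count_ne_one (G := G) (p := 5) hn5 (by norm_num) (by norm_num) (by norm_num)
  have hpos : 0 < Nat.card (Sylow 5 G) := Nat.card_pos
  have hNQeq : Nat.card NQ = 2520 / Nat.card (Sylow 5 G) :=
    (Nat.div_eq_of_eq_mul_left hpos hN.symm).symm
  have h70' : 70 ∣ 2520 / Nat.card (Sylow 5 G) := by rw [← hNQeq]; exact h70.trans hCNd
  rcases h74_n5_num _ (Nat.mem_divisors.2 ⟨hd1, by norm_num⟩) hd2 h70' with h | h | h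
  · exact hne h
  · have := sylow_count_factorial (G := G) (p := 5) hna hne
    rw [h, hG] at this
    exact h74_fact6 this
  · rw [h] at hNQeq
    have hNQ70 : Nat.card NQ = 70 := by rw [hNQeq]
    have hCQ70 : Nat.card CQ = 70 := by
      rw [hNQ70] at hCNd
      exact Nat.dvd_antisymm hCNd h70
    have heq : CQ = NQ := Subgroup.eq_of_le_of_card_ge hCN (by rw [hNQ70, hCQ70])
    apply not_normalizer_le_centralizer Q (by rw [hQc]; norm_num) (by rw [hQc, hG]; norm_num)
    rw [← hNQ, ← hCQ, heq]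

end

end Cfsg.Agent.Helper74.O2520
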