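import Mathlib
import Cfsg.Agent.S1017
import Cfsg.Agent.Lib.Helper17.Simple
import Cfsg.Agent.Lib.Helper17.Burnside
import Cfsg.Agent.Lib.Helper17.EmbedNormalizer
import Cfsg.Agent.Lib.Helper17.PrimeSylow
import Cfsg.Agent.Lib.Helper74.O2520N7a
import Cfsg.Agent.Lib.Helper74.O2520N7b

/-!
# O2520 server (S0984), piece (N7), part c: `n_7 = 36` is impossible (main argument).
-/

set_option autoImplicit false

namespace Cfsg.Agent.Helper74.O2520

open MulAction Cfsg.Agent.Helper17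

universe u

section
variable {G : Type u} [Group G] [Finite G] [IsSimpleGroup G]

theorem h74_no36 (hG : Nat.card G = 2520) (h36 : Nat.card (Sylow 7 G) = 36) : False := by
  have hp7 : Fact (Nat.Prime 7) := ⟨by norm_num⟩
  have hp5 : Fact (Nat.Prime 5) := ⟨by norm_num⟩
  have hp2 : Fact (Nat.Prime 2) := ⟨by norm_num⟩
  have h2 : 2 < Nat.card G := by rw [hG]; norm_num
  obtain ⟨P⟩ : Nonempty (Sylow 7 G) := inferInstance
  have hn7 : Nat.card G = 7 ^ 1 * 360 := by rw [hG]; norm_num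
  have hPc : Nat.card (P : Subgroup G) = 7 := by
    have := sylow_card_eq P hn7 (by norm_num)
    rwa [pow_one] at this
  set Cs := Subgroup.centralizer ((P : Subgroup G) : Set G) with hCs
  set Ns := Subgroup.normalizer ((P : Subgroup G) : Set G) with hNs
  have hCN : Cs ≤ Ns := Subgroup.centralizer_le_normalizer _
  have hN : Nat.card Ns * Nat.card (Sylow 7 G) = Nat.card G := card_normalizer_mul_sylow_count P
  rw [hG, h36] at hN
  have hNc : Nat.card Ns = 70 := by omega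
  obtain ⟨k, c, hk, hk1, hCc, hNk⟩ :
      ∃ k c : ℕ, k ∣ 7 - 1 ∧ k ≠ 1 ∧ Nat.card Cs = 7 * c ∧ Nat.card Ns = k * (7 * c) :=
    Cfsg.Agent.S1017.normalizer_structure P hPc (by rw [hG]; norm_num)
  have hC35 : Nat.card Cs = 35 := by
    rw [hNc] at hNk
    have hk' : k ∣ 6 := hk
    have hk6 : k ≤ 6 := Nat.le_of_dvd (by norm_num) hk'
    interval_cases k <;> omega
  -- the involution
  have h2N : 2 ∣ Nat.card Ns := by rw [hNc]; norm_num
  obtain ⟨t', ht'⟩ := exists_prime_orderOf_dvd_card' (G := ↥Ns) 2 h2N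
  obtain ⟨t, ht⟩ : ∃ t : G, t = (t' : G) := ⟨_, rfl⟩
  have hto : orderOf t = 2 := by rw [ht, Subgroup.orderOf_coe, ht']
  have htN : t ∈ Ns := ht ▸ t'.2
  have htC : t ∉ Cs := by
    intro h
    have := Subgroup.orderOf_dvd_natCard _ h
    rw [hto, hC35] at this
    omega
  -- the fixed points of `t`
  have hfb := Cfsg.Agent.S1017.fix_bound P hPc t htN htC
  have hm4 := Cfsg.Agent.S1017.card_fixedBy_mod_four h2 (α := Sylow 7 G) t hto
  rw [h36] at hfb hm4
  have htP : t • P = P := Sylow.smul_eq_iff_mem_normalizer.mpr htN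
  have hFne : Nat.card {x : fixedBy (Sylow 7 G) t // x ≠ ⟨P, htP⟩} =
      Nat.card (fixedBy (Sylow 7 G) t) - 1 :=
    Cfsg.Agent.S1017.card_ne_subtype (⟨P, htP⟩ : fixedBy (Sylow 7 G) t)
  have hf4 : Nat.card (fixedBy (Sylow 7 G) t) = 4 := by
    have hne : Nonempty (fixedBy (Sylow 7 G) t) := ⟨⟨P, htP⟩⟩
    have hpos : 0 < Nat.card (fixedBy (Sylow 7 G) t) := Nat.card_pos
    unfold Nat.ModEq at hm4
    omega
  have hcard3 : Nat.card {x : fixedBy (Sylow 7 G) t // x ≠ ⟨P, htP⟩} = 3 := by rw [hFne, hf4]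
  have hnt : Nontrivial {x : fixedBy (Sylow 7 G) t // x ≠ ⟨P, htP⟩} :=
    Finite.one_lt_card_iff_nontrivial.mp (by rw [hcard3]; norm_num)
  obtain ⟨⟨⟨R1, hR1f⟩, hR1P⟩, ⟨⟨R2, hR2f⟩, hR2P⟩, hne12⟩ := hnt.exists_pair_ne
  have hR1 : R1 ≠ P := fun e => hR1P (Subtype.ext e)
  have hR2 : R2 ≠ P := fun e => hR2P (Subtype.ext e)
  have hR12 : R1 ≠ R2 := by
    intro e
    apply hne12
    apply Subtype.ext
    apply Subtype.ext
    exact e
  have ht1 : t • R1 = R1 := hR1f
  have ht2 : t • R2 = R2 := hR2f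
  -- regularity of `C` on the other Sylow subgroups
  let φ : ↥Cs → {R : Sylow 7 G // R ≠ P} := fun g => ⟨(g : G) • R1, by
    intro e
    have hgP : (g : G) • P = P := Sylow.smul_eq_iff_mem_normalizer.mpr (hCN g.2)
    apply hR1
    have e' : (g : G) • R1 = (g : G) • P := by rw [e, hgP]
    exact (MulAction.injective (g : G)) e'⟩
  have hφinj : Function.Injective φ := by
    intro g g' e
    have e' : (g : G) • R1 = (g' : G) • R1 := congrArg Subtype.val e
    have hfix : ((g' : G)⁻¹ * (g : G)) • R1 = R1 := by rw [mul_smul, e', inv_smul_smul]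
    have h1 := h74_free h36 P hPc hC35 _ (Cs.mul_mem (Cs.inv_mem g'.2) g.2) R1 hR1 hfix
    apply Subtype.ext
    exact (inv_mul_eq_one.mp h1).symm
  have hcardX : Nat.card {R : Sylow 7 G // R ≠ P} = 35 := by
    rw [Cfsg.Agent.S1017.card_ne_subtype, h36]
  have hφbij : Function.Bijective φ :=
    (Nat.bijective_iff_injective_and_card φ).mpr ⟨hφinj, by rw [hC35, hcardX]⟩
  obtain ⟨h', hh'⟩ := hφbij.2 ⟨R2, hR2⟩
  obtain ⟨h, hh⟩ : ∃ h : G, h = (h' : G) := ⟨_, rfl⟩
  have hhC : h ∈ Cs := hh ▸ h'.2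
  have hhR : h • R1 = R2 := by rw [hh]; exact congrArg Subtype.val hh'
  have hh1 : h ≠ 1 := by
    rintro e
    rw [e, one_smul] at hhR
    exact hR12 hhR
  -- `t` and `h` commute
  have hz : (t⁻¹ * h⁻¹ * t * h) • R1 = R1 := by
    rw [mul_smul, hhR, mul_smul, ht2, mul_smul, ← hhR, inv_smul_smul, inv_smul_eq_iff, ht1]
  have hwC : t⁻¹ * h⁻¹ * t ∈ Cs := h74_conj_mem_centralizer (P : Subgroup G) t h⁻¹ htN (Cs.inv_mem hhC)
  have hzC : t⁻¹ * h⁻¹ * t * h ∈ Cs := Cs.mul_mem hwC hhC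
  have hz1 := h74_free h36 P hPc hC35 _ hzC R1 hR1 hz
  have hth : t * h = h * t := by
    calc t * h = h * t * (t⁻¹ * h⁻¹ * t * h) := by group
      _ = h * t := by rw [hz1, mul_one]
  -- the subgroup `C_C(t)` is nontrivial
  set Z : Subgroup G := Cs ⊓ Subgroup.centralizer ({t} : Set G) with hZ
  have hhZ : h ∈ Z := by
    refine Subgroup.mem_inf.mpr ⟨hhC, ?_⟩
    rw [Subgroup.mem_centralizer_iff]
    intro x hx
    rw [Set.mem_singleton_iff] at hx
    rw [hx]
    exact hth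
  have hZd : Nat.card Z ∣ 35 := by
    rw [← hC35]; exact Subgroup.card_dvd_of_le inf_le_left
  have hZ1 : Nat.card Z ≠ 1 := by
    intro h1
    have : Z = ⊥ := Subgroup.card_eq_one.mp h1
    rw [this, Subgroup.mem_bot] at hhZ
    exact hh1 hhZ
  rcases h74_dvd35 _ hZd hZ1 with h5 | h7
  · obtain ⟨y', hy'⟩ := exists_prime_orderOf_dvd_card' (G := ↥Z) 5 h5
    obtain ⟨y, hy⟩ : ∃ y : G, y = (y' : G) := ⟨_, rfl⟩
    have hyo : orderOf y = 5 := by rw [hy, Subgroup.orderOf_coe, hy']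
    have hyZ : y ∈ Z := hy ▸ y'.2
    have hty : t * y = y * t := by
      have := (Subgroup.mem_inf.mp hyZ).2
      rw [Subgroup.mem_centralizer_iff] at this
      exact this t (Set.mem_singleton t)
    exact h74_no_y hG P hPc t y hto hyo (Subgroup.mem_inf.mp hyZ).1 hty
  · obtain ⟨a', ha'⟩ := exists_prime_orderOf_dvd_card' (G := ↥Z) 7 h7
    obtain ⟨a, ha⟩ : ∃ a : G, a = (a' : G) := ⟨_, rfl⟩
    have hao : orderOf a = 7 := by rw [ha, Subgroup.orderOf_coe, ha']
    have haZ : a ∈ Z := ha ▸ a'.2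
    have haP := Cfsg.Agent.S1017.mem_sylow_of_mem_normalizer P a hao (hCN (Subgroup.mem_inf.mp haZ).1)
    have ha1 : a ≠ 1 := Cfsg.Agent.S1017.ne_one_of_orderOf_prime a hp7.out hao
    have hPz := (zpowers_eq_of_card_prime (P : Subgroup G) hPc a haP ha1).1
    have hta : t * a = a * t := by
      have := (Subgroup.mem_inf.mp haZ).2
      rw [Subgroup.mem_centralizer_iff] at this
      exact this t (Set.mem_singleton t)
    apply htC
    rw [hCs, Subgroup.mem_centralizer_iff]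
    intro x hx
    rw [SetLike.mem_coe, ← hPz] at hx
    obtain ⟨k, rfl⟩ := Subgroup.mem_zpowers_iff.1 hx
    have hc : Commute a t := hta.symm
    exact (hc.zpow_left k).eq

end

end Cfsg.Agent.Helper74.O2520
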