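import Mathlib
import Cfsg.Agent.S1017
import Cfsg.Agent.Lib.Helper17.Simple
import Cfsg.Agent.Lib.Helper17.EmbedNormalizer
import Cfsg.Agent.Lib.Helper75.FixKill
import Cfsg.Agent.Lib.Helper55.O2520Defs
import Cfsg.Agent.Lib.Helper74.O2520N7c

/-!
# O2520 server (S0984), piece (N7): a simple group of order `2520` has `120` Sylow `7`-subgroups.
Elementary route: `n_7 ∈ {8, 15, 36, 120}`; `8` and `15` die by the fixed-point data of an element of order
`5`, resp. `2`, of `C(P7)` (`Helper75.FixKill.exists_fix`); `36` is `h74_no36`.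
-/

set_option autoImplicit false

namespace Cfsg.Agent.Helper74.O2520

open Cfsg Cfsg.Agent.Helper17 Cfsg.Agent.Helper55.O2520 Cfsg.Agent.Helper75.FixKill

universe u

theorem h74_n7_num : ∀ d ∈ Nat.divisors 360, d % 7 = 1 →
    d = 1 ∨ d = 8 ∨ d = 15 ∨ d = 36 ∨ d = 120 := by
  decide

section grp
variable {G : Type u} [Group G] [Finite G] [IsSimpleGroup G] (hG : Nat.card G = 2520)
include hG

/-- (N7) -/
theorem card_sylow7 : Nat.card (Sylow 7 G) = 120 := by
  have hp7 : Fact (Nat.Prime 7) := ⟨by norm_num⟩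
  have hp5 : Fact (Nat.Prime 5) := ⟨by norm_num⟩
  have hp2 : Fact (Nat.Prime 2) := ⟨by norm_num⟩
  have h2 : 2 < Nat.card G := by rw [hG]; norm_num
  have hn7 : Nat.card G = 7 ^ 1 * 360 := by rw [hG]; norm_num
  obtain ⟨hd1, hd2⟩ := sylow_count (G := G) (p := 7) hn7 (by norm_num)
  have hne := sylow_count_ne_one (G := G) (p := 7) hn7 (by norm_num) (by norm_num) (by norm_num)
  obtain ⟨P⟩ : Nonempty (Sylow 7 G) := inferInstance
  have hPc : Nat.card (P : Subgroup G) = 7 := by
    have := sylow_card_eq P hn7 (by norm_num)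
    rwa [pow_one] at this
  have hN := card_normalizer_mul_sylow_count P
  rw [hG] at hN
  obtain ⟨k, c, hk, hk1, hCc, hNk⟩ :=
    Cfsg.Agent.S1017.normalizer_structure P hPc (by rw [hG]; norm_num)
  have hk' : k ∣ 6 := hk
  have hk6 : k ≤ 6 := Nat.le_of_dvd (by norm_num) hk'
  rcases h74_n7_num _ (Nat.mem_divisors.2 ⟨hd1, by norm_num⟩) hd2 with h | h | h | h | h
  · exact absurd h hne
  · exfalso
    rw [h] at hN
    have h5C : 5 ∣ Nat.card (Subgroup.centralizer ((P : Subgroup G) : Set G)) := by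
      rw [hCc]
      interval_cases k <;> omega
    obtain ⟨f, m', hfix⟩ := exists_fix h2 (p := 7) (r := 5) (by norm_num) P hPc
      (by rw [h]; norm_num) h5C
    rw [h] at hfix
    obtain ⟨_, h1, h2', _, h4, _⟩ := hfix
    omega
  · exfalso
    rw [h] at hN
    have h2C : 2 ∣ Nat.card (Subgroup.centralizer ((P : Subgroup G) : Set G)) := by
      rw [hCc]
      interval_cases k <;> omega
    obtain ⟨f, m', hfix⟩ := exists_fix h2 (p := 7) (r := 2) (by norm_num) P hPc
      (by rw [h]; norm_num) h2C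
    rw [h] at hfix
    obtain ⟨_, h1, h2', h3, h4, _⟩ := hfix
    have h3' := h3 rfl
    omega
  · exact (h74_no36 hG h).elim
  · exact h

end grp

end Cfsg.Agent.Helper74.O2520
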