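import Mathlib

/-!
# O3K server (S2363), arithmetic core of the unitary piece (Mathlib only).
`Q(n) = ∏_{i<n} (q^(i+1) + (-1)^i)`; `Q(n) * q < (q+1) * q^(E n)` for `n ≥ 2`, `E n = ∑_{i<n} (i+1)`.
-/

set_option autoImplicit false

namespace Cfsg.Agent.Helper74.O3K

/-- the product in the order formula of `PSU_n(q)` (as in S0280) -/
def h74_Q (q n : ℕ) : ℕ :=
  ∏ i ∈ Finset.range n, (if Even i then q ^ (i + 1) + 1 else q ^ (i + 1) - 1)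

/-- `E n = 1 + 2 + ... + n` -/
def h74_E (n : ℕ) : ℕ := ∑ i ∈ Finset.range n, (i + 1)

theorem h74_E_succ (n : ℕ) : h74_E (n + 1) = h74_E n + (n + 1) := by
  unfold h74_E
  rw [Finset.sum_range_succ]

theorem h74_two_E (n : ℕ) : 2 * h74_E n = n * (n + 1) := by
  induction n with
  | zero => simp [h74_E]
  | succ n ih => rw [h74_E_succ, mul_add, ih]; ring

theorem h74_Q_succ_odd (q n : ℕ) (hn : ¬ Even n) :
    h74_Q q (n + 1) = h74_Q q n * (q ^ (n + 1) - 1) := by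
  unfold h74_Q
  rw [Finset.prod_range_succ, if_neg hn]

theorem h74_Q_succ_even (q n : ℕ) (hn : Even n) :
    h74_Q q (n + 1) = h74_Q q n * (q ^ (n + 1) + 1) := by
  unfold h74_Q
  rw [Finset.prod_range_succ, if_pos hn]

theorem h74_pair_lt {q : ℕ} (hq : 1 ≤ q) (e : ℕ) :
    (q ^ e - 1) * (q ^ (e + 1) + 1) < q ^ e * q ^ (e + 1) := by
  have h1 : 1 ≤ q ^ e := Nat.one_le_pow _ _ hq
  have h2 : q ^ e ≤ q ^ (e + 1) := Nat.pow_le_pow_right hq (Nat.le_succ e)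
  obtain ⟨a, ha⟩ : ∃ a, q ^ e = a + 1 := ⟨q ^ e - 1, by omega⟩
  rw [ha] at h2 ⊢
  rw [Nat.add_sub_cancel]
  nlinarith

/-- odd case: `Q(2k+1) * q ≤ (q+1) * q^(E (2k+1))` -/
theorem h74_Q_odd {q : ℕ} (hq : 1 ≤ q) (k : ℕ) :
    h74_Q q (2 * k + 1) * q ≤ (q + 1) * q ^ h74_E (2 * k + 1) := by
  induction k with
  | zero =>
    simp [h74_Q, h74_E]
  | succ k ih =>
    have ho : ¬ Even (2 * k + 1) := by
      rw [Nat.not_even_iff_odd]; exact ⟨k, rfl⟩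
    have he : Even (2 * k + 1 + 1) := ⟨k + 1, by ring⟩
    have e1 : 2 * (k + 1) + 1 = (2 * k + 1 + 1) + 1 := by ring
    rw [e1, h74_Q_succ_even _ _ he, h74_Q_succ_odd _ _ ho, h74_E_succ, h74_E_succ]
    have hp := (h74_pair_lt hq (2 * k + 1 + 1)).le
    calc _
        = (h74_Q q (2 * k + 1) * q) * ((q ^ (2 * k + 1 + 1) - 1) * (q ^ (2 * k + 1 + 1 + 1) + 1)) := by
          ring
      _ ≤ ((q + 1) * q ^ h74_E (2 * k + 1)) * (q ^ (2 * k + 1 + 1) * q ^ (2 * k + 1 + 1 + 1)) :=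
          Nat.mul_le_mul ih hp
      _ = _ := by
          ring

/-- `Q(n) * q < (q+1) * q^(E n)` for `n ≥ 2` -/
theorem h74_Q_lt {q : ℕ} (hq : 1 ≤ q) (n : ℕ) (hn : 2 ≤ n) :
    h74_Q q n * q < (q + 1) * q ^ h74_E n := by
  rcases Nat.even_or_odd n with ⟨k, hk⟩ | ⟨k, hk⟩
  · -- `n = 2 (k-1) + 1 + 1`
    obtain ⟨j, rfl⟩ : ∃ j, k = j + 1 := ⟨k - 1, by omega⟩
    have e1 : n = (2 * j + 1) + 1 := by omega
    have ho : ¬ Even (2 * j + 1) := by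
      rw [Nat.not_even_iff_odd]; exact ⟨j, rfl⟩
    rw [e1, h74_Q_succ_odd _ _ ho, h74_E_succ]
    have ih := h74_Q_odd hq j
    have hpos : 0 < (q + 1) * q ^ h74_E (2 * j + 1) := by positivity
    have hlt : q ^ (2 * j + 1 + 1) - 1 < q ^ (2 * j + 1 + 1) :=
      Nat.sub_lt (pow_pos hq _) one_pos
    calc _
        = (h74_Q q (2 * j + 1) * q) * (q ^ (2 * j + 1 + 1) - 1) := by ring
      _ ≤ ((q + 1) * q ^ h74_E (2 * j + 1)) * (q ^ (2 * j + 1 + 1) - 1) :=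
          Nat.mul_le_mul_right _ ih
      _ < ((q + 1) * q ^ h74_E (2 * j + 1)) * q ^ (2 * j + 1 + 1) :=
          Nat.mul_lt_mul_of_pos_left hlt hpos
      _ = _ := by ring
  · -- `n = 2 (k-1) + 1 + 1 + 1`
    obtain ⟨j, rfl⟩ : ∃ j, k = j + 1 := ⟨k - 1, by omega⟩
    have e1 : n = (2 * j + 1 + 1) + 1 := by omega
    have ho : ¬ Even (2 * j + 1) := by
      rw [Nat.not_even_iff_odd]; exact ⟨j, rfl⟩
    have he : Even (2 * j + 1 + 1) := ⟨j + 1, by ring⟩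
    rw [e1, h74_Q_succ_even _ _ he, h74_Q_succ_odd _ _ ho, h74_E_succ, h74_E_succ]
    have ih := h74_Q_odd hq j
    have hpos : 0 < (q + 1) * q ^ h74_E (2 * j + 1) := by positivity
    have hp := h74_pair_lt hq (2 * j + 1 + 1)
    calc _
        = (h74_Q q (2 * j + 1) * q) * ((q ^ (2 * j + 1 + 1) - 1) * (q ^ (2 * j + 1 + 1 + 1) + 1)) := by
          ring
      _ ≤ ((q + 1) * q ^ h74_E (2 * j + 1)) * ((q ^ (2 * j + 1 + 1) - 1) * (q ^ (2 * j + 1 + 1 + 1) + 1)) :=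
          Nat.mul_le_mul_right _ ih
      _ < ((q + 1) * q ^ h74_E (2 * j + 1)) * (q ^ (2 * j + 1 + 1) * q ^ (2 * j + 1 + 1 + 1)) :=
          Nat.mul_lt_mul_of_pos_left hp hpos
      _ = _ := by
          ring

/-- the cubed form used by `concl_of_mul`: `Q^3 < d^3 * q^(5N)` when `q + 1 ≤ d`, `n ≥ 3`, `2N = n(n-1)` -/
theorem h74_Q_cube {q : ℕ} (hq : 1 ≤ q) (n N d : ℕ) (hn : 3 ≤ n) (hN : 2 * N = n * (n - 1))
    (hd : q + 1 ≤ d) : h74_Q q n ^ 3 < d ^ 3 * q ^ (5 * N) := by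
  have h1 := h74_Q_lt hq n (by omega)
  have hE := h74_two_E n
  have hexp : 3 * h74_E n ≤ 5 * N + 3 := by
    obtain ⟨t, rfl⟩ : ∃ t, n = t + 3 := ⟨n - 3, by omega⟩
    have e2 : t + 3 - 1 = t + 2 := rfl
    rw [e2] at hN
    nlinarith [Nat.zero_le t, Nat.zero_le (t * t)]
  have h2 : (h74_Q q n * q) ^ 3 < ((q + 1) * q ^ h74_E n) ^ 3 :=
    Nat.pow_lt_pow_left h1 (by norm_num)
  have h3 : ((q + 1) * q ^ h74_E n) ^ 3 ≤ (d ^ 3 * q ^ (5 * N)) * q ^ 3 := by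
    calc ((q + 1) * q ^ h74_E n) ^ 3 = (q + 1) ^ 3 * q ^ (3 * h74_E n) := by
          rw [mul_pow, ← pow_mul, mul_comm (h74_E n) 3]
      _ ≤ d ^ 3 * q ^ (5 * N + 3) :=
          Nat.mul_le_mul (Nat.pow_le_pow_left hd 3) (Nat.pow_le_pow_right hq hexp)
      _ = (d ^ 3 * q ^ (5 * N)) * q ^ 3 := by rw [pow_add, mul_assoc]
  have h4 : h74_Q q n ^ 3 * q ^ 3 < (d ^ 3 * q ^ (5 * N)) * q ^ 3 := by
    rw [← mul_pow]
    exact lt_of_lt_of_le h2 h3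
  exact Nat.lt_of_mul_lt_mul_right h4

end Cfsg.Agent.Helper74.O3K
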