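import Mathlib
import Cfsg.Agent.Lib.Helper18.O3K0
import Cfsg.Agent.Lib.Helper74.O3K_PSUCore
import Cfsg.Agent.S0280

/-!
# O3K server (S2363), piece (PSU): `Concl p (PSU n F q)` for `n ≥ 3`.
-/

set_option autoImplicit false

namespace Cfsg.Agent.Helper74.O3K

open Cfsg Cfsg.Agent.Helper18.O3K

variable {p : ℕ}

/-- (PSU) -/
theorem concl_psu (hp : p.Prime) (F : Type) [Field F] [Fintype F] [CharP F p] (n q : ℕ)
    (hF : Fintype.card F = q ^ 2) (hn : 3 ≤ n) : Concl p (PSU n F q) := by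
  -- `q` is a positive power of `p`
  obtain ⟨k, hk1, hk⟩ := card_eq_pow hp F
  have hqk : q ^ 2 = p ^ k := by rw [← hF, hk]
  have hqd : q ∣ p ^ k := by
    rw [← hqk]; exact dvd_pow_self q (by norm_num)
  obtain ⟨f, -, hqf⟩ := (Nat.dvd_prime_pow hp).mp hqd
  have hf1 : 1 ≤ f := by
    rcases Nat.eq_zero_or_pos f with h0 | h0
    · exfalso
      rw [h0, pow_zero] at hqf
      rw [hqf, one_pow] at hqk
      have : 1 < p ^ k := Nat.one_lt_pow (by omega) hp.one_lt
      omega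
    · exact h0
  have hq1 : 1 ≤ q := by rw [hqf]; exact pow_pos hp.pos f
  -- the order formula
  have h := Cfsg.Agent.S0280.result hF n (by omega)
  have hN : 2 * (n * (n - 1) / 2) = n * (n - 1) :=
    Nat.mul_div_cancel' (Nat.even_mul_pred_self n).two_dvd
  set N := n * (n - 1) / 2 with hNdef
  have hQ : (∏ i ∈ Finset.range n, (if Even i then q ^ (i + 1) + 1 else q ^ (i + 1) - 1)) = h74_Q q n :=
    rfl
  rw [hQ] at h
  have hd : ¬ p ∣ Nat.gcd n (q + 1) * (q + 1) := by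
    intro hdvd
    have h1 : p ∣ q + 1 := by
      rcases (Nat.Prime.dvd_mul hp).mp hdvd with h2 | h2
      · exact dvd_trans h2 (Nat.gcd_dvd_right n (q + 1))
      · exact h2
    have h3 := not_dvd_pow_add_one hp hqf hf1 (e := 1) le_rfl
    rw [pow_one] at h3
    exact h3 h1
  have hP : ¬ p ∣ h74_Q q n := by
    intro hdvd
    unfold h74_Q at hdvd
    obtain ⟨i, -, hi⟩ := (Prime.dvd_finsetProd_iff hp.prime _).mp hdvd
    split_ifs at hi
    · exact not_dvd_pow_add_one hp hqf hf1 (e := i + 1) (by omega) hi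
    · exact not_dvd_pow_sub_one hp hqf hf1 (e := i + 1) (by omega) hi
  have hmul : Nat.gcd n (q + 1) * (q + 1) * Nat.card (PSU n F q) = p ^ (f * N) * h74_Q q n := by
    rw [mul_assoc, h, hqf, pow_mul]
  have hcard : Nat.card (PSU n F q) ≠ 0 := by
    intro h0
    rw [h0, mul_zero] at hmul
    have : p ^ (f * N) * h74_Q q n ≠ 0 :=
      mul_ne_zero (pow_ne_zero _ hp.ne_zero) (by rintro h1; exact hP (by rw [h1]; exact dvd_zero p))
    exact this hmul.symm
  have hfin : Finite (PSU n F q) := Nat.finite_of_card_ne_zero hcard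
  have hg1 : 1 ≤ Nat.gcd n (q + 1) := Nat.gcd_pos_of_pos_left _ (by omega)
  have hdge : q + 1 ≤ Nat.gcd n (q + 1) * (q + 1) := Nat.le_mul_of_pos_left _ hg1
  refine concl_of_mul hp (Nat.gcd n (q + 1) * (q + 1)) (f * N) (h74_Q q n) hmul hd hP ?_
  have hc := h74_Q_cube hq1 n N (Nat.gcd n (q + 1) * (q + 1)) hn hN hdge
  have e5 : p ^ (5 * (f * N)) = q ^ (5 * N) := by
    rw [hqf, ← pow_mul]; ring_nf
  rw [e5]
  exact hc

end Cfsg.Agent.Helper74.O3K
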