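import Mathlib
import Cfsg.Agent.Lib.Helper74.M11Defs
import Cfsg.Agent.S1017
import Cfsg.Agent.Lib.Helper17.FixedCount

/-!
# O5040 lemma server, piece (C240): an involution with centraliser of order 240 containing `N(R)`
-/

set_option autoImplicit false

namespace Cfsg.Agent.Helper74.O5040

open Cfsg.Agent.Helper74.M11
open Cfsg.Agent.S1017
open MulAction Subgroup
open scoped Pointwise

variable {G : Type*} [Group G] [Finite G]

/-- Sylow conjugacy inside a subgroup `H`: if `P` and `g • P` both lie in `H` then `h * g ∈ N(P)` for some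
`h ∈ H`. -/
theorem c240_exists_mul_mem_normalizer {p : ℕ} [Fact p.Prime] (P : Sylow p G) (H : Subgroup G) (g : G)
    (h1 : (P : Subgroup G) ≤ H) (h2 : ((g • P : Sylow p G) : Subgroup G) ≤ H) :
    ∃ h ∈ H, h * g ∈ Subgroup.normalizer ((P : Subgroup G) : Set G) := by
  obtain ⟨h, hh⟩ := MulAction.exists_smul_eq H ((g • P).subtype h2) (P.subtype h1)
  simp_rw [Sylow.smul_subtype, Subgroup.smul_def, smul_smul] at hh
  exact ⟨h, h.2, Sylow.smul_eq_iff_mem_normalizer.mp (Sylow.subtype_injective hh)⟩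

/-- If `N(P) ≤ H` and `y` generates the Sylow subgroup `P` of prime order, the only coset of `H` fixed
by `y` is `H` itself. -/
theorem c240_fixed_eq {p : ℕ} [hp : Fact p.Prime] (P : Sylow p G) (hP : Nat.card (P : Subgroup G) = p)
    (H : Subgroup G) (hNH : Subgroup.normalizer ((P : Subgroup G) : Set G) ≤ H) (y : G)
    (hy : y ∈ (P : Subgroup G)) (hy1 : y ≠ 1) (g : G)
    (hfix : y • (QuotientGroup.mk g : G ⧸ H) = QuotientGroup.mk g) : g ∈ H := by
  rw [Cfsg.Agent.Helper17.smul_mk_eq_iff] at hfix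
  have hz := (zpowers_eq_of_card_prime (P : Subgroup G) hP y hy hy1).1
  have hPH : (P : Subgroup G) ≤ H := le_trans Subgroup.le_normalizer hNH
  have h2 : ((g⁻¹ • P : Sylow p G) : Subgroup G) ≤ H := by
    intro x hx
    rw [mem_smul_sylow_iff] at hx
    rw [inv_inv, ← hz] at hx
    obtain ⟨k, hk⟩ := Subgroup.mem_zpowers_iff.1 hx
    have hx' : x = (g⁻¹ * y * g) ^ k := by
      have : (g⁻¹ * y * g) ^ k = g⁻¹ * y ^ k * g := by
        have := conj_zpow (a := g⁻¹) (b := y) (i := k)
        rw [inv_inv] at this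
        exact this
      rw [this, hk]; group
    rw [hx']
    exact zpow_mem hfix k
  obtain ⟨h, hhH, hn⟩ := c240_exists_mul_mem_normalizer P H g⁻¹ hPH h2
  have h3 : h * g⁻¹ ∈ H := hNH hn
  have h4 : g⁻¹ ∈ H := by
    have : g⁻¹ = h⁻¹ * (h * g⁻¹) := by group
    rw [this]; exact mul_mem (inv_mem hhH) h3
  exact (inv_mem_iff (x := g)).1 h4

/-- a Sylow 2-subgroup of `G` (order `2 ^ k`) inside `H`, containing a given central involution `u` of
`H`, when `2 ^ k ∣ |H|` -/
theorem c240_exists_sylow_le (H : Subgroup G) (u : G) (hu : orderOf u = 2) (huH : u ∈ H)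
    (k m m' : ℕ) (hG : Nat.card G = 2 ^ k * m) (hm : ¬ 2 ∣ m)
    (hH : Nat.card H = 2 ^ k * m') (hm' : ¬ 2 ∣ m') :
    ∃ S : Sylow 2 G, u ∈ S ∧ (S : Subgroup G) ≤ H := by
  haveI : Fact (Nat.Prime 2) := ⟨Nat.prime_two⟩
  have hpg : IsPGroup 2 (Subgroup.zpowers (⟨u, huH⟩ : H)) := by
    apply IsPGroup.of_card (n := 1)
    rw [Nat.card_zpowers, Subgroup.orderOf_mk, hu, pow_one]
  obtain ⟨S', hS'⟩ := hpg.exists_le_sylow
  have hS'card : Nat.card (S' : Subgroup H) = 2 ^ k := sylow_card_eq S' k m' hH hm'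
  set S0 : Subgroup G := (S' : Subgroup H).map H.subtype with hS0
  have hS0card : Nat.card S0 = 2 ^ k := by
    rw [hS0, Subgroup.card_map_of_injective H.subtype_injective, hS'card]
  obtain ⟨P0⟩ : Nonempty (Sylow 2 G) := inferInstance
  have hP0 : Nat.card (P0 : Subgroup G) = 2 ^ k := sylow_card_eq P0 k m hG hm
  have hfac : Nat.card S0 = 2 ^ (Nat.card G).factorization 2 := by
    rw [hS0card, ← hP0, P0.card_eq_multiplicity]
  refine ⟨Sylow.ofCard S0 hfac, ?_, ?_⟩
  · show u ∈ ((Sylow.ofCard S0 hfac : Sylow 2 G) : Subgroup G)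
    rw [Sylow.coe_ofCard]
    exact ⟨⟨u, huH⟩, hS' (Subgroup.mem_zpowers _), rfl⟩
  · rw [Sylow.coe_ofCard]
    exact Subgroup.map_subtype_le _

theorem false_of_240 [IsSimpleGroup G] (hG : Nat.card G = 5040) (R : Sylow 5 G)
    (hiso : ∀ (S : Sylow 2 G) (u : G), orderOf u = 2 → u ∈ S →
      (∀ g : G, g * u * g⁻¹ ∈ S → g * u * g⁻¹ = u) → False)
    (hN : Nat.card (NorS (R : Subgroup G)) = 40)
    (u : G) (hu : orderOf u = 2) (hNu : NorS (R : Subgroup G) ≤ Cen u)
    (hC : Nat.card (Cen u) = 240) : False := by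
  haveI : Fact (Nat.Prime 5) := ⟨by norm_num⟩
  have hR : Nat.card (R : Subgroup G) = 5 := by
    have := sylow_card_eq R 1 1008 (by rw [hG]; norm_num) (by norm_num)
    simpa using this
  set H : Subgroup G := Cen u with hH
  have hidx : Nat.card (G ⧸ H) = 21 := by
    have := Subgroup.card_mul_index H
    rw [hC, hG] at this
    rw [← Subgroup.index_eq_card]
    omega
  have hHtop : H ≠ ⊤ := by
    intro h
    rw [h] at hidx
    have : Nat.card (G ⧸ (⊤ : Subgroup G)) = 1 := by
      rw [← Subgroup.index_eq_card, Subgroup.index_top]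
    omega
  have hnt := coset_action_nontrivial H hHtop
  -- a generator of `R`
  obtain ⟨y', hy'⟩ := exists_prime_orderOf_dvd_card' (G := ↥(R : Subgroup G)) 5 (by rw [hR])
  obtain ⟨y, hydef⟩ : ∃ y : G, y = (y' : G) := ⟨_, rfl⟩
  have hy : orderOf y = 5 := by rw [hydef, Subgroup.orderOf_coe]; exact hy'
  have hyR : y ∈ (R : Subgroup G) := by rw [hydef]; exact y'.2
  have hy1 : y ≠ 1 := ne_one_of_orderOf_prime y (by norm_num) hy
  have hyH : y ∈ H := hNu (Subgroup.le_normalizer hyR)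
  have huH : u ∈ H := by
    show u ∈ Subgroup.centralizer ({u} : Set G)
    rw [Subgroup.mem_centralizer_iff]
    intro x hx
    rw [Set.mem_singleton_iff] at hx
    rw [hx]
  have hcomm : Commute y u := by
    have := (Subgroup.mem_centralizer_iff.1 hyH) u rfl
    exact this.symm
  -- the common fixed points
  have hj : Nat.card ↥(fixedBy (G ⧸ H) u ∩ fixedBy (G ⧸ H) y) = 1 := by
    have hsub : fixedBy (G ⧸ H) u ∩ fixedBy (G ⧸ H) y = {((1 : G) : G ⧸ H)} := by
      ext q
      constructor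
      · rintro ⟨-, hqy⟩
        induction q using QuotientGroup.induction_on with
        | H g =>
          have hg : g ∈ H := c240_fixed_eq R hR H hNu y hyR hy1 g hqy
          rw [Set.mem_singleton_iff, QuotientGroup.eq]
          simpa using hg
      · intro hq
        rw [Set.mem_singleton_iff] at hq
        rw [hq]
        exact ⟨coset_fixed H u huH, coset_fixed H y hyH⟩
    rw [hsub]
    simp
  have hb5 := card_fixedBy_modEq_inter (α := G ⧸ H) y u hcomm hy
  have hb4 := card_fixedBy_mod_four (α := G ⧸ H) (by rw [hG]; norm_num) u hu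
  have hble := card_fixedBy_le (α := G ⧸ H) u
  have hbne := card_fixedBy_ne hnt u (ne_one_of_orderOf_prime _ Nat.prime_two hu)
  rw [hj] at hb5
  rw [hidx] at hb4 hble hbne
  have hb : Nat.card (fixedBy (G ⧸ H) u) = 1 := by
    unfold Nat.ModEq at hb5 hb4
    omega
  -- so `u` fixes only the trivial coset
  have hfix : ∀ g : G, u • (QuotientGroup.mk g : G ⧸ H) = QuotientGroup.mk g → g ∈ H := by
    intro g hg
    have hsub : Subsingleton (fixedBy (G ⧸ H) u) := by
      rw [← Finite.card_le_one_iff_subsingleton, hb]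
    have h1 : (⟨(QuotientGroup.mk g : G ⧸ H), hg⟩ : fixedBy (G ⧸ H) u) =
        ⟨((1 : G) : G ⧸ H), coset_fixed H u huH⟩ := Subsingleton.elim _ _
    have h2 : (QuotientGroup.mk g : G ⧸ H) = ((1 : G) : G ⧸ H) := congrArg Subtype.val h1
    rw [eq_comm, QuotientGroup.eq] at h2
    simpa using h2
  -- a Sylow 2-subgroup inside `H`
  obtain ⟨S, huS, hSH⟩ := c240_exists_sylow_le H u hu huH 4 315 15
    (by rw [hG]; norm_num) (by norm_num) (by rw [hC]; norm_num) (by norm_num)
  refine hiso S u hu huS ?_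
  intro g hg
  have hgH : g * u * g⁻¹ ∈ H := hSH hg
  have h1 : u • (QuotientGroup.mk g⁻¹ : G ⧸ H) = QuotientGroup.mk g⁻¹ := by
    rw [Cfsg.Agent.Helper17.smul_mk_eq_iff, inv_inv]
    exact hgH
  have h2 : g⁻¹ ∈ H := hfix g⁻¹ h1
  have h3 : g ∈ H := (inv_mem_iff (x := g)).1 h2
  have h4 := (Subgroup.mem_centralizer_iff.1 h3) u rfl
  -- h4 : u * g = g * u
  calc g * u * g⁻¹ = u * g * g⁻¹ := by rw [h4]
    _ = u := by group

end Cfsg.Agent.Helper74.O5040
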