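import Mathlib
import Cfsg.Agent.Lib.Helper74.M11Defs
import Cfsg.Agent.S1017
import Cfsg.Agent.Lib.Helper17.FixedCount
import Cfsg.Agent.Lib.Helper17.ConjCount
import Cfsg.Agent.Lib.Helper74.O5040C240

/-!
# O5040 lemma server, piece (C112): an involution centralising a Sylow 7-subgroup with centraliser of
order 112
-/

set_option autoImplicit false

namespace Cfsg.Agent.Helper74.O5040

open Cfsg.Agent.Helper74.M11
open Cfsg.Agent.S1017
open MulAction Subgroup
open scoped Pointwise

variable {G : Type*} [Group G] [Finite G]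

/-- In a subgroup `M` of order `2 p` containing a subgroup `P` of order `p` (odd prime) and an
involution `u` centralising `M`, the only solutions of `w ^ 2 = 1` are `1` and `u`. -/
theorem c112_involution_of_card {p : ℕ} [hp : Fact p.Prime] (hp2 : p ≠ 2) (M P : Subgroup G)
    (hPM : P ≤ M) (hP : Nat.card P = p) (hM : Nat.card M = 2 * p) (u : G) (huM : u ∈ M)
    (hu : orderOf u = 2) (hcomm : ∀ m ∈ M, m * u = u * m) (w : G) (hwM : w ∈ M) (hw : w * w = 1) :
    w = 1 ∨ w = u := by
  have hodd : ¬ 2 ∣ p := by
    intro h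
    rcases (Nat.dvd_prime hp.out).1 h with h' | h'
    · omega
    · exact hp2 h'.symm
  -- elements of `P` have odd order
  have hpow : ∀ g ∈ P, g ^ p = 1 := by
    intro g hg
    have h1 : (⟨g, hg⟩ : P) ^ p = 1 := by
      rw [← hP]; exact pow_card_eq_one'
    exact congrArg Subtype.val h1
  have hsq : ∀ g ∈ P, g * g = 1 → g = 1 := by
    intro g hg hgg
    have h1 := hpow g hg
    have h2 : g ^ 2 = 1 := by rw [pow_two]; exact hgg
    have h3 : orderOf g ∣ p := orderOf_dvd_of_pow_eq_one h1
    have h4 : orderOf g ∣ 2 := orderOf_dvd_of_pow_eq_one h2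
    have h5 : orderOf g ∣ Nat.gcd p 2 := Nat.dvd_gcd h3 h4
    have h6 : Nat.gcd p 2 = 1 := by
      rw [Nat.gcd_comm]
      exact (Nat.coprime_primes Nat.prime_two hp.out).2 (fun h => hp2 h.symm)
    rw [h6, Nat.dvd_one] at h5
    exact orderOf_eq_one_iff.1 h5
  have huu : u * u = 1 := by
    rw [← pow_two, ← hu]; exact pow_orderOf_eq_one u
  have huP : u ∉ P := by
    intro h
    have := hsq u h huu
    rw [this, orderOf_one] at hu
    norm_num at hu
  by_cases hwP : w ∈ P
  · left; exact hsq w hwP hw
  · right
    -- index two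
    have hidx : (P.subgroupOf M).index = 2 := by
      have h1 := Subgroup.card_mul_index (P.subgroupOf M)
      have h2 : Nat.card (P.subgroupOf M) = p := by
        rw [← hP]
        exact Nat.card_congr (Subgroup.subgroupOfEquivOfLe hPM).toEquiv
      rw [h2, hM] at h1
      have hppos : 0 < p := hp.out.pos
      have : p * (P.subgroupOf M).index = p * 2 := by rw [h1]; ring
      exact Nat.eq_of_mul_eq_mul_left hppos this
    have hmem := Subgroup.mul_mem_iff_of_index_two hidx (a := (⟨u, huM⟩ : M)) (b := (⟨w, hwM⟩ : M))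
    have h1 : (⟨u, huM⟩ : M) * ⟨w, hwM⟩ ∈ P.subgroupOf M := by
      rw [hmem]
      constructor
      · intro h; exact absurd (Subgroup.mem_subgroupOf.1 h) huP
      · intro h; exact absurd (Subgroup.mem_subgroupOf.1 h) hwP
    have h2 : u * w ∈ P := Subgroup.mem_subgroupOf.1 h1
    have h3 : (u * w) * (u * w) = 1 := by
      have hc := hcomm w hwM
      calc u * w * (u * w) = u * (w * u) * w := by group
        _ = u * (u * w) * w := by rw [hc]
        _ = (u * u) * (w * w) := by group
        _ = 1 := by rw [huu, hw, one_mul]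
    have h4 := hsq (u * w) h2 h3
    -- u * w = 1, so w = u⁻¹ = u
    have h5 : w = u⁻¹ := by
      have : u⁻¹ * (u * w) = u⁻¹ * 1 := by rw [h4]
      rw [mul_one] at this
      rw [← this]; group
    rw [h5]
    exact inv_eq_of_mul_eq_one_left huu

theorem false_of_112 [IsSimpleGroup G] (hG : Nat.card G = 5040) (P : Sylow 7 G)
    (hiso : ∀ (S : Sylow 2 G) (u : G), orderOf u = 2 → u ∈ S →
      (∀ g : G, g * u * g⁻¹ ∈ S → g * u * g⁻¹ = u) → False)
    (u : G) (hu : orderOf u = 2) (huP : u ∈ CenS (P : Subgroup G))
    (hC : Nat.card (Cen u) = 112)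
    (hNC : Nat.card (NorS (P : Subgroup G) ⊓ Cen u : Subgroup G) = 14) : False := by
  haveI : Fact (Nat.Prime 7) := ⟨by norm_num⟩
  have hP : Nat.card (P : Subgroup G) = 7 := by
    have := sylow_card_eq P 1 720 (by rw [hG]; norm_num) (by norm_num)
    simpa using this
  set H : Subgroup G := Cen u with hH
  set M : Subgroup G := NorS (P : Subgroup G) ⊓ Cen u with hM
  have hidx : Nat.card (G ⧸ H) = 45 := by
    have := Subgroup.card_mul_index H
    rw [hC, hG] at this
    rw [← Subgroup.index_eq_card]
    omega
  have hHtop : H ≠ ⊤ := by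
    intro h
    rw [h] at hidx
    have : Nat.card (G ⧸ (⊤ : Subgroup G)) = 1 := by
      rw [← Subgroup.index_eq_card, Subgroup.index_top]
    omega
  have hnt := coset_action_nontrivial H hHtop
  have huu : u * u = 1 := by
    rw [← pow_two, ← hu]; exact pow_orderOf_eq_one u
  have huH : u ∈ H := by
    show u ∈ Subgroup.centralizer ({u} : Set G)
    rw [Subgroup.mem_centralizer_iff]
    intro x hx
    rw [Set.mem_singleton_iff] at hx
    rw [hx]
  have hmemH : ∀ g : G, g ∈ H ↔ g * u = u * g := by
    intro g
    show g ∈ Subgroup.centralizer ({u} : Set G) ↔ _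
    rw [Subgroup.mem_centralizer_iff]
    constructor
    · intro h; exact (h u rfl).symm
    · intro h x hx
      rw [Set.mem_singleton_iff] at hx
      rw [hx]; exact h.symm
  have hPH : (P : Subgroup G) ≤ H := by
    intro g hg
    rw [hmemH]
    exact Subgroup.mem_centralizer_iff.1 huP g hg
  have hpow7 : ∀ g ∈ (P : Subgroup G), g ^ 7 = 1 := by
    intro g hg
    have h1 : (⟨g, hg⟩ : (P : Subgroup G)) ^ Nat.card (P : Subgroup G) = 1 := pow_card_eq_one'
    rw [hP] at h1
    exact congrArg Subtype.val h1
  have hPM : (P : Subgroup G) ≤ M := le_inf Subgroup.le_normalizer hPH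
  have huN : u ∈ NorS (P : Subgroup G) := Subgroup.centralizer_le_normalizer _ huP
  have huM : u ∈ M := ⟨huN, huH⟩
  have hMH : M ≤ H := inf_le_right
  have hMcomm : ∀ m ∈ M, m * u = u * m := fun m hm => (hmemH m).1 (hMH hm)
  have hinvM : ∀ w ∈ M, w * w = 1 → w = 1 ∨ w = u :=
    fun w hw hww => c112_involution_of_card (p := 7) (by norm_num) M (P : Subgroup G) hPM hP
      (by rw [hNC]) u huM hu hMcomm w hw hww
  -- a generator of `P`
  obtain ⟨x', hx'⟩ := exists_prime_orderOf_dvd_card' (G := ↥(P : Subgroup G)) 7 (by rw [hP])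
  obtain ⟨x, hxdef⟩ : ∃ x : G, x = (x' : G) := ⟨_, rfl⟩
  have hx : orderOf x = 7 := by rw [hxdef, Subgroup.orderOf_coe]; exact hx'
  have hxP : x ∈ (P : Subgroup G) := by rw [hxdef]; exact x'.2
  have hx1 : x ≠ 1 := ne_one_of_orderOf_prime x (by norm_num) hx
  have hxH : x ∈ H := hPH hxP
  have hcomm : Commute x u := (hmemH x).1 hxH
  have hz := (zpowers_eq_of_card_prime (P : Subgroup G) hP x hxP hx1).1
  -- the common fixed points
  have hj : Nat.card ↥(fixedBy (G ⧸ H) u ∩ fixedBy (G ⧸ H) x) = 1 := by
    have hsub : fixedBy (G ⧸ H) u ∩ fixedBy (G ⧸ H) x = {((1 : G) : G ⧸ H)} := by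
      ext q
      constructor
      · rintro ⟨hqu, hqx⟩
        induction q using QuotientGroup.induction_on with
        | H g =>
          have hqx' : x • (QuotientGroup.mk g : G ⧸ H) = QuotientGroup.mk g := hqx
          have hqu' : u • (QuotientGroup.mk g : G ⧸ H) = QuotientGroup.mk g := hqu
          rw [Cfsg.Agent.Helper17.smul_mk_eq_iff] at hqx' hqu'
          -- `g⁻¹ • P ≤ H`
          have h2 : ((g⁻¹ • P : Sylow 7 G) : Subgroup G) ≤ H := by
            intro y hy
            rw [mem_smul_sylow_iff] at hy
            rw [inv_inv, ← hz] at hy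
            obtain ⟨k, hk⟩ := Subgroup.mem_zpowers_iff.1 hy
            have hy' : y = (g⁻¹ * x * g) ^ k := by
              have : (g⁻¹ * x * g) ^ k = g⁻¹ * x ^ k * g := by
                have := conj_zpow (a := g⁻¹) (b := x) (i := k)
                rw [inv_inv] at this
                exact this
              rw [this, hk]; group
            rw [hy']
            exact zpow_mem hqx' k
          obtain ⟨h, hhH, hn⟩ := c240_exists_mul_mem_normalizer P H g⁻¹ hPH h2
          -- n := h * g⁻¹ normalises P;  w := n u n⁻¹ ∈ M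
          set n : G := h * g⁻¹ with hndef
          have hwN : n * u * n⁻¹ ∈ NorS (P : Subgroup G) :=
            mul_mem (mul_mem hn huN) (inv_mem hn)
          have hwH : n * u * n⁻¹ ∈ H := by
            have : n * u * n⁻¹ = h * (g⁻¹ * u * g) * h⁻¹ := by rw [hndef]; group
            rw [this]
            exact mul_mem (mul_mem hhH hqu') (inv_mem hhH)
          have hww : (n * u * n⁻¹) * (n * u * n⁻¹) = 1 := by
            calc (n * u * n⁻¹) * (n * u * n⁻¹) = n * (u * u) * n⁻¹ := by group
              _ = 1 := by rw [huu]; group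
          rcases hinvM _ ⟨hwN, hwH⟩ hww with h1 | h1
          · exfalso
            have : u = 1 := by
              have h3 : n⁻¹ * (n * u * n⁻¹) * n = n⁻¹ * 1 * n := by rw [h1]
              have h4 : n⁻¹ * (n * u * n⁻¹) * n = u := by group
              rw [h4] at h3
              rw [h3]; group
            rw [this, orderOf_one] at hu
            norm_num at hu
          · -- n commutes with u, so n ∈ H, so g ∈ H
            have hnH : n ∈ H := by
              rw [hmemH]
              calc n * u = (n * u * n⁻¹) * n := by group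
                _ = u * n := by rw [h1]
            have hgi : g⁻¹ ∈ H := by
              have : g⁻¹ = h⁻¹ * n := by rw [hndef]; group
              rw [this]; exact mul_mem (inv_mem hhH) hnH
            have hg : g ∈ H := (inv_mem_iff (x := g)).1 hgi
            rw [Set.mem_singleton_iff, QuotientGroup.eq]
            simpa using hg
      · intro hq
        rw [Set.mem_singleton_iff] at hq
        rw [hq]
        exact ⟨coset_fixed H u huH, coset_fixed H x hxH⟩
    rw [hsub]
    simp
  have hb7 := card_fixedBy_modEq_inter (α := G ⧸ H) x u hcomm hx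
  have hb4 := card_fixedBy_mod_four (α := G ⧸ H) (by rw [hG]; norm_num) u hu
  have hble := card_fixedBy_le (α := G ⧸ H) u
  rw [hj] at hb7
  rw [hidx] at hb4 hble
  -- the bound: at most 16 solutions of `a * a = 1` in `H`
  have hbound : Nat.card {a : G // a ∈ H ∧ a * a = 1} * 7 ≤ 112 := by
    rw [← hC, ← hP, ← Nat.card_prod]
    let f : {a : G // a ∈ H ∧ a * a = 1} × (P : Subgroup G) → H :=
      fun ap => ⟨ap.1.1 * ap.2.1, mul_mem ap.1.2.1 (hPH ap.2.2)⟩
    apply Nat.card_le_card_of_injective f
    rintro ⟨⟨a, haH, haa⟩, ⟨p, hp⟩⟩ ⟨⟨a', haH', haa'⟩, ⟨p', hp'⟩⟩ hf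
    have hf' : a * p = a' * p' := congrArg Subtype.val hf
    -- d := a' * a = p' * p⁻¹ ∈ P
    have hainv : a⁻¹ = a := inv_eq_of_mul_eq_one_left haa
    have hainv' : a'⁻¹ = a' := inv_eq_of_mul_eq_one_left haa'
    have hd : a' * a = p' * p⁻¹ := by
      have h1 : a'⁻¹ * (a * p) * p⁻¹ = a'⁻¹ * (a' * p') * p⁻¹ := by rw [hf']
      have h2 : a'⁻¹ * (a * p) * p⁻¹ = a'⁻¹ * a := by group
      have h3 : a'⁻¹ * (a' * p') * p⁻¹ = p' * p⁻¹ := by group
      rw [h2, h3, hainv'] at h1
      exact h1
    have hdP : a' * a ∈ (P : Subgroup G) := by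
      rw [hd]; exact mul_mem hp' (inv_mem hp)
    by_cases hd1 : a' * a = 1
    · have haa'' : a = a' := by
        have := eq_inv_of_mul_eq_one_right hd1
        rw [hainv'] at this
        exact this
      subst haa''
      have hpp : p = p' := mul_left_cancel hf'
      subst hpp
      rfl
    · exfalso
      -- a' inverts d, so a' normalises P = ⟨d⟩
      have hzd := (zpowers_eq_of_card_prime (P : Subgroup G) hP (a' * a) hdP hd1).1
      have hconj : a' * (a' * a) * a'⁻¹ = (a' * a)⁻¹ := by
        rw [hainv']
        have : (a' * a)⁻¹ = a * a' := by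
          rw [mul_inv_rev, hainv, hainv']
        rw [this]
        calc a' * (a' * a) * a' = (a' * a') * a * a' := by group
          _ = a * a' := by rw [haa', one_mul]
      have ha'N : a' ∈ NorS (P : Subgroup G) := by
        show a' ∈ Subgroup.normalizer ((P : Subgroup G) : Set G)
        rw [Subgroup.mem_normalizer_iff]
        intro y
        rw [← hzd]
        constructor
        · intro hy
          obtain ⟨k, hk⟩ := Subgroup.mem_zpowers_iff.1 hy
          rw [← hk, ← conj_zpow, hconj]
          exact zpow_mem (inv_mem (Subgroup.mem_zpowers _)) k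
        · intro hy
          -- y = a'⁻¹ (a' y a'⁻¹) a'
          obtain ⟨k, hk⟩ := Subgroup.mem_zpowers_iff.1 hy
          have h1 : y = a'⁻¹ * ((a' * a) ^ k) * a' := by rw [hk]; group
          have h2 : a'⁻¹ * ((a' * a) ^ k) * a' = (a'⁻¹ * (a' * a) * a') ^ k := by
            have := conj_zpow (a := a'⁻¹) (b := a' * a) (i := k)
            rw [inv_inv] at this
            exact this.symm
          have h3 : a'⁻¹ * (a' * a) * a' = (a' * a)⁻¹ := by
            rw [hainv']
            have : (a' * a)⁻¹ = a * a' := by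
              rw [mul_inv_rev, hainv, hainv']
            rw [this]
            calc a' * (a' * a) * a' = (a' * a') * a * a' := by group
              _ = a * a' := by rw [haa', one_mul]
          rw [h1, h2, h3]
          exact zpow_mem (inv_mem (Subgroup.mem_zpowers _)) k
      rcases hinvM a' ⟨ha'N, haH'⟩ haa' with h1 | h1
      · -- a' = 1: d = a, a ∈ P with a² = 1
        rw [h1, one_mul] at hdP hd1
        have := c112_involution_of_card (p := 7) (by norm_num) M (P : Subgroup G) hPM hP
          (by rw [hNC]) u huM hu hMcomm a (hPM hdP) haa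
        rcases this with h2 | h2
        · exact hd1 h2
        · -- a = u ∈ P impossible
          rw [h2] at hdP
          have h3 : u ^ 7 = 1 := hpow7 u hdP
          have h5 := orderOf_dvd_of_pow_eq_one h3
          rw [hu] at h5
          norm_num at h5
      · -- a' = u commutes with d ∈ P, so d = d⁻¹
        rw [h1] at hconj hdP hd1
        have hc : u * (u * a) = (u * a) * u := by
          have := Subgroup.mem_centralizer_iff.1 huP (u * a) hdP
          exact this.symm
        have h2 : u * (u * a) * u⁻¹ = u * a := by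
          rw [hc]; group
        rw [h2] at hconj
        have h3 : (u * a) * (u * a) = 1 := by
          nth_rewrite 2 [hconj]
          exact mul_inv_cancel _
        have := c112_involution_of_card (p := 7) (by norm_num) M (P : Subgroup G) hPM hP
          (by rw [hNC]) u huM hu hMcomm (u * a) (hPM hdP) h3
        rcases this with h4 | h4
        · exact hd1 h4
        · rw [h4] at hdP
          have h5 : u ^ 7 = 1 := hpow7 u hdP
          have h7 := orderOf_dvd_of_pow_eq_one h5
          rw [hu] at h7
          norm_num at h7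
  -- `|Fix u| = |u^G ∩ H| ≤ 16`
  have hfixle : Nat.card (fixedBy (G ⧸ H) u) ≤ 16 := by
    have h1 := Cfsg.Agent.Helper17.card_fixedBy_mul_card_conj H u
    have h2 := Cfsg.Agent.Helper17.card_carrier_mul_card_centralizer u
    have h3 : Nat.card {g : G // IsConj u g} = 45 := by
      have h4 : Nat.card {g : G // IsConj u g} = Nat.card (ConjClasses.mk u).carrier := by
        apply Nat.card_congr
        refine Equiv.subtypeEquivRight (fun g => ?_)
        rw [ConjClasses.mem_carrier_iff_mk_eq, ConjClasses.mk_eq_mk_iff_isConj, isConj_comm]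
      rw [h4]
      have h5 : Nat.card (Subgroup.centralizer ({u} : Set G)) = 112 := hC
      rw [h5, hG] at h2
      omega
    have h6 : H.index = 45 := by rw [Subgroup.index_eq_card]; exact hidx
    rw [h3, h6] at h1
    have h7 : Nat.card (fixedBy (G ⧸ H) u) = Nat.card {g : G // IsConj u g ∧ g ∈ H} := by
      have : Nat.card (fixedBy (G ⧸ H) u) * 45 = Nat.card {g : G // IsConj u g ∧ g ∈ H} * 45 := by
        rw [h1]; ring
      exact Nat.eq_of_mul_eq_mul_right (by norm_num) this
    rw [h7]
    have h8 : Nat.card {g : G // IsConj u g ∧ g ∈ H} ≤ Nat.card {a : G // a ∈ H ∧ a * a = 1} := by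
      apply Nat.card_le_card_of_injective
        (fun g : {g : G // IsConj u g ∧ g ∈ H} =>
          (⟨g.1, g.2.2, by
            obtain ⟨c, hc⟩ := isConj_iff.1 g.2.1
            rw [← hc]
            calc c * u * c⁻¹ * (c * u * c⁻¹) = c * (u * u) * c⁻¹ := by group
              _ = 1 := by rw [huu]; group⟩ : {a : G // a ∈ H ∧ a * a = 1}))
      intro g g' hgg
      apply Subtype.ext
      exact congrArg (fun t : {a : G // a ∈ H ∧ a * a = 1} => t.1) hgg
    omega
  have hb : Nat.card (fixedBy (G ⧸ H) u) = 1 := by
    unfold Nat.ModEq at hb7 hb4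
    omega
  -- so `u` fixes only the trivial coset
  have hfix : ∀ g : G, u • (QuotientGroup.mk g : G ⧸ H) = QuotientGroup.mk g → g ∈ H := by
    intro g hg
    have hsub : Subsingleton (fixedBy (G ⧸ H) u) := by
      rw [← Finite.card_le_one_iff_subsingleton, hb]
    have h1 : (⟨(QuotientGroup.mk g : G ⧸ H), hg⟩ : fixedBy (G ⧸ H) u) =
        ⟨((1 : G) : G ⧸ H), coset_fixed H u huH⟩ := Subsingleton.elim _ _
    have h2 : (QuotientGroup.mk g : G ⧸ H) = ((1 : G) : G ⧸ H) := congrArg Subtype.val h1
    rw [eq_comm, QuotientGroup.eq] at h2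
    simpa using h2
  -- a Sylow 2-subgroup inside `H`
  obtain ⟨S, huS, hSH⟩ := c240_exists_sylow_le H u hu huH 4 315 7
    (by rw [hG]; norm_num) (by norm_num) (by rw [hC]; norm_num) (by norm_num)
  refine hiso S u hu huS ?_
  intro g hg
  have hgH : g * u * g⁻¹ ∈ H := hSH hg
  have h1 : u • (QuotientGroup.mk g⁻¹ : G ⧸ H) = QuotientGroup.mk g⁻¹ := by
    rw [Cfsg.Agent.Helper17.smul_mk_eq_iff, inv_inv]
    exact hgH
  have h2 : g⁻¹ ∈ H := hfix g⁻¹ h1
  have h3 : g ∈ H := (inv_mem_iff (x := g)).1 h2
  have h4 := (hmemH g).1 h3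
  calc g * u * g⁻¹ = u * g * g⁻¹ := by rw [h4]
    _ = u := by group

end Cfsg.Agent.Helper74.O5040
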