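import Mathlib
import Cfsg.Agent.Lib.Helper74.M11Defs
import Cfsg.Agent.S1017
import Cfsg.Agent.Lib.Helper17.FixedCount
import Cfsg.Agent.Lib.Helper17.ConjCount

/-!
# O5040 lemma server, piece (TT): the Thompson-transfer endgame
-/

set_option autoImplicit false

namespace Cfsg.Agent.Helper74.O5040

open Cfsg.Agent.Helper74.M11

variable {G : Type*} [Group G]

theorem tt_comm_zpow (a t : G) (hta : t * a * t⁻¹ = a⁻¹) (j : ℤ) :
    t * a ^ j = a ^ (-j) * t := by
  have h1 : t * a ^ j * t⁻¹ = a ^ (-j) := by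
    rw [← conj_zpow, hta, inv_zpow']
  calc t * a ^ j = (t * a ^ j * t⁻¹) * t := by group
    _ = a ^ (-j) * t := by rw [h1]

/-- the quaternion-type subgroup `{a^i, a^i t}` -/
def ttQ (a t : G) (hta : t * a * t⁻¹ = a⁻¹) (ht : t ^ 2 = a ^ 2) : Subgroup G where
  carrier := {x | ∃ i : ℤ, x = a ^ i ∨ x = a ^ i * t}
  one_mem' := ⟨0, Or.inl (by simp)⟩
  mul_mem' := by
    rintro x y ⟨i, hx | hx⟩ ⟨j, hy | hy⟩
    · exact ⟨i + j, Or.inl (by rw [hx, hy, zpow_add])⟩
    · exact ⟨i + j, Or.inr (by rw [hx, hy, zpow_add, mul_assoc])⟩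
    · refine ⟨i + -j, Or.inr ?_⟩
      rw [hx, hy, mul_assoc, tt_comm_zpow a t hta j, ← mul_assoc, ← zpow_add]
    · refine ⟨i + -j + 2, Or.inl ?_⟩
      have h2 : t * t = a ^ (2 : ℤ) := by
        rw [← pow_two, ht]; norm_cast
      calc x * y = a ^ i * (t * a ^ j) * t := by rw [hx, hy]; group
        _ = a ^ i * (a ^ (-j) * t) * t := by rw [tt_comm_zpow a t hta j]
        _ = a ^ i * a ^ (-j) * (t * t) := by group
        _ = a ^ (i + -j + 2) := by rw [h2, ← zpow_add, ← zpow_add]
  inv_mem' := by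
    rintro x ⟨i, hx | hx⟩
    · exact ⟨-i, Or.inl (by rw [hx, zpow_neg])⟩
    · refine ⟨i + 2, Or.inr ?_⟩
      have h2 : t * t = a ^ (2 : ℤ) := by
        rw [← pow_two, ht]; norm_cast
      -- (a^i t)⁻¹ = a^(i+2) t  since  a^i t * (a^(i+2) t) = 1
      have h3 : (a ^ i * t) * (a ^ (i + 2) * t) = 1 := by
        calc (a ^ i * t) * (a ^ (i + 2) * t) = a ^ i * (t * a ^ (i + 2)) * t := by group
          _ = a ^ i * (a ^ (-(i + 2)) * t) * t := by rw [tt_comm_zpow a t hta (i + 2)]
          _ = a ^ i * a ^ (-(i + 2)) * (t * t) := by group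
          _ = a ^ (i + -(i + 2) + 2) := by rw [h2, ← zpow_add, ← zpow_add]
          _ = 1 := by
            have : i + -(i + 2) + 2 = 0 := by ring
            rw [this, zpow_zero]
      rw [hx]
      exact inv_eq_of_mul_eq_one_right h3

theorem tt_mem_Q (a t : G) (hta : t * a * t⁻¹ = a⁻¹) (ht : t ^ 2 = a ^ 2) (x : G) :
    x ∈ ttQ a t hta ht ↔ ∃ i : ℤ, x = a ^ i ∨ x = a ^ i * t := Iff.rfl

/-- the involutions of `ttQ` -/
theorem tt_involution (a t : G) (hta : t * a * t⁻¹ = a⁻¹) (ht : t ^ 2 = a ^ 2) (ha : orderOf a = 4)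
    (x : G) (hx : x ∈ ttQ a t hta ht) (hx2 : orderOf x = 2) : x = a ^ 2 := by
  have hxx : x * x = 1 := by
    rw [← pow_two, ← hx2]; exact pow_orderOf_eq_one x
  have hx1 : x ≠ 1 := by
    intro h; rw [h, orderOf_one] at hx2; norm_num at hx2
  have ha4 : a ^ (4 : ℤ) = 1 := by
    have := pow_orderOf_eq_one a
    rw [ha] at this
    exact_mod_cast this
  obtain ⟨i, h | h⟩ := hx
  · -- x = a^i, a^(2i) = 1, so 4 ∣ 2 i
    have h1 : a ^ (i + i) = 1 := by rw [zpow_add, ← h]; exact hxx
    have h2 : (orderOf a : ℤ) ∣ i + i := orderOf_dvd_iff_zpow_eq_one.2 h1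
    rw [ha] at h2
    obtain ⟨k, hk⟩ : (2 : ℤ) ∣ i := by omega
    rw [h, hk]
    rcases Int.emod_two_eq_zero_or_one k with hk2 | hk2
    · exfalso
      apply hx1
      obtain ⟨m, hm⟩ : (2 : ℤ) ∣ k := Int.dvd_of_emod_eq_zero hk2
      rw [h, hk, hm]
      have : 2 * (2 * m) = 4 * m := by ring
      rw [this, zpow_mul, ha4, one_zpow]
    · have : 2 * k = 2 + 4 * (k / 2) := by omega
      rw [this, zpow_add, zpow_mul, ha4, one_zpow, mul_one]
      norm_cast
  · -- x = a^i t, x² = a² ≠ 1
    exfalso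
    have h2 : t * t = a ^ (2 : ℤ) := by
      rw [← pow_two, ht]; norm_cast
    have h3 : x * x = a ^ (2 : ℤ) := by
      calc x * x = a ^ i * (t * a ^ i) * t := by rw [h]; group
        _ = a ^ i * (a ^ (-i) * t) * t := by rw [tt_comm_zpow a t hta i]
        _ = a ^ i * a ^ (-i) * (t * t) := by group
        _ = a ^ (i + -i + 2) := by rw [h2, ← zpow_add, ← zpow_add]
        _ = a ^ (2 : ℤ) := by
          have : i + -i + 2 = 2 := by ring
          rw [this]
    rw [hxx] at h3
    have h4 : (orderOf a : ℤ) ∣ 2 := orderOf_dvd_iff_zpow_eq_one.2 h3.symm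
    rw [ha] at h4
    omega


section Fin

variable [Finite G]

theorem tt_card_cen_conj (g u : G) : Nat.card (Cen (g⁻¹ * u * g)) = Nat.card (Cen u) := by
  have h1 := Cfsg.Agent.Helper17.card_carrier_mul_card_centralizer (g⁻¹ * u * g)
  have h2 := Cfsg.Agent.Helper17.card_carrier_mul_card_centralizer u
  have h3 : ConjClasses.mk (g⁻¹ * u * g) = ConjClasses.mk u := by
    rw [ConjClasses.mk_eq_mk_iff_isConj, isConj_comm, isConj_iff]
    exact ⟨g⁻¹, by group⟩
  rw [h3] at h1
  have hpos : 0 < Nat.card (ConjClasses.mk u).carrier := by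
    haveI : Nonempty (ConjClasses.mk u).carrier := ⟨⟨u, ConjClasses.mem_carrier_mk⟩⟩
    exact Nat.card_pos
  have : Nat.card (ConjClasses.mk u).carrier * Nat.card (Cen (g⁻¹ * u * g)) =
      Nat.card (ConjClasses.mk u).carrier * Nat.card (Cen u) := by
    show Nat.card (ConjClasses.mk u).carrier * Nat.card (Subgroup.centralizer {g⁻¹ * u * g}) =
      Nat.card (ConjClasses.mk u).carrier * Nat.card (Subgroup.centralizer {u})
    rw [h1, h2]
  exact Nat.eq_of_mul_eq_mul_left hpos this

/-- the fixed point argument -/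
theorem tt_final [IsSimpleGroup G] (hG : Nat.card G = 5040) (S : Sylow 2 G) (u z : G)
    (hu : orderOf u = 2) (hCu : Nat.card (Cen u) = 40) (hzS : ∀ g ∈ S, g * z = z * g)
    (hS16 : Nat.card (S : Subgroup G) = 16) (Q : Subgroup G) (hQ : Nat.card Q = 8)
    (hinv : ∀ q ∈ Q, orderOf q = 2 → q = z) : False := by
  have hidx : Nat.card (G ⧸ Q) = 630 := by
    have := Subgroup.card_mul_index Q
    rw [hQ, hG] at this
    rw [← Subgroup.index_eq_card]
    omega
  have hmod := Cfsg.Agent.S1017.card_fixedBy_mod_four (α := G ⧸ Q) (by rw [hG]; norm_num) u hu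
  rw [hidx] at hmod
  have hne : Nat.card (MulAction.fixedBy (G ⧸ Q) u) ≠ 0 := by
    intro h0
    rw [h0] at hmod
    unfold Nat.ModEq at hmod
    omega
  have hnonempty : Nonempty (MulAction.fixedBy (G ⧸ Q) u) := by
    by_contra hemp
    rw [not_nonempty_iff] at hemp
    exact hne Nat.card_of_isEmpty
  obtain ⟨⟨q, hq⟩⟩ := hnonempty
  induction q using QuotientGroup.induction_on with
  | H g =>
    have hq' : u • (QuotientGroup.mk g : G ⧸ Q) = QuotientGroup.mk g := hq
    rw [Cfsg.Agent.Helper17.smul_mk_eq_iff] at hq'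
    have hord : orderOf (g⁻¹ * u * g) = 2 := by
      have hc : IsConj u (g⁻¹ * u * g) := by
        rw [isConj_iff]; exact ⟨g⁻¹, by group⟩
      rw [← Cfsg.Agent.Helper17.orderOf_eq_of_isConj hc]; exact hu
    have hz := hinv _ hq' hord
    have hcz : Nat.card (Cen z) = 40 := by
      rw [← hz, tt_card_cen_conj, hCu]
    have hle : (S : Subgroup G) ≤ Cen z := by
      intro x hx
      show x ∈ Subgroup.centralizer ({z} : Set G)
      rw [Subgroup.mem_centralizer_iff]
      intro y hy
      rw [Set.mem_singleton_iff] at hy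
      rw [hy]
      exact (hzS x hx).symm
    have hdvd := Subgroup.card_dvd_of_le hle
    rw [hS16, hcz] at hdvd
    norm_num at hdvd

theorem false_of_struct [IsSimpleGroup G] (hG : Nat.card G = 5040) (S : Sylow 2 G)
    (u v s : G) (hu : orderOf u = 2) (hv : orderOf v = 4)
    (huS : u ∈ S) (hvS : v ∈ S) (hsS : s ∈ S)
    (hvZ : ∀ g ∈ S, g * v = v * g)
    (hus : s * u * s⁻¹ = u * v ^ 2)
    (hs2 : s ^ 2 ∈ Subgroup.zpowers v)
    (hCu : Nat.card (Cen u) = 40) : False := by
  haveI : Fact (Nat.Prime 2) := ⟨Nat.prime_two⟩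
  have hS16 : Nat.card (S : Subgroup G) = 16 := by
    have := Cfsg.Agent.S1017.sylow_card_eq S 4 315 (by rw [hG]; norm_num) (by norm_num)
    simpa using this
  -- basic relations
  have huu : u * u = 1 := by
    rw [← pow_two, ← hu]; exact pow_orderOf_eq_one u
  have hv4 : v ^ 4 = 1 := by
    rw [← hv]; exact pow_orderOf_eq_one v
  set z : G := v ^ 2 with hz
  have hzz : z * z = 1 := by
    rw [hz, ← pow_add]; exact hv4
  have hz1 : z ≠ 1 := by
    intro h
    have := orderOf_dvd_of_pow_eq_one h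
    rw [hv] at this
    norm_num at this
  have huv : u * v = v * u := hvZ u huS
  have hsv : s * v = v * s := hvZ s hsS
  have hzS : ∀ g ∈ S, g * z = z * g := by
    intro g hg
    have h1 := hvZ g hg
    rw [hz, pow_two, ← mul_assoc, h1, mul_assoc, h1, ← mul_assoc]
  have hzu : u * z = z * u := hzS u huS
  have hzs : s * z = z * s := hzS s hsS
  have huz : u ≠ z := by
    intro h
    have h1 : s * u * s⁻¹ = u := by
      rw [h]
      calc s * z * s⁻¹ = z * s * s⁻¹ := by rw [hzs]
        _ = z := by group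
    rw [h1] at hus
    have : z = 1 := by
      have h2 : u * z = u * 1 := by rw [mul_one]; exact hus.symm
      exact mul_left_cancel h2
    exact hz1 this
  -- s² = v ^ r with r ∈ {0,1,2,3}
  obtain ⟨k, hk⟩ := Subgroup.mem_zpowers_iff.1 hs2
  have hkr : v ^ (k % 4) = s ^ 2 := by
    have := zpow_mod_orderOf v k
    rw [hv] at this
    rw [← hk]; exact_mod_cast this
  have hr0 : 0 ≤ k % 4 := Int.emod_nonneg k (by norm_num)
  have hr4 : k % 4 < 4 := Int.emod_lt_of_pos k (by norm_num)
  -- the quaternion case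
  have quat : ∀ t : G, t ∈ S → t * (v * u) * t⁻¹ = (v * u)⁻¹ → t ^ 2 = (v * u) ^ 2 → False := by
    intro t htS hta ht
    have ha2 : (v * u) ^ 2 = z := by
      rw [pow_two, hz, pow_two]
      calc v * u * (v * u) = v * (u * v) * u := by group
        _ = v * (v * u) * u := by rw [huv]
        _ = v * v * (u * u) := by group
        _ = v * v := by rw [huu, mul_one]
    have ha4 : (v * u) ^ 4 = 1 := by
      have : (v * u) ^ 4 = ((v * u) ^ 2) ^ 2 := by rw [← pow_mul]
      rw [this, ha2, pow_two, hzz]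
    have haord : orderOf (v * u) = 4 := by
      have := orderOf_eq_prime_pow (p := 2) (n := 1) (x := v * u)
        (by rw [pow_one, ha2]; exact hz1) (by norm_num; exact ha4)
      simpa using this
    have haS : v * u ∈ (S : Subgroup G) := mul_mem hvS huS
    set Q := ttQ (v * u) t hta ht with hQdef
    have hQS : Q ≤ (S : Subgroup G) := by
      rintro x ⟨i, hx | hx⟩
      · rw [hx]; exact zpow_mem haS i
      · rw [hx]; exact mul_mem (zpow_mem haS i) htS
    have haQ : Subgroup.zpowers (v * u) ≤ Q := by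
      rw [Subgroup.zpowers_le]
      exact ⟨1, Or.inl (by simp)⟩
    have htQ : t ∈ Q := ⟨0, Or.inr (by simp)⟩
    have htna : t ∉ Subgroup.zpowers (v * u) := by
      intro h
      obtain ⟨i, hi⟩ := Subgroup.mem_zpowers_iff.1 h
      have hcomm : t * (v * u) = (v * u) * t := by
        rw [← hi, ← zpow_add_one, ← zpow_one_add, add_comm]
      have h1 : t * (v * u) * t⁻¹ = v * u := by
        rw [hcomm]; group
      rw [h1] at hta
      -- a = a⁻¹ gives a² = 1
      have h2 : (v * u) ^ 2 = 1 := by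
        rw [pow_two]
        nth_rewrite 2 [hta]
        exact mul_inv_cancel _
      rw [ha2] at h2
      exact hz1 h2
    have hinv : ∀ q ∈ Q, orderOf q = 2 → q = z := by
      intro q hq hq2
      rw [← ha2]
      exact tt_involution (v * u) t hta ht haord q hq hq2
    have huQ : u ∉ Q := by
      intro h
      exact huz (hinv u h hu)
    -- the order of Q
    have hQ8 : Nat.card Q = 8 := by
      have h16 : Nat.card Q ∣ 16 := by rw [← hS16]; exact Subgroup.card_dvd_of_le hQS
      have h4 : 4 ∣ Nat.card Q := by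
        have := Subgroup.card_dvd_of_le haQ
        rwa [Nat.card_zpowers, haord] at this
      have hne4 : Nat.card Q ≠ 4 := by
        intro h
        have heq : Subgroup.zpowers (v * u) = Q :=
          Subgroup.eq_of_le_of_card_ge haQ (by rw [Nat.card_zpowers, haord, h])
        rw [← heq] at htQ
        exact htna htQ
      have hne16 : Nat.card Q ≠ 16 := by
        intro h
        have heq : Q = (S : Subgroup G) :=
          Subgroup.eq_of_le_of_card_ge hQS (by rw [hS16, h])
        rw [heq] at huQ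
        exact huQ huS
      have hle : Nat.card Q ≤ 16 := Nat.le_of_dvd (by norm_num) h16
      have hpos : 0 < Nat.card Q := Nat.card_pos
      generalize Nat.card Q = m at *
      interval_cases m <;> omega
    exact tt_final hG S u z hu hCu hzS hS16 Q hQ8 hinv
  -- conjugation of `v * u` by `s`
  have hsa : s * (v * u) * s⁻¹ = (v * u)⁻¹ := by
    have h1 : s * (v * u) * s⁻¹ = (s * v * s⁻¹) * (s * u * s⁻¹) := by group
    have h2 : s * v * s⁻¹ = v := by rw [hsv]; group
    rw [h1, h2, hus]
    -- v * (u * z) = (v u)⁻¹ since (v u)(v u z) = z z = 1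
    symm
    apply inv_eq_of_mul_eq_one_right
    calc v * u * (v * (u * z)) = v * (u * v) * u * z := by group
      _ = v * (v * u) * u * z := by rw [huv]
      _ = v * v * (u * u) * z := by group
      _ = z * z := by rw [huu, mul_one, hz, pow_two]
      _ = 1 := hzz
  have ha2 : (v * u) ^ 2 = z := by
    rw [pow_two, hz, pow_two]
    calc v * u * (v * u) = v * (u * v) * u := by group
      _ = v * (v * u) * u := by rw [huv]
      _ = v * v * (u * u) := by group
      _ = v * v := by rw [huu, mul_one]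
  -- the cyclic case
  have cyc : s ^ 4 = z → False := by
    intro h4
    have h8 : s ^ 8 = 1 := by
      have : s ^ 8 = (s ^ 4) ^ 2 := by rw [← pow_mul]
      rw [this, h4, pow_two, hzz]
    have hsord : orderOf s = 8 := by
      have := orderOf_eq_prime_pow (p := 2) (n := 2) (x := s)
        (by norm_num; rw [h4]; exact hz1) (by norm_num; exact h8)
      simpa using this
    have hQ8 : Nat.card (Subgroup.zpowers s) = 8 := by rw [Nat.card_zpowers, hsord]
    have hinv : ∀ q ∈ Subgroup.zpowers s, orderOf q = 2 → q = z := by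
      intro q hq hq2
      obtain ⟨i, hi⟩ := Subgroup.mem_zpowers_iff.1 hq
      have hqq : q * q = 1 := by
        rw [← pow_two, ← hq2]; exact pow_orderOf_eq_one q
      have hq1 : q ≠ 1 := by
        intro h; rw [h, orderOf_one] at hq2; norm_num at hq2
      have h1 : s ^ (i + i) = 1 := by rw [zpow_add, hi]; exact hqq
      have h2 : (orderOf s : ℤ) ∣ i + i := orderOf_dvd_iff_zpow_eq_one.2 h1
      rw [hsord] at h2
      obtain ⟨j, hj⟩ : (4 : ℤ) ∣ i := by omega
      have h4' : s ^ (4 : ℤ) = z := by rw [← h4]; norm_cast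
      have hqz : q = z ^ j := by
        rw [← hi, hj, zpow_mul, h4']
      have hz2 : z ^ (2 : ℤ) = 1 := by
        have : z ^ (2 : ℤ) = z * z := by
          rw [show (2 : ℤ) = 1 + 1 by norm_num, zpow_add, zpow_one]
        rw [this, hzz]
      rcases Int.emod_two_eq_zero_or_one j with hj2 | hj2
      · exfalso
        apply hq1
        obtain ⟨m, hm⟩ : (2 : ℤ) ∣ j := Int.dvd_of_emod_eq_zero hj2
        rw [hqz, hm, zpow_mul, hz2, one_zpow]
      · have : j = 1 + 2 * (j / 2) := by omega
        rw [hqz, this, zpow_add, zpow_one, zpow_mul, hz2, one_zpow, mul_one]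
    exact tt_final hG S u z hu hCu hzS hS16 (Subgroup.zpowers s) hQ8 hinv
  have hcases : k % 4 = 0 ∨ k % 4 = 1 ∨ k % 4 = 2 ∨ k % 4 = 3 := by omega
  rcases hcases with h0 | h1 | h2 | h3
  · -- s² = 1 : t = s u
    rw [h0, zpow_zero] at hkr
    have hss : s * s = 1 := by rw [← pow_two]; exact hkr.symm
    refine quat (s * u) (mul_mem hsS huS) ?_ ?_
    · have : s * u * (v * u) * (s * u)⁻¹ = s * (u * (v * u) * u⁻¹) * s⁻¹ := by group
      rw [this]
      have h1 : u * (v * u) * u⁻¹ = v * u := by
        rw [← mul_assoc, huv]; group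
      rw [h1]; exact hsa
    · rw [ha2, pow_two]
      calc s * u * (s * u) = (s * u * s⁻¹) * (s * s) * u := by group
        _ = u * z * u := by rw [hus, hss, mul_one]
        _ = z * (u * u) := by rw [hzu]; group
        _ = z := by rw [huu, mul_one]
  · -- s² = v : cyclic of order 8
    apply cyc
    have h : s ^ 2 = v := by
      rw [← hkr, h1, zpow_one]
    have : s ^ 4 = (s ^ 2) ^ 2 := by rw [← pow_mul]
    rw [this, h]
  · -- s² = z : t = s
    have hs2z : s ^ 2 = z := by
      rw [← hkr, h2, hz]; norm_cast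
    exact quat s hsS hsa (by rw [ha2, hs2z])
  · -- s² = v³ : cyclic of order 8
    apply cyc
    have h : s ^ 2 = v ^ 3 := by
      rw [← hkr, h3]; norm_cast
    have : s ^ 4 = (s ^ 2) ^ 2 := by rw [← pow_mul]
    rw [this, h, ← pow_mul, hz]
    calc v ^ (3 * 2) = v ^ 4 * v ^ 2 := by rw [← pow_add]
      _ = v ^ 2 := by rw [hv4, one_mul]

end Fin

end Cfsg.Agent.Helper74.O5040
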