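import Mathlib
import Cfsg.Agent.Lib.Helper74.M11Defs
import Cfsg.Agent.S1017
import Cfsg.Agent.S0215
import Cfsg.Agent.Lib.Helper74.O5040TT
import Cfsg.Agent.Lib.Helper74.O5040C240
import Cfsg.Agent.Lib.Helper45.O5040CC
import Cfsg.Agent.Lib.Helper45.O5040CI
import Cfsg.Agent.Lib.Helper17.O5040D14
import Cfsg.Agent.Lib.Helper99.O5040D21
import Cfsg.Agent.Lib.Helper50.O5040N90
import Cfsg.Agent.Lib.Helper99.O5040N40
import Cfsg.Agent.Lib.Helper86.O5040F20
import Cfsg.Agent.Lib.Helper86.O5040S10
import Cfsg.Agent.Lib.Helper74.O5040C112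

/-!
# No simple group of order 5040 (S0978)

Assembly of the pieces of the lemma server "O5040" (helper74) on top of helper99's fixed-point toolkit
(`Cfsg.Agent.S1017`).
-/

set_option autoImplicit false

namespace Cfsg.Agent.Helper74.O5040

open Cfsg.Agent.Helper74.M11
open Cfsg.Agent.Helper50.O5040 (false_of_90)
open Cfsg.Agent.Helper99.O5040 (card_normalizer_sylow_five)
open Cfsg.Agent.Helper86.O5040 (false_of_20 struct_of_10)
open Cfsg.Agent.Helper45.O5040 (card_centralizer_mem exists_central_involution)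
open Cfsg.Agent.Helper17.O5040 (false_of_14)
open Cfsg.Agent.Helper99.O5040 (false_of_21)
open Cfsg.Agent.S1017
open MulAction Subgroup

variable {G : Type*} [Group G] [Finite G]

/-- an isolated involution of a Sylow 2-subgroup cannot exist in a simple group of order 5040 -/
theorem false_of_isolated [IsSimpleGroup G] (hG : Nat.card G = 5040) (S : Sylow 2 G) (u : G)
    (hu : orderOf u = 2) (huS : u ∈ S) (hiso : ∀ g : G, g * u * g⁻¹ ∈ S → g * u * g⁻¹ = u) :
    False := by
  obtain ⟨N, hNn, hNodd, hN⟩ := Cfsg.Agent.S0215.result S u hu huS hiso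
  have hu1 : u ≠ 1 := by
    intro h
    rw [h, orderOf_one] at hu
    norm_num at hu
  rcases hNn.eq_bot_or_eq_top with h | h
  · -- `u` is central
    have hcen : u ∈ Subgroup.center G := by
      rw [Subgroup.mem_center_iff]
      intro g
      have h1 := hN g
      rw [h, Subgroup.mem_bot] at h1
      have h2 : u * g = g * u := by
        calc u * g = (u * g * u⁻¹ * g⁻¹) * (g * u) := by group
          _ = g * u := by rw [h1, one_mul]
      exact h2.symm
    have hcn : (Subgroup.center G).Normal := inferInstance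
    rcases hcn.eq_bot_or_eq_top with h' | h'
    · rw [h', Subgroup.mem_bot] at hcen
      exact hu1 hcen
    · have hcomm : IsMulCommutative G := by
        refine ⟨⟨fun a b => ?_⟩⟩
        have ha : a ∈ Subgroup.center G := by rw [h']; exact Subgroup.mem_top a
        exact ((Subgroup.mem_center_iff.1 ha) b).symm
      have hp : (Nat.card G).Prime := by
        let _ : CommGroup G := { ‹Group G› with mul_comm := hcomm.is_comm.comm }
        exact IsSimpleGroup.prime_card
      rw [hG] at hp
      norm_num at hp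
  · rw [h, Subgroup.card_top, hG] at hNodd
    exact absurd hNodd (by decide)

theorem numerics5040 (n k c : ℕ) (h : n * (k * (7 * c)) = 5040) (hk : k ∣ 7 - 1) (hk1 : k ≠ 1)
    (hn : n % 7 = 1) (hn1 : n ≠ 1) :
    (n = 8 ∧ 5 ∣ c) ∨ (n = 15 ∧ 2 ∣ c) ∨ (n = 36 ∧ k = 2 ∧ c = 10) ∨
      (n = 120 ∧ k = 2 ∧ c = 3) ∨ (n = 120 ∧ k = 3 ∧ c = 2) ∨ (n = 120 ∧ k = 6 ∧ c = 1) := by
  have h' : k * (n * c) = 720 := by
    have : 7 * (k * (n * c)) = 7 * 720 := by
      rw [show (7 : ℕ) * 720 = 5040 by norm_num, ← h]; ring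
    exact Nat.eq_of_mul_eq_mul_left (by norm_num) this
  have hkle : k ≤ 6 := Nat.le_of_dvd (by norm_num) hk
  have hk0 : 0 < k := Nat.pos_of_dvd_of_pos hk (by norm_num)
  have hnpos : 0 < n := by
    rcases Nat.eq_zero_or_pos n with h0 | h0
    · subst h0; simp at hn
    · exact h0
  have hcpos : 0 < c := by
    rcases Nat.eq_zero_or_pos c with h0 | h0
    · subst h0; simp at h'
    · exact h0
  have hk2 : 2 ≤ k := by omega
  have hnle : n ≤ 360 := by
    have h1 : n ≤ n * c := Nat.le_mul_of_pos_right n hcpos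
    have h2 : 2 * n ≤ k * (n * c) := Nat.mul_le_mul hk2 h1
    omega
  have hnd : n ∣ 720 := ⟨k * c, by rw [← h']; ring⟩
  have hn4 : n = 8 ∨ n = 15 ∨ n = 36 ∨ n = 120 := by
    interval_cases n <;> first | omega | (exfalso; revert hnd; decide)
  rcases hn4 with rfl | rfl | rfl | rfl
  · left
    refine ⟨rfl, ?_⟩
    interval_cases k <;> first | omega | (exfalso; revert hk; decide)
  · right; left
    refine ⟨rfl, ?_⟩
    interval_cases k <;> first | omega | (exfalso; revert hk; decide)
  · right; right; left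
    refine ⟨rfl, ?_⟩
    interval_cases k <;> first | omega | (exfalso; revert hk; decide)
  · right; right; right
    interval_cases k <;> first | omega | (exfalso; revert hk; decide)

/-- `n_7 = 8` -/
theorem case8 [IsSimpleGroup G] (P : Sylow 7 G)
    (hP : Nat.card (P : Subgroup G) = 7) (hn : Nat.card (Sylow 7 G) = 8) (c : ℕ)
    (hC : Nat.card (Subgroup.centralizer ((P : Subgroup G) : Set G)) = 7 * c) (hc : 5 ∣ c) :
    False := by
  haveI : Fact (Nat.Prime 5) := ⟨by norm_num⟩
  obtain ⟨u', hu'⟩ := exists_prime_orderOf_dvd_card'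
    (G := ↥(Subgroup.centralizer ((P : Subgroup G) : Set G))) 5
    (by rw [hC]; exact Dvd.dvd.mul_left hc 7)
  have hu : orderOf (u' : G) = 5 := by rw [Subgroup.orderOf_coe]; exact hu'
  have h1 := card_fixedBy_sylow_modEq P hP (u' : G) u'.2
  have h2 := card_modEq_card_fixedBy (α := Sylow 7 G) (u' : G) hu
  have hle := card_fixedBy_le (α := Sylow 7 G) (u' : G)
  have hne := card_fixedBy_ne (α := Sylow 7 G) (sylow_action_nontrivial (by rw [hn]; norm_num))
    (u' : G) (ne_one_of_orderOf_prime _ (by norm_num) hu)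
  rw [hn] at h2 hle hne
  unfold Nat.ModEq at h1 h2
  omega

/-- `n_7 = 15` -/
theorem case15 [IsSimpleGroup G] (hG : Nat.card G = 5040) (P : Sylow 7 G)
    (hP : Nat.card (P : Subgroup G) = 7) (hn : Nat.card (Sylow 7 G) = 15) (c : ℕ)
    (hC : Nat.card (Subgroup.centralizer ((P : Subgroup G) : Set G)) = 7 * c) (hc : 2 ∣ c) :
    False := by
  obtain ⟨u', hu'⟩ := exists_prime_orderOf_dvd_card'
    (G := ↥(Subgroup.centralizer ((P : Subgroup G) : Set G))) 2
    (by rw [hC]; exact Dvd.dvd.mul_left hc 7)
  have hu : orderOf (u' : G) = 2 := by rw [Subgroup.orderOf_coe]; exact hu'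
  have h1 := card_fixedBy_sylow_modEq P hP (u' : G) u'.2
  have h2 := card_fixedBy_mod_four (α := Sylow 7 G) (by rw [hG]; norm_num) (u' : G) hu
  have hle := card_fixedBy_le (α := Sylow 7 G) (u' : G)
  have hne := card_fixedBy_ne (α := Sylow 7 G) (sylow_action_nontrivial (by rw [hn]; norm_num))
    (u' : G) (ne_one_of_orderOf_prime _ Nat.prime_two hu)
  rw [hn] at h2 hle hne
  unfold Nat.ModEq at h1 h2
  omega

/-- `n_7 = 36` -/
theorem case36 [IsSimpleGroup G] (hG : Nat.card G = 5040) (P : Sylow 7 G)
    (hP : Nat.card (P : Subgroup G) = 7) (hn : Nat.card (Sylow 7 G) = 36)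
    (hC : Nat.card (Subgroup.centralizer ((P : Subgroup G) : Set G)) = 70)
    (hN : Nat.card (Subgroup.normalizer ((P : Subgroup G) : Set G)) = 140) : False := by
  obtain ⟨u', hu'⟩ := exists_prime_orderOf_dvd_card'
    (G := ↥(Subgroup.centralizer ((P : Subgroup G) : Set G))) 2 (by rw [hC]; norm_num)
  obtain ⟨u, hudef⟩ : ∃ u : G, u = (u' : G) := ⟨_, rfl⟩
  have hu : orderOf u = 2 := by rw [hudef, Subgroup.orderOf_coe]; exact hu'
  have huK : u ∈ Subgroup.centralizer ((P : Subgroup G) : Set G) := by rw [hudef]; exact u'.2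
  have h1 := card_fixedBy_sylow_modEq P hP u huK
  have h2 := card_fixedBy_mod_four (α := Sylow 7 G) (by rw [hG]; norm_num) u hu
  have hle := card_fixedBy_le (α := Sylow 7 G) u
  have hne := card_fixedBy_ne (α := Sylow 7 G) (sylow_action_nontrivial (by rw [hn]; norm_num))
    u (ne_one_of_orderOf_prime _ Nat.prime_two hu)
  rw [hn] at h2 hle hne
  have hf : Nat.card (fixedBy (Sylow 7 G) u) = 8 := by
    unfold Nat.ModEq at h1 h2
    omega
  have hcen := card_centralizer_eq P hP u huK (by rw [hn, hf]; norm_num)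
  rw [hf] at hcen
  -- the order of `N(P) ⊓ C(u)`
  set M : Subgroup G := Subgroup.normalizer ((P : Subgroup G) : Set G) ⊓
    Subgroup.centralizer ({u} : Set G) with hM
  have hPM : (P : Subgroup G) ≤ M := by
    refine le_inf Subgroup.le_normalizer ?_
    rw [le_centralizer_singleton_iff]
    exact huK
  have huM : u ∈ M := by
    refine ⟨Subgroup.centralizer_le_normalizer _ huK, ?_⟩
    show u ∈ Subgroup.centralizer ({u} : Set G)
    rw [Subgroup.mem_centralizer_iff]
    intro y hy
    rw [Set.mem_singleton_iff] at hy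
    rw [hy]
  have h7 : 7 ∣ Nat.card M := by
    rw [← hP]; exact Subgroup.card_dvd_of_le hPM
  have h2' : 2 ∣ Nat.card M := by
    have := orderOf_dvd_natCard (⟨u, huM⟩ : M)
    rwa [Subgroup.orderOf_mk, hu] at this
  have h140 : Nat.card M ∣ 140 := by
    rw [← hN]; exact Subgroup.card_dvd_of_le inf_le_left
  have h5040 : Nat.card (Subgroup.centralizer ({u} : Set G)) ∣ 5040 := by
    rw [← hG]; exact Subgroup.card_subgroup_dvd_card _
  rw [hcen] at h5040
  have hM14 : Nat.card M = 14 ∨ Nat.card M = 70 := by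
    have hle140 : Nat.card M ≤ 140 := Nat.le_of_dvd (by norm_num) h140
    have hpos : 0 < Nat.card M := Nat.card_pos
    generalize Nat.card M = m at *
    interval_cases m <;> first | omega | (exfalso; revert h140; decide) |
      (exfalso; revert h5040; decide) | (left; rfl) | (right; rfl)
  rcases hM14 with h14 | h70
  · -- `|C(u)| = 112`
    rw [h14] at hcen
    exact false_of_112 hG P (fun S u hu huS hiso => false_of_isolated hG S u hu huS hiso)
      u hu huK (by rw [hcen]) h14
  · -- `|C(u)| = 560`, index 9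
    rw [h70] at hcen
    have hidx : Nat.card (G ⧸ Subgroup.centralizer ({u} : Set G)) = 9 := by
      have := Subgroup.card_mul_index (Subgroup.centralizer ({u} : Set G))
      rw [hcen, hG] at this
      rw [← Subgroup.index_eq_card]
      omega
    -- a generator of `P`
    haveI : Fact (Nat.Prime 7) := ⟨by norm_num⟩
    obtain ⟨g', hg'⟩ := exists_prime_orderOf_dvd_card' (G := ↥(P : Subgroup G)) 7
      (by rw [hP])
    have hg : orderOf (g' : G) = 7 := by rw [Subgroup.orderOf_coe]; exact hg'
    have hcomm : Commute (g' : G) u := by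
      have := (Subgroup.mem_centralizer_iff.1 huK) (g' : G) g'.2
      exact this
    refine endgame2016 (Subgroup.centralizer ({u} : Set G)) hidx (g' : G) u hg hu hcomm ?_ ?_
    · rw [Subgroup.mem_centralizer_iff]
      intro y hy
      rw [Set.mem_singleton_iff] at hy
      rw [hy]
      exact hcomm.eq.symm
    · rw [Subgroup.mem_centralizer_iff]
      intro y hy
      rw [Set.mem_singleton_iff] at hy
      rw [hy]

/-- the centraliser of an element equals the centraliser of the cyclic group it generates -/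
theorem cen_eq_cenS_zpowers' (x : G) : Cen x = CenS (Subgroup.zpowers x) := by
  ext g
  simp only [Cen, CenS, Subgroup.mem_centralizer_iff, Set.mem_singleton_iff, forall_eq,
    SetLike.mem_coe]
  constructor
  · intro h y hy
    obtain ⟨k, rfl⟩ := Subgroup.mem_zpowers_iff.1 hy
    exact ((Commute.zpow_left (show Commute x g from h) k)).eq
  · intro h
    exact h x (Subgroup.mem_zpowers x)

/-- elements of order 7 are self-centralising when all Sylow 7-subgroups are -/
theorem card_cen_seven (hcard : ∀ P : Sylow 7 G, Nat.card (P : Subgroup G) = 7)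
    (hall : ∀ P : Sylow 7 G, Nat.card (CenS (P : Subgroup G)) = 7)
    (g : G) (hg : orderOf g = 7) : Nat.card (Cen g) = 7 := by
  haveI : Fact (Nat.Prime 7) := ⟨by norm_num⟩
  obtain ⟨P, hP⟩ := exists_sylow_mem_of_orderOf g hg
  have hg1 : g ≠ 1 := ne_one_of_orderOf_prime g (by norm_num) hg
  have hz := (zpowers_eq_of_card_prime (P : Subgroup G) (hcard P) g hP hg1).1
  rw [cen_eq_cenS_zpowers', hz]
  exact hall P

/-- the case where all Sylow 7-subgroups are self-centralising -/
theorem case_e6 [IsSimpleGroup G] (hG : Nat.card G = 5040)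
    (h7 : ∀ g : G, orderOf g = 7 → Nat.card (Cen g) = 7) : False := by
  haveI : Fact (Nat.Prime 5) := ⟨by norm_num⟩
  have hiso : ∀ (S : Sylow 2 G) (u : G), orderOf u = 2 → u ∈ S →
      (∀ g : G, g * u * g⁻¹ ∈ S → g * u * g⁻¹ = u) → False :=
    fun S u hu huS hiso => false_of_isolated hG S u hu huS hiso
  obtain ⟨R⟩ : Nonempty (Sylow 5 G) := inferInstance
  have hN := card_normalizer_sylow_five hG h7 R (fun h => false_of_90 hG R h)
  obtain ⟨hC, u, hu, huR, hNu⟩ := exists_central_involution hG R hN
  have hall : ∀ u : G, orderOf u = 2 → NorS (R : Subgroup G) ≤ Cen u → Nat.card (Cen u) = 40 := by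
    intro u hu hNu
    rcases card_centralizer_mem hG h7 R hN u hu hNu with h | h
    · exact h
    · exact (false_of_240 hG R hiso hN u hu hNu h).elim
  rcases hC with hC | hC
  · obtain ⟨S, v, s, hv, huS, hvS, hsS, hvZ, hus, hs2⟩ :=
      struct_of_10 hG R hN hC u hu huR hNu (hall u hu hNu)
    exact false_of_struct hG S u v s hu hv huS hvS hsS hvZ hus hs2 (hall u hu hNu)
  · exact false_of_20 hG R hN hC hall

theorem main5040 [IsSimpleGroup G] (hG : Nat.card G = 5040) : False := by
  haveI : Fact (Nat.Prime 7) := ⟨by norm_num⟩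
  have key : ∀ P : Sylow 7 G, Nat.card (CenS (P : Subgroup G)) = 7 := by
    intro P
    have hP : Nat.card (P : Subgroup G) = 7 := by
      have := sylow_card_eq P 1 720 (by rw [hG]; norm_num) (by norm_num)
      simpa using this
    obtain ⟨k, c, hk, hk1, hC, hN⟩ := normalizer_structure P hP (by rw [hG]; norm_num)
    have hmul := card_sylow_mul_card_normalizer P
    have hmod := card_sylow_mod (G := G) (p := 7)
    have hn1 := sylow_count_ne_one P (by rw [hP]; norm_num) (by rw [hP, hG]; norm_num)
    rw [hN, hG] at hmul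
    rcases numerics5040 _ k c hmul hk hk1 hmod hn1 with ⟨h8, hc⟩ | ⟨h15, hc⟩ | ⟨h36, hk2, hc10⟩ |
      ⟨h120, hk2, hc3⟩ | ⟨h120, hk3, hc2⟩ | ⟨h120, hk6, hc1⟩
    · exact (case8 P hP h8 c hC hc).elim
    · exact (case15 hG P hP h15 c hC hc).elim
    · subst hk2; subst hc10
      exact (case36 hG P hP h36 (by rw [hC]) (by rw [hN])).elim
    · subst hc3
      exact (false_of_21 hG P h120 (by rw [hC])).elim
    · subst hc2
      exact (false_of_14 hG P h120 (by rw [hC])).elim
    · subst hc1
      rw [hC]
  have hcard : ∀ P : Sylow 7 G, Nat.card (P : Subgroup G) = 7 := by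
    intro P
    have := sylow_card_eq P 1 720 (by rw [hG]; norm_num) (by norm_num)
    simpa using this
  exact case_e6 hG (fun g hg => card_cen_seven hcard key g hg)

end Cfsg.Agent.Helper74.O5040
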