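import Mathlib
import Cfsg.Agent.S1017
import Cfsg.Agent.Lib.Helper17.Simple
import Cfsg.Agent.Lib.Helper17.SylowCount
import Cfsg.Agent.Lib.Helper17.PrimeTID
import Cfsg.Agent.Lib.Helper17.PrimeTIApp
import Cfsg.Agent.Lib.Helper78.CharSchur
import Cfsg.Agent.Lib.Helper79.CharBasic
import Cfsg.Agent.Lib.Helper79.Inflation
import Cfsg.Agent.Lib.Helper85.O4320BASE1
import Cfsg.Agent.Lib.Helper85.O4320BASE2
import Cfsg.Agent.Lib.Helper10.O4320B2d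
import Cfsg.Agent.Lib.Helper7.O5760Defs

/-!
# O5760 (A1) `ti_data` for helper7's server (S0980, case n_5 = 576)
-/

set_option autoImplicit false

namespace Cfsg.Agent.Helper74.O5760

open Cfsg MulAction Cfsg.Agent.Helper7.O5760
open scoped ComplexConjugate

universe u

/-- (A1) -/
theorem ti_data {G : Type u} [Group G] [Fintype G] (R : Sylow 5 G)
    (hR : Nat.card (R : Subgroup G) = 5)
    (hN : Nat.card (Subgroup.normalizer ((R : Subgroup G) : Set G)) = 10)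
    (hC : Nat.card (Subgroup.centralizer ((R : Subgroup G) : Set G)) = 5) :
    ∃ (ε w : ℤ) (d x : ℕ) (X θ₁ θ₂ : IrrCharacter G),
      (ε = 1 ∨ ε = -1) ∧ (w = 1 ∨ w = -1) ∧ 1 + ε * (x : ℤ) + (d : ℤ) * w = 0 ∧
      charDegree (X : G → ℂ) = x ∧ charDegree (θ₁ : G → ℂ) = d ∧ charDegree (θ₂ : G → ℂ) = d ∧
      θ₁ ≠ θ₂ ∧ X ≠ θ₁ ∧ X ≠ θ₂ ∧
      ((X : G → ℂ) ≠ fun _ => 1) ∧ ((θ₁ : G → ℂ) ≠ fun _ => 1) ∧ ((θ₂ : G → ℂ) ≠ fun _ => 1) ∧
      (∀ k ∈ (R : Subgroup G), k ≠ 1 → (X : G → ℂ) k = (ε : ℂ)) ∧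
      (∀ k ∈ (R : Subgroup G), k ≠ 1 → (θ₁ : G → ℂ) k + (θ₂ : G → ℂ) k = (w : ℂ)) ∧
      (∀ ψ : IrrCharacter G, ((ψ : G → ℂ) ≠ fun _ => 1) → ψ ≠ X → ψ ≠ θ₁ → ψ ≠ θ₂ →
        ∀ k ∈ (R : Subgroup G), k ≠ 1 → (ψ : G → ℂ) k = 0) ∧
      (∀ y : G, (∀ g : G, g * y * g⁻¹ ∉ (R : Subgroup G)) → (θ₁ : G → ℂ) y = (θ₂ : G → ℂ) y) := by
  classical
  have : Fact (Nat.Prime 5) := ⟨by norm_num⟩
  have hfin : Finite G := Finite.of_fintype G
  -- C(R) = R
  have hle : (R : Subgroup G) ≤ Subgroup.centralizer ((R : Subgroup G) : Set G) :=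
    Cfsg.Agent.S1017.le_centralizer_self R hR
  have hCeq : Subgroup.centralizer ((R : Subgroup G) : Set G) = (R : Subgroup G) :=
    (Subgroup.eq_of_le_of_card_ge hle (by rw [hC, hR])).symm
  obtain ⟨w, d, E, a, hEcard, hEdeg, hEne, haE, haK, hcong, hnorm, hdegeq, hEsum, hEag⟩ :=
    Cfsg.Agent.Helper17.PrimeTI.prime_degree_equation_ext (R : Subgroup G) 5 2 2 hR hCeq
      (by rw [hN]) le_rfl (by norm_num) le_rfl
  set ψ1 : IrrCharacter G := ⟨fun _ => 1, Cfsg.Agent.Helper81.isIrrCharacter_one⟩ with hψ1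
  have hψ1E : ψ1 ∉ E := fun h => hEne ψ1 h rfl
  obtain ⟨k0, hk0, hk01⟩ :=
    Cfsg.Agent.Helper17.PrimeTI.exists_ne_one_of_prime_card (R : Subgroup G) hR
  have ha1 : a ψ1 = 1 := by
    have h := haK ψ1 hψ1E k0 hk0 hk01
    have h' : ((1 : ℤ) : ℂ) = ((a ψ1 : ℤ) : ℂ) := by
      rw [← h]; simp [hψ1]
    exact_mod_cast h'.symm
  have hdeg1 : charDegree (ψ1 : G → ℂ) = 1 := Cfsg.Agent.Helper17.PrimeTI.charDegree_one
  have hsplit1 := Finset.add_sum_erase Finset.univ (fun ψ => (a ψ) ^ 2) (Finset.mem_univ ψ1)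
  have hsplit2 := Finset.add_sum_erase Finset.univ
    (fun ψ => a ψ * (charDegree (ψ : G → ℂ) : ℤ)) (Finset.mem_univ ψ1)
  simp only [ha1, hdeg1] at hsplit1 hsplit2
  have hrest : 0 ≤ ∑ ψ ∈ Finset.univ.erase ψ1, (a ψ) ^ 2 :=
    Finset.sum_nonneg (fun i _ => sq_nonneg _)
  rw [← hsplit1] at hnorm
  rw [← hsplit2] at hdegeq
  -- S = 1 and w^2 = 1
  have hw2 : 0 ≤ w ^ 2 := sq_nonneg w
  have hS1 : ∑ ψ ∈ Finset.univ.erase ψ1, (a ψ) ^ 2 = 1 := by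
    set S := ∑ ψ ∈ Finset.univ.erase ψ1, (a ψ) ^ 2 with hS
    have h5 : (2 : ℤ) * (1 ^ 2 + S) + w ^ 2 = 5 := by exact_mod_cast hnorm
    have hSle : S ≤ 1 := by nlinarith
    have hcases : S = 0 ∨ S = 1 := by omega
    rcases hcases with h0 | h1
    · exfalso
      rw [h0] at h5
      have hw3 : w ^ 2 = 3 := by linarith
      have : w ≤ 1 ∨ 2 ≤ w := by omega
      rcases this with h | h
      · have : -1 ≤ w ∨ w ≤ -2 := by omega
        rcases this with h' | h'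
        · have : w = -1 ∨ w = 0 ∨ w = 1 := by omega
          rcases this with h'' | h'' | h'' <;> rw [h''] at hw3 <;> norm_num at hw3
        · nlinarith
      · nlinarith
    · exact h1
  have hwsq : w ^ 2 = 1 := by
    have h5 : (2 : ℤ) * (1 ^ 2 + ∑ ψ ∈ Finset.univ.erase ψ1, (a ψ) ^ 2) + w ^ 2 = 5 := by
      exact_mod_cast hnorm
    rw [hS1] at h5
    linarith
  have hw : w = 1 ∨ w = -1 := by
    have h : (w - 1) * (w + 1) = 0 := by ring_nf; linarith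
    rcases mul_eq_zero.1 h with h | h
    · left; linarith
    · right; linarith
  obtain ⟨X, hX, haX, hrest0⟩ :=
    Cfsg.Agent.Helper17.PrimeTI.peel (Finset.univ.erase ψ1) a 0 (by norm_num)
      (by rw [hS1]; norm_num)
  have hXne : X ≠ ψ1 := (Finset.mem_erase.1 hX).1
  have hz := Cfsg.Agent.Helper17.PrimeTI.all_zero _ a (by exact_mod_cast hrest0)
  have hsplit3 := Finset.add_sum_erase (Finset.univ.erase ψ1)
    (fun ψ => a ψ * (charDegree (ψ : G → ℂ) : ℤ)) hX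
  have hs0 : ∑ ψ ∈ (Finset.univ.erase ψ1).erase X, a ψ * (charDegree (ψ : G → ℂ) : ℤ) = 0 :=
    Finset.sum_eq_zero (fun ψ hψ => by rw [hz ψ hψ, zero_mul])
  rw [hs0, add_zero] at hsplit3
  rw [← hsplit3] at hdegeq
  have hXE : X ∉ E := by
    intro h
    have := haE X h
    rcases haX with h' | h' <;> rw [h'] at this <;> norm_num at this
  obtain ⟨θ₁, θ₂, h12, hEeq⟩ := Finset.card_eq_two.1 hEcard
  have hθ₁E : θ₁ ∈ E := by rw [hEeq]; simp
  have hθ₂E : θ₂ ∈ E := by rw [hEeq]; simp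
  refine ⟨a X, w, d, charDegree (X : G → ℂ), X, θ₁, θ₂, haX, hw, ?_, rfl, hEdeg θ₁ hθ₁E,
    hEdeg θ₂ hθ₂E, h12, ?_, ?_, ?_, hEne θ₁ hθ₁E, hEne θ₂ hθ₂E, ?_, ?_, ?_, ?_⟩
  · push_cast at hdegeq
    linarith
  · intro h; exact hXE (h ▸ hθ₁E)
  · intro h; exact hXE (h ▸ hθ₂E)
  · intro h
    apply hXne
    apply Subtype.ext
    exact h
  · intro k hk hk1
    exact haK X hXE k hk hk1
  · intro k hk hk1
    have := hEsum k hk hk1
    rw [hEeq, Finset.sum_pair h12] at this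
    exact this
  · intro ψ hψ1' hψX hψ1'' hψ2 k hk hk1
    have hψE : ψ ∉ E := by
      rw [hEeq]
      simp only [Finset.mem_insert, Finset.mem_singleton, not_or]
      exact ⟨hψ1'', hψ2⟩
    have hψne1 : ψ ≠ ψ1 := by
      intro h
      apply hψ1'
      rw [h]
    have hmem : ψ ∈ (Finset.univ.erase ψ1).erase X := by
      simp only [Finset.mem_erase, Finset.mem_univ, and_true]
      exact ⟨hψX, hψne1⟩
    have h0 := hz ψ hmem
    have := haK ψ hψE k hk hk1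
    rw [this, h0]
    simp
  · intro y hy
    exact hEag θ₁ hθ₁E θ₂ hθ₂E y hy

end Cfsg.Agent.Helper74.O5760
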