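import Mathlib
import Cfsg.Prelude.Def_Blocks
import Cfsg.Agent.Lib.Helper74.DimBlock
import Cfsg.Agent.Lib.Helper74.BrauerFeit6
import Cfsg.Agent.S4664

/-!
# `p`-conjugate characters (helper74)

If `S` is a set of irreducible characters which agree with `χ` on the `p`-regular elements
(for instance the `p`-conjugates of `χ`) and `r = |S|`, then `ν_p (r χ(1)) ≤ a`; and if moreover
the sums of the members of `S` over a Sylow `p`-subgroup all coincide, `p ^ a ∣ r χ(1)` forces
`p ^ a ∣ χ(1)`.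
-/

set_option autoImplicit false
set_option linter.unusedSectionVars false
set_option linter.style.haveILetI false

namespace Cfsg.Agent.Helper74.PConj

open Cfsg
open Cfsg.Agent.Helper77 Cfsg.Agent.Helper78 Cfsg.Agent.Helper16 Cfsg.Agent.Helper74.DO
open Cfsg.Agent.Helper74.BF
open scoped ComplexConjugate

universe u

/-- A ring automorphism of `ℂ` fixing `ζ` fixes `ℚ(ζ)`. -/
theorem fixed_of_mem_adjoin (σ : ℂ ≃+* ℂ) (ζ : ℂ) (hσ : σ ζ = ζ) {x : ℂ}
    (hx : x ∈ IntermediateField.adjoin ℚ ({ζ} : Set ℂ)) : σ x = x := by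
  induction hx using IntermediateField.adjoin_induction with
  | mem y hy =>
    rw [Set.mem_singleton_iff] at hy
    rw [hy, hσ]
  | algebraMap q =>
    change σ ((q : ℚ) : ℂ) = ((q : ℚ) : ℂ)
    exact map_ratCast σ q
  | add y z _ _ hy hz => rw [map_add, hy, hz]
  | inv y _ hy => rw [map_inv₀, hy]
  | mul y z _ _ hy hz => rw [map_mul, hy, hz]

section rep

variable {G : Type*} [Group G] {V : Type*} [AddCommGroup V] [Module ℂ V] [FiniteDimensional ℂ V]

/-- The sum of a character over a finite subgroup is `|D|` times a natural number (the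
dimension of the fixed space). -/
theorem exists_nat_sum_rep (ρ : Representation ℂ G V) (D : Subgroup G) [Fintype D] :
    ∃ m : ℕ, ∑ y : D, ρ.character (y : G) = (Nat.card D : ℂ) * (m : ℂ) := by
  classical
  set E : Module.End ℂ V := ∑ y : D, ρ (y : G) with hE
  set W := Cfsg.Agent.Helper74.SubSum.fixedSub ρ D with hW
  have hdE : ∀ d ∈ D, ∀ v, ρ d (E v) = E v := by
    intro d hd v
    rw [hE, LinearMap.sum_apply, map_sum]
    have : ∀ y : D, ρ d (ρ (y : G) v) = ρ (((⟨d, hd⟩ : D) * y : D) : G) v := by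
      intro y
      rw [Subgroup.coe_mul, map_mul]
      rfl
    simp only [this]
    exact Fintype.sum_bijective (fun y : D => (⟨d, hd⟩ : D) * y)
      (Group.mulLeft_bijective _) _ _ (fun _ => rfl)
  have hEW : ∀ w ∈ W, E w = (Nat.card D : ℂ) • w := by
    intro w hw
    rw [hE, LinearMap.sum_apply]
    have : ∀ y : D, ρ (y : G) w = w := fun y => hw y y.2
    simp only [this, Finset.sum_const, Finset.card_univ, Nat.card_eq_fintype_card]
    rw [Nat.cast_smul_eq_nsmul]
  have hfW : ∀ v, E v ∈ W := fun v d hd => hdE d hd v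
  have hfW' : ∀ w ∈ W, E w ∈ W := fun w _ => hfW w
  have htr := LinearMap.trace_restrict_eq_of_forall_mem W E hfW hfW'
  have hres : E.restrict hfW' = (Nat.card D : ℂ) • (1 : Module.End ℂ W) := by
    ext ⟨w, hw⟩
    simp only [LinearMap.restrict_coe_apply, LinearMap.smul_apply, Submodule.coe_smul,
      Module.End.one_apply]
    rw [hEW w hw]
  refine ⟨Module.finrank ℂ W, ?_⟩
  have h1 : LinearMap.trace ℂ V E = ∑ y : D, ρ.character (y : G) := by
    rw [hE, map_sum]
    rfl
  rw [← h1, ← htr, hres, map_smul, LinearMap.trace_one, smul_eq_mul]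

end rep

section char

variable {G : Type u} [Group G] [Fintype G]

theorem exists_nat_sum_char (χ : IrrCharacter G) (D : Subgroup G) [Fintype D] :
    ∃ m : ℕ, ∑ y : D, (χ : G → ℂ) (y : G) = (Nat.card D : ℂ) * (m : ℂ) := by
  obtain ⟨n, ρ, hρ⟩ := Cfsg.Agent.Helper80.isCharacter_of_irr χ.2
  rw [← hρ]
  exact exists_nat_sum_rep ρ D

/-- A `p`-conjugate agrees with `χ` on the `p`-regular elements. -/
theorem pconj_eq_on_regular {p : ℕ} (hp : p.Prime) (χ : IrrCharacter G) (σ : ℂ ≃+* ℂ)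
    (hσ : σ (Complex.exp (2 * Real.pi * Complex.I /
        ((Nat.card G / p ^ (Nat.card G).factorization p : ℕ) : ℂ))) =
      Complex.exp (2 * Real.pi * Complex.I /
        ((Nat.card G / p ^ (Nat.card G).factorization p : ℕ) : ℂ)))
    (g : G) (hg : ¬ p ∣ orderOf g) : σ ((χ : G → ℂ) g) = (χ : G → ℂ) g := by
  have hG0 : Nat.card G ≠ 0 := Nat.card_pos.ne'
  have hm0 : Nat.card G / p ^ (Nat.card G).factorization p ≠ 0 :=
    (Nat.ordCompl_pos p hG0).ne'
  have hdvd : orderOf g ∣ Nat.card G / p ^ (Nat.card G).factorization p := by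
    have h1 : orderOf g ∣ Nat.card G := orderOf_dvd_natCard g
    have h2 : Nat.Coprime (orderOf g) (p ^ (Nat.card G).factorization p) :=
      Nat.Coprime.pow_right _ ((Nat.Prime.coprime_iff_not_dvd hp).2 hg).symm
    rw [← Nat.ordProj_mul_ordCompl_eq_self (Nat.card G) p] at h1
    exact h2.dvd_of_dvd_mul_left h1
  exact fixed_of_mem_adjoin σ _ hσ
    (Cfsg.Agent.S4664.char_mem_adjoin (Cfsg.Agent.Helper80.isCharacter_of_irr χ.2) g _ hm0 hdvd)

end char

section main

variable {G : Type u} [Group G] [Fintype G] {p : ℕ} [hpf : Fact p.Prime] {M : Ideal AlgInt}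
variable {B : Set (IrrCharacter G)} {n : IrrCharacter G → IrrCharacter G → ℤ}

/-- Characters agreeing with `χ` on the `p`-regular elements have the same contribution. -/
theorem contrib_eq_of_regular (hn : IsContrib p B n) {χ : IrrCharacter G} (hχ : χ ∈ B)
    {ψ : IrrCharacter G}
    (hreg : ∀ g : G, ¬ p ∣ orderOf g → (ψ : G → ℂ) g = (χ : G → ℂ) g) :
    n χ ψ = n χ χ := by
  have h1 := hn.cast_eq χ hχ ψ
  have h2 := hn.cast_eq χ hχ χ
  have h3 : regSum p (χ : G → ℂ) (ψ : G → ℂ) = regSum p (χ : G → ℂ) (χ : G → ℂ) := by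
    unfold regSum
    refine Finset.sum_congr rfl fun x hx => ?_
    rw [hreg x (Finset.mem_filter.1 hx).2]
  rw [h3, ← h2] at h1
  exact_mod_cast h1

/-- The basic inequality `r * n χ χ ≤ p ^ d`. -/
theorem card_mul_le (hn : IsContrib p B n) {χ : IrrCharacter G} (hχ : χ ∈ B)
    (S : Finset (IrrCharacter G))
    (hreg : ∀ ψ ∈ S, ∀ g : G, ¬ p ∣ orderOf g → (ψ : G → ℂ) g = (χ : G → ℂ) g) :
    (S.card : ℤ) * n χ χ ≤ (p : ℤ) ^ blockDefect p B := by
  classical
  have hsq := hn.sum_sq hχ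
  have hpos := hn.self_pos hχ
  have h1 : ∑ ψ ∈ S, n χ ψ ^ 2 ≤ ∑ ψ : IrrCharacter G, n χ ψ ^ 2 :=
    Finset.sum_le_sum_of_subset_of_nonneg (Finset.subset_univ _) (fun ψ _ _ => sq_nonneg _)
  have h2 : ∑ ψ ∈ S, n χ ψ ^ 2 = (S.card : ℤ) * n χ χ ^ 2 := by
    rw [Finset.sum_congr rfl (fun ψ hψ => by rw [contrib_eq_of_regular hn hχ (hreg ψ hψ)]),
      Finset.sum_const, nsmul_eq_mul]
  rw [h2, hsq] at h1
  have h3 : (S.card : ℤ) * n χ χ * n χ χ ≤ (p : ℤ) ^ blockDefect p B * n χ χ := by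
    calc (S.card : ℤ) * n χ χ * n χ χ = (S.card : ℤ) * n χ χ ^ 2 := by ring
      _ ≤ _ := h1
  exact le_of_mul_le_mul_right h3 hpos

/-- `ν_p (r χ(1)) ≤ a`. -/
theorem factorization_card_mul_le (hM : IsPModular p M) (hB : IsPBlock M B)
    {χ : IrrCharacter G} (hχ : χ ∈ B) (S : Finset (IrrCharacter G)) (hS : S.Nonempty)
    (hreg : ∀ ψ ∈ S, ∀ g : G, ¬ p ∣ orderOf g → (ψ : G → ℂ) g = (χ : G → ℂ) g) :
    (S.card * charDegree (χ : G → ℂ)).factorization p ≤ (Nat.card G).factorization p ∧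
    ((Nat.card G).factorization p ≤ (S.card * charDegree (χ : G → ℂ)).factorization p →
      (charDegree (χ : G → ℂ)).factorization p = minVal p B ∧
        S.card = p ^ blockDefect p B ∧ ∀ n : IrrCharacter G → IrrCharacter G → ℤ,
          IsContrib p B n → n χ χ = 1) := by
  classical
  haveI := isPrime_of_isPModular hM
  obtain ⟨n, hn⟩ := exists_contrib hM hB
  have hle := card_mul_le hn hχ S hreg
  have hpos := hn.self_pos hχ
  have hr0 : S.card ≠ 0 := Finset.card_ne_zero.2 hS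
  have hdeg0 : charDegree (χ : G → ℂ) ≠ 0 := (Cfsg.Agent.Helper79.irr_one_eq χ).2.ne'
  set m := (n χ χ).natAbs with hm
  have hmeq : ((m : ℕ) : ℤ) = n χ χ := by
    rw [hm, Int.natCast_natAbs, abs_of_pos hpos]
  have hm0 : m ≠ 0 := Int.natAbs_ne_zero.2 hpos.ne'
  have hle' : S.card * m ≤ p ^ blockDefect p B := by
    have : ((S.card * m : ℕ) : ℤ) ≤ ((p ^ blockDefect p B : ℕ) : ℤ) := by
      push_cast
      rw [hmeq]
      exact hle
    exact_mod_cast this
  have hr1 : p ^ S.card.factorization p ≤ S.card :=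
    Nat.le_of_dvd (Nat.pos_of_ne_zero hr0) (Nat.ordProj_dvd _ p)
  have hm1 : p ^ m.factorization p ≤ m :=
    Nat.le_of_dvd (Nat.pos_of_ne_zero hm0) (Nat.ordProj_dvd _ p)
  have hsum : S.card.factorization p + m.factorization p ≤ blockDefect p B := by
    have h1 : p ^ (S.card.factorization p + m.factorization p) ≤ p ^ blockDefect p B := by
      rw [pow_add]
      exact (Nat.mul_le_mul hr1 hm1).trans hle'
    exact (Nat.pow_le_pow_iff_right hpf.out.one_lt).1 h1
  have hmv := minVal_le (p := p) hχ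
  have hmvc := minVal_le_card (p := p) ⟨χ, hχ⟩
  have hfac : (S.card * charDegree (χ : G → ℂ)).factorization p =
      S.card.factorization p + (charDegree (χ : G → ℂ)).factorization p := by
    rw [Nat.factorization_mul hr0 hdeg0]
    rfl
  -- valuation of m versus the height
  have hmh : (charDegree (χ : G → ℂ)).factorization p ≤ m.factorization p + minVal p B := by
    by_cases hlt : minVal p B < (charDegree (χ : G → ℂ)).factorization p
    · have := hn.self_val_of_pos_height hM hB hχ hlt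
      rw [← hm] at this
      omega
    · omega
  rw [blockDefect_eq] at hsum
  refine ⟨by rw [hfac]; omega, ?_⟩
  intro hge
  rw [hfac] at hge
  -- height zero
  have hh0 : (charDegree (χ : G → ℂ)).factorization p = minVal p B := by
    by_contra hne
    have hlt : minVal p B < (charDegree (χ : G → ℂ)).factorization p := by omega
    have := hn.self_val_of_pos_height hM hB hχ hlt
    rw [← hm] at this
    omega
  have hrd : S.card.factorization p = blockDefect p B := by
    rw [blockDefect_eq]; omega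
  have hrge : p ^ blockDefect p B ≤ S.card := by rw [← hrd]; exact hr1
  have hm1' : m = 1 := by
    have h1 : S.card * m ≤ S.card := hle'.trans hrge
    have h2 : m ≤ 1 := by
      by_contra hcon
      push Not at hcon
      have : S.card * 2 ≤ S.card * m := Nat.mul_le_mul_left _ hcon
      have hpos' : 0 < S.card := Nat.pos_of_ne_zero hr0
      omega
    omega
  have hcard : S.card = p ^ blockDefect p B := by
    rw [hm1', mul_one] at hle'
    omega
  refine ⟨hh0, hcard, ?_⟩
  intro n' hn'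
  -- n' agrees with n by cast_eq
  have e1 := hn.cast_eq χ hχ χ
  have e2 := hn'.cast_eq χ hχ χ
  have e3 : ((n' χ χ : ℤ) : ℂ) = ((n χ χ : ℤ) : ℂ) := by rw [e1, e2]
  have e4 : n' χ χ = n χ χ := by exact_mod_cast e3
  rw [e4, ← hmeq, hm1']
  rfl

/-- The extremal case: if moreover the Sylow sums coincide, `p ^ a ∣ χ(1)`. -/
theorem dvd_degree_of_extremal (hM : IsPModular p M) (hB : IsPBlock M B)
    {χ : IrrCharacter G} (hχ : χ ∈ B) (S : Finset (IrrCharacter G)) (hχS : χ ∈ S)
    (hreg : ∀ ψ ∈ S, ∀ g : G, ¬ p ∣ orderOf g → (ψ : G → ℂ) g = (χ : G → ℂ) g)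
    (P : Sylow p G) [Fintype (P : Subgroup G)]
    (hsum : ∀ ψ ∈ S, ∑ y : (P : Subgroup G), (ψ : G → ℂ) (y : G) =
      ∑ y : (P : Subgroup G), (χ : G → ℂ) (y : G))
    (hge : (Nat.card G).factorization p ≤ (S.card * charDegree (χ : G → ℂ)).factorization p) :
    p ^ (Nat.card G).factorization p ∣ charDegree (χ : G → ℂ) := by
  classical
  haveI := isPrime_of_isPModular hM
  obtain ⟨hh0, hcard, hone⟩ := (factorization_card_mul_le hM hB hχ S ⟨χ, hχS⟩ hreg).2 hge
  obtain ⟨n, hn⟩ := exists_contrib hM hB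
  have h1 : n χ χ = 1 := hone n hn
  have hS1 : ∀ ψ ∈ S, n χ ψ = 1 := fun ψ hψ => by
    rw [contrib_eq_of_regular hn hχ (hreg ψ hψ), h1]
  have hSB : ∀ ψ ∈ S, ψ ∈ B := by
    intro ψ hψ
    by_contra hnot
    have := hn.zero_of_notMem χ hχ ψ hnot
    rw [hS1 ψ hψ] at this
    exact one_ne_zero this
  -- vanishing outside S
  have hsq := hn.sum_sq hχ
  rw [h1, mul_one] at hsq
  have hsplit : ∑ ψ : IrrCharacter G, n χ ψ ^ 2 =
      ∑ ψ ∈ S, n χ ψ ^ 2 + ∑ ψ ∈ Finset.univ \ S, n χ ψ ^ 2 := by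
    rw [← Finset.sum_union Finset.disjoint_sdiff, Finset.union_sdiff_of_subset
      (Finset.subset_univ _)]
  have hSsum : ∑ ψ ∈ S, n χ ψ ^ 2 = (S.card : ℤ) := by
    rw [Finset.sum_congr rfl (fun ψ hψ => by rw [hS1 ψ hψ]), Finset.sum_const, nsmul_eq_mul]
    ring
  have hrest : ∑ ψ ∈ Finset.univ \ S, n χ ψ ^ 2 = 0 := by
    rw [hsplit, hSsum, hcard] at hsq
    push_cast at hsq
    linarith
  have hout : ∀ ψ, ψ ∉ S → n χ ψ = 0 := by
    intro ψ hψ
    have := (Finset.sum_eq_zero_iff_of_nonneg (fun ψ _ => sq_nonneg (n χ ψ))).1 hrest ψ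
      (Finset.mem_sdiff.2 ⟨Finset.mem_univ _, hψ⟩)
    exact pow_eq_zero_iff (two_ne_zero) |>.1 this
  -- Sylow sums
  obtain ⟨m, hm⟩ := exists_nat_sum_char χ (P : Subgroup G)
  have hP0 : (Nat.card (P : Subgroup G) : ℂ) ≠ 0 := by exact_mod_cast Nat.card_pos.ne'
  set w : IrrCharacter G → ℂ := fun ψ =>
    conj (∑ y : (P : Subgroup G), (ψ : G → ℂ) (y : G)) / (Nat.card (P : Subgroup G) : ℂ) with hw
  have hwS : ∀ ψ ∈ S, w ψ = (m : ℂ) := by
    intro ψ hψ
    rw [hw]
    simp only
    rw [hsum ψ hψ, hm, map_mul, Complex.conj_natCast, Complex.conj_natCast]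
    field_simp
  have hws : ∀ ψ : IrrCharacter G,
      ∑ y : (P : Subgroup G), conj ((ψ : G → ℂ) (y : G)) =
        (Nat.card (P : Subgroup G) : ℂ) * w ψ := by
    intro ψ
    rw [hw]
    simp only
    rw [map_sum]
    field_simp
  have hsyl := hn.sylow_sum hχ P w hws
  have hPcard : Nat.card (P : Subgroup G) = p ^ (Nat.card G).factorization p :=
    P.card_eq_multiplicity
  have hSsub : S ⊆ (Set.toFinite B).toFinset := fun ψ hψ =>
    (Set.Finite.mem_toFinset _).2 (hSB ψ hψ)
  have hsumS : ∑ ψ ∈ (Set.toFinite B).toFinset, ((n χ ψ : ℤ) : ℂ) * w ψ =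
      (S.card : ℂ) * (m : ℂ) := by
    rw [← Finset.sum_subset hSsub (fun ψ _ hψ => by rw [hout ψ hψ, Int.cast_zero, zero_mul])]
    rw [Finset.sum_congr rfl (fun ψ hψ => by rw [hS1 ψ hψ, hwS ψ hψ, Int.cast_one, one_mul]),
      Finset.sum_const, nsmul_eq_mul]
  rw [hsumS, hPcard, hcard] at hsyl
  have hp0 : ((p : ℂ) ^ blockDefect p B) ≠ 0 := pow_ne_zero _ (by exact_mod_cast hpf.out.ne_zero)
  have hfin : (charDegree (χ : G → ℂ) : ℂ) =
      ((p ^ (Nat.card G).factorization p * m : ℕ) : ℂ) := by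
    apply mul_left_cancel₀ hp0
    rw [hsyl]
    push_cast
    ring
  have hfin' : charDegree (χ : G → ℂ) = p ^ (Nat.card G).factorization p * m := by
    exact_mod_cast hfin
  exact ⟨m, hfin'⟩

end main

end Cfsg.Agent.Helper74.PConj
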