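import Mathlib
import Cfsg.Agent.Lib.Helper81.CharCoprime
import Cfsg.Agent.Lib.Helper78.DefectClass

/-!
# Normal subgroups with abelian quotient: irreducible restriction from non-vanishing (helper74)

* `isIrrCharacter_restrict_of_twist_ne` : if no nontrivial linear character of `G/N` fixes `χ`
  under multiplication, then `χ` restricts irreducibly to `N`.
* `linChar_mul_ne_of_ne_zero` : a nontrivial twist moves `χ` when `χ` does not vanish at a suitable
  element.
* `irr_mul_defectClass_ne_zero` : no character of a block with abelian defect group `P` vanishes at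
  `x * g`, `g` the defect class and `x ∈ P`.
-/

set_option autoImplicit false
set_option linter.unusedSectionVars false
set_option linter.style.haveILetI false

namespace Cfsg.Agent.Helper74.PIA

open Cfsg Cfsg.Agent.Helper81
open scoped ComplexConjugate

universe u v

section restrict

variable {G : Type u} [Group G] [Fintype G]

/-- If no nontrivial linear character of the abelian quotient `G/N` fixes `χ`, then `χ`
restricts irreducibly to `N`. -/
theorem isIrrCharacter_restrict_of_twist_ne (N : Subgroup G) [Fintype N] (hN : N.Normal)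
    {A : Type v} [CommGroup A] [Finite A] (π : G →* A) (hπ : Function.Surjective π)
    (hker : ∀ g : G, π g = 1 ↔ g ∈ N) {χ : G → ℂ} (hχ : IsIrrCharacter G χ)
    (hne : ∀ ψ : AddChar (Additive A) ℂ, ψ ≠ 1 → linChar π ψ * χ ≠ χ) :
    IsIrrCharacter N (fun n : N => χ n) := by
  classical
  have hχcf := isClassFunction_of_isCharacter (IsIrrCharacter.isCharacter hχ)
  have hkey := smul_indFun_eq_sum_linChar N hN π hπ hker (θ := fun n : N => χ n) hχcf 1
    (by rw [one_smul])
  rw [one_smul] at hkey
  have h1 : classInner (indFun N (fun n : N => χ n)) χ =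
      classInner (fun n : N => χ n) (fun n : N => χ n) :=
    frobenius_reciprocity N _ hχcf
  rw [hkey, classInner_sum_left] at h1
  have h2 : ∑ ψ : AddChar (Additive A) ℂ, classInner (linChar π ψ * χ) χ = 1 := by
    rw [Finset.sum_eq_single (1 : AddChar (Additive A) ℂ)]
    · have : linChar π (1 : AddChar (Additive A) ℂ) * χ = χ := by
        ext g
        simp [linChar_apply]
      rw [this, irr_orthonormal hχ hχ, if_pos rfl]
    · intro ψ _ hψ
      rw [irr_orthonormal (isIrrCharacter_linChar_mul π ψ hχ) hχ, if_neg (hne ψ hψ)]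
    · intro h; exact absurd (Finset.mem_univ _) h
  rw [h2] at h1
  exact isIrrCharacter_of_classInner_self_eq_one
    (isCharacter_restrict N (IsIrrCharacter.isCharacter hχ)) h1.symm

/-- A nontrivial twist moves `χ` as soon as `χ` does not vanish on a set of elements mapping
onto the quotient. -/
theorem linChar_mul_ne_of_ne_zero {A : Type v} [CommGroup A] [Finite A] (π : G →* A)
    {χ : G → ℂ} (hnv : ∀ a : A, ∃ y : G, π y = a ∧ χ y ≠ 0)
    (ψ : AddChar (Additive A) ℂ) (hψ : ψ ≠ 1) : linChar π ψ * χ ≠ χ := by
  obtain ⟨a, ha⟩ := AddChar.ne_one_iff.mp hψ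
  obtain ⟨y, hy, hχy⟩ := hnv (Additive.toMul a)
  intro h
  have h1 := congrFun h y
  simp only [Pi.mul_apply, linChar_apply, hy] at h1
  have h2 : (ψ a - 1) * χ y = 0 := by
    rw [sub_mul, one_mul, sub_eq_zero]
    exact h1
  rcases mul_eq_zero.mp h2 with h3 | h3
  · exact ha (sub_eq_zero.mp h3)
  · exact hχy h3

end restrict

section nonvanish

variable {G : Type u} [Group G] [Fintype G] {p : ℕ} [hpf : Fact p.Prime] {M : Ideal AlgInt}

open Cfsg.Agent.Helper77 in
/-- No character of a block with abelian defect group `P` vanishes at `x * g`, where `g`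
represents the defect class of which `P` is a Sylow centralizer subgroup and `x ∈ P`. -/
theorem irr_mul_defectClass_ne_zero (hM : IsPModular p M) {B : Set (IrrCharacter G)}
    (hB : IsPBlock M B) {g : G} (hg : IsDefectClass M B g)
    (S : Sylow p (Subgroup.centralizer ({g} : Set G))) {P : Subgroup G}
    (hP : P = (S : Subgroup (Subgroup.centralizer ({g} : Set G))).map
      (Subgroup.centralizer ({g} : Set G)).subtype)
    (hPab : ∀ x ∈ P, ∀ y ∈ P, x * y = y * x) {x : G} (hx : x ∈ P)
    {χ : IrrCharacter G} (hχ : χ ∈ B) : (χ : G → ℂ) (x * g) ≠ 0 := by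
  classical
  have hp : p.Prime := hpf.out
  have hpr := isPrime_of_isPModular hM
  have hPle : P ≤ Subgroup.centralizer ({g} : Set G) := by
    rw [hP]
    intro y hy
    obtain ⟨z, _, rfl⟩ := Subgroup.mem_map.mp hy
    exact z.2
  have hcomm : Commute x g := by
    have := Subgroup.mem_centralizer_iff.mp (hPle hx) g (Set.mem_singleton g)
    exact this.symm
  have hPp : IsPGroup p P := by
    rw [hP]
    exact S.isPGroup'.map _
  obtain ⟨k, hk⟩ : ∃ k : ℕ, orderOf x = p ^ k := by
    obtain ⟨k, hk⟩ := hPp ⟨x, hx⟩
    have h1 : x ^ p ^ k = 1 := by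
      have := congrArg Subtype.val hk
      simpa using this
    obtain ⟨j, _, hj⟩ := (Nat.dvd_prime_pow hp).mp (orderOf_dvd_of_pow_eq_one h1)
    exact ⟨j, hj⟩
  have hPx : P ≤ Subgroup.centralizer ({x} : Set G) := by
    intro y hy
    rw [Subgroup.mem_centralizer_iff]
    intro z hz
    rw [Set.mem_singleton_iff] at hz
    subst hz
    exact hPab z hx y hy
  have hcard : Nat.card P =
      p ^ (Nat.card (Subgroup.centralizer ({g} : Set G))).factorization p := by
    rw [hP, Subgroup.card_map_of_injective (Subgroup.subtype_injective _)]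
    exact S.card_eq_multiplicity
  have hnot := Cfsg.Agent.Helper78.not_memLocalIdeal_centralChar_mul_defectClass hM hB hg x hcomm
    k hk P hPle hPx hcard hχ
  intro h0
  apply hnot
  unfold centralChar
  rw [h0, mul_zero, zero_div]
  exact memLocalIdeal_zero hpr.ne_top

end nonvanish

end Cfsg.Agent.Helper74.PIA
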