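import Mathlib
import Cfsg.Agent.Lib.Helper74.PIndexAb1
import Cfsg.Agent.Lib.Helper77.PIndexBlock
import Cfsg.Agent.Lib.Helper16.PIndexMain

/-!
# Stable blocks of normal subgroups of `p`-power index, abelian defect groups (helper74, S4640)
-/

set_option autoImplicit false
set_option linter.unusedSectionVars false
set_option linter.style.haveILetI false

namespace Cfsg.Agent.Helper74.PIA

open Cfsg Cfsg.Agent.Helper81 Cfsg.Agent.Helper77
open scoped ComplexConjugate

universe u v

section cover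

variable {G : Type u} [Group G] [Fintype G] {p : ℕ} [hpf : Fact p.Prime] {M : Ideal AlgInt}

/-- Membership transfers along constituents when the block idempotents agree. -/
theorem mem_iff_of_constituent (N : Subgroup G) [N.Normal] [Fintype N]
    {c : Set (IrrCharacter N)} {B : Set (IrrCharacter G)}
    (hBc : ∀ g : G, blockCoeff B g = subgroupBlockCoeff N c g)
    (χ : IrrCharacter G) (θ : IrrCharacter N)
    (hne : classInner (fun n : N => (χ : G → ℂ) n) (θ : N → ℂ) ≠ 0) : χ ∈ B ↔ θ ∈ c := by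
  classical
  have hsuppB : ∀ g, g ∉ N → blockCoeff B g = 0 := by
    intro g hg
    rw [hBc, subgroupBlockCoeff_eq_extZ, extZ_of_notMem _ _ hg]
  have hrestrB : restr N (blockCoeff B) = blockCoeff c := by
    funext n
    show blockCoeff B (n : G) = _
    rw [hBc, subgroupBlockCoeff_eq_extZ, extZ_of_mem]
  have h1 := omega_eq_of_constituent N χ θ hne (isClassFunction_blockCoeff B) hsuppB
  rw [hrestrB, omega_blockCoeff, omega_blockCoeff] at h1
  constructor
  · intro h
    by_contra hcon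
    rw [if_pos h, if_neg hcon] at h1
    exact one_ne_zero h1
  · intro h
    by_contra hcon
    rw [if_neg hcon, if_pos h] at h1
    exact zero_ne_one h1

/-- The block covering a stable block of a normal subgroup of `p`-power index has the same
idempotent. -/
theorem blockCoeff_eq_of_cover (hM : IsPModular p M) (N : Subgroup G) [N.Normal] [Fintype N]
    (hidx : ∃ k : ℕ, N.index = p ^ k) {c : Set (IrrCharacter N)} (hc : IsPBlock M c)
    (hst : ∀ x : G, StabilizesBlock N c x) {B : Set (IrrCharacter G)} (hB : IsPBlock M B)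
    (hcov : ∃ χ ∈ B, ∃ θ ∈ c, classInner (fun n : N => (χ : G → ℂ) n) (θ : N → ℂ) ≠ 0) :
    ∀ g : G, blockCoeff B g = subgroupBlockCoeff N c g := by
  classical
  haveI hpr := isPrime_of_isPModular hM
  obtain ⟨B', hB', hB'c⟩ := exists_block_of_pIndex hM N hidx hc hst
  obtain ⟨χ, hχ, θ, hθ, hne⟩ := hcov
  have hχ' : χ ∈ B' := (mem_iff_of_constituent N hB'c χ θ hne).mpr hθ
  have : B = B' := eq_of_isPBlock_of_mem hB hB' hχ hχ'
  rw [this]
  exact hB'c

end cover

section main

variable {G : Type u} [Group G] [Fintype G] {p : ℕ} [hpf : Fact p.Prime] {M : Ideal AlgInt}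
  (hM : IsPModular p M) (N : Subgroup G) [hNn : N.Normal] [Fintype N]
  {A : Type v} [CommGroup A] [Finite A] (π : G →* A) (hπ : Function.Surjective π)
  (hker : ∀ g : G, π g = 1 ↔ g ∈ N)
  {c : Set (IrrCharacter N)} {B : Set (IrrCharacter G)} (hB : IsPBlock M B)
  (hBc : ∀ g : G, blockCoeff B g = subgroupBlockCoeff N c g)
  {P : Subgroup G} (hPD : IsDefectGroup p M B P) (hPab : ∀ x ∈ P, ∀ y ∈ P, x * y = y * x)
  (hNP : N ⊔ P = ⊤)

include hM hπ hker hB hBc hPD hPab hNP

/-- Every coset of `N` contains an element at which `χ ∈ B` does not vanish. -/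
theorem exists_rep_ne_zero {χ : IrrCharacter G} (hχ : χ ∈ B) (a : A) :
    ∃ y : G, π y = a ∧ (χ : G → ℂ) y ≠ 0 := by
  classical
  have hpr := isPrime_of_isPModular hM
  obtain ⟨g, hg, S, hP⟩ := hPD
  have hgN : g ∈ N := by
    by_contra hcon
    apply hg.2.1
    rw [hBc, subgroupBlockCoeff_eq_extZ, extZ_of_notMem _ _ hcon]
    exact memLocalIdeal_zero hpr.ne_top
  obtain ⟨y₀, rfl⟩ := hπ a
  have hy₀ : y₀ ∈ ((N ⊔ P : Subgroup G) : Set G) := by
    rw [hNP]
    exact Set.mem_univ _
  rw [Subgroup.normal_mul] at hy₀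
  obtain ⟨n, hn, x, hx, rfl⟩ := Set.mem_mul.mp hy₀
  refine ⟨x * g, ?_, irr_mul_defectClass_ne_zero hM hB hg S hP hPab hx hχ⟩
  rw [map_mul, map_mul, (hker g).mpr hgN, (hker n).mpr hn, mul_one, one_mul]

/-- Every member of `B` restricts irreducibly to `N`. -/
theorem restrict_irr {χ : IrrCharacter G} (hχ : χ ∈ B) :
    IsIrrCharacter N (fun n : N => (χ : G → ℂ) n) :=
  isIrrCharacter_restrict_of_twist_ne N hNn π hπ hker χ.2
    (linChar_mul_ne_of_ne_zero π
      (exists_rep_ne_zero hM N π hπ hker hB hBc hPD hPab hNP hχ))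

/-- The restriction of a member of `B` lies in `c`. -/
theorem restrict_mem {χ : IrrCharacter G} (hχ : χ ∈ B)
    (h : IsIrrCharacter N (fun n : N => (χ : G → ℂ) n)) :
    (⟨fun n : N => (χ : G → ℂ) n, h⟩ : IrrCharacter N) ∈ c := by
  apply (mem_iff_of_constituent N hBc χ ⟨_, h⟩ ?_).mp hχ
  show classInner (fun n : N => (χ : G → ℂ) n) (fun n : N => (χ : G → ℂ) n) ≠ 0
  rw [irr_orthonormal h h, if_pos rfl]
  exact one_ne_zero

/-- Every member of `c` extends to a member of `B`. -/
theorem exists_ext {θ : IrrCharacter N} (hθ : θ ∈ c) :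
    ∃ χ₀ ∈ B, (fun n : N => (χ₀ : G → ℂ) n) = (θ : N → ℂ) := by
  obtain ⟨χ₀, hχ₀⟩ := Cfsg.Agent.Helper16.exists_lying_over N θ
  have hχ₀B : χ₀ ∈ B := (mem_iff_of_constituent N hBc χ₀ θ hχ₀).mpr hθ
  refine ⟨χ₀, hχ₀B, ?_⟩
  exact eq_of_classInner_ne_zero
    (restrict_irr hM N π hπ hker hB hBc hPD hPab hNP hχ₀B) θ.2 hχ₀

end main

/-- The quotient has `N.index` linear characters. -/
theorem card_addChar_eq_index {G : Type u} [Group G] (N : Subgroup G)
    {A : Type v} [CommGroup A] [Finite A] (π : G →* A) (hπ : Function.Surjective π)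
    (hker : ∀ g : G, π g = 1 ↔ g ∈ N) : Nat.card (AddChar (Additive A) ℂ) = N.index := by
  classical
  haveI : Fintype A := Fintype.ofFinite A
  have hcardA : Nat.card A = N.index := by
    have h1 : π.ker = N := by
      ext g
      rw [MonoidHom.mem_ker]
      exact hker g
    rw [← h1, Subgroup.index_ker, MonoidHom.range_eq_top.mpr hπ]
    exact (Nat.card_congr Subgroup.topEquiv.toEquiv).symm
  rw [← hcardA, Nat.card_eq_fintype_card, AddChar.card_eq, Fintype.card_additive,
    Nat.card_eq_fintype_card]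

section count

variable {G : Type u} [Group G] [Fintype G] {p : ℕ} [hpf : Fact p.Prime] {M : Ideal AlgInt}
  (hM : IsPModular p M) (N : Subgroup G) [hNn : N.Normal] [Fintype N]
  {A : Type v} [CommGroup A] [Finite A] (π : G →* A) (hπ : Function.Surjective π)
  (hker : ∀ g : G, π g = 1 ↔ g ∈ N)
  {c : Set (IrrCharacter N)} {B : Set (IrrCharacter G)} (hB : IsPBlock M B)
  (hBc : ∀ g : G, blockCoeff B g = subgroupBlockCoeff N c g)
  {P : Subgroup G} (hPD : IsDefectGroup p M B P) (hPab : ∀ x ∈ P, ∀ y ∈ P, x * y = y * x)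
  (hNP : N ⊔ P = ⊤)

include hM hπ hker hB hBc hPD hPab hNP

/-- Each member of `c` is the restriction of exactly `N.index` members of `B`. -/
theorem card_fibre {θ : IrrCharacter N} (hθ : θ ∈ c) :
    Nat.card {χ : IrrCharacter G // χ ∈ B ∧ ∀ n : N, (χ : G → ℂ) n = (θ : N → ℂ) n} =
      N.index := by
  classical
  obtain ⟨χ₀, hχ₀B, hres⟩ := exists_ext hM N π hπ hker hB hBc hPD hPab hNP hθ
  have hresψ : ∀ (ψ : AddChar (Additive A) ℂ) (n : N),
      (linChar π ψ * (χ₀ : G → ℂ)) n = (θ : N → ℂ) n := by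
    intro ψ n
    rw [Pi.mul_apply, linChar_ker π ψ ((hker _).mpr n.2), one_mul]
    exact congrFun hres n
  have hmemψ : ∀ ψ : AddChar (Additive A) ℂ,
      (⟨linChar π ψ * (χ₀ : G → ℂ), isIrrCharacter_linChar_mul π ψ χ₀.2⟩ : IrrCharacter G) ∈ B := by
    intro ψ
    apply (mem_iff_of_constituent N hBc _ θ ?_).mpr hθ
    have : (fun n : N => (linChar π ψ * (χ₀ : G → ℂ)) n) = (θ : N → ℂ) := funext (hresψ ψ)
    show classInner (fun n : N => (linChar π ψ * (χ₀ : G → ℂ)) n) (θ : N → ℂ) ≠ 0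
    rw [this, irr_orthonormal θ.2 θ.2, if_pos rfl]
    exact one_ne_zero
  let f : AddChar (Additive A) ℂ →
      {χ : IrrCharacter G // χ ∈ B ∧ ∀ n : N, (χ : G → ℂ) n = (θ : N → ℂ) n} :=
    fun ψ => ⟨⟨linChar π ψ * (χ₀ : G → ℂ), isIrrCharacter_linChar_mul π ψ χ₀.2⟩,
      hmemψ ψ, hresψ ψ⟩
  have hf : Function.Bijective f := by
    constructor
    · intro ψ ψ' h
      have h1 : linChar π ψ * (χ₀ : G → ℂ) = linChar π ψ' * (χ₀ : G → ℂ) :=
        congrArg (fun z => ((z : {χ : IrrCharacter G // χ ∈ B ∧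
          ∀ n : N, (χ : G → ℂ) n = (θ : N → ℂ) n}) : IrrCharacter G).1) h
      apply DFunLike.ext
      intro a
      obtain ⟨y, hy, hχy⟩ := exists_rep_ne_zero hM N π hπ hker hB hBc hPD hPab hNP hχ₀B
        (Additive.toMul a)
      have h2 := congrFun h1 y
      simp only [Pi.mul_apply, linChar_apply, hy] at h2
      exact mul_right_cancel₀ hχy h2
    · rintro ⟨χ', hχ'B, hres'⟩
      obtain ⟨ψ, hψ⟩ := exists_linChar_mul_eq N hNn π hπ hker χ₀.2 χ'.2 θ.2 hres (funext hres')
      refine ⟨ψ, ?_⟩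
      apply Subtype.ext
      apply Subtype.ext
      exact hψ.symm
  rw [← Nat.card_eq_of_bijective f hf]
  exact card_addChar_eq_index N π hπ hker

end count

section cardblock

variable {G : Type u} [Group G] [Fintype G] {p : ℕ} [hpf : Fact p.Prime] {M : Ideal AlgInt}
  (hM : IsPModular p M) (N : Subgroup G) [hNn : N.Normal] [Fintype N]
  {A : Type v} [CommGroup A] [Finite A] (π : G →* A) (hπ : Function.Surjective π)
  (hker : ∀ g : G, π g = 1 ↔ g ∈ N)
  {c : Set (IrrCharacter N)} {B : Set (IrrCharacter G)} (hB : IsPBlock M B)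
  (hBc : ∀ g : G, blockCoeff B g = subgroupBlockCoeff N c g)
  {P : Subgroup G} (hPD : IsDefectGroup p M B P) (hPab : ∀ x ∈ P, ∀ y ∈ P, x * y = y * x)
  (hNP : N ⊔ P = ⊤)

include hM hπ hker hB hBc hPD hPab hNP

/-- `B` has `N.index` times as many members as `c`. -/
theorem card_block : Nat.card B = N.index * Nat.card c := by
  classical
  haveI : Finite (IrrCharacter G) := irr_finite
  haveI : Finite (IrrCharacter N) := irr_finite
  haveI : Fintype c := Fintype.ofFinite _
  let r : B → c := fun χ =>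
    ⟨⟨fun n : N => ((χ : IrrCharacter G) : G → ℂ) n,
        restrict_irr hM N π hπ hker hB hBc hPD hPab hNP χ.2⟩,
      restrict_mem hM N π hπ hker hB hBc hPD hPab hNP χ.2 _⟩
  have h1 : Nat.card B = Nat.card (Σ θ : c, {χ : B // r χ = θ}) :=
    Nat.card_congr (Equiv.sigmaFiberEquiv r).symm
  rw [h1, Nat.card_sigma]
  have h2 : ∀ θ : c, Nat.card {χ : B // r χ = θ} = N.index := by
    intro θ
    rw [← card_fibre hM N π hπ hker hB hBc hPD hPab hNP θ.2]
    refine Nat.card_congr
      { toFun := fun χ => ⟨χ.1.1, χ.1.2, fun n => ?_⟩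
        invFun := fun χ => ⟨⟨χ.1, χ.2.1⟩, ?_⟩
        left_inv := fun χ => rfl
        right_inv := fun χ => rfl }
    · have := congrArg (fun t : c => ((t : IrrCharacter N) : N → ℂ) n) χ.2
      exact this
    · apply Subtype.ext
      apply Subtype.ext
      funext n
      exact χ.2.2 n
  rw [Finset.sum_congr rfl (fun θ _ => h2 θ), Finset.sum_const, Finset.card_univ, smul_eq_mul,
    Nat.card_eq_fintype_card, mul_comm]

end cardblock

end Cfsg.Agent.Helper74.PIA
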