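import Mathlib
import Cfsg.Prelude.Def_BlockRank

/-!
# `p`-regular rank and restriction to a normal subgroup of `p`-power index (helper74, S4640)
-/

set_option autoImplicit false
set_option linter.unusedSectionVars false
set_option linter.style.haveILetI false

namespace Cfsg.Agent.Helper74.PIA

open Cfsg

universe u

/-- `p`-regular elements lie in every normal subgroup of `p`-power index. -/
theorem mem_of_isPRegular {G : Type u} [Group G] [Finite G] {p : ℕ} [hpf : Fact p.Prime]
    (N : Subgroup G) [N.Normal] (hidx : ∃ k : ℕ, N.index = p ^ k) {g : G}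
    (hg : IsPRegular p g) : g ∈ N := by
  have hp : p.Prime := hpf.out
  obtain ⟨k, hk⟩ := hidx
  have h1 : orderOf (QuotientGroup.mk' N g) ∣ orderOf g := orderOf_map_dvd _ g
  have h2 : orderOf (QuotientGroup.mk' N g) ∣ p ^ k := by
    rw [← hk, Subgroup.index_eq_card]
    exact orderOf_dvd_natCard _
  obtain ⟨j, _, hj⟩ := (Nat.dvd_prime_pow hp).mp h2
  rcases Nat.eq_zero_or_pos j with h0 | hpos
  · rw [h0, pow_zero, orderOf_eq_one_iff] at hj
    exact (QuotientGroup.eq_one_iff g).mp hj
  · exfalso
    apply hg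
    refine dvd_trans ?_ h1
    rw [hj]
    exact dvd_pow_self p hpos.ne'

section rank

variable {G : Type u} [Group G] {p : ℕ}

/-- Extension by zero carries the `p`-regular part of `θ` to that of an extension `χ`. -/
theorem extend_pRegularPart (N : Subgroup G) (hreg : ∀ g : G, IsPRegular p g → g ∈ N)
    {χ : G → ℂ} {θ : N → ℂ} (h : ∀ n : N, χ n = θ n) :
    Function.ExtendByZero.linearMap ℂ (Subtype.val : N → G) (pRegularPart p θ) =
      pRegularPart p χ := by
  classical
  funext g
  rw [Function.ExtendByZero.linearMap_apply]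
  by_cases hg : g ∈ N
  · have h1 : Function.extend (Subtype.val : N → G) (pRegularPart p θ) 0 ((⟨g, hg⟩ : N) : G) =
        pRegularPart p θ ⟨g, hg⟩ := Subtype.val_injective.extend_apply _ _ _
    rw [show g = ((⟨g, hg⟩ : N) : G) from rfl, h1]
    unfold pRegularPart
    have h2 : IsPRegular p (⟨g, hg⟩ : N) ↔ IsPRegular p ((⟨g, hg⟩ : N) : G) := by
      unfold IsPRegular
      rw [Subgroup.orderOf_coe]
    by_cases h3 : IsPRegular p (⟨g, hg⟩ : N)
    · rw [if_pos h3, if_pos (h2.mp h3), h]
    · rw [if_neg h3, if_neg (fun h4 => h3 (h2.mpr h4))]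
  · have h1 : Function.extend (Subtype.val : N → G) (pRegularPart p θ) 0 g = 0 := by
      rw [Function.extend_apply']
      · rfl
      · rintro ⟨n, rfl⟩
        exact hg n.2
    rw [h1]
    unfold pRegularPart
    rw [if_neg (fun h4 => hg (hreg g h4))]

/-- If all `p`-regular elements lie in `N` and restriction matches `B` with `c`, the `p`-regular
ranks agree. -/
theorem blockRank_eq_of_restrict (N : Subgroup G) (hreg : ∀ g : G, IsPRegular p g → g ∈ N)
    {B : Set (IrrCharacter G)} {c : Set (IrrCharacter N)}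
    (h1 : ∀ χ ∈ B, ∃ θ ∈ c, ∀ n : N, (χ : G → ℂ) n = (θ : N → ℂ) n)
    (h2 : ∀ θ ∈ c, ∃ χ ∈ B, ∀ n : N, (χ : G → ℂ) n = (θ : N → ℂ) n) :
    blockRank p B = blockRank p c := by
  classical
  set E := Function.ExtendByZero.linearMap ℂ (Subtype.val : N → G) with hE
  have hEinj : Function.Injective E := by
    intro f f' hff
    funext n
    have := congrFun hff (n : G)
    rw [hE, Function.ExtendByZero.linearMap_apply, Function.ExtendByZero.linearMap_apply,
      Subtype.val_injective.extend_apply, Subtype.val_injective.extend_apply] at this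
    exact this
  have himg : E '' ((fun θ : IrrCharacter N => pRegularPart p (θ : N → ℂ)) '' c) =
      (fun χ : IrrCharacter G => pRegularPart p (χ : G → ℂ)) '' B := by
    ext f
    constructor
    · rintro ⟨_, ⟨θ, hθ, rfl⟩, rfl⟩
      obtain ⟨χ, hχ, hres⟩ := h2 θ hθ
      exact ⟨χ, hχ, (extend_pRegularPart N hreg hres).symm⟩
    · rintro ⟨χ, hχ, rfl⟩
      obtain ⟨θ, hθ, hres⟩ := h1 χ hχ
      exact ⟨_, ⟨θ, hθ, rfl⟩, extend_pRegularPart N hreg hres⟩
  unfold blockRank
  rw [← himg, ← Submodule.map_span]
  exact (LinearEquiv.finrank_eq (Submodule.equivMapOfInjective E hEinj _)).symm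

end rank

end Cfsg.Agent.Helper74.PIA
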