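import Mathlib
import Cfsg.Agent.Lib.Helper93.RU0
import Cfsg.Agent.Lib.Helper35.RJ0
import Cfsg.Agent.Lib.Helper82.RUA
import Cfsg.Agent.Lib.Helper74.RJT

/-!
# RJ project (S2279), piece (S0) `sK_mem`: all `s_k` lie in `H = ⟨J, g J g⁻¹⟩`.
-/

set_option autoImplicit false

namespace Cfsg.Agent.Helper74.RJ

open Matrix Cfsg.Agent.Helper93.RU Cfsg.Agent.Helper35.RJ

variable {F : Type*} [Field F] {m : ℕ}

/-- `s_k = J^k s_0 J^{-k}` -/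
theorem h74_sK_conj (lam : F) (k : ℤ) :
    (uEl m F) ^ k * sK lam 0 * ((uEl m F) ^ k)⁻¹ = sK lam k := by
  have h0 : piZ m F ((0 - 1) - (0 - 1)) = 0 := by
    rw [sub_self]; exact h74_piZ_zero
  have h1 : piZ m F ((0 : ℤ) - 0) = 0 := by
    rw [sub_self]; exact h74_piZ_zero
  unfold sK
  have e1 : (uEl m F) ^ k * (Tjk (m := m) (0 - 1) (0 - 1) lam * (Tjk (m := m) 0 0 lam)⁻¹) *
      ((uEl m F) ^ k)⁻¹ =
      ((uEl m F) ^ k * Tjk (m := m) (0 - 1) (0 - 1) lam * ((uEl m F) ^ k)⁻¹) *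
      ((uEl m F) ^ k * Tjk (m := m) 0 0 lam * ((uEl m F) ^ k)⁻¹)⁻¹ := by
    group
  rw [e1, Tjk_shift k (0 - 1) (0 - 1) h0 lam, Tjk_shift k 0 0 h1 lam,
    show (0 : ℤ) - 1 + k = k - 1 by ring, show (0 : ℤ) + k = k by ring]

/-- `s_0 = J⁻¹ (g J g⁻¹)` -/
theorem h74_sK_zero (lam : F) :
    sK (m := m) lam 0 = (uEl m F)⁻¹ * (hEl lam * uEl m F * (hEl lam)⁻¹) := by
  have h1 : piZ m F ((0 : ℤ) - 0) = 0 := by
    rw [sub_self]; exact h74_piZ_zero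
  have hs := Tjk_shift (m := m) (-1) 0 0 h1 lam
  rw [_root_.zpow_neg, zpow_one, inv_inv] at hs
  unfold sK
  rw [hEl_eq, show (0 : ℤ) - 1 = 0 + -1 by ring, ← hs]
  group

/-- (S0) -/
theorem sK_mem (H : Subgroup (SLm m F)) (lam : F) (hu : uEl m F ∈ H)
    (hv : hEl lam * uEl m F * (hEl lam)⁻¹ ∈ H) (k : ℤ) : sK lam k ∈ H := by
  have h0 : sK (m := m) lam 0 ∈ H := by
    rw [h74_sK_zero]
    exact H.mul_mem (H.inv_mem hu) hv
  rw [← h74_sK_conj lam k]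
  exact H.mul_mem (H.mul_mem (H.zpow_mem hu k) h0) (H.inv_mem (H.zpow_mem hu k))

end Cfsg.Agent.Helper74.RJ
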