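import Mathlib
import Cfsg.Agent.Lib.Helper74.FSForm

set_option autoImplicit false

open scoped ComplexConjugate Matrix ComplexOrder

namespace Cfsg.Agent.Helper74.FS

universe u
variable {G : Type u} [Group G] {n : ℕ}

/-- Entrywise complex conjugate of a matrix. -/
noncomputable def cj (M : Matrix (Fin n) (Fin n) ℂ) : Matrix (Fin n) (Fin n) ℂ :=
  M.map (starRingEnd ℂ)

@[simp] theorem cj_apply (M : Matrix (Fin n) (Fin n) ℂ) (i j : Fin n) : cj M i j = conj (M i j) := rfl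

theorem cj_mul (M N : Matrix (Fin n) (Fin n) ℂ) : cj (M * N) = cj M * cj N := by
  unfold cj
  exact Matrix.map_mul

theorem cj_add (M N : Matrix (Fin n) (Fin n) ℂ) : cj (M + N) = cj M + cj N := by
  ext i j; simp

theorem cj_sub (M N : Matrix (Fin n) (Fin n) ℂ) : cj (M - N) = cj M - cj N := by
  ext i j; simp

theorem cj_smul (c : ℂ) (M : Matrix (Fin n) (Fin n) ℂ) : cj (c • M) = conj c • cj M := by
  ext i j; simp

@[simp] theorem cj_cj (M : Matrix (Fin n) (Fin n) ℂ) : cj (cj M) = M := by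
  ext i j; simp

@[simp] theorem cj_one : cj (1 : Matrix (Fin n) (Fin n) ℂ) = 1 := by
  ext i j
  by_cases h : i = j
  · subst h; simp
  · simp [h]

theorem cj_transpose (M : Matrix (Fin n) (Fin n) ℂ) : cj Mᵀ = Mᴴ := by
  ext i j; simp [Matrix.conjTranspose_apply]

theorem cj_injective : Function.Injective (cj (n := n)) := by
  intro M N h
  have := congrArg cj h
  simpa using this

theorem trace_cj (M : Matrix (Fin n) (Fin n) ℂ) : (cj M).trace = conj M.trace := by
  simp [Matrix.trace, map_sum]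

variable (ρ : Representation ℂ G (Fin n → ℂ))

theorem isUnit_mat (g : G) : IsUnit (mat ρ g) :=
  ⟨⟨mat ρ g, mat ρ g⁻¹, mat_mul_inv ρ g, mat_inv_mul ρ g⟩, rfl⟩

/-- The standard invariant Hermitian form. -/
noncomputable def herm [Fintype G] : Matrix (Fin n) (Fin n) ℂ :=
  ∑ g : G, (mat ρ g)ᴴ * mat ρ g

theorem herm_posDef [Fintype G] : (herm ρ).PosDef := by
  unfold herm
  apply Matrix.posDef_sum ⟨1, Finset.mem_univ _⟩
  intro g _
  exact Matrix.PosDef.conjTranspose_mul_self _ (Matrix.mulVec_injective_of_isUnit (isUnit_mat ρ g))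

theorem herm_inv [Fintype G] (g : G) : (mat ρ g)ᴴ * herm ρ * mat ρ g = herm ρ := by
  simp only [herm, Finset.mul_sum, Finset.sum_mul]
  refine Fintype.sum_equiv (Equiv.mulRight g) _ _ fun u => ?_
  simp only [Equiv.coe_mulRight, mat_mul, Matrix.conjTranspose_mul]
  simp only [Matrix.mul_assoc]

theorem herm_mul_mat [Fintype G] (g : G) : herm ρ * mat ρ g = (mat ρ g⁻¹)ᴴ * herm ρ := by
  have h := herm_inv ρ g⁻¹
  calc herm ρ * mat ρ g = ((mat ρ g⁻¹)ᴴ * herm ρ * mat ρ g⁻¹) * mat ρ g := by rw [h]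
    _ = (mat ρ g⁻¹)ᴴ * herm ρ * (mat ρ g⁻¹ * mat ρ g) := by simp only [Matrix.mul_assoc]
    _ = (mat ρ g⁻¹)ᴴ * herm ρ := by rw [mat_inv_mul, mul_one]

end Cfsg.Agent.Helper74.FS
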