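import Mathlib
import Cfsg.Agent.Lib.Helper74.RealForm1

set_option autoImplicit false

open scoped ComplexConjugate Matrix ComplexOrder

namespace Cfsg.Agent.Helper74.FS

universe u
variable {G : Type u} [Group G] {n : ℕ} {ρ : Representation ℂ G (Fin n → ℂ)}

/-- An antilinear structure map: there is a matrix `A` with `X g * A = A * conj (X g)` and
`A * conj A` a positive real scalar. -/
theorem exists_antilinear [Fintype G] (hirr : ρ.IsIrreducible) {B : Matrix (Fin n) (Fin n) ℂ}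
    (h0 : IsInv ρ B) (hB : B ≠ 0) (hsymm : Bᵀ = B) :
    ∃ (A : Matrix (Fin n) (Fin n) ℂ) (r : ℝ), 0 < r ∧ A * cj A = (r : ℂ) • 1 ∧
      ∀ g : G, mat ρ g * A = A * cj (mat ρ g) := by
  have hne : Nonempty (Fin n) := by
    by_contra hempty
    rw [not_nonempty_iff] at hempty
    apply hB
    ext i
    exact hempty.elim i
  have hH := herm_posDef ρ
  have hHdet : IsUnit (herm ρ).det := (Matrix.isUnit_iff_isUnit_det _).1 hH.isUnit
  have hBdet : IsUnit B.det := h0.isUnit_det hirr hB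
  have hcjB : cj B = Bᴴ := by rw [← cj_transpose, hsymm]
  have hHX : ∀ g : G, herm ρ * mat ρ g = (mat ρ g⁻¹)ᴴ * herm ρ := herm_mul_mat ρ
  obtain ⟨H, hHdef⟩ : ∃ H, H = herm ρ := ⟨_, rfl⟩
  rw [← hHdef] at hH hHdet hHX
  have hH1 : H * H⁻¹ = 1 := Matrix.mul_nonsing_inv _ hHdet
  have hH2 : H⁻¹ * H = 1 := Matrix.nonsing_inv_mul _ hHdet
  obtain ⟨Hi, hHi⟩ : ∃ Hi, Hi = H⁻¹ := ⟨_, rfl⟩
  have hHiPos : Hi.PosDef := by rw [hHi]; exact hH.inv
  rw [← hHi] at hH1 hH2
  obtain ⟨A, hA⟩ : ∃ A, A = Hi * cj B := ⟨_, rfl⟩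
  -- commutation
  have hBX : ∀ g : G, cj B * cj (mat ρ g) = (mat ρ g⁻¹)ᴴ * cj B := by
    intro g
    rw [← cj_mul, h0.mul_mat g, cj_mul, cj_transpose]
  have hcomm : ∀ g : G, mat ρ g * A = A * cj (mat ρ g) := by
    intro g
    have h1 : H * (mat ρ g * A) = H * (A * cj (mat ρ g)) := by
      calc H * (mat ρ g * A) = (H * mat ρ g) * Hi * cj B := by
            rw [hA]; simp only [Matrix.mul_assoc]
        _ = (mat ρ g⁻¹)ᴴ * (H * Hi) * cj B := by
            rw [hHX]; simp only [Matrix.mul_assoc]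
        _ = (mat ρ g⁻¹)ᴴ * cj B := by rw [hH1, mul_one]
        _ = cj B * cj (mat ρ g) := (hBX g).symm
        _ = (H * Hi) * cj B * cj (mat ρ g) := by rw [hH1, one_mul]
        _ = H * (A * cj (mat ρ g)) := by rw [hA]; simp only [Matrix.mul_assoc]
    calc mat ρ g * A = (Hi * H) * (mat ρ g * A) := by rw [hH2, one_mul]
      _ = Hi * (H * (mat ρ g * A)) := by rw [Matrix.mul_assoc]
      _ = Hi * (H * (A * cj (mat ρ g))) := by rw [h1]
      _ = (Hi * H) * (A * cj (mat ρ g)) := by rw [Matrix.mul_assoc]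
      _ = A * cj (mat ρ g) := by rw [hH2, one_mul]
  -- Schur
  have hC : ∀ g : G, (A * cj A) * mat ρ g = mat ρ g * (A * cj A) := by
    intro g
    calc (A * cj A) * mat ρ g = A * cj (A * cj (mat ρ g)) := by
          rw [cj_mul, cj_cj, Matrix.mul_assoc]
      _ = A * cj (mat ρ g * A) := by rw [hcomm g]
      _ = (A * cj (mat ρ g)) * cj A := by rw [cj_mul, Matrix.mul_assoc]
      _ = mat ρ g * (A * cj A) := by rw [← hcomm g, Matrix.mul_assoc]
  obtain ⟨c, hc⟩ := schur hirr (A * cj A) hC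
  -- positivity
  obtain ⟨Q, hQ⟩ : ∃ Q, Q = B * Hi * Bᴴ := ⟨_, rfl⟩
  have hQpos : Q.PosDef := by
    rw [hQ]
    apply Matrix.PosDef.mul_mul_conjTranspose_same hHiPos
    exact Matrix.vecMul_injective_of_isUnit ((Matrix.isUnit_iff_isUnit_det _).2 hBdet)
  have hHC : H * (A * cj A) = cj Q := by
    calc H * (A * cj A) = (H * Hi) * cj B * cj A := by
          nth_rewrite 1 [hA]; simp only [Matrix.mul_assoc]
      _ = cj B * cj A := by rw [hH1, one_mul]
      _ = cj (B * A) := by rw [← cj_mul]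
      _ = cj Q := by rw [hQ, hA, hcjB, Matrix.mul_assoc]
  rw [hc, Matrix.mul_smul, mul_one] at hHC
  have htr : c * H.trace = conj Q.trace := by
    have := congrArg Matrix.trace hHC
    rw [Matrix.trace_smul, smul_eq_mul, trace_cj] at this
    exact this
  have hHtr : 0 < H.trace := hH.trace_pos
  have hQtr : 0 < Q.trace := hQpos.trace_pos
  rw [Complex.pos_iff] at hHtr hQtr
  have hHr : H.trace = ((H.trace).re : ℂ) := by
    apply Complex.ext
    · simp
    · simp [hHtr.2.symm]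
  have hQr : conj Q.trace = ((Q.trace).re : ℂ) := by
    apply Complex.ext
    · simp
    · simp [hQtr.2.symm]
  refine ⟨A, (Q.trace).re / (H.trace).re, div_pos hQtr.1 hHtr.1, ?_, hcomm⟩
  rw [hc]
  congr 1
  rw [hHr, hQr] at htr
  have hne0 : ((H.trace).re : ℂ) ≠ 0 := by
    exact_mod_cast hHtr.1.ne'
  push_cast
  field_simp
  exact htr

end Cfsg.Agent.Helper74.FS
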