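import Mathlib
import Cfsg.Agent.Lib.Helper74.RealForm2

set_option autoImplicit false

open scoped ComplexConjugate Matrix ComplexOrder Polynomial

namespace Cfsg.Agent.Helper74.FS

universe u
variable {G : Type u} [Group G] {n : ℕ} {ρ : Representation ℂ G (Fin n → ℂ)}

/-- A matrix pencil `M₀ + t M₁` which is invertible at one complex point is invertible at some
real point. -/
theorem exists_real_det_ne_zero (M₀ M₁ : Matrix (Fin n) (Fin n) ℂ) (z : ℂ)
    (hz : (M₀ + z • M₁).det ≠ 0) : ∃ t : ℝ, (M₀ + (t : ℂ) • M₁).det ≠ 0 := by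
  set pm : Matrix (Fin n) (Fin n) ℂ[X] :=
    M₀.map Polynomial.C + (Polynomial.X : ℂ[X]) • M₁.map Polynomial.C with hpm
  have heval : ∀ w : ℂ, (pm.det).eval w = (M₀ + w • M₁).det := by
    intro w
    have h1 := RingHom.map_det (Polynomial.evalRingHom w) pm
    rw [Polynomial.coe_evalRingHom] at h1
    rw [h1]
    congr 1
    ext i j
    simp [hpm]
    exact mul_comm _ _
  have hp0 : pm.det ≠ 0 := by
    intro h
    apply hz
    rw [← heval z, h, Polynomial.eval_zero]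
  by_contra hcon
  push Not at hcon
  apply hp0
  apply Polynomial.eq_zero_of_infinite_isRoot
  apply Set.Infinite.mono (s := Set.range ((↑) : ℝ → ℂ))
  · rintro _ ⟨t, rfl⟩
    show (pm.det).IsRoot (t : ℂ)
    rw [Polynomial.IsRoot, heval]
    exact hcon t
  · exact Set.infinite_range_of_injective Complex.ofReal_injective

/-- Hilbert 90 for `ℂ/ℝ`: if `A * conj A = 1` there is an invertible `P` with `A * conj P = P`. -/
theorem exists_fixed_invertible (A : Matrix (Fin n) (Fin n) ℂ) (hA : A * cj A = 1) :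
    ∃ P : Matrix (Fin n) (Fin n) ℂ, P.det ≠ 0 ∧ A * cj P = P := by
  obtain ⟨t, ht⟩ := exists_real_det_ne_zero (1 + A) (Complex.I • (1 - A)) (-Complex.I) (by
    have : (1 + A) + (-Complex.I) • (Complex.I • (1 - A)) = (2 : ℂ) • (1 : Matrix (Fin n) (Fin n) ℂ) := by
      rw [smul_smul]
      have : -Complex.I * Complex.I = 1 := by
        rw [neg_mul, Complex.I_mul_I, neg_neg]
      rw [this, one_smul, two_smul]
      abel
    rw [this, Matrix.det_smul, Matrix.det_one, mul_one]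
    exact pow_ne_zero _ two_ne_zero)
  refine ⟨(1 + A) + (t : ℂ) • (Complex.I • (1 - A)), ht, ?_⟩
  rw [cj_add, cj_add, cj_one, cj_smul, cj_smul, cj_sub, cj_one, Complex.conj_ofReal, Complex.conj_I]
  rw [Matrix.mul_add, Matrix.mul_add, mul_one, hA, Matrix.mul_smul, Matrix.mul_smul,
    Matrix.mul_sub, mul_one, hA]
  rw [add_comm A 1]
  congr 2
  rw [neg_smul, ← smul_neg, neg_sub]

/-- The conjugating matrix realizing an irreducible representation with a symmetric invariant form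
over the reals. -/
theorem exists_real_conj [Fintype G] (hirr : ρ.IsIrreducible) {B : Matrix (Fin n) (Fin n) ℂ}
    (h0 : IsInv ρ B) (hB : B ≠ 0) (hsymm : Bᵀ = B) :
    ∃ P Pi : Matrix (Fin n) (Fin n) ℂ, P * Pi = 1 ∧ Pi * P = 1 ∧
      ∀ g : G, cj (Pi * mat ρ g * P) = Pi * mat ρ g * P := by
  obtain ⟨A₀, r, hr, hA₀, hcomm₀⟩ := exists_antilinear hirr h0 hB hsymm
  -- normalize
  set s : ℝ := (Real.sqrt r)⁻¹ with hs
  have hsr : s * s * r = 1 := by
    have h1 : Real.sqrt r * Real.sqrt r = r := Real.mul_self_sqrt hr.le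
    have h2 : Real.sqrt r ≠ 0 := (Real.sqrt_pos.2 hr).ne'
    rw [hs]
    calc (Real.sqrt r)⁻¹ * (Real.sqrt r)⁻¹ * r
        = (Real.sqrt r)⁻¹ * (Real.sqrt r)⁻¹ * (Real.sqrt r * Real.sqrt r) := by rw [h1]
      _ = ((Real.sqrt r)⁻¹ * Real.sqrt r) * ((Real.sqrt r)⁻¹ * Real.sqrt r) := by ring
      _ = 1 := by rw [inv_mul_cancel₀ h2, one_mul]
  obtain ⟨A, hAdef⟩ : ∃ A, A = (s : ℂ) • A₀ := ⟨_, rfl⟩
  have hA : A * cj A = 1 := by
    rw [hAdef, cj_smul, Complex.conj_ofReal, Matrix.smul_mul, Matrix.mul_smul, hA₀, smul_smul,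
      smul_smul]
    have : (s : ℂ) * (s : ℂ) * (r : ℂ) = 1 := by
      exact_mod_cast hsr
    rw [this, one_smul]
  have hcomm : ∀ g : G, mat ρ g * A = A * cj (mat ρ g) := by
    intro g
    rw [hAdef, Matrix.mul_smul, Matrix.smul_mul, hcomm₀ g]
  obtain ⟨P, hPdet, hAP⟩ := exists_fixed_invertible A hA
  have hPunit : IsUnit P.det := isUnit_iff_ne_zero.2 hPdet
  obtain ⟨Pi, hPi⟩ : ∃ Pi, Pi = P⁻¹ := ⟨_, rfl⟩
  have hP1 : P * Pi = 1 := by rw [hPi]; exact Matrix.mul_nonsing_inv _ hPunit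
  have hP2 : Pi * P = 1 := by rw [hPi]; exact Matrix.nonsing_inv_mul _ hPunit
  refine ⟨P, Pi, hP1, hP2, ?_⟩
  have h1 : cj P * cj Pi = 1 := by rw [← cj_mul, hP1, cj_one]
  have h2 : (Pi * A) * cj P = 1 := by rw [Matrix.mul_assoc, hAP, hP2]
  have h3 : cj Pi = Pi * A := by
    calc cj Pi = ((Pi * A) * cj P) * cj Pi := by rw [h2, one_mul]
      _ = (Pi * A) * (cj P * cj Pi) := by rw [Matrix.mul_assoc]
      _ = Pi * A := by rw [h1, mul_one]
  intro g
  calc cj (Pi * mat ρ g * P) = cj Pi * cj (mat ρ g) * cj P := by rw [cj_mul, cj_mul]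
    _ = Pi * (A * cj (mat ρ g)) * cj P := by rw [h3, Matrix.mul_assoc Pi A]
    _ = Pi * (mat ρ g * A) * cj P := by rw [hcomm g]
    _ = Pi * mat ρ g * (A * cj P) := by simp only [Matrix.mul_assoc]
    _ = Pi * mat ρ g * P := by rw [hAP]

end Cfsg.Agent.Helper74.FS
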