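import Mathlib
import Cfsg.Agent.Lib.Helper74.RealForm3
import Cfsg.Agent.Lib.Helper74.FSForm2
import Cfsg.Agent.Lib.Helper80.CharBasic

set_option autoImplicit false

open scoped ComplexConjugate Matrix ComplexOrder

namespace Cfsg.Agent.Helper74.FS

universe u
variable {G : Type u} [Group G] {n : ℕ}

/-- Casting a real matrix to a complex one. -/
noncomputable def toC (Y : Matrix (Fin n) (Fin n) ℝ) : Matrix (Fin n) (Fin n) ℂ :=
  Y.map (algebraMap ℝ ℂ)

@[simp] theorem toC_apply (Y : Matrix (Fin n) (Fin n) ℝ) (i j : Fin n) : toC Y i j = (Y i j : ℂ) := rfl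

theorem toC_injective : Function.Injective (toC (n := n)) := by
  intro Y Z h
  ext i j
  have := congrFun (congrFun h i) j
  simpa using this

theorem toC_mul (Y Z : Matrix (Fin n) (Fin n) ℝ) : toC (Y * Z) = toC Y * toC Z := by
  unfold toC
  exact Matrix.map_mul

theorem toC_one : toC (1 : Matrix (Fin n) (Fin n) ℝ) = 1 := by
  ext i j
  by_cases h : i = j
  · subst h; simp
  · simp [h]

theorem toC_trace (Y : Matrix (Fin n) (Fin n) ℝ) : (toC Y).trace = ((Y.trace : ℝ) : ℂ) := by
  simp [Matrix.trace]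

theorem cj_transpose' (M : Matrix (Fin n) (Fin n) ℂ) : cj Mᵀ = (cj M)ᵀ := by
  ext i j; simp

theorem cj_toC (Y : Matrix (Fin n) (Fin n) ℝ) : cj (toC Y) = toC Y := by
  ext i j; simp

theorem toC_transpose (Y : Matrix (Fin n) (Fin n) ℝ) : (toC Y)ᵀ = toC Yᵀ := by
  ext i j; simp

/-- A conjugation-fixed complex matrix comes from a real one. -/
theorem exists_toC_eq (R : Matrix (Fin n) (Fin n) ℂ) (h : cj R = R) :
    toC (R.map Complex.re) = R := by
  ext i j
  have h1 := congrFun (congrFun h i) j
  rw [cj_apply] at h1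
  have h2 : (R i j).im = 0 := Complex.conj_eq_iff_im.1 h1
  simp only [toC_apply, Matrix.map_apply]
  apply Complex.ext
  · simp
  · simp [h2]

/-- An irreducible representation with a nonzero symmetric invariant form is realizable over the
reals. -/
theorem exists_real_rep [Fintype G] {ρ : Representation ℂ G (Fin n → ℂ)} (hirr : ρ.IsIrreducible)
    {B : Matrix (Fin n) (Fin n) ℂ} (h0 : IsInv ρ B) (hB : B ≠ 0) (hsymm : Bᵀ = B) :
    ∃ ρr : Representation ℝ G (Fin n → ℝ),
      ∀ g : G, ((LinearMap.trace ℝ (Fin n → ℝ) (ρr g) : ℝ) : ℂ) = ρ.character g := by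
  obtain ⟨P, Pi, hP1, hP2, hreal⟩ := exists_real_conj hirr h0 hB hsymm
  have hY : ∀ g : G, toC ((Pi * mat ρ g * P).map Complex.re) = Pi * mat ρ g * P :=
    fun g => exists_toC_eq _ (hreal g)
  have hY1 : (Pi * mat ρ 1 * P).map Complex.re = 1 := by
    apply toC_injective
    rw [hY, mat_one, mul_one, hP2, toC_one]
  have hYmul : ∀ g h : G, (Pi * mat ρ (g * h) * P).map Complex.re =
      (Pi * mat ρ g * P).map Complex.re * (Pi * mat ρ h * P).map Complex.re := by
    intro g h
    apply toC_injective
    rw [toC_mul, hY, hY, hY, mat_mul]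
    calc Pi * (mat ρ g * mat ρ h) * P = Pi * mat ρ g * 1 * mat ρ h * P := by
          simp only [Matrix.mul_assoc, one_mul]
      _ = Pi * mat ρ g * P * (Pi * mat ρ h * P) := by
          rw [← hP1]; simp only [Matrix.mul_assoc]
  let ρr : Representation ℝ G (Fin n → ℝ) :=
    { toFun := fun g => Matrix.toLin' ((Pi * mat ρ g * P).map Complex.re)
      map_one' := by rw [hY1, Matrix.toLin'_one]; rfl
      map_mul' := fun g h => by rw [hYmul, Matrix.toLin'_mul]; rfl }
  refine ⟨ρr, fun g => ?_⟩
  have h1 : ρr g = Matrix.toLin' ((Pi * mat ρ g * P).map Complex.re) := rfl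
  rw [h1, Matrix.trace_toLin'_eq, ← toC_trace, hY, character_eq_trace]
  rw [Matrix.mul_assoc, Matrix.trace_mul_comm, Matrix.mul_assoc, hP1, mul_one]

/-- The complexification of a real matrix representation. -/
noncomputable def complexify (ρr : Representation ℝ G (Fin n → ℝ)) :
    Representation ℂ G (Fin n → ℂ) where
  toFun g := Matrix.toLin' (toC (LinearMap.toMatrix' (ρr g)))
  map_one' := by
    rw [map_one]
    have : LinearMap.toMatrix' (1 : (Fin n → ℝ) →ₗ[ℝ] (Fin n → ℝ)) = 1 := LinearMap.toMatrix'_one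
    rw [this, toC_one, Matrix.toLin'_one]
    rfl
  map_mul' g h := by
    rw [map_mul]
    have : LinearMap.toMatrix' (ρr g * ρr h) =
        LinearMap.toMatrix' (ρr g) * LinearMap.toMatrix' (ρr h) := LinearMap.toMatrix'_mul _ _
    rw [this, toC_mul, Matrix.toLin'_mul]
    rfl

theorem mat_complexify (ρr : Representation ℝ G (Fin n → ℝ)) (g : G) :
    mat (complexify ρr) g = toC (LinearMap.toMatrix' (ρr g)) := by
  simp [mat, complexify]

theorem complexify_character (ρr : Representation ℝ G (Fin n → ℝ)) (g : G) :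
    (complexify ρr).character g = ((LinearMap.trace ℝ (Fin n → ℝ) (ρr g) : ℝ) : ℂ) := by
  rw [character_eq_trace, mat_complexify, toC_trace]
  congr 1
  rw [← Matrix.trace_toLin'_eq, Matrix.toLin'_toMatrix']

/-- If the complexification of a real representation is irreducible, its indicator is `1`. -/
theorem complexify_indicator [Fintype G] (ρr : Representation ℝ G (Fin n → ℝ))
    (hirr : (complexify ρr).IsIrreducible) :
    (Nat.card G : ℂ)⁻¹ * ∑ s : G, (complexify ρr).character (s * s) = 1 := by
  have hfin : Finite G := Finite.of_fintype G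
  have hne : (Nat.card G : ℂ) ≠ 0 := by simp
  have hn : n ≠ 0 := Cfsg.Agent.Helper80.finrank_ne_zero_of_isIrreducible _ hirr
  have hNE : Nonempty (Fin n) := ⟨⟨0, Nat.pos_of_ne_zero hn⟩⟩
  set σ := complexify ρr with hσ
  have hcjmat : ∀ g : G, cj (mat σ g) = mat σ g := fun g => by
    rw [mat_complexify, cj_toC]
  have hT : ∀ g : G, (mat σ g)ᴴ = (mat σ g)ᵀ := fun g => by
    rw [← cj_transpose, cj_transpose', hcjmat]
  have h0 : IsInv σ (herm σ) := fun g => by
    rw [← hT]
    exact herm_inv σ g
  have hB : herm σ ≠ 0 := by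
    intro h
    have h1 := (herm_posDef σ).trace_pos
    rw [h, Matrix.trace_zero] at h1
    exact lt_irrefl _ h1
  have hsymm : (herm σ)ᵀ = herm σ := by
    unfold herm
    rw [Matrix.transpose_sum]
    refine Finset.sum_congr rfl fun g _ => ?_
    rw [hT, Matrix.transpose_mul, Matrix.transpose_transpose]
  have hε : (herm σ)ᵀ = (1 : ℂ) • herm σ := by rw [one_smul, hsymm]
  have h1 := sum_char_sq_eq hirr h0 hB hε
  have hreal : ∀ g : G, (σ.character g).im = 0 := fun g => by
    rw [hσ, complexify_character]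
    simp
  have h2 := sum_char_mul_char_of_real hirr hreal
  rw [h1, one_mul, h2]
  exact inv_mul_cancel₀ hne

end Cfsg.Agent.Helper74.FS
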