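import Mathlib
import Cfsg.Agent.Lib.Helper62.SLN0
import Cfsg.Agent.Lib.Helper78.U2Ra
import Cfsg.Agent.Lib.Helper78.U2Rbcd

/-!
# SLN project (S2332), piece R3 `character_el` (helper74)

The character value at `el b` is the sum over the weights `a` of `dim (wsp a) * β a b`:
`eOp a` is a projector onto `wsp a`, `∑ a, eOp a = 1` and `ρ (el b) ∘ eOp a = β a b • eOp a`.
-/

set_option autoImplicit false
set_option linter.unusedSectionVars false

namespace Cfsg.Agent.Helper74.SLN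

open Matrix Module Cfsg.Agent.Helper93.U2 Cfsg.Agent.Helper62.SLN

section REPgen

variable {G : Type*} [Group G] {𝓐 : Type*} [AddCommGroup 𝓐] [Fintype 𝓐]
  {V : Type*} [AddCommGroup V] [Module ℂ V] [FiniteDimensional ℂ V]
  (pr : Pairing 𝓐) (el : 𝓐 → G) (ρ : Representation ℂ G V)

/-- `eOp a` is a projector onto the weight space -/
theorem h74_isProj_eOp (hel : ∀ a b, el (a + b) = el a * el b) (a : 𝓐) :
    LinearMap.IsProj (wsp pr el ρ a) (eOp pr el ρ a) :=
  ⟨fun v => Cfsg.Agent.Helper78.U2.eOp_mem_wsp pr el ρ hel a v,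
    fun v hv => Cfsg.Agent.Helper78.U2.eOp_self pr el ρ a v hv⟩

/-- the trace of the projector -/
theorem h74_trace_eOp (hel : ∀ a b, el (a + b) = el a * el b) (a : 𝓐) :
    LinearMap.trace ℂ V (eOp pr el ρ a) = (finrank ℂ (wsp pr el ρ a) : ℂ) :=
  (h74_isProj_eOp pr el ρ hel a).trace

/-- piece R3 -/
theorem character_el (hel : ∀ a b, el (a + b) = el a * el b) (b : 𝓐) :
    ρ.character (el b) = ∑ a : 𝓐, (finrank ℂ (wsp pr el ρ a) : ℂ) * pr.β a b := by
  have hsum := Cfsg.Agent.Helper78.U2.sum_eOp pr el ρ hel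
  have hcomp : ∀ a : 𝓐, ρ (el b) * eOp pr el ρ a = pr.β a b • eOp pr el ρ a := by
    intro a
    ext v
    rw [Module.End.mul_apply, LinearMap.smul_apply]
    exact (mem_wsp pr el ρ a _).1 (Cfsg.Agent.Helper78.U2.eOp_mem_wsp pr el ρ hel a v) b
  have h1 : ρ (el b) = ∑ a : 𝓐, pr.β a b • eOp pr el ρ a := by
    calc ρ (el b) = ρ (el b) * (1 : Module.End ℂ V) := (mul_one _).symm
      _ = ρ (el b) * ∑ a : 𝓐, eOp pr el ρ a := by rw [hsum]
      _ = ∑ a : 𝓐, ρ (el b) * eOp pr el ρ a := Finset.mul_sum _ _ _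
      _ = ∑ a : 𝓐, pr.β a b • eOp pr el ρ a := Finset.sum_congr rfl (fun a _ => hcomp a)
  unfold Representation.character
  rw [h1, map_sum]
  apply Finset.sum_congr rfl
  intro a _
  rw [map_smul, h74_trace_eOp pr el ρ hel a, smul_eq_mul, mul_comm]

end REPgen

end Cfsg.Agent.Helper74.SLN
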