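import Mathlib
import Cfsg.Agent.Lib.Helper62.SLN0
import Cfsg.Agent.Lib.Helper78.U2Ra
import Cfsg.Agent.Lib.Helper66.SLN_G1
import Cfsg.Agent.Lib.Helper74.SLN_R3

/-!
# SLN project (S2332), piece S5 `character_uEl` (helper74)

The character value at a transvection `uEl u`, `u ≠ 0`, is `c - d` where `c = dim wt 0` and `d` is the
common dimension of the non-zero weight spaces.
-/

set_option autoImplicit false
set_option linter.unusedSectionVars false

namespace Cfsg.Agent.Helper74.SLN

open Matrix Module Cfsg.Agent.Helper93.U2 Cfsg.Agent.Helper62.SLN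

section SLN

variable {F : Type*} [Field F] [Fintype F] [DecidableEq F] {κ : Type} [Fintype κ] [DecidableEq κ]
  {V : Type*} [AddCommGroup V] [Module ℂ V] [FiniteDimensional ℂ V]
  (ψ : AddChar F ℂ) (pr : Pairing (κ → F)) (hpr : ∀ w u, pr.β w u = ψ (w ⬝ᵥ u))
  (ρ : Representation ℂ (SpecialLinearGroup (Unit ⊕ κ) F) V)

include hpr

omit [DecidableEq F] in
/-- piece S5 (R3 + G1 + U2-Ra `Pairing_sum_eq_zero`) : the character value at a transvection -/
theorem character_uEl (d : ℕ) (hd : ∀ w : κ → F, w ≠ 0 → finrank ℂ (wt pr ρ w) = d)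
    (u : κ → F) (hu : u ≠ 0) :
    ρ.character (uEl u) = (finrank ℂ (wt pr ρ 0) : ℂ) - (d : ℂ) := by
  classical
  have hel : ∀ a b : κ → F, (uEl (a + b) : SpecialLinearGroup (Unit ⊕ κ) F) = uEl a * uEl b :=
    fun a b => Cfsg.Agent.Helper66.SLN.uEl_add a b
  rw [character_el pr uEl ρ hel u]
  rw [← Finset.add_sum_erase Finset.univ _ (Finset.mem_univ (0 : κ → F))]
  have h0 : pr.β 0 u = 1 := Cfsg.Agent.Helper78.U2.Pairing_zero_left pr u
  have hrest : ∑ w ∈ Finset.univ.erase (0 : κ → F), (finrank ℂ (wsp pr uEl ρ w) : ℂ) * pr.β w u =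
      (d : ℂ) * ∑ w ∈ Finset.univ.erase (0 : κ → F), pr.β w u := by
    rw [Finset.mul_sum]
    apply Finset.sum_congr rfl
    intro w hw
    have hw0 : w ≠ 0 := (Finset.mem_erase.1 hw).1
    have := hd w hw0
    unfold wt at this
    rw [this]
  have hsum : ∑ w : κ → F, pr.β w u = 0 := by
    have h1 := Cfsg.Agent.Helper78.U2.Pairing_sum_eq_zero pr u hu
    rw [← h1]
    exact Finset.sum_congr rfl (fun w _ => pr.symm w u)
  have hsum' : ∑ w ∈ Finset.univ.erase (0 : κ → F), pr.β w u = -1 := by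
    have h2 := Finset.add_sum_erase Finset.univ (fun w : κ → F => pr.β w u)
      (Finset.mem_univ (0 : κ → F))
    rw [hsum, h0] at h2
    linear_combination h2
  rw [hrest, hsum', h0]
  ring

end SLN

end Cfsg.Agent.Helper74.SLN
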