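import Mathlib
import Cfsg.Agent.Lib.Helper12.SUOT0
import Cfsg.Agent.Lib.Helper12.SUOCyc
import Cfsg.Agent.Lib.Helper42.SUOReg

/-!
# SUOT (helper12 sub-server, S2282): piece T6 in hypothesis form (helper74).

`h74_regular_core`, `h74_cyc_core`: the statements of (T6) `uEl_regular`, `uEl_cyc` for ANY
element `g` of `SU_n` with the two T5 facts (`uEl_low`, `uEl_sup`) as hypotheses.
-/

set_option autoImplicit false
set_option linter.unusedSectionVars false
set_option linter.unusedVariables false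

namespace Cfsg.Agent.Helper74.SUOT

open Matrix Cfsg Cfsg.Agent.Helper13 Cfsg.Agent.Helper87.PsuA Cfsg.Agent.Helper12.SUOT

variable {F : Type*} [Field F] [Fintype F] {q n : ℕ}

theorem h74_regular_core {b : Fin n → Fin n → F} (hb : HB q b)
    (hn : 1 ≤ n) (g : ↥(Cfsg.SU n F q)) (d : F) (hd : d ≠ 0)
    (hlow : ∀ i j : Fin n, j ≤ i → co q b (actv g (b j)) i = if i = j then 1 else 0)
    (hsup : ∀ i j : Fin n, i.val + 1 = j.val → co q b (actv g (b j)) i = d) :
    IsNilpotent ((((g : ↥(Cfsg.SU n F q)) : Matrix.SpecialLinearGroup (Fin n) F) :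
        Matrix (Fin n) (Fin n) F) - 1) ∧
      ((((g : ↥(Cfsg.SU n F q)) : Matrix.SpecialLinearGroup (Fin n) F) :
        Matrix (Fin n) (Fin n) F) - 1) ^ (n - 1) ≠ 0 :=
  Cfsg.Agent.Helper42.SUO.regular_of_co hb hn g hlow
    (fun i j h => by rw [hsup i j h]; exact hd)

theorem h74_cyc_core (hF : Fintype.card F = q ^ 2) {b : Fin n → Fin n → F} (hb : HB q b)
    (hn : 5 ≤ n) (g : ↥(Cfsg.SU n F q)) (d : F) (hd : d ≠ 0)
    (hlow : ∀ i j : Fin n, j ≤ i → co q b (actv g (b j)) i = if i = j then 1 else 0)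
    (hsup : ∀ i j : Fin n, i.val + 1 = j.val → co q b (actv g (b j)) i = d)
    (p : Fin n → F)
    (hp0 : Cfsg.hermForm n F q p (b ⟨0, by omega⟩) = 0)
    (hp1 : Cfsg.hermForm n F q p (b ⟨1, by omega⟩) ≠ 0) :
    ∀ W : Submodule F (Fin n → F), p ∈ W → (∀ w ∈ W, actv g w ∈ W) →
      ∀ w, Cfsg.hermForm n F q (b ⟨0, by omega⟩) w = 0 → w ∈ W := by
  intro W hpW hW w hw
  have hn0 : 0 < n := by omega
  have hn1 : 1 < n := by omega
  -- the top index and the one below it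
  have key : ∀ i : Fin n, (Fin.rev (⟨1, hn1⟩ : Fin n)) < i → i = Fin.rev (⟨0, hn0⟩ : Fin n) := by
    intro i hi
    apply Fin.ext
    have h1 : (Fin.rev (⟨1, hn1⟩ : Fin n)).val = n - 2 := by
      rw [Fin.val_rev]
    have h0 : (Fin.rev (⟨0, hn0⟩ : Fin n)).val = n - 1 := by
      rw [Fin.val_rev]
    have hi' : (Fin.rev (⟨1, hn1⟩ : Fin n)).val < i.val := hi
    have := i.isLt
    omega
  have hp0' : co q b p (Fin.rev (⟨0, hn0⟩ : Fin n)) = 0 := by
    rw [← H_b_left]; exact hp0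
  have hp1' : co q b p (Fin.rev (⟨1, hn1⟩ : Fin n)) ≠ 0 := by
    rw [← H_b_left]; exact hp1
  have hw' : co q b w (Fin.rev (⟨0, hn0⟩ : Fin n)) = 0 :=
    (Cfsg.Agent.Helper12.SUO.h12_perp_b0_iff hF hb hn0 w).1 hw
  exact Cfsg.Agent.Helper12.SUO.h12_cyc hF hb g hlow
    (fun i j h => by rw [hsup i j h]; exact hd) W hW (Fin.rev (⟨1, hn1⟩ : Fin n)) p hpW hp1'
    (fun i hi => by rw [key i hi]; exact hp0') w
    (fun i hi => by rw [key i hi]; exact hw')

end Cfsg.Agent.Helper74.SUOT
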