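import Mathlib
import Cfsg.Agent.Lib.Helper12.SUOT0
import Cfsg.Agent.Lib.Helper12.SUOT_T14
import Cfsg.Agent.Lib.Helper69.SUOT_T5Core
import Cfsg.Agent.Lib.Helper74.SUOT_T6Core

/-!
# SUOT (helper12 sub-server, S2282): piece T6, VERBATIM (helper74).

`uEl_regular`, `uEl_cyc` with the names and statements of `tools/SUOT_sigs_helper12.lean.txt`,
from `SUOT_T6Core` (hypothesis form), helper69's `SUOT_T5Core` (`h69_low`, `h69_sup`) and
helper12's `SUOT_T14` (`Nm_b_zero`, `Nm_b_succ`, `uEl_key`).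
-/

set_option autoImplicit false
set_option linter.unusedSectionVars false
set_option linter.unusedVariables false

namespace Cfsg.Agent.Helper74.SUOT

open Matrix Cfsg Cfsg.Agent.Helper13 Cfsg.Agent.Helper87.PsuA Cfsg.Agent.Helper12.SUOT

variable {F : Type*} [Field F] [Fintype F] {q n : ℕ}

/-- (T5) `uEl_low`, from helper69's core and helper12's T1/T4 -/
theorem h74_uEl_low (hF : Fintype.card F = q ^ 2) {b : Fin n → Fin n → F} (hb : HB q b) (al : F) :
    ∀ i j : Fin n, j ≤ i → co q b (actv (uEl q b al) (b j)) i = if i = j then 1 else 0 :=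
  Cfsg.Agent.Helper69.SUOT.h69_low al (fun j hj => Nm_b_zero hF hb j hj)
    (fun i j hij => Nm_b_succ hF hb i j hij) (fun z => uEl_key hF hb al z) hF hb

/-- (T5) `uEl_sup`, from helper69's core and helper12's T1/T4 -/
theorem h74_uEl_sup (hF : Fintype.card F = q ^ 2) {b : Fin n → Fin n → F} (hb : HB q b) (al : F) :
    ∀ i j : Fin n, i.val + 1 = j.val → co q b (actv (uEl q b al) (b j)) i = al - al ^ q :=
  Cfsg.Agent.Helper69.SUOT.h69_sup al (fun j hj => Nm_b_zero hF hb j hj)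
    (fun i j hij => Nm_b_succ hF hb i j hij) (fun z => uEl_key hF hb al z) hF hb

theorem uEl_regular (hF : Fintype.card F = q ^ 2) {b : Fin n → Fin n → F} (hb : HB q b)
    (hn : 1 ≤ n) (al : F) (hal : al ^ q ≠ al) :
    IsNilpotent ((((uEl q b al : ↥(Cfsg.SU n F q)) : Matrix.SpecialLinearGroup (Fin n) F) :
        Matrix (Fin n) (Fin n) F) - 1) ∧
      ((((uEl q b al : ↥(Cfsg.SU n F q)) : Matrix.SpecialLinearGroup (Fin n) F) :
        Matrix (Fin n) (Fin n) F) - 1) ^ (n - 1) ≠ 0 :=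
  h74_regular_core hb hn (uEl q b al) (al - al ^ q) (sub_ne_zero.2 (Ne.symm hal))
    (h74_uEl_low hF hb al) (h74_uEl_sup hF hb al)

theorem uEl_cyc (hF : Fintype.card F = q ^ 2) {b : Fin n → Fin n → F} (hb : HB q b)
    (hn : 5 ≤ n) (al : F) (hal : al ^ q ≠ al) (p : Fin n → F)
    (hp0 : Cfsg.hermForm n F q p (b ⟨0, by omega⟩) = 0)
    (hp1 : Cfsg.hermForm n F q p (b ⟨1, by omega⟩) ≠ 0) :
    ∀ W : Submodule F (Fin n → F), p ∈ W → (∀ w ∈ W, actv (uEl q b al) w ∈ W) →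
      ∀ w, Cfsg.hermForm n F q (b ⟨0, by omega⟩) w = 0 → w ∈ W :=
  h74_cyc_core hF hb hn (uEl q b al) (al - al ^ q) (sub_ne_zero.2 (Ne.symm hal))
    (h74_uEl_low hF hb al) (h74_uEl_sup hF hb al) p hp0 hp1

end Cfsg.Agent.Helper74.SUOT
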