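import Mathlib
import Cfsg.Agent.Lib.Helper17.Sieve
import Cfsg.Agent.Lib.Helper17.SieveInter

/-!
# No nonabelian simple group of order `5600 = 2 ^ 5 * 5 ^ 2 * 7`

Two Sylow `5`-subgroups meet in a subgroup `D` of order `5`; its centralizer `C` has order `400`
and a normal `5`-complement of order `16`, whose normalizer in `G` has order `400` but contains a
Sylow `2`-subgroup of order `32`.
-/

set_option autoImplicit false

namespace Cfsg.Agent.Helper74.SV

open Cfsg.Agent.Helper17

theorem h74_sv5600_num1 : ∀ d ∈ Nat.divisors 224, d % 5 = 1 → d ≠ 1 → ¬ d ≡ 1 [MOD 5 ^ 2] := by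
  decide

theorem h74_sv5600_num2 : ∀ i ∈ Nat.divisors 224, ∀ d ∈ Nat.divisors 224, d ∣ i → d % 5 = 1 →
    d ≠ 1 → 10 * (25 * i) ≤ 5600 → i = 16 ∧ d = 16 := by
  decide

theorem h74_sv5600_num3 : ¬ (2 * 5600 ∣ Nat.factorial 9) := by decide

/-- every proper subgroup of a nonabelian simple group of order `5600` has index at least `10` -/
theorem h74_sv5600_index_ge {G : Type*} [Group G] [Finite G] [IsSimpleGroup G]
    (hna : ¬ IsMulCommutative G) (hcard : Nat.card G = 5600) (H : Subgroup G) (hH : H ≠ ⊤) :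
    10 ≤ H.index := by
  have h := two_mul_card_dvd_factorial hna H hH
  rw [hcard] at h
  by_contra hlt
  push Not at hlt
  have h9 : Nat.factorial H.index ∣ Nat.factorial 9 := Nat.factorial_dvd_factorial (by omega)
  exact h74_sv5600_num3 (h.trans h9)

theorem no_5600.{u} : Cfsg.Agent.Helper17.Sieve.NoSimple.{u} 5600 := by
  intro G _ _ _ hna hcard
  have h5 : Fact (Nat.Prime 5) := ⟨by norm_num⟩
  have h2 : Fact (Nat.Prime 2) := ⟨by norm_num⟩
  have hn : Nat.card G = 5 ^ 2 * 224 := by rw [hcard]; norm_num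
  have hpm : ¬ 5 ∣ 224 := by norm_num
  have hidx := h74_sv5600_index_ge hna hcard
  -- the number of Sylow 5-subgroups
  obtain ⟨hd1, hd2⟩ := sylow_count (G := G) (p := 5) hn hpm
  have hne := sylow_count_ne_one (G := G) (p := 5) hn hpm (by norm_num) (by norm_num)
  have hmod : ¬ Nat.card (Sylow 5 G) ≡ 1 [MOD 5 ^ 2] :=
    h74_sv5600_num1 _ (Nat.mem_divisors.2 ⟨hd1, by norm_num⟩) hd2 hne
  obtain ⟨P⟩ : Nonempty (Sylow 5 G) := inferInstance
  obtain ⟨R, hPR, hidxR⟩ := exists_sylow_large_inter 5 2 hmod P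
  have hcP : Nat.card (P : Subgroup G) = 5 ^ 2 := sylow_card_eq P hn hpm
  have hcR : Nat.card (R : Subgroup G) = 5 ^ 2 := sylow_card_eq R hn hpm
  change (R : Subgroup G).relIndex (P : Subgroup G) ≤ 5 ^ (2 - 1) at hidxR
  rw [sylow_relIndex_symm] at hidxR
  have hDr := card_inf_mul_relIndex (P : Subgroup G) (R : Subgroup G)
  rw [hcR] at hDr
  set D : Subgroup G := (P : Subgroup G) ⊓ (R : Subgroup G) with hD
  have hD1 : Nat.card D ≠ 1 := by
    intro h1
    rw [h1, one_mul] at hDr
    rw [hDr] at hidxR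
    norm_num at hidxR
  have hDbot : D ≠ ⊥ := by
    intro hb
    apply hD1
    rw [hb]
    exact Subgroup.card_bot
  -- P and R are commutative
  have hPcomm : IsMulCommutative ↥(P : Subgroup G) :=
    IsPGroup.isMulCommutative_of_card_eq_prime_sq hcP
  have hRcomm : IsMulCommutative ↥(R : Subgroup G) :=
    IsPGroup.isMulCommutative_of_card_eq_prime_sq hcR
  set C : Subgroup G := Subgroup.centralizer (D : Set G) with hC
  have hPC : (P : Subgroup G) ≤ C := by
    intro x hx
    rw [hC, Subgroup.mem_centralizer_iff]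
    intro y hy
    have hyP : y ∈ (P : Subgroup G) := hy.1
    exact congrArg Subtype.val (hPcomm.is_comm.comm ⟨y, hyP⟩ ⟨x, hx⟩)
  have hRC : (R : Subgroup G) ≤ C := by
    intro x hx
    rw [hC, Subgroup.mem_centralizer_iff]
    intro y hy
    have hyR : y ∈ (R : Subgroup G) := hy.2
    exact congrArg Subtype.val (hRcomm.is_comm.comm ⟨y, hyR⟩ ⟨x, hx⟩)
  have hCtop : C ≠ ⊤ := by
    intro htop
    rw [hC, Subgroup.centralizer_eq_top_iff_subset] at htop
    rcases (inferInstance : (Subgroup.center G).Normal).eq_bot_or_eq_top with hz | hz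
    · apply hDbot
      rw [eq_bot_iff]
      intro x hx
      rw [← hz]
      exact htop hx
    · apply hna
      refine ⟨⟨fun a b => ?_⟩⟩
      have ha : a ∈ Subgroup.center G := by rw [hz]; exact Subgroup.mem_top a
      exact ((Subgroup.mem_center_iff.1 ha) b).symm
  -- Sylow 5-subgroups of `C`
  set P' : Sylow 5 C := P.subtype hPC with hP'
  set R' : Sylow 5 C := R.subtype hRC with hR'
  have hP'R' : P' ≠ R' := fun h => hPR (Sylow.subtype_injective h)
  have hcP' : Nat.card (P' : Subgroup C) = 25 := by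
    have h1 : ((P' : Sylow 5 C) : Subgroup C) = (P : Subgroup G).subgroupOf C := Sylow.coe_subtype P hPC
    rw [h1, Nat.card_congr (Subgroup.subgroupOfEquivOfLe hPC).toEquiv, hcP]
    norm_num
  have hnC1 : Nat.card (Sylow 5 C) ≠ 1 := by
    intro h1
    have : Subsingleton (Sylow 5 C) := (Nat.card_eq_one_iff_unique.1 h1).1
    exact hP'R' (Subsingleton.elim _ _)
  have hnC5 : Nat.card (Sylow 5 C) % 5 = 1 := by
    have := card_sylow_modEq_one 5 C
    rw [Nat.ModEq] at this
    exact this
  have hnCd : Nat.card (Sylow 5 C) ∣ (P' : Subgroup C).index := P'.card_dvd_index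
  have hCcard : 25 * (P' : Subgroup C).index = Nat.card C := by
    rw [← hcP']; exact Subgroup.card_mul_index _
  have hCdvd : Nat.card C ∣ 5600 := by
    rw [← hcard]; exact Subgroup.card_subgroup_dvd_card C
  have hi224 : (P' : Subgroup C).index ∣ 224 := by
    rw [← hCcard] at hCdvd
    exact (Nat.mul_dvd_mul_iff_left (by norm_num : 0 < 25)).1 (by simpa using hCdvd)
  have hCidx : C.index * Nat.card C = 5600 := by
    rw [← hcard]; exact Subgroup.index_mul_card C
  have hC10 := hidx C hCtop
  have hle : 10 * (25 * (P' : Subgroup C).index) ≤ 5600 := by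
    rw [hCcard, ← hCidx]
    exact Nat.mul_le_mul_right _ hC10
  obtain ⟨hi16, hd16⟩ := h74_sv5600_num2 _ (Nat.mem_divisors.2 ⟨hi224, by norm_num⟩) _
    (Nat.mem_divisors.2 ⟨hnCd.trans hi224, by norm_num⟩) hnCd hnC5 hnC1 hle
  have hC400 : Nat.card C = 400 := by rw [← hCcard, hi16]
  -- the normalizer of `P'` in `C` is `P'`
  have hNidx : (Subgroup.normalizer ((P' : Subgroup C) : Set C)).index = 16 := by
    have h1 := P'.card_eq_index_normalizer
    rw [hd16] at h1
    exact h1.symm
  have hNcard : Nat.card ↥(Subgroup.normalizer ((P' : Subgroup C) : Set C)) = 25 := by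
    have h1 := Subgroup.index_mul_card (Subgroup.normalizer ((P' : Subgroup C) : Set C))
    rw [hNidx, hC400] at h1
    omega
  have hNeq : (P' : Subgroup C) = Subgroup.normalizer ((P' : Subgroup C) : Set C) :=
    Subgroup.eq_of_le_of_card_ge Subgroup.le_normalizer (by rw [hNcard, hcP'])
  have hP'comm : IsMulCommutative ↥(P' : Subgroup C) :=
    IsPGroup.isMulCommutative_of_card_eq_prime_sq (p := 5) (by rw [hcP']; norm_num)
  have hP'cent : (P' : Subgroup C) ≤ Subgroup.centralizer ((P' : Subgroup C) : Set C) :=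
    Subgroup.le_centralizer_iff_isMulCommutative.2 hP'comm
  have hNC : Subgroup.normalizer ((P' : Subgroup C) : Set C) ≤
      Subgroup.centralizer ((P' : Subgroup C) : Set C) := by
    rw [← hNeq]; exact hP'cent
  obtain ⟨K, hKn, hKc, _⟩ := exists_normal_pcomplement P' hNC
  have hK16 : Nat.card K = 16 := by
    rw [hcP', hC400] at hKc
    omega
  -- push `K` to `G`
  set S : Subgroup G := K.map C.subtype with hS
  have hS16 : Nat.card S = 16 := by
    rw [hS, Subgroup.card_map_of_injective C.subtype_injective, hK16]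
  have hCN : C ≤ Subgroup.normalizer (S : Set G) := by
    have h1 := Subgroup.le_normalizer_map (H := K) C.subtype
    rw [Subgroup.normalizer_eq_top_iff.2 hKn, ← MonoidHom.range_eq_map, Subgroup.range_subtype] at h1
    exact h1
  set N : Subgroup G := Subgroup.normalizer (S : Set G) with hN
  have hNtop : N ≠ ⊤ := by
    intro htop
    have hnorm : S.Normal := Subgroup.normalizer_eq_top_iff.1 htop
    apply normal_card_absurd S hnorm
    · rw [hS16]; norm_num
    · rw [hS16, hcard]; norm_num
  have hN10 := hidx N hNtop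
  have hNidx' : N.index * Nat.card N = 5600 := by
    rw [← hcard]; exact Subgroup.index_mul_card N
  have hN400 : 400 ∣ Nat.card N := by
    rw [← hC400]; exact Subgroup.card_dvd_of_le hCN
  have hNc : Nat.card N = 400 := by
    obtain ⟨t, ht⟩ := hN400
    rw [ht] at hNidx' ⊢
    have h14 : N.index * t = 14 := by nlinarith
    have ht1 : t = 1 := by
      have htpos : 0 < t := by
        rcases Nat.eq_zero_or_pos t with h0 | h0
        · rw [h0] at h14; omega
        · exact h0
      by_contra hne1
      have : 2 ≤ t := by omega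
      nlinarith
    rw [ht1]
  -- a Sylow 2-subgroup containing `S`
  have hSp : IsPGroup 2 S := IsPGroup.of_card (n := 4) (by rw [hS16]; norm_num)
  obtain ⟨T, hST⟩ := hSp.exists_le_sylow
  have hn2 : Nat.card G = 2 ^ 5 * 175 := by rw [hcard]; norm_num
  have hcT : Nat.card (T : Subgroup G) = 2 ^ 5 := sylow_card_eq T hn2 (by norm_num)
  have hrel : S.relIndex (T : Subgroup G) = 2 := by
    have h1 := card_inf_mul_relIndex S (T : Subgroup G)
    rw [inf_eq_left.2 hST, hS16, hcT] at h1
    omega
  have hSnorm : (S.subgroupOf (T : Subgroup G)).Normal := Subgroup.normal_of_index_eq_two hrel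
  have hTN : (T : Subgroup G) ≤ N :=
    (Subgroup.normal_subgroupOf_iff_le_normalizer hST).1 hSnorm
  have h32 : 2 ^ 5 ∣ Nat.card N := by
    rw [← hcT]; exact Subgroup.card_dvd_of_le hTN
  rw [hNc] at h32
  norm_num at h32

end Cfsg.Agent.Helper74.SV
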