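import Mathlib

set_option autoImplicit false

namespace Cfsg.Agent.Helper74

open scoped commutatorElement Pointwise

variable {G : Type*} [Group G]

/-- Standing hypotheses of the cluster: `x` has prime order `p` and is self-centralizing. -/
structure SelfCent (p : ℕ) (x : G) : Prop where
  hp : p.Prime
  hx : orderOf x = p
  hC : Subgroup.centralizer ({x} : Set G) = Subgroup.zpowers x

namespace SelfCent

variable {p : ℕ} {x : G}

theorem card_zpowers (h : SelfCent p x) : Nat.card (Subgroup.zpowers x) = p := by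
  rw [Nat.card_zpowers, h.hx]

theorem mem_zpowers_of_commute (h : SelfCent p x) {g : G} (hg : g * x = x * g) :
    g ∈ Subgroup.zpowers x := by
  rw [← h.hC, Subgroup.mem_centralizer_singleton_iff]
  exact hg

theorem isPGroup_zpowers (h : SelfCent p x) : IsPGroup p (Subgroup.zpowers x) := by
  have : Fact p.Prime := ⟨h.hp⟩
  exact IsPGroup.of_card (n := 1) (by rw [h.card_zpowers, pow_one])

theorem x_ne_one (h : SelfCent p x) : x ≠ 1 := by
  intro h1
  have := h.hx
  rw [h1, orderOf_one] at this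
  exact h.hp.one_lt.ne this

/-- A non-identity element of `⟨x⟩` generates `⟨x⟩`. -/
theorem zpowers_eq_of_mem (h : SelfCent p x) {z : G} (hz : z ∈ Subgroup.zpowers x) (hz1 : z ≠ 1) :
    Subgroup.zpowers z = Subgroup.zpowers x := by
  have : Fact p.Prime := ⟨h.hp⟩
  have hle : Subgroup.zpowers z ≤ Subgroup.zpowers x := Subgroup.zpowers_le.mpr hz
  have : Finite (Subgroup.zpowers x) := Nat.finite_of_card_ne_zero (by rw [h.card_zpowers]; exact h.hp.ne_zero)
  have hcard : Nat.card (Subgroup.zpowers z) ∣ p := by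
    rw [← h.card_zpowers]; exact Subgroup.card_dvd_of_le hle
  rcases (Nat.dvd_prime h.hp).mp hcard with h1 | h1
  · exfalso
    rw [Nat.card_zpowers, orderOf_eq_one_iff] at h1
    exact hz1 h1
  · apply Subgroup.eq_of_le_of_card_ge hle
    rw [h1, h.card_zpowers]

/-- Any `p`-subgroup containing `x` equals `⟨x⟩`. -/
theorem eq_zpowers_of_isPGroup [Finite G] (h : SelfCent p x) {Q : Subgroup G} (hQ : IsPGroup p Q)
    (hxQ : x ∈ Q) : Q = Subgroup.zpowers x := by
  have : Fact p.Prime := ⟨h.hp⟩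
  have : Nontrivial Q :=
    ⟨⟨⟨x, hxQ⟩, 1, fun h1 => h.x_ne_one (by simpa using congrArg Subtype.val h1)⟩⟩
  have hnt : Nontrivial (Subgroup.center Q) := hQ.center_nontrivial
  obtain ⟨⟨z, hzc⟩, hz1⟩ := exists_ne (1 : Subgroup.center Q)
  have hzx : (z : G) * x = x * z := by
    have := Subgroup.mem_center_iff.mp hzc ⟨x, hxQ⟩
    exact (congrArg Subtype.val this).symm
  have hzmem : (z : G) ∈ Subgroup.zpowers x := h.mem_zpowers_of_commute hzx
  have hz1' : (z : G) ≠ 1 := by
    intro hz
    apply hz1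
    ext
    simpa using hz
  have heq := h.zpowers_eq_of_mem hzmem hz1'
  have hxz : x ∈ Subgroup.zpowers (z : G) := heq ▸ Subgroup.mem_zpowers x
  obtain ⟨k, hk⟩ := Subgroup.mem_zpowers_iff.mp hxz
  apply le_antisymm
  · intro q hq
    apply h.mem_zpowers_of_commute
    have hzq : Commute q (z : G) := by
      have := Subgroup.mem_center_iff.mp hzc ⟨q, hq⟩
      exact congrArg Subtype.val this
    rw [← hk]
    exact (hzq.zpow_right k).eq
  · exact Subgroup.zpowers_le.mpr hxQ

/-- `⟨x⟩` is a Sylow `p`-subgroup. -/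
theorem exists_sylow [Finite G] (h : SelfCent p x) :
    ∃ P : Sylow p G, (P : Subgroup G) = Subgroup.zpowers x := by
  have : Fact p.Prime := ⟨h.hp⟩
  obtain ⟨Q, hQ⟩ := h.isPGroup_zpowers.exists_le_sylow
  exact ⟨Q, h.eq_zpowers_of_isPGroup Q.2 (hQ (Subgroup.mem_zpowers x))⟩

theorem factorization_card [Finite G] (h : SelfCent p x) : (Nat.card G).factorization p = 1 := by
  have : Fact p.Prime := ⟨h.hp⟩
  obtain ⟨P, hP⟩ := h.exists_sylow
  have h1 := P.card_eq_multiplicity
  have h2 : Nat.card (P : Subgroup G) = p := by rw [hP, h.card_zpowers]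
  rw [h2] at h1
  have h3 : p ^ 1 = p ^ (Nat.card G).factorization p := by rw [pow_one]; exact h1
  exact (Nat.pow_right_injective h.hp.two_le h3).symm

/-- The subgroups of order `p` are exactly the Sylow `p`-subgroups. -/
noncomputable def subgroupsEquivSylow [Finite G] (h : SelfCent p x) [Fact p.Prime] :
    {H : Subgroup G // Nat.card H = p} ≃ Sylow p G where
  toFun H := Sylow.ofCard H.1 (by rw [h.factorization_card, pow_one]; exact H.2)
  invFun P := ⟨P, by rw [P.card_eq_multiplicity, h.factorization_card, pow_one]⟩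
  left_inv H := by ext; simp
  right_inv P := by ext; simp

theorem card_subgroups [Finite G] (h : SelfCent p x) :
    Nat.card {H : Subgroup G // Nat.card H = p} =
      (Subgroup.normalizer ((Subgroup.zpowers x : Subgroup G) : Set G)).index := by
  have : Fact p.Prime := ⟨h.hp⟩
  obtain ⟨P, hP⟩ := h.exists_sylow
  rw [Nat.card_congr h.subgroupsEquivSylow, P.card_eq_index_normalizer]
  have : (P : Set G) = ((Subgroup.zpowers x : Subgroup G) : Set G) := by rw [← hP]; rfl
  rw [this]

theorem conj_mem_of_mem_normalizer {n : G}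
    (hn : n ∈ Subgroup.normalizer ((Subgroup.zpowers x : Subgroup G) : Set G)) :
    n * x * n⁻¹ ∈ Subgroup.zpowers x :=
  (Subgroup.mem_normalizer_iff.mp hn x).mp (Subgroup.mem_zpowers x)

/-- Commutators of elements normalizing `⟨x⟩` lie in `⟨x⟩`. -/
theorem commutator_mem_of_mem_normalizer (h : SelfCent p x) {n₁ n₂ : G}
    (h1 : n₁ ∈ Subgroup.normalizer ((Subgroup.zpowers x : Subgroup G) : Set G))
    (h2 : n₂ ∈ Subgroup.normalizer ((Subgroup.zpowers x : Subgroup G) : Set G)) :
    ⁅n₁, n₂⁆ ∈ Subgroup.zpowers x := by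
  set H : Subgroup G := Subgroup.zpowers x with hH
  have hcyc : IsCyclic H := inferInstance
  let _ := (hcyc.mulAutMulEquiv _).toMonoidHom.commGroupOfInjective (hcyc.mulAutMulEquiv _).injective
  have hk := Abelianization.commutator_subset_ker H.normalizerMonoidHom
  rw [Subgroup.normalizerMonoidHom_ker] at hk
  have hmem : ⁅(⟨n₁, h1⟩ : Subgroup.normalizer (H : Set G)), ⟨n₂, h2⟩⁆ ∈
      commutator (Subgroup.normalizer (H : Set G)) :=
    Subgroup.commutator_mem_commutator (Subgroup.mem_top _) (Subgroup.mem_top _)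
  have h3 := hk hmem
  rw [Subgroup.mem_subgroupOf] at h3
  have h4 : ⁅n₁, n₂⁆ ∈ Subgroup.centralizer (H : Set G) := by
    simpa [commutatorElement_def] using h3
  apply h.mem_zpowers_of_commute
  exact (Subgroup.mem_centralizer_iff.mp h4 x (Subgroup.mem_zpowers x)).symm

/-- A normal subgroup of order divisible by `p` contains `x`. -/
theorem x_mem_of_dvd_card [Finite G] (h : SelfCent p x) (S : Subgroup G) [S.Normal]
    (hS : p ∣ Nat.card S) : x ∈ S := by
  have : Fact p.Prime := ⟨h.hp⟩
  obtain ⟨y, hy⟩ := exists_prime_orderOf_dvd_card' p hS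
  have hcard : Nat.card (Subgroup.zpowers (y : G)) = p := by
    rw [Nat.card_zpowers, Subgroup.orderOf_coe, hy]
  obtain ⟨P, hP⟩ := h.exists_sylow
  let Q : Sylow p G := Sylow.ofCard (Subgroup.zpowers (y : G))
    (by rw [h.factorization_card, pow_one]; exact hcard)
  obtain ⟨g, hg⟩ := MulAction.exists_smul_eq G Q P
  have hgQ : MulAut.conj g • (Q : Subgroup G) = Subgroup.zpowers x := by
    rw [← Sylow.coe_subgroup_smul, hg, hP]
  have hxP : x ∈ MulAut.conj g • (Q : Subgroup G) := by
    rw [hgQ]; exact Subgroup.mem_zpowers x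
  rw [Subgroup.mem_pointwise_smul_iff_inv_smul_mem] at hxP
  have hQS : (Q : Subgroup G) ≤ S := by
    change Subgroup.zpowers (y : G) ≤ S
    exact Subgroup.zpowers_le.mpr y.2
  have h1 := hQS hxP
  rw [MulAut.smul_def, MulAut.conj_inv_apply] at h1
  have h2 := Subgroup.Normal.conj_mem inferInstance _ h1 g
  simpa [mul_assoc] using h2

/-- Part (a): a normal subgroup of order divisible by `p` contains the commutator subgroup. -/
theorem commutator_le_of_dvd_card [Finite G] (h : SelfCent p x) (S : Subgroup G) [S.Normal]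
    (hS : p ∣ Nat.card S) : commutator G ≤ S := by
  have : Fact p.Prime := ⟨h.hp⟩
  have hxS := h.x_mem_of_dvd_card S hS
  obtain ⟨P, hP⟩ := h.exists_sylow
  have hPS : (P : Subgroup G) ≤ S := by rw [hP]; exact Subgroup.zpowers_le.mpr hxS
  have hfr := Sylow.normalizer_sup_eq_top' P hPS
  have hPset : (P : Set G) = ((Subgroup.zpowers x : Subgroup G) : Set G) := by rw [← hP]; rfl
  rw [hPset] at hfr
  rw [commutator_def, Subgroup.commutator_le]
  intro g _ k _
  have hg : g ∈ Subgroup.normalizer ((Subgroup.zpowers x : Subgroup G) : Set G) ⊔ S :=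
    hfr ▸ Subgroup.mem_top g
  have hk : k ∈ Subgroup.normalizer ((Subgroup.zpowers x : Subgroup G) : Set G) ⊔ S :=
    hfr ▸ Subgroup.mem_top k
  obtain ⟨n₁, hn₁, s₁, hs₁, rfl⟩ := Subgroup.mem_sup_of_normal_right.mp hg
  obtain ⟨n₂, hn₂, s₂, hs₂, rfl⟩ := Subgroup.mem_sup_of_normal_right.mp hk
  have hc : ⁅n₁, n₂⁆ ∈ S :=
    (Subgroup.zpowers_le.mpr hxS) (h.commutator_mem_of_mem_normalizer hn₁ hn₂)
  rw [← QuotientGroup.eq_one_iff] at hc ⊢
  have e1 : ((s₁ : G) : G ⧸ S) = 1 := (QuotientGroup.eq_one_iff s₁).mpr hs₁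
  have e2 : ((s₂ : G) : G ⧸ S) = 1 := (QuotientGroup.eq_one_iff s₂).mpr hs₂
  simp only [commutatorElement_def, QuotientGroup.mk_mul, QuotientGroup.mk_inv, e1, e2,
    mul_one] at hc ⊢
  exact hc

theorem card_modEq_card_inter [Finite G] (h : SelfCent p x) (T : Set G)
    (hT : ∀ y ∈ T, x * y * x⁻¹ ∈ T) :
    Nat.card T ≡ Nat.card {y : T // (y : G) ∈ Subgroup.zpowers x} [MOD p] := by
  classical
  have : Fact p.Prime := ⟨h.hp⟩
  have : Fintype T := Fintype.ofFinite T
  let f : Function.End T := fun y => ⟨x * y * x⁻¹, hT y y.2⟩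
  have hpow : ∀ n : ℕ, ∀ y : T, (((f ^ n) y : T) : G) = x ^ n * y * (x ^ n)⁻¹ := by
    intro n
    induction n with
    | zero => intro y; simp; rfl
    | succ n ih =>
      intro y
      rw [pow_succ']
      change x * ((f ^ n) y : T) * x⁻¹ = _
      rw [ih y, pow_succ']
      simp [mul_assoc]
  have hf : f ^ p ^ 1 = 1 := by
    funext y
    apply Subtype.ext
    rw [pow_one, hpow, ← h.hx, pow_orderOf_eq_one]
    simp; rfl
  have key := Equiv.Perm.card_fixedPoints_modEq (p := p) (n := 1) hf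
  rw [Nat.card_eq_fintype_card]
  refine key.trans ?_
  rw [← Nat.card_eq_fintype_card]
  have e : Nat.card (Function.fixedPoints f) = Nat.card {y : T // (y : G) ∈ Subgroup.zpowers x} := by
    apply Nat.card_congr
    refine Equiv.subtypeEquivRight ?_
    intro y
    rw [Function.mem_fixedPoints, Function.IsFixedPt]
    constructor
    · intro hy
      apply h.mem_zpowers_of_commute
      have : x * (y : G) * x⁻¹ = y := congrArg Subtype.val hy
      calc (y : G) * x = (x * (y : G) * x⁻¹) * x := by rw [this]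
        _ = x * y := by simp
    · intro hy
      apply Subtype.ext
      change x * (y : G) * x⁻¹ = y
      obtain ⟨k, hk⟩ := Subgroup.mem_zpowers_iff.mp hy
      rw [← hk]
      rw [mul_inv_eq_iff_eq_mul]
      exact ((Commute.refl x).zpow_right k).eq
  rw [e]

theorem inf_zpowers_eq_bot [Finite G] (h : SelfCent p x) (S : Subgroup G)
    (hS : ¬ p ∣ Nat.card S) : S ⊓ Subgroup.zpowers x = ⊥ := by
  apply disjoint_iff.mp
  apply Subgroup.disjoint_of_coprime_natCard
  rw [h.card_zpowers]
  exact ((Nat.Prime.coprime_iff_not_dvd h.hp).mpr hS).symm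

theorem card_mod_eq_one [Finite G] (h : SelfCent p x) (S : Subgroup G) [S.Normal]
    (hS : ¬ p ∣ Nat.card S) : Nat.card S % p = 1 := by
  have hbot := h.inf_zpowers_eq_bot S hS
  have key := h.card_modEq_card_inter (S : Set G)
    (fun y hy => Subgroup.Normal.conj_mem inferInstance y hy x)
  have hone : Nat.card {y : (S : Set G) // (y : G) ∈ Subgroup.zpowers x} = 1 := by
    rw [Nat.card_eq_one_iff_unique]
    refine ⟨⟨?_⟩, ⟨⟨⟨1, S.one_mem⟩, Subgroup.one_mem _⟩⟩⟩
    rintro ⟨⟨a, ha⟩, ha'⟩ ⟨⟨b, hb⟩, hb'⟩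
    have h1 : a ∈ S ⊓ Subgroup.zpowers x := ⟨ha, ha'⟩
    have h2 : b ∈ S ⊓ Subgroup.zpowers x := ⟨hb, hb'⟩
    rw [hbot, Subgroup.mem_bot] at h1 h2
    subst h1; subst h2; rfl
  rw [hone] at key
  have : Nat.card (S : Set G) = Nat.card S := rfl
  rw [this] at key
  rw [key, Nat.mod_eq_of_lt h.hp.one_lt]

theorem orderOf_mk [Finite G] (h : SelfCent p x) (S : Subgroup G) [S.Normal]
    (hS : ¬ p ∣ Nat.card S) : orderOf (QuotientGroup.mk x : G ⧸ S) = p := by
  have hd : orderOf (QuotientGroup.mk x : G ⧸ S) ∣ p := by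
    rw [← h.hx]; exact orderOf_map_dvd (QuotientGroup.mk' S) x
  rcases (Nat.dvd_prime h.hp).mp hd with h1 | h1
  · exfalso
    rw [orderOf_eq_one_iff, QuotientGroup.eq_one_iff] at h1
    apply hS
    rw [← h.hx]
    have := orderOf_dvd_natCard (⟨x, h1⟩ : S)
    rwa [← Subgroup.orderOf_coe] at this
  · exact h1

theorem centralizer_mk [Finite G] (h : SelfCent p x) (S : Subgroup G) [S.Normal]
    (hS : ¬ p ∣ Nat.card S) :
    Subgroup.centralizer ({(QuotientGroup.mk x : G ⧸ S)} : Set (G ⧸ S)) =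
      Subgroup.zpowers (QuotientGroup.mk x : G ⧸ S) := by
  apply le_antisymm
  · intro q hq
    rw [Subgroup.mem_centralizer_singleton_iff] at hq
    obtain ⟨g, rfl⟩ := QuotientGroup.mk_surjective q
    set T : Set G := QuotientGroup.mk ⁻¹' ({(QuotientGroup.mk g : G ⧸ S)} : Set (G ⧸ S)) with hT
    have hstab : ∀ y ∈ T, x * y * x⁻¹ ∈ T := by
      intro y hy
      rw [hT, Set.mem_preimage, Set.mem_singleton_iff] at hy ⊢
      rw [QuotientGroup.mk_mul, QuotientGroup.mk_mul, QuotientGroup.mk_inv, hy, ← hq]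
      simp
    have key := h.card_modEq_card_inter T hstab
    have hcard : Nat.card T = Nat.card S := by
      rw [hT, QuotientGroup.card_preimage_mk]
      simp
    have hne : Nat.card {y : T // (y : G) ∈ Subgroup.zpowers x} ≠ 0 := by
      intro h0
      rw [h0, hcard] at key
      have := h.card_mod_eq_one S hS
      rw [key] at this
      simp at this
    have : Nonempty {y : T // (y : G) ∈ Subgroup.zpowers x} := by
      by_contra hc
      rw [not_nonempty_iff] at hc
      exact hne Nat.card_of_isEmpty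
    obtain ⟨⟨⟨y, hyT⟩, hy⟩⟩ := this
    rw [hT, Set.mem_preimage, Set.mem_singleton_iff] at hyT
    rw [← hyT]
    obtain ⟨k, hk⟩ := Subgroup.mem_zpowers_iff.mp hy
    change x ^ k = y at hk
    rw [← hk, QuotientGroup.mk_zpow]
    exact Subgroup.zpow_mem_zpowers _ k
  · rw [Subgroup.zpowers_le, Subgroup.mem_centralizer_singleton_iff]

theorem inf_normalizer_eq_bot [Finite G] (h : SelfCent p x) (S : Subgroup G) [S.Normal]
    (hS : ¬ p ∣ Nat.card S) :
    S ⊓ Subgroup.normalizer ((Subgroup.zpowers x : Subgroup G) : Set G) = ⊥ := by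
  have hbot := h.inf_zpowers_eq_bot S hS
  rw [eq_bot_iff]
  rintro s ⟨hsS, hsN⟩
  have h1 : s * x * s⁻¹ * x⁻¹ ∈ S ⊓ Subgroup.zpowers x := by
    constructor
    · have : x * s⁻¹ * x⁻¹ ∈ S := Subgroup.Normal.conj_mem inferInstance _ (S.inv_mem hsS) x
      have := S.mul_mem hsS this
      simpa [mul_assoc] using this
    · exact Subgroup.mul_mem _ (conj_mem_of_mem_normalizer hsN)
        (Subgroup.inv_mem _ (Subgroup.mem_zpowers x))
  rw [hbot, Subgroup.mem_bot] at h1
  have h2 : s * x = x * s := by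
    have := mul_inv_eq_one.mp h1
    exact mul_inv_eq_iff_eq_mul.mp this
  have h3 : s ∈ S ⊓ Subgroup.zpowers x := ⟨hsS, h.mem_zpowers_of_commute h2⟩
  rwa [hbot] at h3

theorem card_dvd_card_subgroups [Finite G] (h : SelfCent p x) (S : Subgroup G) [S.Normal]
    (hS : ¬ p ∣ Nat.card S) :
    Nat.card S ∣ Nat.card {H : Subgroup G // Nat.card H = p} := by
  rw [h.card_subgroups]
  set N := Subgroup.normalizer ((Subgroup.zpowers x : Subgroup G) : Set G) with hN
  have hbot := h.inf_normalizer_eq_bot S hS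
  have h1 : S.relIndex N = Nat.card N := by
    rw [← Subgroup.inf_relIndex_right, hbot, Subgroup.relIndex_bot_left]
  have h2 : Nat.card N ∣ S.index := h1 ▸ Subgroup.relIndex_dvd_index_of_normal S N
  obtain ⟨k, hk⟩ := h2
  have h3 : S.index * Nat.card S = N.index * Nat.card N := by
    rw [Subgroup.index_mul_card, Subgroup.index_mul_card]
  rw [hk] at h3
  have hNpos : 0 < Nat.card N := Nat.card_pos
  refine ⟨k, ?_⟩
  have : Nat.card N * (k * Nat.card S) = Nat.card N * N.index := by
    rw [← mul_assoc, h3, mul_comm]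
  have := Nat.eq_of_mul_eq_mul_left hNpos this
  rw [← this, mul_comm]

end SelfCent

end Cfsg.Agent.Helper74
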