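import Cfsg.Agent.Lib.Helper74.SelfCent

set_option autoImplicit false
open scoped commutatorElement Pointwise
namespace Cfsg.Agent.Helper74

/-- Counting by fibres of constant size. -/
theorem card_eq_mul_of_fibers {α β : Type*} [Finite α] [Finite β] (f : α → β) (k : ℕ)
    (hf : ∀ b, Nat.card {a // f a = b} = k) : Nat.card α = Nat.card β * k := by
  have : Fintype β := Fintype.ofFinite β
  rw [← Nat.card_congr (Equiv.sigmaFiberEquiv f), Nat.card_sigma]
  simp [hf, Nat.card_eq_fintype_card]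

namespace SelfCent
variable {G : Type*} [Group G] {p : ℕ} {x : G}

/-- The index of `⟨x⟩` in its normalizer. -/
noncomputable def eIdx (x : G) : ℕ :=
  (Subgroup.zpowers x).relIndex (Subgroup.normalizer ((Subgroup.zpowers x : Subgroup G) : Set G))

theorem orderOf_eq_of_mem (h : SelfCent p x) {y : G} (hy : y ∈ Subgroup.zpowers x) (hy1 : y ≠ 1) :
    orderOf y = p := by
  rw [← Nat.card_zpowers, h.zpowers_eq_of_mem hy hy1, h.card_zpowers]

theorem commute_iff_of_mem (h : SelfCent p x) {y : G} (hy : y ∈ Subgroup.zpowers x) (hy1 : y ≠ 1)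
    (g : G) : g * y = y * g ↔ g ∈ Subgroup.zpowers x := by
  have heq := h.zpowers_eq_of_mem hy hy1
  constructor
  · intro hg
    apply h.mem_zpowers_of_commute
    have hx : x ∈ Subgroup.zpowers y := heq ▸ Subgroup.mem_zpowers x
    obtain ⟨k, hk⟩ := Subgroup.mem_zpowers_iff.mp hx
    rw [← hk]
    exact (Commute.zpow_right hg k).eq
  · intro hg
    obtain ⟨k, hk⟩ := Subgroup.mem_zpowers_iff.mp hg
    obtain ⟨j, hj⟩ := Subgroup.mem_zpowers_iff.mp hy
    rw [← hk, ← hj]
    exact (((Commute.refl x).zpow_zpow k j)).eq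

/-- If `g` conjugates one nonidentity element of `⟨x⟩` into `⟨x⟩`, it normalizes `⟨x⟩`. -/
theorem mem_normalizer_of_conj_mem (h : SelfCent p x) {y g : G} (hy : y ∈ Subgroup.zpowers x)
    (hy1 : y ≠ 1) (hg : g * y * g⁻¹ ∈ Subgroup.zpowers x) :
    g ∈ Subgroup.normalizer ((Subgroup.zpowers x : Subgroup G) : Set G) := by
  have hne : g * y * g⁻¹ ≠ 1 := by
    intro h1
    apply hy1
    have := conj_eq_one_iff.mp h1
    exact this
  have e1 := h.zpowers_eq_of_mem hy hy1
  have e2 := h.zpowers_eq_of_mem hg hne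
  rw [Subgroup.mem_normalizer_iff]
  intro z
  have hA : z ∈ Subgroup.zpowers x ↔ z ∈ Subgroup.zpowers y := by rw [e1]
  have hB : g * z * g⁻¹ ∈ Subgroup.zpowers x ↔ g * z * g⁻¹ ∈ Subgroup.zpowers (g * y * g⁻¹) := by
    rw [e2]
  rw [hA, hB]
  constructor
  · intro hz
    obtain ⟨k, rfl⟩ := Subgroup.mem_zpowers_iff.mp hz
    rw [← conj_zpow]
    exact Subgroup.zpow_mem_zpowers _ k
  · intro hz
    obtain ⟨k, hk⟩ := Subgroup.mem_zpowers_iff.mp hz
    rw [conj_zpow] at hk
    have : y ^ k = z := mul_left_cancel (mul_right_cancel hk)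
    rw [← this]
    exact Subgroup.zpow_mem_zpowers _ k

/-- The nonidentity elements of `⟨x⟩`. -/
def Xs (x : G) : Set G := ((Subgroup.zpowers x : Subgroup G) : Set G) \ {1}

theorem card_Xs [Finite G] (h : SelfCent p x) : Nat.card (Xs x) = p - 1 := by
  rw [Nat.card_coe_set_eq, Xs, Set.ncard_sdiff_singleton_of_mem (Subgroup.one_mem _),
    ← Nat.card_coe_set_eq]
  have : Nat.card ((Subgroup.zpowers x : Subgroup G) : Set G) = Nat.card (Subgroup.zpowers x) := rfl
  rw [this, h.card_zpowers]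

theorem eIdx_mul [Finite G] (h : SelfCent p x) :
    eIdx x * p =
      Nat.card (Subgroup.normalizer ((Subgroup.zpowers x : Subgroup G) : Set G)) := by
  set N := Subgroup.normalizer ((Subgroup.zpowers x : Subgroup G) : Set G) with hN
  have hle : Subgroup.zpowers x ≤ N := Subgroup.le_normalizer
  have h1 : eIdx x * N.index = (Subgroup.zpowers x).index := Subgroup.relIndex_mul_index hle
  have h2 := Subgroup.index_mul_card (Subgroup.zpowers x)
  have h3 := Subgroup.index_mul_card N
  rw [h.card_zpowers, ← h1] at h2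
  have hpos : 0 < N.index := Nat.pos_of_ne_zero Subgroup.index_ne_zero_of_finite
  have : N.index * (eIdx x * p) = N.index * Nat.card N := by
    rw [h3, ← h2]; ring
  exact Nat.eq_of_mul_eq_mul_left hpos this

/-- The classes of elements of order `p`. -/
abbrev Cl (p : ℕ) (G : Type*) [Group G] : Type _ :=
  {C : ConjClasses G // ∃ g ∈ C.carrier, orderOf g = p}

/-- The map from nonidentity elements of `⟨x⟩` to classes of elements of order `p`. -/
def toCl (h : SelfCent p x) (y : Xs x) : Cl p G :=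
  ⟨ConjClasses.mk (y : G), (y : G), ConjClasses.mem_carrier_mk,
    h.orderOf_eq_of_mem y.2.1 (by simpa using y.2.2)⟩

theorem toCl_surjective [Finite G] (h : SelfCent p x) : Function.Surjective h.toCl := by
  have : Fact p.Prime := ⟨h.hp⟩
  rintro ⟨C, g, hgC, hg⟩
  have hcard : Nat.card (Subgroup.zpowers g) = p := by rw [Nat.card_zpowers, hg]
  obtain ⟨P, hP⟩ := h.exists_sylow
  let Q : Sylow p G := Sylow.ofCard (Subgroup.zpowers g)
    (by rw [h.factorization_card, pow_one]; exact hcard)
  obtain ⟨a, ha⟩ := MulAction.exists_smul_eq G Q P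
  have hgQ : MulAut.conj a • (Q : Subgroup G) = Subgroup.zpowers x := by
    rw [← Sylow.coe_subgroup_smul, ha, hP]
  have hmem : a * g * a⁻¹ ∈ Subgroup.zpowers x := by
    rw [← hgQ, Subgroup.mem_pointwise_smul_iff_inv_smul_mem, MulAut.smul_def,
      MulAut.conj_inv_apply]
    change a⁻¹ * (a * g * a⁻¹) * a ∈ Subgroup.zpowers g
    have : a⁻¹ * (a * g * a⁻¹) * a = g := by group
    rw [this]
    exact Subgroup.mem_zpowers g
  have hne : a * g * a⁻¹ ≠ 1 := by
    intro h1
    have : g = 1 := conj_eq_one_iff.mp h1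
    rw [this, orderOf_one] at hg
    exact h.hp.one_lt.ne hg
  refine ⟨⟨a * g * a⁻¹, hmem, by simpa using hne⟩, ?_⟩
  apply Subtype.ext
  change ConjClasses.mk (a * g * a⁻¹) = C
  rw [← ConjClasses.mem_carrier_iff_mk_eq.mp hgC, ConjClasses.mk_eq_mk_iff_isConj, isConj_comm,
    isConj_iff]
  exact ⟨a, rfl⟩

theorem card_fiber_toCl [Finite G] (h : SelfCent p x) (C : Cl p G) :
    Nat.card {y : Xs x // h.toCl y = C} = eIdx x := by
  obtain ⟨y₀, hy₀⟩ := h.toCl_surjective C
  set N := Subgroup.normalizer ((Subgroup.zpowers x : Subgroup G) : Set G) with hN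
  have hy₀1 : (y₀ : G) ≠ 1 := by simpa using y₀.2.2
  have hconjmem : ∀ n : N, (n : G) * y₀ * (n : G)⁻¹ ∈ Xs x := by
    intro n
    refine ⟨(Subgroup.mem_normalizer_iff.mp n.2 _).mp y₀.2.1, ?_⟩
    simp only [Set.mem_singleton_iff]
    intro h1
    exact hy₀1 (conj_eq_one_iff.mp h1)
  let ψ : N → {y : Xs x // h.toCl y = C} := fun n =>
    ⟨⟨(n : G) * y₀ * (n : G)⁻¹, hconjmem n⟩, by
      rw [← hy₀]
      apply Subtype.ext
      change ConjClasses.mk ((n : G) * y₀ * (n : G)⁻¹) = ConjClasses.mk (y₀ : G)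
      rw [ConjClasses.mk_eq_mk_iff_isConj, isConj_comm, isConj_iff]
      exact ⟨n, rfl⟩⟩
  have hψ : ∀ y : {y : Xs x // h.toCl y = C}, Nat.card {n : N // ψ n = y} = p := by
    rintro ⟨⟨y, hyX⟩, hyC⟩
    -- find n₀
    have hconj : IsConj (y₀ : G) y := by
      rw [← hy₀] at hyC
      have := congrArg Subtype.val hyC
      change ConjClasses.mk y = ConjClasses.mk (y₀ : G) at this
      exact (ConjClasses.mk_eq_mk_iff_isConj.mp this).symm
    obtain ⟨g, hg⟩ := isConj_iff.mp hconj
    have hgN : g ∈ N := h.mem_normalizer_of_conj_mem y₀.2.1 hy₀1 (hg ▸ hyX.1)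
    refine Eq.trans ?_ h.card_zpowers
    apply Nat.card_congr
    refine
      { toFun := fun n => ⟨g⁻¹ * (n : N), ?_⟩
        invFun := fun c => ⟨⟨g * (c : G), N.mul_mem hgN (Subgroup.le_normalizer c.2)⟩, ?_⟩
        left_inv := ?_
        right_inv := ?_ }
    · have hn : (((ψ (n : N)).1 : Xs x) : G) = y := by rw [n.2]
      change ((n : N) : G) * y₀ * ((n : N) : G)⁻¹ = y at hn
      rw [← h.commute_iff_of_mem y₀.2.1 hy₀1]
      have hn' := hn.trans hg.symm
      have : (g⁻¹ * ((n : N) : G)) * y₀ * (g⁻¹ * ((n : N) : G))⁻¹ = y₀ := by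
        calc (g⁻¹ * ((n : N) : G)) * y₀ * (g⁻¹ * ((n : N) : G))⁻¹
            = g⁻¹ * (((n : N) : G) * y₀ * ((n : N) : G)⁻¹) * g := by group
          _ = g⁻¹ * (g * y₀ * g⁻¹) * g := by rw [hn']
          _ = y₀ := by group
      exact mul_inv_eq_iff_eq_mul.mp this
    · apply Subtype.ext
      apply Subtype.ext
      change g * (c : G) * y₀ * (g * (c : G))⁻¹ = y
      have hc : (c : G) * y₀ = y₀ * c := (h.commute_iff_of_mem y₀.2.1 hy₀1 c).mpr c.2
      rw [← hg]
      calc g * (c : G) * y₀ * (g * (c : G))⁻¹ = g * ((c : G) * y₀) * (c : G)⁻¹ * g⁻¹ := by group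
        _ = g * (y₀ * c) * (c : G)⁻¹ * g⁻¹ := by rw [hc]
        _ = g * y₀ * g⁻¹ := by group
    · intro n
      apply Subtype.ext
      apply Subtype.ext
      simp
    · intro c
      apply Subtype.ext
      simp
  have h1 := card_eq_mul_of_fibers ψ p hψ
  have h2 := h.eIdx_mul
  rw [← hN, h1] at h2
  exact (Nat.eq_of_mul_eq_mul_right h.hp.pos h2).symm

/-- The number of classes of elements of order `p` times `|N(⟨x⟩) : ⟨x⟩|` is `p - 1`. -/
theorem card_Cl_mul_eIdx [Finite G] (h : SelfCent p x) :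
    Nat.card (Cl p G) * eIdx x = p - 1 := by
  rw [← h.card_Xs]
  exact (card_eq_mul_of_fibers h.toCl (eIdx x) h.card_fiber_toCl).symm

theorem eIdx_pos [Finite G] (h : SelfCent p x) : 0 < eIdx x := by
  have := h.eIdx_mul
  have hpos : 0 < Nat.card (Subgroup.normalizer ((Subgroup.zpowers x : Subgroup G) : Set G)) :=
    Nat.card_pos
  rw [← this] at hpos
  exact Nat.pos_of_mul_pos_right hpos

/-- If `⟨x⟩` is not self-normalizing then `x` is a commutator. -/
theorem x_mem_commutator [Finite G] (h : SelfCent p x) (he : eIdx x ≠ 1) : x ∈ commutator G := by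
  have hnle : ¬ Subgroup.normalizer ((Subgroup.zpowers x : Subgroup G) : Set G) ≤
      Subgroup.zpowers x := fun hle => he (Subgroup.relIndex_eq_one.mpr hle)
  obtain ⟨n, hnN, hnP⟩ := SetLike.not_le_iff_exists.mp hnle
  have h1 : ⁅n, x⁆ ∈ Subgroup.zpowers x := by
    rw [commutatorElement_def]
    exact Subgroup.mul_mem _ (conj_mem_of_mem_normalizer hnN)
      (Subgroup.inv_mem _ (Subgroup.mem_zpowers x))
  have h2 : ⁅n, x⁆ ≠ 1 := by
    intro h0
    apply hnP
    apply h.mem_zpowers_of_commute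
    rw [commutatorElement_def] at h0
    have := mul_inv_eq_one.mp h0
    exact mul_inv_eq_iff_eq_mul.mp this
  have h3 : ⁅n, x⁆ ∈ commutator G := by
    rw [commutator_def]
    exact Subgroup.commutator_mem_commutator (Subgroup.mem_top _) (Subgroup.mem_top _)
  have h4 := h.zpowers_eq_of_mem h1 h2
  have h5 : Subgroup.zpowers x ≤ commutator G := h4 ▸ Subgroup.zpowers_le.mpr h3
  exact h5 (Subgroup.mem_zpowers x)

theorem dvd_card_of_mem [Finite G] (h : SelfCent p x) {S : Subgroup G} (hx : x ∈ S) :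
    p ∣ Nat.card S := by
  have := orderOf_dvd_natCard (⟨x, hx⟩ : S)
  rwa [← Subgroup.orderOf_coe, h.hx] at this

/-- Frattini: a normal subgroup containing `x` together with the normalizer generates `G`. -/
theorem normalizer_sup_eq_top [Finite G] (h : SelfCent p x) (S : Subgroup G) [S.Normal]
    (hxS : x ∈ S) :
    Subgroup.normalizer ((Subgroup.zpowers x : Subgroup G) : Set G) ⊔ S = ⊤ := by
  have : Fact p.Prime := ⟨h.hp⟩
  obtain ⟨P, hP⟩ := h.exists_sylow
  have hPS : (P : Subgroup G) ≤ S := by rw [hP]; exact Subgroup.zpowers_le.mpr hxS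
  have hfr := Sylow.normalizer_sup_eq_top' P hPS
  have hPset : (P : Set G) = ((Subgroup.zpowers x : Subgroup G) : Set G) := by rw [← hP]; rfl
  rwa [hPset] at hfr

/-- A normal subgroup containing `x` has index dividing `|N(⟨x⟩) : ⟨x⟩|`. -/
theorem index_dvd_eIdx [Finite G] (h : SelfCent p x) (S : Subgroup G) [S.Normal]
    (hxS : x ∈ S) : S.index ∣ eIdx x := by
  set N := Subgroup.normalizer ((Subgroup.zpowers x : Subgroup G) : Set G) with hN
  have h1 : S.relIndex (S ⊔ N) = S.relIndex N := Subgroup.relIndex_sup_left N S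
  rw [sup_comm, h.normalizer_sup_eq_top S hxS, Subgroup.relIndex_top_right] at h1
  rw [h1]
  exact Subgroup.relIndex_dvd_of_le_left N (Subgroup.zpowers_le.mpr hxS)

/-- A normal `p'`-subgroup containing the commutator subgroup has index `p`. -/
theorem index_eq_of_commutator_le [Finite G] (h : SelfCent p x) (S : Subgroup G) [S.Normal]
    (hS : ¬ p ∣ Nat.card S) (hc : commutator G ≤ S) : S.index = p := by
  have h1 := h.centralizer_mk S hS
  have h2 : Subgroup.centralizer ({(QuotientGroup.mk x : G ⧸ S)} : Set (G ⧸ S)) = ⊤ := by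
    rw [eq_top_iff]
    intro q _
    rw [Subgroup.mem_centralizer_singleton_iff]
    obtain ⟨g, rfl⟩ := QuotientGroup.mk_surjective q
    rw [← QuotientGroup.mk_mul, ← QuotientGroup.mk_mul, QuotientGroup.eq]
    apply hc
    rw [commutator_def]
    have : (g * x)⁻¹ * (x * g) = ⁅x⁻¹, g⁻¹⁆ := by rw [commutatorElement_def]; group
    rw [this]
    exact Subgroup.commutator_mem_commutator (Subgroup.mem_top _) (Subgroup.mem_top _)
  rw [h2] at h1
  rw [Subgroup.index_eq_card, ← Subgroup.card_top (G := G ⧸ S), h1, Nat.card_zpowers,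
    h.orderOf_mk S hS]

/-- If `⟨x⟩` is self-normalizing then the commutator subgroup is a `p'`-group. -/
theorem not_dvd_card_commutator [Finite G] (h : SelfCent p x) (he : eIdx x = 1) :
    ¬ p ∣ Nat.card (commutator G) := by
  have : Fact p.Prime := ⟨h.hp⟩
  obtain ⟨P, hP⟩ := h.exists_sylow
  have hle : Subgroup.normalizer ((Subgroup.zpowers x : Subgroup G) : Set G) ≤
      Subgroup.zpowers x := Subgroup.relIndex_eq_one.mp he
  have hPset : (P : Set G) = ((Subgroup.zpowers x : Subgroup G) : Set G) := by rw [← hP]; rfl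
  have hPN : Subgroup.normalizer (P : Set G) ≤ Subgroup.centralizer (P : Set G) := by
    rw [hPset]
    intro n hn
    have hn' := hle hn
    rw [Subgroup.mem_centralizer_iff]
    intro z hz
    obtain ⟨k, hk⟩ := Subgroup.mem_zpowers_iff.mp hn'
    obtain ⟨j, hj⟩ := Subgroup.mem_zpowers_iff.mp hz
    rw [← hk, ← hj]
    exact (((Commute.refl x).zpow_zpow j k)).eq
  have hnd := MonoidHom.not_dvd_card_ker_transferSylow P hPN
  have hcomm : commutator G ≤ (MonoidHom.transferSylow P hPN).ker := by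
    rw [commutator_def, Subgroup.commutator_le]
    intro a _ b _
    rw [MonoidHom.mem_ker, commutatorElement_def, map_mul, map_mul, map_mul, map_inv, map_inv]
    have hcm : ∀ u v : P, u * v = v * u := by
      intro u v
      apply Subtype.ext
      have hu : (u : G) ∈ Subgroup.zpowers x := by rw [← hP]; exact u.2
      have hv : (v : G) ∈ Subgroup.zpowers x := by rw [← hP]; exact v.2
      obtain ⟨k, hk⟩ := Subgroup.mem_zpowers_iff.mp hu
      obtain ⟨j, hj⟩ := Subgroup.mem_zpowers_iff.mp hv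
      change (u : G) * v = v * u
      rw [← hk, ← hj]
      exact (((Commute.refl x).zpow_zpow k j)).eq
    rw [hcm (MonoidHom.transferSylow P hPN a) (MonoidHom.transferSylow P hPN b)]
    simp
  intro hd
  exact hnd (hd.trans (Subgroup.card_dvd_of_le hcomm))

end SelfCent
end Cfsg.Agent.Helper74
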