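import Cfsg.Agent.Lib.Helper74.SelfCent2
import Cfsg.Agent.Lib.Helper74.Cores

set_option autoImplicit false
open scoped commutatorElement Pointwise
namespace Cfsg.Agent.Helper74
namespace SelfCent
variable {G : Type*} [Group G] {p : ℕ} {x : G}

/-- The hypotheses pass to any subgroup containing `x`. -/
theorem toSubgroup (h : SelfCent p x) (D : Subgroup G) (hxD : x ∈ D) :
    SelfCent p (⟨x, hxD⟩ : D) := by
  refine ⟨h.hp, ?_, ?_⟩
  · rw [← Subgroup.orderOf_coe]; exact h.hx
  · ext d
    rw [Subgroup.mem_centralizer_singleton_iff, Subgroup.mem_zpowers_iff]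
    constructor
    · intro hd
      have hd' : (d : G) * x = x * d := congrArg Subtype.val hd
      obtain ⟨k, hk⟩ := Subgroup.mem_zpowers_iff.mp (h.mem_zpowers_of_commute hd')
      exact ⟨k, Subtype.ext (by simpa using hk)⟩
    · rintro ⟨k, rfl⟩
      exact ((Commute.refl (⟨x, hxD⟩ : D)).zpow_left k).eq

/-- A normal `p'`-subgroup lies in every normal subgroup with abelian quotient. -/
theorem le_of_commutator_le [Finite G] (h : SelfCent p x) (S D : Subgroup G) [S.Normal] [D.Normal]
    (hS : ¬ p ∣ Nat.card S) (hD : commutator G ≤ D) : S ≤ D := by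
  intro s hs
  have hS0 : ¬ p ∣ Nat.card (S ⊓ D : Subgroup G) :=
    fun hd => hS (hd.trans (Subgroup.card_dvd_of_le inf_le_left))
  have hcen := h.centralizer_mk (S ⊓ D) hS0
  have hmem : (QuotientGroup.mk s : G ⧸ (S ⊓ D)) ∈
      Subgroup.centralizer ({(QuotientGroup.mk x : G ⧸ (S ⊓ D))} : Set (G ⧸ (S ⊓ D))) := by
    rw [Subgroup.mem_centralizer_singleton_iff, ← QuotientGroup.mk_mul, ← QuotientGroup.mk_mul,
      QuotientGroup.eq]
    have e : (s * x)⁻¹ * (x * s) = ⁅x⁻¹, s⁻¹⁆ := by rw [commutatorElement_def]; group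
    have e' : (s * x)⁻¹ * (x * s) = (x⁻¹ * s⁻¹ * x) * s := by group
    constructor
    · rw [e']
      exact S.mul_mem (by simpa using Subgroup.Normal.conj_mem inferInstance _ (S.inv_mem hs) x⁻¹) hs
    · rw [e]
      apply hD
      rw [commutator_def]
      exact Subgroup.commutator_mem_commutator (Subgroup.mem_top _) (Subgroup.mem_top _)
  rw [hcen] at hmem
  obtain ⟨k, hk⟩ := Subgroup.mem_zpowers_iff.mp hmem
  rw [← QuotientGroup.mk_zpow, QuotientGroup.eq] at hk
  have hxk : x ^ k ∈ S ⊓ Subgroup.zpowers x := by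
    refine ⟨?_, Subgroup.zpow_mem_zpowers x k⟩
    have : x ^ k = s * ((x ^ k)⁻¹ * s)⁻¹ := by group
    rw [this]
    exact S.mul_mem hs (S.inv_mem hk.1)
  rw [h.inf_zpowers_eq_bot S hS, Subgroup.mem_bot] at hxk
  rw [hxk] at hk
  simpa using hk.2

theorem not_dvd_card_pPrimeCore [Finite G] (h : SelfCent p x) :
    ¬ p ∣ Nat.card (Cfsg.pPrimeCore p G) := by
  have := pPrimeCore_coprime (G := G) p
  exact (Nat.Prime.coprime_iff_not_dvd h.hp).mp this.symm

theorem pPrimeCore_le_commutator [Finite G] (h : SelfCent p x) :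
    Cfsg.pPrimeCore p G ≤ commutator G :=
  h.le_of_commutator_le _ _ h.not_dvd_card_pPrimeCore le_rfl

theorem isSimpleGroup_quot [Finite G] (h : SelfCent p x) (he : eIdx x ≠ 1)
    (hn : ((Cfsg.pPrimeCore p G).subgroupOf (commutator G)).Normal) :
    IsSimpleGroup (↥(commutator G) ⧸ (Cfsg.pPrimeCore p G).subgroupOf (commutator G)) := by
  have hpf : Fact p.Prime := ⟨h.hp⟩
  set D : Subgroup G := commutator G with hDdef
  have hxD : x ∈ D := h.x_mem_commutator he
  have hD := h.toSubgroup D hxD
  set S' : Subgroup D := (Cfsg.pPrimeCore p G).subgroupOf D with hS'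
  have hS'card : ¬ p ∣ Nat.card S' := by
    intro hd
    apply h.not_dvd_card_pPrimeCore
    have e := Nat.card_congr (Subgroup.subgroupOfEquivOfLe h.pPrimeCore_le_commutator).toEquiv
    rw [← e]; exact hd
  by_cases hperf : commutator D = ⊤
  · -- perfect case
    have hnt : Nontrivial (D ⧸ S') := by
      refine ⟨⟨(QuotientGroup.mk (⟨x, hxD⟩ : D) : D ⧸ S'), 1, ?_⟩⟩
      intro h1
      have h2 := hD.orderOf_mk S' hS'card
      rw [h1, orderOf_one] at h2
      exact h.hp.one_lt.ne h2
    refine ⟨?_⟩
    · intro H hH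
      set M : Subgroup D := H.comap (QuotientGroup.mk' S') with hM
      have hMn : M.Normal := hH.comap _
      have hmap : M.map (QuotientGroup.mk' S') = H :=
        Subgroup.map_comap_eq_self_of_surjective (QuotientGroup.mk'_surjective S') H
      by_cases hpM : p ∣ Nat.card M
      · right
        have h1 := hD.commutator_le_of_dvd_card M hpM
        rw [hperf, top_le_iff] at h1
        rw [← hmap, h1, ← MonoidHom.range_eq_map, MonoidHom.range_eq_top]
        exact QuotientGroup.mk'_surjective S'
      · left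
        have hMcop : (Nat.card M).Coprime p :=
          ((Nat.Prime.coprime_iff_not_dvd h.hp).mpr hpM).symm
        have h1 : M ≤ Cfsg.pPrimeCore p D := le_pPrimeCore hMn hMcop
        have h2 := pPrimeCore_map_le p D
        have h3 : M ≤ S' := by
          intro m hm
          rw [hS', Subgroup.mem_subgroupOf]
          apply h2
          exact Subgroup.mem_map_of_mem _ (h1 hm)
        rw [← hmap, eq_bot_iff]
        rintro _ ⟨m, hm, rfl⟩
        rw [Subgroup.mem_bot, QuotientGroup.mk'_apply, QuotientGroup.eq_one_iff]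
        exact h3 hm
  · -- non-perfect case: the quotient has order p
    have hD2n : ((commutator D).map D.subtype).Normal :=
      ConjAct.normal_of_characteristic_of_normal
    have hD2 : ¬ p ∣ Nat.card ((commutator D).map D.subtype) := by
      intro hd
      have h1 := h.commutator_le_of_dvd_card ((commutator D).map D.subtype) hd
      apply hperf
      rw [eq_top_iff]
      intro d _
      obtain ⟨d', hd', hdd⟩ := h1 d.2
      have : d' = d := Subtype.ext hdd
      rwa [← this]
    have hD2le : (commutator D).map D.subtype ≤ Cfsg.pPrimeCore p G :=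
      le_pPrimeCore hD2n ((Nat.Prime.coprime_iff_not_dvd h.hp).mpr hD2).symm
    have hcomm : commutator D ≤ S' := by
      intro d hd
      rw [hS', Subgroup.mem_subgroupOf]
      exact hD2le (Subgroup.mem_map_of_mem _ hd)
    have hidx := hD.index_eq_of_commutator_le S' hS'card hcomm
    have hcard : Nat.card (D ⧸ S') = p := by rw [← Subgroup.index_eq_card, hidx]
    have : Fact (Nat.card (D ⧸ S')).Prime := ⟨hcard ▸ h.hp⟩
    exact isSimpleGroup_of_prime_card (p := p) hcard

end SelfCent
end Cfsg.Agent.Helper74
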