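import Cfsg.Agent.Lib.Helper74.SelfCent3

set_option autoImplicit false
open scoped commutatorElement Pointwise
namespace Cfsg.Agent.Helper74
namespace SelfCent
variable {G : Type*} [Group G] {p : ℕ} {x : G}

/-- `|G| = m * (e * p)` with `m` the number of subgroups of order `p`. -/
theorem card_eq_mul [Finite G] (h : SelfCent p x) :
    Nat.card G = Nat.card {H : Subgroup G // Nat.card H = p} * (eIdx x * p) := by
  rw [h.card_subgroups, h.eIdx_mul, Subgroup.index_mul_card]

theorem card_subgroups_pos [Finite G] (h : SelfCent p x) :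
    0 < Nat.card {H : Subgroup G // Nat.card H = p} := by
  rw [h.card_subgroups]
  exact Nat.pos_of_ne_zero Subgroup.index_ne_zero_of_finite

/-- Self-normalizing case: `|G'|` is the number of subgroups of order `p`. -/
theorem card_commutator_of_eIdx_eq_one [Finite G] (h : SelfCent p x) (he : eIdx x = 1) :
    Nat.card (commutator G) = Nat.card {H : Subgroup G // Nat.card H = p} := by
  have h1 := h.index_eq_of_commutator_le (commutator G) (h.not_dvd_card_commutator he) le_rfl
  have h2 := Subgroup.index_mul_card (commutator G)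
  have h3 := h.card_eq_mul
  rw [he, one_mul] at h3
  rw [h1, h3, mul_comm] at h2
  exact Nat.eq_of_mul_eq_mul_right h.hp.pos h2

/-- Non-self-normalizing case with `G'' ≠ G'`. -/
theorem card_derived_of_ne [Finite G] (h : SelfCent p x) (he : eIdx x ≠ 1)
    (hne : derivedSeries G 2 ≠ derivedSeries G 1) :
    Nat.card (derivedSeries G 2) = Nat.card {H : Subgroup G // Nat.card H = p} ∧
      Nat.card (commutator G) = p * Nat.card {H : Subgroup G // Nat.card H = p} := by
  set m := Nat.card {H : Subgroup G // Nat.card H = p} with hm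
  set D : Subgroup G := commutator G with hDdef
  have hxD : x ∈ D := h.x_mem_commutator he
  have hD := h.toSubgroup D hxD
  have hD2eq : derivedSeries G 2 = (commutator D).map D.subtype := by
    rw [Subgroup.map_subtype_commutator]; rfl
  have hD2n : (derivedSeries G 2).Normal := derivedSeries_normal G 2
  have hD2le : derivedSeries G 2 ≤ D := derivedSeries_antitone (G := G) (by norm_num : 1 ≤ 2)
  have hD2p : ¬ p ∣ Nat.card (derivedSeries G 2) := by
    intro hd
    have h1 := h.commutator_le_of_dvd_card (derivedSeries G 2) hd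
    exact hne (le_antisymm hD2le h1)
  have hcardK : Nat.card (commutator D) = Nat.card (derivedSeries G 2) := by
    rw [hD2eq]
    exact Nat.card_congr ((commutator D).equivMapOfInjective D.subtype D.subtype_injective).toEquiv
  have hKp : ¬ p ∣ Nat.card (commutator D) := by rw [hcardK]; exact hD2p
  have hidx := hD.index_eq_of_commutator_le (commutator D) hKp le_rfl
  have hDcard : p * Nat.card (derivedSeries G 2) = Nat.card D := by
    have := Subgroup.index_mul_card (commutator D)
    rw [hidx, hcardK] at this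
    exact this
  have hdvd_m : Nat.card (derivedSeries G 2) ∣ m := h.card_dvd_card_subgroups _ hD2p
  have hidxe : D.index ∣ eIdx x := h.index_dvd_eIdx D hxD
  obtain ⟨c, hc⟩ := hidxe
  have hG1 := Subgroup.index_mul_card D
  have hG2 := h.card_eq_mul
  rw [← hm] at hG2
  rw [hG2, ← hDcard, hc] at hG1
  -- D.index * (p * |G''|) = m * (D.index * c * p)
  have hipos : 0 < D.index := Nat.pos_of_ne_zero Subgroup.index_ne_zero_of_finite
  have hkey : Nat.card (derivedSeries G 2) = m * c := by
    have : (D.index * p) * Nat.card (derivedSeries G 2) = (D.index * p) * (m * c) := by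
      calc (D.index * p) * Nat.card (derivedSeries G 2)
          = D.index * (p * Nat.card (derivedSeries G 2)) := by ring
        _ = m * (D.index * c * p) := hG1
        _ = (D.index * p) * (m * c) := by ring
    exact Nat.eq_of_mul_eq_mul_left (Nat.mul_pos hipos h.hp.pos) this
  have hmpos : 0 < m := h.card_subgroups_pos
  have hcpos : 0 < c := by
    rcases Nat.eq_zero_or_pos c with h0 | h0
    · exfalso
      rw [h0, mul_zero] at hc
      exact (h.eIdx_pos).ne' hc
    · exact h0
  have hc1 : c = 1 := by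
    rw [hkey] at hdvd_m
    have : m * c ∣ m * 1 := by rwa [mul_one]
    have := Nat.dvd_of_mul_dvd_mul_left hmpos this
    exact Nat.dvd_one.mp this
  rw [hc1, mul_one] at hkey
  exact ⟨hkey, by rw [← hDcard, hkey]⟩

theorem card_subgroups_mod [Finite G] (h : SelfCent p x) :
    Nat.card {H : Subgroup G // Nat.card H = p} % p = 1 := by
  have : Fact p.Prime := ⟨h.hp⟩
  rw [Nat.card_congr h.subgroupsEquivSylow]
  have := card_sylow_modEq_one p G
  rw [Nat.ModEq, Nat.mod_eq_of_lt h.hp.one_lt] at this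
  exact this

/-- If some normal subgroup has order the number of subgroups of order `p`, and `⟨x⟩` is not
self-normalizing, then `G'' ≠ G'`. -/
theorem derived_ne_of_normal_card [Finite G] (h : SelfCent p x) (he : eIdx x ≠ 1)
    (S : Subgroup G) [S.Normal]
    (hS : Nat.card S = Nat.card {H : Subgroup G // Nat.card H = p}) :
    derivedSeries G 2 ≠ derivedSeries G 1 := by
  set N := Subgroup.normalizer ((Subgroup.zpowers x : Subgroup G) : Set G) with hN
  have hpS : ¬ p ∣ Nat.card S := by
    intro hd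
    have h1 := h.card_subgroups_mod
    rw [← hS, Nat.mod_eq_zero_of_dvd hd] at h1
    exact zero_ne_one h1
  have hbot := h.inf_normalizer_eq_bot S hpS
  have htop : N ⊔ S = ⊤ := by
    rw [sup_comm]
    apply (Subgroup.card_eq_iff_eq_top _).mp
    have h1 : S.relIndex (S ⊔ N) = Nat.card N := by
      rw [Subgroup.relIndex_sup_left, ← Subgroup.inf_relIndex_right, hbot,
        Subgroup.relIndex_bot_left]
    have h2 : Nat.card ↥(S ⊔ N) = Nat.card S * S.relIndex (S ⊔ N) := by
      rw [← Subgroup.relIndex_bot_left, ← Subgroup.relIndex_bot_left,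
        Subgroup.relIndex_mul_relIndex ⊥ S (S ⊔ N) bot_le le_sup_left]
    rw [h2, h1, hS, h.card_eq_mul, h.eIdx_mul]
  -- every commutator lies in S ⊔ ⟨x⟩
  have hB : commutator G ≤ S ⊔ Subgroup.zpowers x := by
    rw [commutator_def, Subgroup.commutator_le]
    intro g _ k _
    have hg : g ∈ N ⊔ S := htop ▸ Subgroup.mem_top g
    have hk : k ∈ N ⊔ S := htop ▸ Subgroup.mem_top k
    obtain ⟨n₁, hn₁, s₁, hs₁, rfl⟩ := Subgroup.mem_sup_of_normal_right.mp hg
    obtain ⟨n₂, hn₂, s₂, hs₂, rfl⟩ := Subgroup.mem_sup_of_normal_right.mp hk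
    have hc : ⁅n₁, n₂⁆ ∈ Subgroup.zpowers x := h.commutator_mem_of_mem_normalizer hn₁ hn₂
    have e1 : ((s₁ : G) : G ⧸ S) = 1 := (QuotientGroup.eq_one_iff s₁).mpr hs₁
    have e2 : ((s₂ : G) : G ⧸ S) = 1 := (QuotientGroup.eq_one_iff s₂).mpr hs₂
    have hq : ((⁅n₁, n₂⁆ : G) : G ⧸ S) = ((⁅n₁ * s₁, n₂ * s₂⁆ : G) : G ⧸ S) := by
      simp only [commutatorElement_def, QuotientGroup.mk_mul, QuotientGroup.mk_inv, e1, e2,
        mul_one]
    rw [QuotientGroup.eq] at hq
    have : ⁅n₁ * s₁, n₂ * s₂⁆ = ⁅n₁, n₂⁆ * (⁅n₁, n₂⁆⁻¹ * ⁅n₁ * s₁, n₂ * s₂⁆) := by group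
    rw [this, sup_comm]
    exact Subgroup.mul_mem_sup hc hq
  have hBB : ⁅S ⊔ Subgroup.zpowers x, S ⊔ Subgroup.zpowers x⁆ ≤ S := by
    rw [Subgroup.commutator_le]
    intro b₁ hb₁ b₂ hb₂
    obtain ⟨s₁, hs₁, z₁, hz₁, rfl⟩ := Subgroup.mem_sup_of_normal_left.mp hb₁
    obtain ⟨s₂, hs₂, z₂, hz₂, rfl⟩ := Subgroup.mem_sup_of_normal_left.mp hb₂
    obtain ⟨k₁, rfl⟩ := Subgroup.mem_zpowers_iff.mp hz₁
    obtain ⟨k₂, rfl⟩ := Subgroup.mem_zpowers_iff.mp hz₂
    have e1 : ((s₁ : G) : G ⧸ S) = 1 := (QuotientGroup.eq_one_iff s₁).mpr hs₁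
    have e2 : ((s₂ : G) : G ⧸ S) = 1 := (QuotientGroup.eq_one_iff s₂).mpr hs₂
    rw [← QuotientGroup.eq_one_iff]
    simp only [commutatorElement_def, QuotientGroup.mk_mul, QuotientGroup.mk_inv, e1, e2,
      one_mul, QuotientGroup.mk_zpow]
    have hcm : Commute ((x : G ⧸ S) ^ k₁) ((x : G ⧸ S) ^ k₂) :=
      (Commute.refl (x : G ⧸ S)).zpow_zpow k₁ k₂
    rw [hcm.eq]
    group
  have hD2 : derivedSeries G 2 ≤ S := by
    have : derivedSeries G 2 = ⁅commutator G, commutator G⁆ := rfl
    rw [this]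
    exact (Subgroup.commutator_mono hB hB).trans hBB
  intro heq
  apply hpS
  apply h.dvd_card_of_mem
  apply hD2
  rw [heq]
  exact h.x_mem_commutator he

end SelfCent
end Cfsg.Agent.Helper74
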