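import Mathlib
import Cfsg.Agent.Lib.Helper44.SQd

set_option autoImplicit false

/-!
TSP server (helper14, S5980), piece (ARITH) `arith_cases`.
-/

namespace Cfsg.Agent.Helper74.TSP

open Matrix Module Polynomial

universe u

variable {F : Type u} [Field F] [Fintype F]

/-- pure arithmetic core: `r ∣ q^(2j) - 1`, `1 ≤ j ≤ d`. -/
theorem arith_core (q d r j : ℕ) (hr : r.Prime) (hq : 1 ≤ q) (hj1 : 1 ≤ j) (hjd : j ≤ d)
    (hdvd : r ∣ q ^ (2 * j) - 1) :
    (∃ j, j ≤ d ∧ r ∣ q ^ j + 1) ∨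
      (Odd (orderOf ((q : ℕ) : ZMod r)) ∧ orderOf ((q : ℕ) : ZMod r) ≤ d) := by
  have : Fact r.Prime := Fact.mk hr
  have h1 : ((q : ℕ) : ZMod r) ^ (2 * j) = 1 := by
    have h := (ZMod.natCast_eq_zero_iff _ _).mpr hdvd
    rw [Nat.cast_sub (Nat.one_le_pow _ _ hq), Nat.cast_pow, Nat.cast_one, sub_eq_zero] at h
    exact h
  have hord : orderOf ((q : ℕ) : ZMod r) ∣ 2 * j := orderOf_dvd_of_pow_eq_one h1
  rcases Nat.even_or_odd (orderOf ((q : ℕ) : ZMod r)) with he | ho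
  · left
    obtain ⟨k, hk⟩ := he
    have hk2 : orderOf ((q : ℕ) : ZMod r) = 2 * k := by rw [hk]; ring
    have hkj : k ∣ j := by
      rw [hk2] at hord
      exact Nat.dvd_of_mul_dvd_mul_left (by norm_num) hord
    have hkle : k ≤ d := le_trans (Nat.le_of_dvd hj1 hkj) hjd
    have hkpos : 0 < k := Nat.pos_of_dvd_of_pos hkj hj1
    refine ⟨k, hkle, ?_⟩
    have h2 : ((q : ℕ) : ZMod r) ^ (2 * k) = 1 := by
      rw [← hk2]; exact pow_orderOf_eq_one _
    have h3 : (((q : ℕ) : ZMod r) ^ k - 1) * (((q : ℕ) : ZMod r) ^ k + 1) = 0 := by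
      have : ((q : ℕ) : ZMod r) ^ (2 * k) = (((q : ℕ) : ZMod r) ^ k) ^ 2 := by
        rw [← pow_mul, mul_comm]
      rw [this] at h2
      linear_combination h2
    have h4 : ((q : ℕ) : ZMod r) ^ k ≠ 1 := by
      intro h
      have := orderOf_dvd_of_pow_eq_one h
      rw [hk2] at this
      have := Nat.le_of_dvd hkpos this
      omega
    rcases mul_eq_zero.mp h3 with h5 | h5
    · exact absurd (sub_eq_zero.mp h5) h4
    · rw [← ZMod.natCast_eq_zero_iff]
      push_cast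
      exact h5
  · right
    refine ⟨ho, ?_⟩
    have hcop : Nat.Coprime (orderOf ((q : ℕ) : ZMod r)) 2 := by
      rw [Nat.coprime_two_right]
      exact ho
    have : orderOf ((q : ℕ) : ZMod r) ∣ j := hcop.dvd_of_dvd_mul_left hord
    exact le_trans (Nat.le_of_dvd hj1 this) hjd

/-- (ARITH) -/
theorem arith_cases (p : ℕ) [Fact p.Prime] [CharP F p] (d : ℕ) (r : ℕ) (hr : r.Prime)
    (hrp : r ≠ p) (hr2 : r ≠ 2) (hdvd : r ∣ Nat.card (Cfsg.spGL d F)) :
    (∃ j, j ≤ d ∧ r ∣ Fintype.card F ^ j + 1) ∨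
      (Odd (orderOf ((Fintype.card F : ℕ) : ZMod r)) ∧
        orderOf ((Fintype.card F : ℕ) : ZMod r) ≤ d) := by
  rw [Cfsg.Agent.Helper44.SQ.card_spGL, Nat.card_eq_fintype_card] at hdvd
  obtain ⟨n, hn⟩ := FiniteField.card F p
  have hq1 : 1 ≤ Fintype.card F := Fintype.card_pos
  have hrq : ¬ r ∣ Fintype.card F := by
    intro h
    rw [hn.2] at h
    have h1 := hr.dvd_of_dvd_pow h
    exact hrp ((Nat.prime_dvd_prime_iff_eq hr (Fact.out : p.Prime)).mp h1)
  rcases (Nat.Prime.dvd_mul hr).mp hdvd with h | h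
  · exact absurd (hr.dvd_of_dvd_pow h) hrq
  · obtain ⟨i, hi, hri⟩ := (Prime.dvd_finsetProd_iff (Nat.Prime.prime hr) _).mp h
    rw [Finset.mem_range] at hi
    exact arith_core (Fintype.card F) d r (i + 1) hr hq1 (by omega) (by omega) hri

end Cfsg.Agent.Helper74.TSP
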