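import Mathlib

/-!
# TU project (S2279), piece LUC: the Lucas offset.
For a prime `p` and `n ≥ 4`, with `a = v_p(n)`: either `n = p^a`, or `p^a + 3 ≤ n` and
`p ∤ C(n - 1 + p^a, n - 1)`.
-/

set_option autoImplicit false

namespace Cfsg.Agent.Helper74.TU

/-- Lucas, one digit at a time: `C(p^a n' + p^a - 1, p^a) ≡ n' (mod p)`. -/
theorem h74_choose_block (p : ℕ) [Fact p.Prime] (a n' : ℕ) :
    Nat.choose (p ^ a * n' + p ^ a - 1) (p ^ a) ≡ n' [MOD p] := by
  have hp : p.Prime := Fact.out
  have hp0 : 0 < p := hp.pos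
  induction a with
  | zero => simp [Nat.ModEq]
  | succ a ih =>
    have hpa : 0 < p ^ a := Nat.pos_of_ne_zero (pow_ne_zero _ hp.ne_zero)
    have hN : p ^ (a + 1) * n' + p ^ (a + 1) - 1 = (p - 1) + p * (p ^ a * n' + p ^ a - 1) := by
      have h1 : p ^ (a + 1) = p * p ^ a := by rw [pow_succ, mul_comm]
      rw [h1]
      have h2 : 1 ≤ p ^ a * n' + p ^ a := by omega
      have h3 : p * (p ^ a * n' + p ^ a - 1) = p * (p ^ a * n' + p ^ a) - p := by
        rw [Nat.mul_sub, mul_one]
      have h4 : p ≤ p * (p ^ a * n' + p ^ a) := Nat.le_mul_of_pos_right _ (by omega)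
      have h5 : p * p ^ a * n' + p * p ^ a = p * (p ^ a * n' + p ^ a) := by ring
      rw [h3, h5]
      omega
    have hmod : (p ^ (a + 1) * n' + p ^ (a + 1) - 1) % p = p - 1 := by
      rw [hN, Nat.add_mul_mod_self_left]
      exact Nat.mod_eq_of_lt (by omega)
    have hdiv : (p ^ (a + 1) * n' + p ^ (a + 1) - 1) / p = p ^ a * n' + p ^ a - 1 := by
      rw [hN, Nat.add_mul_div_left _ _ hp0, Nat.div_eq_of_lt (by omega), zero_add]
    have hKmod : p ^ (a + 1) % p = 0 := by
      rw [pow_succ]
      exact Nat.mul_mod_left _ _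
    have hKdiv : p ^ (a + 1) / p = p ^ a := by
      rw [pow_succ]
      exact Nat.mul_div_cancel _ hp0
    have hL := Choose.choose_modEq_choose_mod_mul_choose_div_nat
      (n := p ^ (a + 1) * n' + p ^ (a + 1) - 1) (k := p ^ (a + 1)) (p := p)
    rw [hmod, hdiv, hKmod, hKdiv, Nat.choose_zero_right, one_mul] at hL
    exact hL.trans ih

/-- (LUC) the Lucas offset. -/
theorem exists_offset (p n : Nat) [Fact p.Prime] (hn : 4 <= n) :
    ∃ a : Nat, n = p^a ∨ (p^a + 3 <= n ∧ ¬ p ∣ Nat.choose (n - 1 + p^a) (n - 1)) := by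
  have hp : p.Prime := Fact.out
  obtain ⟨a, n', hn', hnn⟩ := Nat.exists_eq_pow_mul_and_not_dvd (n := n) (by omega) p hp.ne_one
  refine ⟨a, ?_⟩
  have hpa : 0 < p ^ a := Nat.pos_of_ne_zero (pow_ne_zero _ hp.ne_zero)
  by_cases h1 : n' = 1
  · left
    rw [hnn, h1, mul_one]
  · right
    have h0 : n' ≠ 0 := by
      rintro rfl
      exact hn' (dvd_zero p)
    have h2 : 2 ≤ n' := by omega
    have h2s : 2 * p ^ a ≤ n := by
      rw [hnn]
      calc 2 * p ^ a = p ^ a * 2 := by ring
        _ ≤ p ^ a * n' := Nat.mul_le_mul_left _ h2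
    constructor
    · by_cases hs3 : 3 ≤ p ^ a
      · omega
      · by_cases hs1 : p ^ a = 1
        · omega
        · have hs2 : p ^ a = 2 := by omega
          -- then `p = 2`, `n'` odd, so `n' ≥ 3`
          have hp2 : p ∣ 2 := by
            rw [← hs2]
            have ha0 : a ≠ 0 := by
              rintro rfl
              simp at hs1
            exact dvd_pow_self p ha0
          have hp2' : p = 2 := (Nat.prime_dvd_prime_iff_eq hp Nat.prime_two).mp hp2
          have h3 : n' ≠ 2 := by
            rintro rfl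
            exact hn' (by rw [hp2'])
          have h3' : 3 ≤ n' := by omega
          have : p ^ a * 3 ≤ p ^ a * n' := Nat.mul_le_mul_left _ h3'
          omega
    · intro hdvd
      apply hn'
      have hsym : Nat.choose (n - 1 + p ^ a) (n - 1) = Nat.choose (n - 1 + p ^ a) (p ^ a) := by
        rw [Nat.add_comm (n - 1) (p ^ a)]
        exact (Nat.choose_symm_add).symm
      have hidx : n - 1 + p ^ a = p ^ a * n' + p ^ a - 1 := by
        rw [← hnn]
        omega
      rw [hsym, hidx] at hdvd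
      have hmod := h74_choose_block p a n'
      exact (Nat.modEq_zero_iff_dvd.mp (hmod.symm.trans (Nat.modEq_zero_iff_dvd.mpr hdvd)))

end Cfsg.Agent.Helper74.TU

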