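import Mathlib
import Cfsg.Prelude.Def_Blocks
import Cfsg.Agent.Lib.Helper81.CharInd
import Cfsg.Agent.Lib.Helper3.CharDecomp
import Cfsg.Agent.Lib.Helper3.CharComplete
import Cfsg.Agent.Lib.Helper79.LinearDeg
import Cfsg.Agent.Lib.Helper16.PPart
import Cfsg.Agent.Lib.Helper74.DefectOrder
import Cfsg.Agent.Lib.Helper78.CharOrtho
import Cfsg.Agent.Lib.Helper80.CharBasic

/-!
# 2-blocks of defect one, part 2: the values on the section of the involution (helper74)

Pure character theory: `x` an involution, `C = C_G(x)`, `θ, θ'` irreducible characters of `C`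
agreeing on odd order elements and opposite on even order elements with `x ∈ ker θ`;
`χ₀, χ₁` irreducible characters of `G` opposite on even order elements, all other irreducible
characters of `G` having vanishing `{θ, θ'}`-part of `c ↦ χ (x c)`.  Then
`χ₀ (x y) = ε θ y`, `χ₁ (x y) = - ε θ y` for `y ∈ C` of odd order, `ε = ± 1`.
-/

set_option autoImplicit false
set_option linter.unusedSectionVars false
set_option linter.style.haveILetI false

namespace Cfsg.Agent.Helper74.TB

open Cfsg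
open scoped ComplexConjugate

universe u

section core

variable {G : Type u} [Group G] [Fintype G] (C : Subgroup G) [Fintype C] (x : G)

theorem classInner_sub_right' {X : Type u} [Group X] [Fintype X] (φ ψ₁ ψ₂ : X → ℂ) :
    classInner φ (ψ₁ - ψ₂) = classInner φ ψ₁ - classInner φ ψ₂ := by
  unfold classInner
  rw [← mul_sub, ← Finset.sum_sub_distrib]
  congr 1
  refine Finset.sum_congr rfl fun g _ => ?_
  simp only [Pi.sub_apply, map_sub]
  ring

theorem isPPart_of_regular (hx : orderOf x = 2) (hxC : x ∈ C)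
    (hcomm : ∀ c ∈ C, x * c = c * x)
    (c : C) (hc : ¬ 2 ∣ orderOf ((⟨x, hxC⟩ : C) * c)) : IsPPart 2 (c : G) x := by
  have hxx : x * x = 1 := by
    have := pow_orderOf_eq_one x
    rw [hx, pow_two] at this
    exact this
  refine ⟨x * (c : G), ?_, ?_, ⟨1, by rw [hx, pow_one]⟩, ?_⟩
  · rw [← mul_assoc, hxx, one_mul]
  · have := hcomm c c.2
    show x * (x * (c : G)) = x * (c : G) * x
    rw [mul_assoc, this]
  · have : (((⟨x, hxC⟩ : C) * c : C) : G) = x * (c : G) := rfl
    rw [← this, Subgroup.orderOf_coe]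
    exact hc

theorem indFun_eq (hx : orderOf x = 2) (hxC : x ∈ C) (hcomm : ∀ c ∈ C, x * c = c * x)
    (hcent : ∀ t : G, x * t = t * x → t ∈ C)
    (δ : C → ℂ) (hδ : IsClassFunction C δ)
    (hsupp : ∀ c : C, δ c ≠ 0 → ¬ 2 ∣ orderOf ((⟨x, hxC⟩ : C) * c))
    (c : C) (hc : ¬ 2 ∣ orderOf ((⟨x, hxC⟩ : C) * c)) :
    indFun C δ (c : G) = δ c := by
  classical
  rw [Cfsg.Agent.Helper81.indFun_apply]
  have hterm : ∀ t : G, extendByZero C δ (t⁻¹ * (c : G) * t) = if t ∈ C then δ c else 0 := by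
    intro t
    by_cases ht : t ∈ C
    · rw [if_pos ht]
      have : t⁻¹ * (c : G) * t = (((⟨t, ht⟩ : C)⁻¹ * c * (⟨t, ht⟩ : C)⁻¹⁻¹ : C) : G) := by
        simp
      rw [this, Cfsg.Agent.Helper81.extendByZero_apply_coe, hδ c (⟨t, ht⟩ : C)⁻¹]
    · rw [if_neg ht]
      by_cases hmem : t⁻¹ * (c : G) * t ∈ C
      · rw [Cfsg.Agent.Helper81.extendByZero_apply_mem C δ hmem]
        by_contra hne
        have h1 := isPPart_of_regular C x hx hxC hcomm c hc
        have h2 := isPPart_of_regular C x hx hxC hcomm ⟨_, hmem⟩ (hsupp _ hne)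
        have h3 := Cfsg.Agent.Helper16.semiconj_ppart Nat.prime_two h1 h2 (i := 1) (w := t⁻¹)
          (by norm_num) (by simp)
        apply ht
        apply hcent
        calc x * t = t * (t⁻¹ * x) * t := by group
          _ = t * (x * t⁻¹) * t := by rw [h3]
          _ = t * x := by group
      · exact Cfsg.Agent.Helper81.extendByZero_apply_not_mem C δ hmem
  simp only [hterm]
  rw [Finset.sum_ite, Finset.sum_const_zero, add_zero, Finset.sum_const, nsmul_eq_mul]
  have hcard : ((Finset.univ.filter (fun t : G => t ∈ C)).card : ℕ) = Nat.card C := by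
    rw [← Fintype.card_subtype, ← Nat.card_eq_fintype_card]
  rw [hcard]
  have : (Nat.card C : ℂ) ≠ 0 := by exact_mod_cast Nat.card_pos.ne'
  field_simp

theorem final (hx : orderOf x = 2) (hxC : x ∈ C) (hcomm : ∀ c ∈ C, x * c = c * x)
    (hcent : ∀ t : G, x * t = t * x → t ∈ C)
    (χ₀ χ₁ : IrrCharacter G) (hne : χ₀ ≠ χ₁)
    (hsing : ∀ g : G, 2 ∣ orderOf g → (χ₀ : G → ℂ) g + (χ₁ : G → ℂ) g = 0)
    (θ θ' : IrrCharacter C) (hθne : θ ≠ θ')
    (hθreg : ∀ c : C, ¬ 2 ∣ orderOf c → (θ : C → ℂ) c = (θ' : C → ℂ) c)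
    (hθsing : ∀ c : C, 2 ∣ orderOf c → (θ : C → ℂ) c + (θ' : C → ℂ) c = 0)
    (hθx : (θ : C → ℂ) ⟨x, hxC⟩ = (θ : C → ℂ) 1)
    (hvan : ∀ χ : IrrCharacter G, χ ≠ χ₀ → χ ≠ χ₁ →
      classInner (fun c : C => (χ : G → ℂ) (x * (c : G))) (θ : C → ℂ) +
      classInner (fun c : C => (χ : G → ℂ) (x * (c : G))) (θ' : C → ℂ) = 0) :
    ∃ ε : ℤ, (ε = 1 ∨ ε = -1) ∧ ∀ y : C, ¬ 2 ∣ orderOf y →
      (χ₀ : G → ℂ) (x * (y : G)) = (ε : ℂ) * (θ : C → ℂ) y ∧
      (χ₁ : G → ℂ) (x * (y : G)) = ((-ε : ℤ) : ℂ) * (θ : C → ℂ) y := by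
  classical
  haveI : Fact (Nat.Prime 2) := ⟨Nat.prime_two⟩
  set z : C := ⟨x, hxC⟩ with hz
  have hxx : x * x = 1 := by
    have := pow_orderOf_eq_one x
    rw [hx, pow_two] at this
    exact this
  have hzz : z * z = 1 := Subtype.ext hxx
  have hzord : orderOf z = 2 := by
    rw [← Subgroup.orderOf_coe]
    exact hx
  have hzcomm : ∀ c : C, z * c = c * z := fun c => Subtype.ext (hcomm c c.2)
  have hzcen : z ∈ Subgroup.center C := by
    rw [Subgroup.mem_center_iff]
    intro c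
    exact (hzcomm c).symm
  have hz1 : z ≠ 1 := by
    intro h
    rw [h, orderOf_one] at hzord
    norm_num at hzord
  have hx1 : x ≠ 1 := by
    intro h
    rw [h, orderOf_one] at hx
    norm_num at hx
  have h1reg : ¬ 2 ∣ orderOf (1 : C) := by simp
  have hdeg : (θ : C → ℂ) 1 = (θ' : C → ℂ) 1 := hθreg 1 h1reg
  have hzsing : 2 ∣ orderOf z := by rw [hzord]
  have hθ'x : (θ' : C → ℂ) z = -(θ' : C → ℂ) 1 := by
    have := hθsing z hzsing
    rw [hθx, hdeg] at this
    linear_combination this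
  have hθ1 : (θ : C → ℂ) 1 ≠ 0 := Cfsg.Agent.Helper78.irr_apply_one_ne_zero θ.2
  have hθ'1 : (θ' : C → ℂ) 1 ≠ 0 := Cfsg.Agent.Helper78.irr_apply_one_ne_zero θ'.2
  have key : ∀ c : C, (θ : C → ℂ) (z * c) = (θ : C → ℂ) c := by
    intro c
    have := Cfsg.Agent.Helper79.irr_central_mul θ z hzcen c
    rw [hθx] at this
    have h2 : ((θ : C → ℂ) (z * c) - (θ : C → ℂ) c) * (θ : C → ℂ) 1 = 0 := by
      linear_combination this
    rcases mul_eq_zero.1 h2 with h | h
    · linear_combination h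
    · exact absurd h hθ1
  have key' : ∀ c : C, (θ' : C → ℂ) (z * c) = -(θ' : C → ℂ) c := by
    intro c
    have := Cfsg.Agent.Helper79.irr_central_mul θ' z hzcen c
    rw [hθ'x] at this
    have h2 : ((θ' : C → ℂ) (z * c) + (θ' : C → ℂ) c) * (θ' : C → ℂ) 1 = 0 := by
      linear_combination this
    rcases mul_eq_zero.1 h2 with h | h
    · linear_combination h
    · exact absurd h hθ'1
  -- the difference `δ`
  have hθcl := Cfsg.Agent.Helper77.isClassFunction_of_isIrrCharacter θ.2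
  have hθ'cl := Cfsg.Agent.Helper77.isClassFunction_of_isIrrCharacter θ'.2
  obtain ⟨δ, hδdef⟩ : ∃ δ : C → ℂ, δ = (θ : C → ℂ) - (θ' : C → ℂ) := ⟨_, rfl⟩
  have hδap : ∀ c : C, δ c = (θ : C → ℂ) c - (θ' : C → ℂ) c := by
    intro c
    rw [hδdef]
    rfl
  have hδcl : IsClassFunction C δ := by
    intro g h
    rw [hδap, hδap, hθcl g h, hθ'cl g h]
  have hδz : ∀ c : C, δ (z * c) = (θ : C → ℂ) c + (θ' : C → ℂ) c := by
    intro c
    rw [hδap, key, key']
    ring
  have hδeq : ∀ c : C, δ c = (θ : C → ℂ) (z * c) + (θ' : C → ℂ) (z * c) := by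
    intro c
    have := hδz (z * c)
    rwa [← mul_assoc, hzz, one_mul] at this
  have hsupp : ∀ c : C, δ c ≠ 0 → ¬ 2 ∣ orderOf (z * c) := by
    intro c hc h2
    exact hc (by rw [hδeq c]; exact hθsing _ h2)
  have hsing_of_supp : ∀ c : C, δ c ≠ 0 → 2 ∣ orderOf (c : G) := by
    intro c hc
    have h1 := hsupp c hc
    have h2 := Cfsg.Agent.Helper74.DO.dvd_orderOf_mul_of_pElement (p := 2) (z * c) z h1
      (by
        show z * c * z = z * (z * c)
        rw [mul_assoc, ← hzcomm c])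
      ⟨1, by rw [hzord, pow_one]⟩ hz1
    have h3 : z * c * z = c := by
      rw [hzcomm c, mul_assoc, hzz, mul_one]
    rw [h3] at h2
    rwa [Subgroup.orderOf_coe]
  -- the induced class function
  obtain ⟨Δ, hΔdef⟩ : ∃ Δ : G → ℂ, Δ = indFun C δ := ⟨_, rfl⟩
  have hΔcl : IsClassFunction G Δ := by
    rw [hΔdef]
    exact Cfsg.Agent.Helper81.indFun_isClassFunction C δ
  have hΔeq : ∀ c : C, ¬ 2 ∣ orderOf (z * c) → Δ (c : G) = δ c := by
    intro c hc
    rw [hΔdef]
    exact indFun_eq C x hx hxC hcomm hcent δ hδcl hsupp c hc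
  obtain ⟨m, hmdef⟩ : ∃ m : IrrCharacter G → ℂ,
      m = fun χ : IrrCharacter G => classInner Δ (χ : G → ℂ) :=
    ⟨_, rfl⟩
  have hfrob : ∀ χ : IrrCharacter G, m χ = classInner δ (fun c : C => (χ : G → ℂ) c) := by
    intro χ
    rw [hmdef, hΔdef]
    exact Cfsg.Agent.Helper81.frobenius_reciprocity C δ
      (Cfsg.Agent.Helper77.isClassFunction_of_isIrrCharacter χ.2)
  have hexp : Δ = ∑ χ : IrrCharacter G, m χ • (χ : G → ℂ) := by
    rw [hmdef]
    exact Cfsg.Agent.Helper3.classFunction_eq_sum Δ hΔcl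
  -- integrality
  have hint : ∀ χ : IrrCharacter G, ∃ k : ℤ, m χ = (k : ℂ) := by
    intro χ
    rw [hfrob]
    have hres := Cfsg.Agent.Helper81.isCharacter_restrict C
      (Cfsg.Agent.Helper80.isCharacter_of_irr χ.2)
    obtain ⟨a, ha⟩ := Cfsg.Agent.Helper81.exists_nat_classInner_char
      (Cfsg.Agent.Helper80.isCharacter_of_irr θ.2) hres
    obtain ⟨b, hb⟩ := Cfsg.Agent.Helper81.exists_nat_classInner_char
      (Cfsg.Agent.Helper80.isCharacter_of_irr θ'.2) hres
    refine ⟨(a : ℤ) - b, ?_⟩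
    rw [hδdef, Cfsg.Agent.Helper81.classInner_sub_left, ha, hb]
    push_cast
    ring
  have hCne : (Nat.card C : ℂ) ≠ 0 := by exact_mod_cast Nat.card_pos.ne'
  -- characters outside the block
  have hB : ∀ χ : IrrCharacter G, χ ≠ χ₀ → χ ≠ χ₁ → m χ = 0 := by
    intro χ h0 h1
    have hv := hvan χ h0 h1
    rw [hfrob]
    unfold classInner at hv ⊢
    have hre : ∑ c : C, δ c * conj ((χ : G → ℂ) c) =
        ∑ c : C, δ (z * c) * conj ((χ : G → ℂ) ((z * c : C) : G)) :=
      (Equiv.sum_comp (Equiv.mulLeft z) (fun c : C => δ c * conj ((χ : G → ℂ) c))).symm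
    rw [hre]
    have hconj : ∑ c : C, δ (z * c) * conj ((χ : G → ℂ) ((z * c : C) : G)) =
        conj (∑ c : C, (χ : G → ℂ) (x * (c : G)) * conj ((θ : C → ℂ) c) +
          ∑ c : C, (χ : G → ℂ) (x * (c : G)) * conj ((θ' : C → ℂ) c)) := by
      rw [← Finset.sum_add_distrib, map_sum]
      refine Finset.sum_congr rfl fun c _ => ?_
      rw [hδz]
      simp only [map_add, map_mul, Complex.conj_conj]
      have : ((z * c : C) : G) = x * (c : G) := rfl
      rw [this]
      ring
    rw [hconj]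
    have hv' : ∑ c : C, (χ : G → ℂ) (x * (c : G)) * conj ((θ : C → ℂ) c) +
          ∑ c : C, (χ : G → ℂ) (x * (c : G)) * conj ((θ' : C → ℂ) c) = 0 := by
      rw [← mul_add] at hv
      exact (mul_eq_zero.1 hv).resolve_left (inv_ne_zero hCne)
    rw [hv', map_zero, mul_zero]
  -- the two members of the block
  have hD : m χ₀ + m χ₁ = 0 := by
    rw [hfrob, hfrob]
    unfold classInner
    rw [← mul_add, ← Finset.sum_add_distrib]
    rw [Finset.sum_eq_zero, mul_zero]
    intro c _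
    by_cases hc : δ c = 0
    · rw [hc]; ring
    · have := hsing (c : G) (hsing_of_supp c hc)
      rw [← mul_add, ← map_add, this, map_zero, mul_zero]
  -- values of `Δ`
  have hA : ∀ y : C, ¬ 2 ∣ orderOf y → Δ (x * (y : G)) = 2 * (θ : C → ℂ) y := by
    intro y hy
    have h1 : ¬ 2 ∣ orderOf (z * (z * y)) := by rwa [← mul_assoc, hzz, one_mul]
    have h2 := hΔeq (z * y) h1
    have : ((z * y : C) : G) = x * (y : G) := rfl
    rw [this] at h2
    rw [h2, hδz, ← hθreg y hy]
    ring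
  -- the norm of `Δ`
  have hC2 : classInner Δ Δ = 2 := by
    have h1 : classInner Δ Δ = classInner δ (fun c : C => Δ c) := by
      have := Cfsg.Agent.Helper81.frobenius_reciprocity C δ hΔcl
      rw [← hΔdef] at this
      exact this
    have h2 : classInner δ (fun c : C => Δ c) = classInner δ δ := by
      unfold classInner
      congr 1
      refine Finset.sum_congr rfl fun c _ => ?_
      by_cases hc : δ c = 0
      · rw [hc]; ring
      · show δ c * conj (Δ (c : G)) = δ c * conj (δ c)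
        rw [hΔeq c (hsupp c hc)]
    rw [h1, h2, hδdef, Cfsg.Agent.Helper81.classInner_sub_left, classInner_sub_right',
      classInner_sub_right', Cfsg.Agent.Helper78.classInner_irr_self,
      Cfsg.Agent.Helper78.classInner_irr_self, Cfsg.Agent.Helper78.classInner_irr_ne hθne,
      Cfsg.Agent.Helper78.classInner_irr_ne hθne.symm]
    norm_num
  have hsum : ∑ χ : IrrCharacter G, m χ * conj (m χ) = 2 := by
    have := Cfsg.Agent.Helper3.classInner_sum_irr m m
    rw [← hexp] at this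
    rw [← this, hC2]
  have hsub : ∀ f : IrrCharacter G → ℂ, (∀ χ : IrrCharacter G, χ ≠ χ₀ → χ ≠ χ₁ → f χ = 0) →
      ∑ χ : IrrCharacter G, f χ = f χ₀ + f χ₁ := by
    intro f hf
    rw [← Finset.sum_subset (Finset.subset_univ ({χ₀, χ₁} : Finset (IrrCharacter G)))
      (fun χ _ hχ => by
        simp only [Finset.mem_insert, Finset.mem_singleton, not_or] at hχ
        exact hf χ hχ.1 hχ.2), Finset.sum_pair hne]
  obtain ⟨k, hk⟩ := hint χ₀
  have hm1 : m χ₁ = -(k : ℂ) := by
    rw [← hk]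
    linear_combination hD
  have hk2 : k ^ 2 = 1 := by
    have h := hsub (fun χ => m χ * conj (m χ)) (fun χ h0 h1 => by
      show m χ * conj (m χ) = 0
      rw [hB χ h0 h1, zero_mul])
    rw [hsum] at h
    simp only [hk, hm1, map_neg, map_intCast] at h
    have h' : ((k ^ 2 : ℤ) : ℂ) = 1 := by
      push_cast
      linear_combination -h / 2
    exact_mod_cast h'
  have hk1 : k = 1 ∨ k = -1 := sq_eq_one_iff.1 hk2
  have hkk : (k : ℂ) * (k : ℂ) = 1 := by
    have : ((k ^ 2 : ℤ) : ℂ) = 1 := by rw [hk2]; norm_num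
    push_cast at this
    linear_combination this
  refine ⟨k, hk1, fun y hy => ?_⟩
  have hval : Δ (x * (y : G)) = m χ₀ * (χ₀ : G → ℂ) (x * (y : G)) +
      m χ₁ * (χ₁ : G → ℂ) (x * (y : G)) := by
    conv_lhs => rw [hexp]
    rw [Finset.sum_apply]
    simp only [Pi.smul_apply, smul_eq_mul]
    exact hsub (fun χ => m χ * (χ : G → ℂ) (x * (y : G))) (fun χ h0 h1 => by
      show m χ * (χ : G → ℂ) (x * (y : G)) = 0
      rw [hB χ h0 h1, zero_mul])
  have hxy_sing : 2 ∣ orderOf (x * (y : G)) := by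
    have := Cfsg.Agent.Helper74.DO.dvd_orderOf_mul_of_pElement (p := 2) (y : G) x
      (by rwa [Subgroup.orderOf_coe]) (hcomm y y.2).symm ⟨1, by rw [hx, pow_one]⟩ hx1
    rwa [← hcomm y y.2] at this
  have hs := hsing _ hxy_sing
  have hA' := hA y hy
  rw [hval, hk, hm1] at hA'
  constructor
  · linear_combination ((k : ℂ) / 2) * hA' + (1 / 2 : ℂ) * hs -
      (((χ₀ : G → ℂ) (x * (y : G)) - (χ₁ : G → ℂ) (x * (y : G))) / 2) * hkk
  · push_cast
    linear_combination (-(k : ℂ) / 2) * hA' + (1 / 2 : ℂ) * hs +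
      (((χ₀ : G → ℂ) (x * (y : G)) - (χ₁ : G → ℂ) (x * (y : G))) / 2) * hkk

end core

end Cfsg.Agent.Helper74.TB
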